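import Cfsg.Agent.Lib.Spor.CoUniq.Local

/-!
The centralizer of the element of order three with two involutions of the alternating group, matched with the model.
-/

set_option autoImplicit false
set_option linter.unusedSectionVars false
set_option maxRecDepth 100000
set_option maxHeartbeats 1000000

noncomputable section

namespace Cfsg.Agent.Spor.CoUniq

open Cfsg.Spor Cfsg.Agent.Spor.Cos
open Cfsg.Agent.Invol.Co1.Three (MX mkX xM mkX_surj)
open Cfsg.Agent.Fus.GTwoJ2 (H2)
open scoped commutatorElement IsMulCommutative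

/-- The relations shared with the model. -/
structure Amalgam {G : Type*} [Group G] (ι : Hq →* G) (n s : G) : Prop where
  inj : Function.Injective ι
  nn : n * n = 1
  ss : s * s = 1
  nh : ∀ i < 6, n * ι (hq i) = ι (hq i) * n
  sh : ∀ u, s * ι u * s = ι (theta u)
  sg : s * ι gq = ι gq * s
  nsg : n * (s * ι gq) = s * ι gq * n
  tri : n * ι gq * n * ι gq * n = s
  xn : ι xq * n * (ι xq * n) * (ι xq * n) = 1

theorem xn_chk : pmEq (CoSuz.mulP (CoSuz.mulP (CoSuz.mulP CoSuz.aT nT) (CoSuz.mulP CoSuz.aT nT)) (CoSuz.mulP CoSuz.aT nT)) CoSuz.oneP = true := by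
  decide +kernel

theorem xn1 : iq xq * n1 * (iq xq * n1) * (iq xq * n1) = 1 := by
  rw [xq, iq_mk, n1, ← map_mul, ← map_mul, ← map_mul, ← map_one Fus.Co1Centre.mk]
  exact mk_of_pm (((CoSuz.hasT_a.mul hasT_n).mul (CoSuz.hasT_a.mul hasT_n)).mul (CoSuz.hasT_a.mul hasT_n))
    CoSuz.hasT_one xn_chk

/-- The model satisfies the relations. -/
theorem amalgam_model : Amalgam iq n1 s1 :=
  ⟨iq_injective, n1_sq, s1_sq, fun _ hi => n1_hq hi, s1_theta, s1_gq, n1_sg, tri1, xn1⟩

theorem eta_gq {η : Hq →* Spor.Suz} (hg : ∀ t < 7, η (hq t) = Suz.g t) : η gq = swapS := by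
  rw [gq, swapS, ev_map η hq swapW]
  exact Tree5.ev_congr _ fun t ht => hg t (Nat.le_of_ble_eq_true (List.all_eq_true.1 swap_chk.2.2 t ht))

theorem mem_LQ {η : Hq →* Spor.Suz} (hg : ∀ t < 7, η (hq t) = Suz.g t) {y : Spor.Suz} (hy : y ∈ H2) :
    ∃ v ∈ Subgroup.closure {u | ∃ t < 5, hq t = u}, η v = y := by
  have hle : H2 ≤ (Subgroup.closure {u | ∃ t < 5, hq t = u}).map η := by
    refine (Subgroup.closure_le _).2 ?_
    rintro _ ⟨w, hw, rfl⟩
    obtain ⟨t, ht, rfl⟩ : ∃ t, t < 5 ∧ w = [t] := by fin_cases hw <;> exact ⟨_, by norm_num, rfl⟩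
    exact ⟨hq t, Subgroup.subset_closure ⟨t, ht, rfl⟩, by
      rw [hg t (by omega)]; exact (mul_one _).symm⟩
  exact hle hy

variable {G : Type*} [Group G] [Finite G] {x n s q z : G} {L : Subgroup G}

theorem exists_iso {ψ : ↥(Subgroup.centralizer ({x} : Set G)) →* Spor.Suz} (h : Loc x n s q z L)
    (M : Match x n z L ψ) {η : Hq →* Spor.Suz} (hη : Function.Surjective η)
    (hk : ∀ u, η u = 1 ↔ u ∈ Subgroup.zpowers xq) :
    ∃ φ : Hq ≃* ↥(Subgroup.centralizer ({x} : Set G)), ∀ u, ψ (φ u) = η u := by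
  let eS : Shrink.{0} ↥(Subgroup.centralizer ({x} : Set G)) ≃* ↥(Subgroup.centralizer ({x} : Set G)) := Shrink.mulEquiv
  haveI : Finite (Shrink.{0} ↥(Subgroup.centralizer ({x} : Set G))) := Finite.of_equiv _ eS.symm.toEquiv
  haveI := finite_Hq
  haveI : Group.IsPerfect ↥(Subgroup.centralizer ({x} : Set G)) := h.qs.1
  have hx : ∀ u ∈ Subgroup.zpowers (xM x), ∀ v : ↥(Subgroup.centralizer ({x} : Set G)), v * u = u * v := fun u hu v => by
    obtain ⟨i, rfl⟩ := hu
    exact (Commute.zpow_right (show Commute v (xM x) from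
      Subtype.ext (Subgroup.mem_centralizer_singleton_iff.1 v.2)) i).eq
  obtain ⟨φ0, hφ⟩ := exists_lift η (ψ.comp eS.toMonoidHom) hη (M.surj.comp eS.surjective)
    (fun u hu => zpowers_xq_le ((hk u).1 hu))
    (fun u hu => Subgroup.mem_center_iff.2 fun v => eS.injective (by
      rw [map_mul, map_mul]; exact hx _ ((M.ker _).1 hu) _))
    perfect_Hq
    (by
      rw [commutator_def, ← Subgroup.map_top_of_surjective eS.symm.toMonoidHom eS.symm.surjective,
        ← Subgroup.map_commutator, ← commutator_def, Group.IsPerfect.commutator_eq_top (G := ↥(Subgroup.centralizer ({x} : Set G)))])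
    (by rw [show η.ker = Subgroup.zpowers xq from Subgroup.ext hk, card_zpowers_xq])
    (by
      have : (ψ.comp eS.toMonoidHom).ker = (Subgroup.zpowers (xM x)).map eS.symm.toMonoidHom := by
        ext u
        rw [MonoidHom.mem_ker, MonoidHom.comp_apply, MulEquiv.coe_toMonoidHom, M.ker]
        constructor
        · exact fun hu => ⟨eS u, hu, eS.symm_apply_apply u⟩
        · rintro ⟨v, hv, rfl⟩
          rw [MulEquiv.coe_toMonoidHom, MulEquiv.apply_symm_apply]; exact hv
      haveI hF : Fact (Nat.Prime 3) := ⟨Nat.prime_three⟩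
      rw [this, Subgroup.card_map_of_injective eS.symm.injective, Nat.card_zpowers]
      exact orderOf_eq_prime (Subtype.ext h.x3) fun e => h.x1 (congrArg Subtype.val e))
  exact ⟨φ0.trans eS, hφ⟩

theorem Loc.exists_amalgam (h : Loc x n s q z L) : ∃ (ι : Hq →* G) (n' s' : G), Amalgam ι n' s' ∧ ∃ u, IsConj (ev hq [1, 2, 1]) u ∧ ι u = z := by
  set C := Subgroup.centralizer ({x} : Set G) with hC
  set R := Subgroup.centralizer (L : Set G)
  obtain ⟨ψ, M⟩ := h.exists_match
  obtain ⟨η, hη, hg, hk⟩ := exists_eta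
  obtain ⟨φ, hφ⟩ := exists_iso h M hη hk
  let ι : Hq →* G := C.subtype.comp φ.toMonoidHom
  have hιinj : Function.Injective ι := C.subtype_injective.comp φ.injective
  have hιx : ∀ u, ι u * x = x * ι u := fun u => Subgroup.mem_centralizer_singleton_iff.1 (φ u).2
  have hquot : ∀ {u : Hq} {v : ↥C}, η u = ψ v → (v : G)⁻¹ * ι u ∈ Subgroup.zpowers x := fun {u v} e => by
    obtain ⟨i, hi⟩ := (M.ker (v⁻¹ * φ u)).1 (by rw [map_mul, map_inv, hφ, e, inv_mul_cancel])
    exact ⟨i, congrArg Subtype.val hi⟩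
  have hinv : ∀ {u : Hq}, u * u = 1 → ι u * ι u = 1 := fun {u} e => by rw [← map_mul, e, map_one]
  -- the first six generators
  have hn : ∀ i < 6, n * ι (hq i) = ι (hq i) * n := fun i hi => by
    obtain ⟨v, hv, e⟩ := M.gens i hi
    have := h.invol_mem (S := Subgroup.centralizer ({n} : Set G))
      (Subgroup.mem_centralizer_singleton_iff.2 hv) (hinv (hq_sq i))
      (Subgroup.mem_centralizer_singleton_iff.1 v.2) (hquot ((hg i (by omega)).trans e.symm))
    exact (Subgroup.mem_centralizer_singleton_iff.1 this).symm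
  -- the subgroup of Hall-Janko type
  set LQ := Subgroup.closure {u | ∃ t < 5, hq t = u}
  have hLmem : ∀ {u : Hq}, u * u = 1 → η u ∈ H2 → ι u ∈ L := fun {u} hu he => by
    obtain ⟨v, hv, e⟩ := M.Lsur _ he
    exact h.invol_mem hv (hinv hu) (h.Lx _ hv) (hquot e.symm)
  have hg5 : ∀ t < 5, η (hq t) ∈ H2 := fun t ht => by rw [hg t (by omega)]; exact gen_mem_H2 ht
  have hLQ : LQ.map ι = L := by
    refine le_antisymm ?_ fun l hl => ?_
    · rw [MonoidHom.map_closure, Subgroup.closure_le]
      rintro _ ⟨_, ⟨t, ht, rfl⟩, rfl⟩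
      exact hLmem (hq_sq t) (hg5 t ht)
    · obtain ⟨v, hv, e⟩ := mem_LQ hg (M.Lim ⟨l, h.L_le hl⟩ hl)
      refine ⟨v, hv, ?_⟩
      have hvL : ι v ∈ L := by
        have : LQ.map ι ≤ L := by
          rw [MonoidHom.map_closure, Subgroup.closure_le]
          rintro _ ⟨_, ⟨t, ht, rfl⟩, rfl⟩
          exact hLmem (hq_sq t) (hg5 t ht)
        exact this ⟨v, hv, rfl⟩
      exact (inv_mul_eq_one.1 (h.L_inter (mul_mem (inv_mem hl) hvL) (hquot e))).symm
  -- the exchanging involution
  set g := ι gq with hgdef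
  have hgg : g * g = 1 := hinv gq_sq
  have hgL : ∀ l ∈ L, g * l * g ∈ L := by
    have hgi : g⁻¹ = g := inv_eq_of_mul_eq_one_right hgg
    have hle : L ≤ L.comap (MulAut.conj g).toMonoidHom := by
      conv_lhs => rw [← hLQ, MonoidHom.map_closure]
      rw [Subgroup.closure_le]
      rintro _ ⟨_, ⟨t, ht, rfl⟩, rfl⟩
      show g * ι (hq t) * g⁻¹ ∈ L
      rw [hgi, hgdef, ← map_mul, ← map_mul]
      refine hLmem ?_ ?_
      · calc gq * hq t * gq * (gq * hq t * gq) = gq * (hq t * (gq * gq) * hq t) * gq := by group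
          _ = 1 := by rw [gq_sq, mul_one, hq_sq, mul_one, gq_sq]
      · rw [map_mul, map_mul, eta_gq hg, hg t (by omega)]
        exact swap_H2 (gen_mem_H2 ht)
    intro l hl
    have := hle hl
    rw [Subgroup.mem_comap] at this
    change g * l * g⁻¹ ∈ L at this
    rwa [hgi] at this
  obtain ⟨π, hπx, hπn, hπs⟩ := h.alt
  have hgR : ∀ r ∈ R, g * r * g ∈ R := fun r hr => Subgroup.mem_centralizer_iff.2 fun l hl => by
    have e := Subgroup.mem_centralizer_iff.1 hr _ (hgL l hl)
    calc l * (g * r * g) = g * g * l * (g * r * g) := by rw [hgg, one_mul]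
      _ = g * (g * l * g * r) * g := by group
      _ = g * r * g * l * (g * g) := by rw [e]; group
      _ = _ := by rw [hgg, mul_one]
  let α : alternatingGroup (Fin 5) →* alternatingGroup (Fin 5) :=
    { toFun := fun p => π ⟨g * ((π.symm p : ↥R) : G) * g, hgR _ (π.symm p).2⟩
      map_one' := by
        rw [← map_one π]
        exact congrArg π (Subtype.ext (by simp [hgg]))
      map_mul' := fun p p' => by
        rw [← map_mul π]
        refine congrArg π (Subtype.ext ?_)
        simp only [map_mul, Subgroup.coe_mul]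
        calc g * (((π.symm p : ↥R) : G) * ((π.symm p' : ↥R) : G)) * g
            = g * ((π.symm p : ↥R) : G) * 1 * ((π.symm p' : ↥R) : G) * g := by group
          _ = _ := by rw [← hgg]; group }
  have hα : ∀ p, ((π.symm (α p) : ↥R) : G) = g * ((π.symm p : ↥R) : G) * g := fun p =>
    congrArg Subtype.val (π.symm_apply_apply _)
  have hα2 : ∀ p, α (α p) = p := fun p => π.symm.injective (Subtype.ext (by
    rw [hα, hα]
    calc g * (g * ((π.symm p : ↥R) : G) * g) * g = g * g * ((π.symm p : ↥R) : G) * (g * g) := by group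
      _ = _ := by rw [hgg, one_mul, mul_one]))
  have hαi : Function.Injective α := fun a b e => by rw [← hα2 a, e, hα2]
  have hαx : α xp = xp := π.symm.injective (Subtype.ext (by
    rw [hα, hπx, mul_assoc, ← hιx gq, ← hgdef, ← mul_assoc, hgg, one_mul]))
  obtain ⟨f1, f2, f3, f4, f5, f6, f7, f8, f9, f10, f11, f12, f13, f14, f15, f16⟩ := a5_facts
  have hne : ∀ {p}, p ≠ 1 → α p ≠ 1 := fun hp e => hp (hαi (e.trans (map_one α).symm))
  have hαs : α sp5 = sp5 := by
    have e2 : α sp5 * α sp5 = 1 := by rw [← map_mul, f2, map_one]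
    have e3 : α sp5 * xp * α sp5 = xp⁻¹ := by
      conv_lhs => rw [← hαx]
      rw [← map_mul, ← map_mul, f5, map_inv, hαx]
    rcases a5_inv _ e2 (hne f4) e3 with e | e | e
    · exact e
    · exfalso
      have := hα2 sp5
      rw [e, map_mul, e, hαx] at this
      exact f13 this
    · exfalso
      have := hα2 sp5
      rw [e, map_mul, map_mul, e, hαx] at this
      have h3 : xp * xp * xp = (1 : alternatingGroup (Fin 5)) := by rw [← pow_two, ← pow_succ]; exact perm_ok.1
      refine f14 ?_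
      calc sp5 * xp = sp5 * (xp * xp * xp) * xp := by rw [h3, mul_one]
        _ = sp5 * xp * xp * xp * xp := by group
        _ = sp5 := this
  have hαn : α np = np' := by
    have e2 : α np * α np = 1 := by rw [← map_mul, f1, map_one]
    rcases a5_np _ e2 (hne f3) (by rw [← hαs, ← map_mul, ← map_pow, f6, map_one])
        (by rw [← hαs, ← map_mul]; exact hne f7) (by rw [← hαx, ← map_mul, ← map_pow, f8, map_one])
        (by rw [← hαx, ← map_mul]; exact hne f9)
        (by rw [← hαx, ← hαs, ← map_mul, ← map_mul, ← map_pow, f10, map_one])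
        (by rw [← hαx, ← hαs, ← map_mul, ← map_mul]; exact hne f11) with e | e
    · exfalso
      have hgn : g * n = n * g := by
        have e1 := hα np
        rw [e, hπn] at e1
        calc g * n = g * (g * n * g) := by rw [← e1]
          _ = g * g * n * g := by group
          _ = n * g := by rw [hgg, one_mul]
      have htop : ((Subgroup.centralizer ({n} : Set G)).subgroupOf C).map ψ = ⊤ := top_of_swap
        (fun i hi => by
          obtain ⟨u, hu, e1⟩ := M.gens i hi
          exact ⟨u, Subgroup.mem_subgroupOf.2 (Subgroup.mem_centralizer_singleton_iff.2 hu), e1⟩)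
        ⟨φ gq, Subgroup.mem_subgroupOf.2 (Subgroup.mem_centralizer_singleton_iff.2 hgn), by rw [hφ, eta_gq hg]⟩
      haveI : Group.IsPerfect ↥C := h.qs.1
      have hall : (⊤ : Subgroup ↥C) ≤ (Subgroup.centralizer ({n} : Set G)).subgroupOf C := by
        rw [← Group.IsPerfect.commutator_eq_top (G := ↥C), commutator_def]
        refine (commutator_le_of_central le_top fun p _ => ?_).trans (Subgroup.commutator_le_self _)
        obtain ⟨m, hm, e1⟩ := (htop ▸ Subgroup.mem_top (ψ p) :
          ψ p ∈ ((Subgroup.centralizer ({n} : Set G)).subgroupOf C).map ψ)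
        refine ⟨m, hm, fun u _ => ?_⟩
        obtain ⟨i, hi⟩ := (M.ker (m⁻¹ * p)).1 (by rw [map_mul, map_inv, e1, inv_mul_cancel])
        rw [← hi]
        exact (Commute.zpow_left (show Commute (xM x) u from
          Subtype.ext (Subgroup.mem_centralizer_singleton_iff.1 u.2).symm) i).eq
      exact h.xn_ne (Subgroup.mem_centralizer_singleton_iff.1
        (Subgroup.mem_subgroupOf.1 (hall (Subgroup.mem_top (xM x)))))
    · exact e
  have hgn : g * n * g = ((π.symm np' : ↥R) : G) := by rw [← hαn, hα, hπn]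
  have hgs : g * s * g = s := by
    have := hα sp5
    rw [hαs, hπs] at this
    exact this.symm
  have hπmul : ∀ a b c : alternatingGroup (Fin 5), ((π.symm (a * b * c) : ↥R) : G) =
      ((π.symm a : ↥R) : G) * ((π.symm b : ↥R) : G) * ((π.symm c : ↥R) : G) := fun a b c => by simp
  have hsq : ∀ p : alternatingGroup (Fin 5), p * p = 1 → ((π.symm p : ↥R) : G) * ((π.symm p : ↥R) : G) = 1 :=
    fun p hp => by rw [← Subgroup.coe_mul, ← map_mul, hp, map_one]; rfl
  have hnn : n * n = 1 := by rw [← hπn]; exact hsq np f1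
  have hss : s * s = 1 := by rw [← hπs]; exact hsq sp5 f2
  have hsg : s * g = g * s := by
    calc s * g = g * s * g * g := by rw [hgs]
      _ = g * s * (g * g) := by group
      _ = g * s := by rw [hgg, mul_one]
  have hsgn : s * (g * n * g) * s = n := by rw [hgn, ← hπs, ← hπmul, f16, hπn]
  -- conjugation by the inverting involution
  have hsC : ∀ u : Hq, s * ι u * s ∈ C := fun u => by
    refine Subgroup.mem_centralizer_singleton_iff.2 ?_
    have hsx : s * x * s = x⁻¹ := by rw [← hπs, ← hπx, ← hπmul, f5, map_inv]; rfl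
    have hxi : ι u * x⁻¹ = x⁻¹ * ι u := (Commute.inv_right (show Commute (ι u) x from hιx u)).eq
    calc s * ι u * s * x = s * ι u * (s * x * s) * s := by
          calc s * ι u * s * x = s * ι u * (s * x) * 1 := by group
            _ = _ := by rw [← hss]; group
      _ = s * (x⁻¹ * ι u) * s := by rw [hsx, mul_assoc s (ι u), hxi]
      _ = s * x⁻¹ * (s * s) * ι u * s := by rw [hss]; group
      _ = (s * x * s)⁻¹ * (s * ι u * s) := by
          rw [show (s * x * s)⁻¹ = s⁻¹ * x⁻¹ * s⁻¹ by group, inv_eq_of_mul_eq_one_right hss]; group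
      _ = x * (s * ι u * s) := by rw [hsx, inv_inv]
  let β : Hq →* Hq :=
    { toFun := fun u => φ.symm ⟨_, hsC u⟩
      map_one' := by
        rw [← map_one φ.symm]
        exact congrArg φ.symm (Subtype.ext (by simp [hss]))
      map_mul' := fun u v => by
        rw [← map_mul φ.symm]
        refine congrArg φ.symm (Subtype.ext ?_)
        show s * ι (u * v) * s = s * ι u * s * (s * ι v * s)
        rw [map_mul]
        calc s * (ι u * ι v) * s = s * ι u * 1 * ι v * s := by group
          _ = _ := by rw [← hss]; group }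
  have hβ : ∀ u, ι (β u) = s * ι u * s := fun u => congrArg Subtype.val (φ.apply_symm_apply _)
  have hβ2 : ∀ u, β (β u) = u := fun u => hιinj (by
    rw [hβ, hβ]
    calc s * (s * ι u * s) * s = s * s * ι u * (s * s) := by group
      _ = ι u := by rw [hss, one_mul, mul_one])
  have hxφ : ψ ⟨x, (xM x).2⟩ = 1 := (M.ker _).2 (Subgroup.mem_zpowers _)
  have hxqx : ι xq ∈ Subgroup.zpowers x := by
    have := hquot (u := xq) (v := 1) (by rw [(hk _).2 (Subgroup.mem_zpowers _), map_one])
    simpa using this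
  have hβx : β xq ∈ Subgroup.zpowers xq := (hk _).1 (by
    rw [← hφ]
    obtain ⟨i, hi⟩ := hxqx
    have e : φ (β xq) = (xM x) ^ (-i) := Subtype.ext (by
      show ι (β xq) = _
      rw [hβ, ← hi, Subgroup.coe_zpow]
      have hsx : s * x * s⁻¹ = x⁻¹ := by
        rw [inv_eq_of_mul_eq_one_right hss, ← hπs, ← hπx, ← hπmul, f5, map_inv]; rfl
      show s * x ^ i * s = x ^ (-i)
      conv_lhs => arg 2; rw [← inv_eq_of_mul_eq_one_right hss]
      rw [← conj_zpow, hsx, inv_zpow']
      )
    rw [e, map_zpow, show ψ (xM x) = 1 from hxφ, one_zpow])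
  obtain ⟨b, hb⟩ := descend hη hk β (fun u => ⟨β u, hβ2 u⟩) hβx
  obtain ⟨t, ht⟩ := descend hη hk theta (fun u => ⟨theta u, theta_theta u⟩)
    (by rw [theta_xq]; exact inv_mem (Subgroup.mem_zpowers _))
  have hfix : ∀ (d : MulAut Spor.Suz) (δ : Hq →* Hq), (∀ u, d (η u) = η (δ u)) → (∀ i < 5, δ (hq i) = hq i) →
      ∀ y ∈ H2, d y = y := fun d δ hd hδ y hy => by
    obtain ⟨v, hv, rfl⟩ := mem_LQ hg hy
    rw [hd]
    refine congrArg η ?_
    clear hy
    induction hv using Subgroup.closure_induction with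
    | mem w hw => obtain ⟨i, hi, rfl⟩ := hw; exact hδ i hi
    | one => exact map_one δ
    | mul a b _ _ ha hb => rw [map_mul, ha, hb]
    | inv a _ ha => rw [map_inv, ha]
  have hbfix := hfix b β hb fun i hi => hιinj (by
    have hl : ι (hq i) ∈ L := hLQ ▸ ⟨hq i, Subgroup.subset_closure ⟨i, hi, rfl⟩, rfl⟩
    rw [hβ, mul_assoc, h.Ls hl, ← mul_assoc, hss, one_mul])
  have htfix := hfix t theta ht fun i hi => theta_hq hi
  -- nothing but the identity centralizes the point stabilizer
  have hcent : ∀ a : Spor.Suz, (∀ y ∈ H2, a * y = y * a) → a = 1 := fun a ha => by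
    obtain ⟨v, rfl⟩ := M.surj a
    have hcc : ∀ l ∈ L, l⁻¹ * ((v : G) * l * (v : G)⁻¹) ∈ Subgroup.zpowers x := fun l hl => by
      have := M.ker_coe (u := ⟨l, h.L_le hl⟩⁻¹ * (v * ⟨l, h.L_le hl⟩ * v⁻¹)) (by
        simp only [map_mul, map_inv]
        rw [ha _ (M.Lim _ hl)]; group)
      simpa using this
    obtain ⟨eJ⟩ := h.Liso
    have hvL : ∀ l ∈ L, (v : G) * l = l * v := by
      have hLQ' : ∀ l ∈ L, ∃ i : ℤ, l⁻¹ * ((v : G) * l * (v : G)⁻¹) = x ^ i := fun l hl => by
        obtain ⟨i, hi⟩ := hcc l hl; exact ⟨i, hi.symm⟩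
      have hvx : (v : G) * x = x * v := Subgroup.mem_centralizer_singleton_iff.1 v.2
      intro l hl
      haveI : Group.IsPerfect ↥L := by
        haveI := Cfsg.Agent.J2Cert.simple_J2
        constructor
        refine Subgroup.map_injective (f := eJ.toMonoidHom) eJ.injective ?_
        rw [commutator_def, Subgroup.map_commutator, Subgroup.map_top_of_surjective _ eJ.surjective, ← commutator_def]
        refine (IsSimpleGroup.eq_bot_or_eq_top_of_normal _ inferInstance).resolve_left fun e => ?_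
        obtain ⟨p, p', hp⟩ := Cfsg.Agent.J2Cert.noncomm_J2
        refine hp (commutatorElement_eq_one_iff_mul_comm.1 ?_)
        rw [← Subgroup.mem_bot, ← e, commutator_def]
        exact Subgroup.commutator_mem_commutator (Subgroup.mem_top p) (Subgroup.mem_top p')
      set S := (Subgroup.centralizer ({(v : G)} : Set G)).subgroupOf L
      suffices (⊤ : Subgroup ↥L) ≤ S from
        (Subgroup.mem_centralizer_singleton_iff.1 (Subgroup.mem_subgroupOf.1 (this (Subgroup.mem_top ⟨l, hl⟩)))).symm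
      rw [← Group.IsPerfect.commutator_eq_top (G := ↥L), commutator_def, Subgroup.commutator_le]
      intro p _ p' _
      refine Subgroup.mem_subgroupOf.2 (Subgroup.mem_centralizer_singleton_iff.2 ?_)
      obtain ⟨i, hi⟩ := hLQ' p p.2
      obtain ⟨j, hj⟩ := hLQ' p' p'.2
      have hp : (v : G) * p * (v : G)⁻¹ = p * x ^ i := by rw [← hi]; group
      have hp' : (v : G) * p' * (v : G)⁻¹ = p' * x ^ j := by rw [← hj]; group
      suffices (v : G) * ((⁅p, p'⁆ : ↥L) : G) * (v : G)⁻¹ = ((⁅p, p'⁆ : ↥L) : G) by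
        calc ((⁅p, p'⁆ : ↥L) : G) * v = (v : G) * ((⁅p, p'⁆ : ↥L) : G) * (v : G)⁻¹ * v := by rw [this]
          _ = _ := by group
      simp only [commutatorElement_def, Subgroup.coe_mul, InvMemClass.coe_inv]
      calc (v : G) * ((p : G) * p' * (p : G)⁻¹ * (p' : G)⁻¹) * (v : G)⁻¹
          = ((v : G) * p * (v : G)⁻¹) * ((v : G) * p' * (v : G)⁻¹) * ((v : G) * p * (v : G)⁻¹)⁻¹ *
            ((v : G) * p' * (v : G)⁻¹)⁻¹ := by group
        _ = (p : G) * (p' * x ^ j) * (p : G)⁻¹ * ((p' : G) * x ^ j)⁻¹ := by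
          rw [hp, hp']
          have c1 : x ^ i * (p' * x ^ j) = p' * x ^ j * x ^ i :=
            (((show Commute (p' : G) x from h.Lx _ p'.2).zpow_right i).mul_left
              ((Commute.refl x).zpow_zpow j i)).eq.symm
          calc (p : G) * x ^ i * (p' * x ^ j) * ((p : G) * x ^ i)⁻¹ * ((p' : G) * x ^ j)⁻¹
              = (p : G) * (x ^ i * (p' * x ^ j)) * (x ^ i)⁻¹ * (p : G)⁻¹ * ((p' : G) * x ^ j)⁻¹ := by group
            _ = _ := by rw [c1]; group
        _ = _ := by
          have c2 : x ^ j * (p : G)⁻¹ = (p : G)⁻¹ * x ^ j :=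
            ((show Commute (p : G) x from h.Lx _ p.2).zpow_right j).inv_left.eq.symm
          calc (p : G) * (p' * x ^ j) * (p : G)⁻¹ * ((p' : G) * x ^ j)⁻¹
              = (p : G) * p' * (x ^ j * (p : G)⁻¹) * (x ^ j)⁻¹ * (p' : G)⁻¹ := by group
            _ = _ := by rw [c2]; group
    have hvR : (v : G) ∈ R := Subgroup.mem_centralizer_iff.2 fun l hl => (hvL l hl).symm
    have hvp : π ⟨v, hvR⟩ * xp = xp * π ⟨v, hvR⟩ := π.symm.injective (Subtype.ext (by
      rw [map_mul, map_mul, Subgroup.coe_mul, Subgroup.coe_mul, MulEquiv.symm_apply_apply, hπx]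
      exact Subgroup.mem_centralizer_singleton_iff.1 v.2))
    have hxR : ∀ i : ℕ, ψ v = 1 ∨ π ⟨v, hvR⟩ ≠ xp ^ i := fun i => by
      by_cases e : π ⟨v, hvR⟩ = xp ^ i
      · refine Or.inl ((M.ker v).2 ⟨i, Subtype.ext ?_⟩)
        have e1 := congrArg (fun p => ((π.symm p : ↥R) : G)) e
        simp only [MulEquiv.symm_apply_apply, map_pow, SubgroupClass.coe_pow, hπx] at e1
        show ((xM x ^ (i : ℤ) : ↥C) : G) = (v : G)
        rw [e1, zpow_natCast, SubgroupClass.coe_pow]; rfl
      · exact Or.inr e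
    rcases a5_cent_xp _ hvp with e | e | e
    · exact (hxR 0).resolve_right fun hne => hne (by rw [pow_zero]; exact e)
    · exact (hxR 1).resolve_right fun hne => hne (by rw [pow_one]; exact e)
    · exact (hxR 2).resolve_right fun hne => hne (by rw [pow_two]; exact e)
  have hout : ∀ d : MulAut Spor.Suz, (∀ y ∈ H2, d y = y) → d ∈ Cfsg.Inn Spor.Suz → d = 1 := fun d hd hi => by
    obtain ⟨a, rfl⟩ := hi
    rw [hcent a fun y hy => ?_, map_one]
    have := hd y hy
    rw [MulAut.conj_apply] at this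
    calc a * y = a * y * a⁻¹ * a := by group
      _ = y * a := by rw [this]
  have hb1 : b ≠ 1 := fun e => by
    have e1 : β = MonoidHom.id Hq := lift_unique hk fun u => by
      rw [← hb, e, MulAut.one_apply]; rfl
    have e2 : s * x * s = x := by
      obtain ⟨u, hu⟩ := φ.surjective (xM x)
      have := hβ u
      rw [e1, show (MonoidHom.id Hq) u = u from rfl, show ι u = x from congrArg Subtype.val hu] at this
      exact this.symm
    have e3 : sp5 * xp * sp5 = xp := π.symm.injective (Subtype.ext (by rw [hπmul, hπs, hπx, e2]))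
    rw [f5] at e3
    have : xp = 1 := by
      have h3 : xp * xp * xp = (1 : alternatingGroup (Fin 5)) := by rw [← pow_two, ← pow_succ]; exact perm_ok.1
      have hxx : xp * xp = (1 : alternatingGroup (Fin 5)) := by nth_rw 1 [← e3]; exact inv_mul_cancel xp
      rwa [hxx, one_mul] at h3
    exact perm_ok.2.1 this
  have ht1 : t ≠ 1 := fun e => by
    have e1 : theta = MonoidHom.id Hq := lift_unique hk fun u => by
      rw [← ht, e, MulAut.one_apply]; rfl
    have e2 := theta_xq
    rw [e1, MonoidHom.id_apply] at e2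
    refine xq_ne ?_
    have h3 := xq_cube
    rwa [pow_succ, pow_two, show xq * xq = 1 by nth_rw 1 [e2]; exact inv_mul_cancel xq, one_mul] at h3
  have hbt : b = t := by
    have h2 : Nat.card (Cfsg.Out Spor.Suz) = 2 := SuzOut.card_out
    haveI : Finite (Cfsg.Out Spor.Suz) := Nat.finite_of_card_ne_zero (by omega)
    obtain ⟨a, c, hac, huniv⟩ := Nat.card_eq_two_iff.1 h2
    have hbn : (QuotientGroup.mk b : Cfsg.Out Spor.Suz) ≠ 1 := fun e => hb1 (hout b hbfix
      ((QuotientGroup.eq_one_iff _).1 e))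
    have htn : (QuotientGroup.mk t : Cfsg.Out Spor.Suz) ≠ 1 := fun e => ht1 (hout t htfix
      ((QuotientGroup.eq_one_iff _).1 e))
    have hall : ∀ o : Cfsg.Out Spor.Suz, o = a ∨ o = c := fun o => by
      have : o ∈ ({a, c} : Set (Cfsg.Out Spor.Suz)) := huniv ▸ Set.mem_univ o
      simpa using this
    have e : (QuotientGroup.mk b : Cfsg.Out Spor.Suz) = QuotientGroup.mk t := by
      rcases hall 1 with h1 | h1 <;> rcases hall (QuotientGroup.mk b) with h2 | h2 <;>
        rcases hall (QuotientGroup.mk t) with h3 | h3 <;>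
          first
          | exact h2.trans h3.symm
          | exact absurd (h2.trans h1.symm) hbn
          | exact absurd (h3.trans h1.symm) htn
    have hm := hout (b⁻¹ * t) (fun y hy => by
      rw [MulAut.mul_apply, htfix y hy]
      nth_rw 1 [← hbfix y hy]
      exact b.symm_apply_apply y) (QuotientGroup.eq.1 e)
    exact inv_mul_eq_one.1 hm
  have hsh : β = theta := lift_unique hk fun u => by rw [← hb, ← ht, hbt]
  refine ⟨ι, n, s, ⟨hιinj, hnn, hss, hn, fun u => by rw [← hβ, hsh], hsg, ?_, ?_, ?_⟩, ?_⟩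
  · calc n * (s * g) = s * (g * n * g) * s * (s * g) := by rw [hsgn]
      _ = s * (g * n * g) * (s * s) * g := by group
      _ = s * g * n * (g * g) := by rw [hss]; group
      _ = _ := by rw [hgg, mul_one]
  · calc n * g * n * g * n = n * (g * n * g) * n := by group
      _ = s := by rw [hgn, ← hπn, ← hπmul, f15, hπs]
  · have hxn : x * n * (x * n) * (x * n) = 1 := by
      rw [← hπx, ← hπn]
      simp only [← Subgroup.coe_mul, ← map_mul, show xp * np * (xp * np) * (xp * np) = 1 from a5_xn, map_one,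
        OneMemClass.coe_one]
    obtain ⟨i, hi⟩ := hxqx
    change x ^ i = ι xq at hi
    rw [← hi]
    have h3 : x ^ (3 : ℤ) = 1 := by rw [show x ^ (3 : ℤ) = x ^ (3 : ℕ) from zpow_natCast x 3, h.x3]
    have hmod : x ^ i = x ^ (i % 3) := by
      conv_lhs => rw [← Int.emod_add_mul_ediv i 3, zpow_add, zpow_mul, h3, one_zpow, mul_one]
    rw [hmod]
    obtain e | e | e : i % 3 = 0 ∨ i % 3 = 1 ∨ i % 3 = 2 := by omega
    · exfalso
      rw [e, zpow_zero] at hmod
      exact xq_ne (hιinj (by rw [← hi, hmod, map_one]))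
    · rwa [e, zpow_one]
    · rw [e, show x ^ (2 : ℤ) = x⁻¹ by
        refine eq_inv_of_mul_eq_one_left ?_
        rw [← zpow_add_one]; exact h3]
      have hni : n⁻¹ = n := inv_eq_of_mul_eq_one_right hnn
      calc x⁻¹ * n * (x⁻¹ * n) * (x⁻¹ * n) = x⁻¹ * n⁻¹ * (x⁻¹ * n⁻¹) * (x⁻¹ * n) := by rw [hni]
        _ = n⁻¹⁻¹ * ((x * n) * (x * n) * (x * n))⁻¹ * n := by
          rw [inv_inv, mul_inv_rev, mul_inv_rev, mul_inv_rev]; group
        _ = 1 := by rw [hxn, inv_one, mul_one, inv_inv, hnn]
  · obtain ⟨w, hw⟩ := φ.surjective ⟨z, h.L_le h.zL⟩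
    have hιw : ι w = z := congrArg Subtype.val hw
    obtain ⟨c, hc⟩ := isConj_iff.1 (M.zc _ (congrArg Subtype.val hw))
    obtain ⟨d, rfl⟩ := hη c
    have h121 : η (ev hq [1, 2, 1]) = SuzOut.g 0 := by
      rw [ev_map η hq, ← tau_zero, tau_eq (by norm_num : (0 : ℕ) < 6)]
      have e : tauA.getD 0 [] = [1, 2, 1] := by decide +kernel
      rw [e]
      exact Tree5.ev_congr _ fun t ht => hg t (by simp at ht; omega)
    set t0 := d * ev hq [1, 2, 1] * d⁻¹ with ht0
    have ht2 : t0 * t0 = 1 := by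
      have e : ev hq [1, 2, 1] * ev hq [1, 2, 1] = 1 := by
        simp only [ev, mul_one]
        calc hq 1 * (hq 2 * hq 1) * (hq 1 * (hq 2 * hq 1)) = hq 1 * (hq 2 * (hq 1 * hq 1) * hq 2) * hq 1 := by group
          _ = 1 := by rw [hq_sq, mul_one, hq_sq, mul_one, hq_sq]
      rw [ht0, conj_mul, e, mul_one, mul_inv_cancel]
    have hw2 : w * w = 1 := hιinj (by rw [map_mul, hιw, h.zz, map_one])
    obtain ⟨i, hi⟩ := (hk (t0⁻¹ * w)).1 (by
      rw [map_mul, map_inv, ht0, map_mul, map_mul, map_inv, h121, hc, hφ, inv_mul_cancel])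
    change xq ^ i = t0⁻¹ * w at hi
    refine ⟨w, isConj_iff.2 ⟨d, ?_⟩, hιw⟩
    have hcm : Commute t0 (xq ^ i) := Commute.zpow_right (show Commute t0 xq from xq_central t0) i
    have hwe : w = t0 * xq ^ i := by rw [hi]; group
    have h2 : xq ^ i * xq ^ i = 1 := by
      calc xq ^ i * xq ^ i = t0 * t0 * (xq ^ i * xq ^ i) := by rw [ht2, one_mul]
        _ = w * w := by rw [hwe, hcm.mul_mul_mul_comm]
        _ = 1 := hw2
    have h3 : (xq ^ i) ^ (3 : ℕ) = 1 := by
      rw [← zpow_natCast, ← zpow_mul, mul_comm, zpow_mul, zpow_natCast, xq_cube, one_zpow]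
    have h1 : xq ^ i = 1 := by rwa [pow_succ, pow_two, h2, one_mul] at h3
    rw [hwe, h1, mul_one]

end Cfsg.Agent.Spor.CoUniq

end
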