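import Mathlib.Init

/-! Words reaching the centralizer of the element of order three from the monomial generators and the extra map. -/

set_option autoImplicit false
set_option maxRecDepth 100000

namespace Cfsg.Agent.Spor.CoUniq

/-- Left and right words for sixteen generators; the letters above six are the element of order three, the double
transposition and the inverting member. -/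
def genW : List (List Nat × List Nat) := [
  ([8, 6, 1, 0, 1, 2, 1, 3, 2, 1, 4, 3, 2, 5, 1, 0, 1, 2, 8, 6, 1, 0, 2, 1, 3, 2, 1, 4], []),
  ([8, 6, 1, 2, 3, 2, 1, 4, 3, 2, 3, 5, 7, 7], []),
  ([8, 6, 1, 0, 1, 2, 3, 2, 4, 3, 2, 1, 5, 1, 0, 1, 8, 6, 1, 0, 2, 3, 2, 5], []),
  ([8, 6, 1, 0, 2, 1, 3, 2, 1, 4, 3, 2, 1, 5, 1, 0, 1, 8, 6, 1, 0, 2, 1, 6], []),
  ([8, 6, 1, 0, 2, 1, 3, 2, 1, 4, 3, 2, 1, 5, 1, 0, 1, 8, 6, 1, 0, 2, 1, 6, 7, 7], []),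
  ([9, 8, 6, 1, 0, 1, 2, 3, 2, 1, 4, 5, 1, 2, 3, 2, 6, 1, 8, 6, 1, 0, 2, 3, 2, 4, 3, 2, 5, 1, 6], [6, 8]),
  ([8, 6, 1, 0, 2, 3, 2, 1, 0, 4, 3, 2, 1, 3, 6, 5, 8, 6, 1, 0, 1, 2, 5, 1, 6], []),
  ([9, 8, 6, 1, 2, 3, 2, 1, 4, 3, 6, 5, 1, 2, 7, 7, 7, 7, 8, 6, 1, 0, 2, 1, 3, 2, 4, 3, 2, 1, 5], [8]),
  ([8, 6, 1, 0, 2, 1, 3, 4, 5, 1, 2, 3, 2, 7, 7, 8, 6, 1, 5, 7, 7], []),
  ([], []),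
  ([9, 8, 6, 1, 2, 3, 2, 1, 0, 4, 3, 5, 1, 2, 6, 1, 0, 1, 0, 5, 8, 6, 1, 2, 3, 2, 1, 0, 6, 7, 7], [8]),
  ([8, 6, 1, 0, 2, 1, 3, 4, 5, 1, 2, 3, 2, 7, 7, 8, 6, 1, 5], []),
  ([8, 6, 1, 0, 2, 3, 2, 4, 3, 2, 1, 5, 1, 2, 6, 1, 7, 7, 8, 6, 1, 0, 1, 0], []),
  ([9, 8, 6, 1, 0, 2, 3, 2, 1, 4, 3, 2, 5, 6, 1, 0, 1, 7, 7, 8, 6, 1, 0, 2, 1, 3, 2, 1, 4, 3, 2, 1, 0, 5], [8]),
  ([], []),
  ([8, 6, 1, 0, 1, 2, 3, 4, 5, 1, 6, 8, 6, 1, 2, 3, 2, 1, 5, 7, 7], [])]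

end Cfsg.Agent.Spor.CoUniq
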