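import Cfsg.Agent.Lib.Spor.CoUniq.EngBase
import Cfsg.Agent.Lib.Spor.CoUniq.GenData
import Cfsg.Agent.Lib.Fus.Co1Out.Basic
import Cfsg.Agent.Lib.Spor.Leech.CrossMaximal
import Cfsg.Agent.Lib.Spor.Golay.Census

/-!
The first Conway group is generated by the centralizer of the element of order three, the double transposition and
the inverting member.
-/

set_option autoImplicit false
set_option maxRecDepth 100000
set_option maxHeartbeats 1000000

noncomputable section

namespace Cfsg.Agent.Spor.CoUniq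

open Cfsg Cfsg.Agent.Spor.Leech Cfsg.Agent.Spor.CoSuz Cfsg.Agent.Spor.Cos
open Cfsg.Agent.Fus.Co1Centre (mk)
open scoped Pointwise

local notation "SC" => supports (golayCode : Set (GolayPt → ZMod 2))

/-- The group generated by the three pieces. -/
def Im : Subgroup Spor.Co1 := Subgroup.closure (Set.range iq ∪ {n1, s1})

theorem iq_mem_Im (u : Hq) : iq u ∈ Im := Subgroup.subset_closure (Or.inl ⟨u, rfl⟩)

/-- The ten letters. -/
def g10 (t : ℕ) : Spor.Co1 := if t < 8 then iq (h8 t) else if t = 8 then n1 else s1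

/-- Their rows. -/
def T10 (t : ℕ) : List ℕ := if t < 8 then T8 t else if t = 8 then nT else sT

/-- Rows of a word in the ten letters. -/
def ev10 : List ℕ → List ℕ
  | [] => oneP
  | t :: w => mulP (T10 t) (ev10 w)

theorem g10_mem (t : ℕ) : g10 t ∈ Im := by
  unfold g10
  split_ifs
  · exact iq_mem_Im _
  · exact Subgroup.subset_closure (Or.inr (Or.inl rfl))
  · exact Subgroup.subset_closure (Or.inr (Or.inr rfl))

theorem rep_g10 (t : ℕ) : Rep (g10 t) (T10 t) := by
  unfold g10 T10
  split_ifs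
  · exact (rep_h8 t).1
  · exact rep_n
  · exact ⟨sC, rfl, hasT_s⟩

theorem rep_ev10 : ∀ w : List ℕ, Rep (ev g10 w) (ev10 w)
  | [] => rep_one
  | t :: w => (rep_g10 t).mul (rep_ev10 w)

/-- The check of a generator. -/
def chkG (i : ℕ) (T : List ℕ) : Bool :=
  chkComm (mulP (mulP (ev10 (genW.getD i ([], [])).1) T) (ev10 (genW.getD i ([], [])).2))

theorem mem_Im_of {g : Co0} {T : List ℕ} (hg : HasT g T) (i : ℕ) (h : chkG i T = true) : mk g ∈ Im := by
  obtain ⟨a, ha, hA⟩ := rep_ev10 (genW.getD i ([], [])).1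
  obtain ⟨b, hb, hB⟩ := rep_ev10 (genW.getD i ([], [])).2
  have hc : a * g * b ∈ CA := mem_CA_of ((hA.mul hg).mul hB) h
  have hI : mk (a * g * b) ∈ Im := iq_mk ⟨_, hc⟩ ▸ iq_mem_Im _
  have hw : ∀ w, ev g10 w ∈ Im := fun w => ev_mem w fun t _ => g10_mem t
  rw [show mk g = (mk a)⁻¹ * mk (a * g * b) * (mk b)⁻¹ by rw [map_mul, map_mul]; group, ha, hb]
  exact mul_mem (mul_mem (inv_mem (hw _)) hI) (inv_mem (hw _))

/-- Rows of a permutation. -/
def rowsP (P : ℕ) : List ℕ :=
  (List.range 24).map fun i => Golay.pack 24 fun j => if Golay.get P i = j then 24 else 16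

/-- Rows of a sign change. -/
def rowsC (c : ℕ) : List ℕ :=
  (List.range 24).map fun i => Golay.pack 24 fun j => if i = j then (if c.testBit i then 8 else 24) else 16

/-- Rows of the extra map. -/
def rowsX : List ℕ := (List.range 24).map fun i => encV (xiFun (Pi.single (Golay.pt i) 8))

theorem perm_rows : ∀ k < 3, Golay.valid (Golay.Census.gens0.getD k 0) = true ∧ ∀ q : GolayPt,
    (rowsP (Golay.Census.gens0.getD k 0)).getD (Golay.idx q) 0 =
      encV (Pi.single (Golay.app (Golay.Census.gens0.getD k 0) q) 8) := by decide +kernel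

theorem sign_rows : ∀ k < 12, ∀ q : GolayPt, (rowsC (Golay.basis.getD k 0)).getD (Golay.idx q) 0 =
    encV (Pi.single q (if (Golay.basis.getD k 0).testBit (Golay.idx q) then -8 else 8)) := by decide +kernel

theorem xi_rows : ∀ q : GolayPt, rowsX.getD (Golay.idx q) 0 = encV (xiFun (Pi.single q 8)) := by decide +kernel

theorem perm_chk : ∀ k < 3, Golay.inM24 (Golay.Census.gens0.getD k 0) = true ∧
    chkG k (rowsP (Golay.Census.gens0.getD k 0)) = true := by decide +kernel

theorem sign_chk : ∀ k < 12, Golay.isCode (Golay.basis.getD k 0) = true ∧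
    chkG (3 + k) (rowsC (Golay.basis.getD k 0)) = true := by decide +kernel

theorem xi_chk : chkG 15 rowsX = true := by decide +kernel

theorem xi_notMem : xi ∉ crossStab := fun h => by
  have hd : ∀ j : GolayPt, xiFun (Pi.single (Golay.pt 0) 8) ≠ Pi.single j 8 ∧
      xiFun (Pi.single (Golay.pt 0) 8) ≠ -Pi.single j 8 := by decide +kernel
  have h1 : xi • axis (Golay.pt 0) ∈ stdL := by
    have : xi • stdL = stdL := h
    rw [← this]
    exact Set.smul_mem_smul_set (mem_stdL.2 ⟨_, Or.inl rfl⟩)
  obtain ⟨j, e | e⟩ := mem_stdL.1 h1 <;> have e' := congrArg (fun v : leechLattice => (v : Vec)) e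
  · exact (hd j).1 (by simpa [xi_apply, axis_val] using e')
  · exact (hd j).2 (by simpa [xi_apply, axis_val] using e')

theorem sign_mem {c : Finset GolayPt} (hc : c ∈ SC) : mk (mono (one_mem M24) hc) ∈ Im := by
  let P : ℕ → Prop := fun m => ∀ h : Golay.pts m ∈ SC, mk (mono (one_mem M24) h) ∈ Im
  have hbase : ∀ k < 12, P (Golay.basis.getD k 0) := fun k hk h => by
    refine mem_Im_of (T := rowsC (Golay.basis.getD k 0)) ⟨by simp [rowsC], fun q => ?_⟩ (3 + k) (sign_chk k hk).2
    rw [sign_rows k hk q, mono_axis, Equiv.Perm.one_apply]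
    refine congrArg encV ?_
    by_cases hb : (Golay.basis.getD k 0).testBit (Golay.idx q) = true
    · rw [if_pos hb, if_pos (Golay.mem_pts.2 hb), AddSubgroup.coe_neg, axis_val, ← Pi.single_neg]
    · rw [if_neg hb, if_neg (fun e => hb (Golay.mem_pts.1 e)), axis_val]
  have h0 : P 0 := fun h => by
    have e : Golay.pts 0 = ∅ := by ext p; simp [Golay.mem_pts]
    rw [Fus.Co1Centre.mono_congr _ (one_mem M24) h empty_code rfl e, Fus.Co1Out.mono_one_empty, map_one]
    exact one_mem _
  have hxor : ∀ a b, Golay.pts a ∈ SC → Golay.pts b ∈ SC → P a → P b → P (a ^^^ b) := fun a b ha hb pa pb h => by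
    have e := congrArg mk (Fus.Co1Centre.mono_mul (one_mem M24) (one_mem M24) ha hb)
    rw [map_mul] at e
    rw [Fus.Co1Centre.mono_congr _ (mul_mem (one_mem M24) (one_mem M24)) h
      (Golay.symmDiff_mem_supports ha (smul_supports (one_mem M24) hb)) (one_mul 1).symm
      (by rw [one_smul, Golay.pts_symmDiff]), ← e]
    exact mul_mem (pa ha) (pb hb)
  obtain ⟨m, hm, rfl⟩ := Golay.mem_supports.1 hc
  obtain ⟨k, -, rfl⟩ := List.mem_map.1 hm
  have key : ∀ L : List ℕ, (∀ b ∈ L, P b ∧ Golay.pts b ∈ SC) → ∀ i,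
      P (Golay.encAux k i L) ∧ Golay.pts (Golay.encAux k i L) ∈ SC := by
    intro L
    induction L with
    | nil => intro _ _; exact ⟨h0, by rw [Golay.encAux]; convert empty_code; ext p; simp [Golay.mem_pts]⟩
    | cons b L ih =>
      intro hL i
      obtain ⟨p1, p2⟩ := ih (fun a ha => hL a (List.mem_cons_of_mem _ ha)) (i + 1)
      obtain ⟨q1, q2⟩ : P (if k.testBit i then b else 0) ∧ Golay.pts (if k.testBit i then b else 0) ∈ SC := by
        split_ifs
        · exact hL b List.mem_cons_self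
        · exact ⟨h0, by convert empty_code; ext p; simp [Golay.mem_pts]⟩
      rw [Golay.encAux, ← Golay.pts_symmDiff]
      exact ⟨hxor _ _ q2 p2 q1 p1, Golay.symmDiff_mem_supports q2 p2⟩
  refine (key Golay.basis (fun b hb => ?_) 0).1 hc
  obtain ⟨i, hi, rfl⟩ := List.getElem_of_mem hb
  have hi' : i < 12 := hi
  rw [← List.getD_eq_getElem _ 0 hi]
  exact ⟨hbase i hi', Golay.mem_supports.2 ⟨_, Golay.mem_codeList.2 (sign_chk i hi').1, rfl⟩⟩

theorem perm_mem {σ : Equiv.Perm GolayPt} (hσ : σ ∈ M24) : mk (mono hσ empty_code) ∈ Im := by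
  have hle : Golay.Census.grp Golay.Census.gens0 = M24 := by
    rw [← Golay.Census.stage0.2.1]; ext g; simp [Golay.Census.mem_Fx]
  have hσ' : σ ∈ Golay.Census.grp Golay.Census.gens0 := hle.symm ▸ hσ
  suffices ∀ h : σ ∈ M24, mk (mono h empty_code) ∈ Im from this hσ
  clear hσ
  induction hσ' using Subgroup.closure_induction with
  | mem x hx =>
    obtain ⟨P, hP, rfl⟩ := hx
    intro h
    obtain ⟨k, hk, e⟩ := List.getElem_of_mem hP
    rw [← List.getD_eq_getElem _ 0 hk] at e
    subst e
    obtain ⟨hv, hr⟩ := perm_rows k hk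
    refine mem_Im_of (T := rowsP (Golay.Census.gens0.getD k 0)) ⟨by simp [rowsP], fun q => ?_⟩ k (perm_chk k hk).2
    rw [hr q, mono_axis, if_neg (Finset.notMem_empty _), Golay.permOf_apply hv, axis_val]
  | one => intro h; rw [Fus.Co1Out.mono_one_empty, map_one]; exact one_mem _
  | mul a b ha hb iha ihb =>
    intro h
    have ha' : a ∈ M24 := hle.le ha
    have hb' : b ∈ M24 := hle.le hb
    have e := congrArg mk (Fus.Co1Centre.mono_mul ha' hb' empty_code empty_code)
    rw [map_mul] at e
    rw [Fus.Co1Centre.mono_congr h (mul_mem ha' hb') empty_code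
      (Golay.symmDiff_mem_supports empty_code (smul_supports ha' empty_code)) rfl (by simp), ← e]
    exact mul_mem (iha ha') (ihb hb')
  | inv a ha iha =>
    intro h
    have ha' : a ∈ M24 := hle.le ha
    have e := congrArg mk (Fus.Co1Centre.mono_mul h ha' empty_code empty_code)
    rw [map_mul, Fus.Co1Centre.mono_congr (mul_mem h ha') (one_mem M24)
      (Golay.symmDiff_mem_supports empty_code (smul_supports h empty_code)) empty_code (inv_mul_cancel a)
      (by simp), Fus.Co1Out.mono_one_empty, map_one] at e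
    rw [eq_inv_of_mul_eq_one_left e]
    exact inv_mem (iha ha')

theorem Im_top : Im = ⊤ := by
  have hle : crossStab ≤ Im.comap mk := by
    intro g hg
    obtain ⟨σ, hσ, c, hc, rfl⟩ := exists_mono hg
    have e := congrArg mk (Fus.Co1Centre.mono_mul (one_mem M24) hσ hc empty_code)
    rw [map_mul] at e
    rw [Subgroup.mem_comap, Fus.Co1Centre.mono_congr hσ (mul_mem (one_mem M24) hσ) hc
      (Golay.symmDiff_mem_supports hc (smul_supports (one_mem M24) empty_code)) (one_mul σ).symm (by rw [one_smul]; ext; simp [Finset.mem_symmDiff]), ← e]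
    exact mul_mem (sign_mem hc) (perm_mem hσ)
  have hxi : xi ∈ Im.comap mk := mem_Im_of (T := rowsX) ⟨by simp [rowsX], fun q => by
    rw [xi_rows q, xi_apply, axis_val]⟩ 15 xi_chk
  rcases CrossMaximal.maximal _ hle with h | h
  · exact absurd (h ▸ hxi) xi_notMem
  · refine eq_top_iff.2 fun x _ => ?_
    obtain ⟨g, rfl⟩ := QuotientGroup.mk'_surjective (Subgroup.center Co0) x
    exact (h ▸ Subgroup.mem_top g : g ∈ Im.comap mk)

end Cfsg.Agent.Spor.CoUniq

end
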