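import Cfsg.Agent.Lib.Spor.CoUniq.Eng
import Cfsg.Agent.Lib.Spor.CoUniq.Gen
import Cfsg.Agent.Lib.Spor.Leech.OneSimple
import Cfsg.Agent.Lib.Spor.Leech.TwoSimple

/-!
An amalgam inside a finite group gives an embedding of the first Conway group: the graph of the map is a subdirect
product covered by five double cosets, so it meets the first factor trivially.
-/

set_option autoImplicit false
set_option maxRecDepth 100000

noncomputable section

namespace Cfsg.Agent.Spor.CoUniq

open Cfsg Cfsg.Agent.Spor.CoSuz Cfsg.Agent.Spor.Cos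

theorem rep_far : ∀ i, 1 ≤ i → i < 5 → (pmEq (xT (mT i)) aT || pmEq (xI (mT i)) aT) = false := by
  have h : ((List.range 4).all fun i => !(pmEq (xT (mT (i + 1))) aT || pmEq (xI (mT (i + 1))) aT)) = true := by
    decide +kernel
  intro i h1 h5
  have := List.all_eq_true.1 h (i - 1) (List.mem_range.2 (by omega))
  rw [show i - 1 + 1 = i by omega, Bool.not_eq_true'] at this
  exact this

theorem Rep2.far {m : Spor.Co1} {i : ℕ} (h : Rep2 m (mT i)) (h1 : 1 ≤ i) (h5 : i < 5) :
    Xc m ≠ x1 ∧ Xc m ≠ x1⁻¹ := by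
  have hf := rep_far i h1 h5
  rw [Bool.or_eq_false_iff] at hf
  obtain ⟨hT, hI⟩ := h.rep_xT
  constructor <;> intro e
  · exact Bool.false_ne_true (hf.1.symm.trans (hT.pm rep_x e))
  · exact Bool.false_ne_true (hf.2.symm.trans (hI.pm rep_x (by rw [e, inv_inv, x1])))

variable {G : Type*} [Group G] {ι : Hq →* G} {n s : G}

/-- The amalgam in the product with the model. -/
def prodOver (A : Amalgam ι n s) : Over (G × Spor.Co1) where
  ι := ι.prod iq
  n := (n, n1)
  s := (s, s1)
  π := MonoidHom.snd G Spor.Co1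
  amal :=
    { inj := fun a b h => A.inj (congrArg Prod.fst h)
      nn := Prod.ext A.nn amalgam_model.nn
      ss := Prod.ext A.ss amalgam_model.ss
      nh := fun i hi => Prod.ext (A.nh i hi) (amalgam_model.nh i hi)
      sh := fun u => Prod.ext (A.sh u) (amalgam_model.sh u)
      sg := Prod.ext A.sg amalgam_model.sg
      nsg := Prod.ext A.nsg amalgam_model.nsg
      tri := Prod.ext A.tri amalgam_model.tri
      xn := Prod.ext A.xn amalgam_model.xn }
  πι _ := rfl
  πn := rfl
  πs := rfl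

theorem s1_far : ∀ h : Hq, iq h * s1 ≠ 1 := fun h e => by
  have h1 : s1 = iq h⁻¹ := by rw [map_inv]; exact eq_inv_of_mul_eq_one_right e
  have h2 := s1_theta xq
  rw [theta_xq, h1, ← map_mul, xq_central h⁻¹, ← map_mul] at h2
  have h4 : s1 * s1 = 1 := s1_sq
  rw [h1, ← map_mul, ← map_one iq] at h4
  have h4' := iq_injective h4
  have h3 := iq_injective h2
  rw [mul_assoc, h4', mul_one] at h3
  have hx : xq ^ 2 = 1 := by rw [pow_two]; nth_rw 2 [h3]; exact mul_inv_cancel xq
  have : xq = 1 := by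
    calc xq = xq ^ 3 * (xq ^ 2)⁻¹ := by group
      _ = 1 := by rw [hx, xq_cube, inv_one, mul_one]
  have hne : pmEq aT oneP = false := by decide +kernel
  exact Bool.false_ne_true (hne.symm.trans (rep_x.pm rep_one (by rw [this, map_one])))

theorem gen_kernel [Finite G] (A : Amalgam ι n s) {g : G} (h : ((g, 1) : G × Spor.Co1) ∈ (prodOver A).Gen) :
    g = 1 := by
  set O := prodOver A with hO
  haveI : Finite Spor.Co1 := Finite.of_surjective _ (QuotientGroup.mk'_surjective (Subgroup.center Co0))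
  obtain ⟨w, hw, a, b, ha, hb, e⟩ := O.gen_le h
  have hp : O.π a * O.π w * O.π b = 1 := by rw [← map_mul, ← map_mul, ← e]; rfl
  have hw' : O.π w = (O.π a)⁻¹ * (O.π b)⁻¹ := by
    calc O.π w = (O.π a)⁻¹ * (O.π a * O.π w * O.π b) * (O.π b)⁻¹ := by group
      _ = _ := by rw [hp, mul_one]
  have hX : Xc (O.π w) = x1 ∨ Xc (O.π w) = x1⁻¹ := by
    have key : ∀ {c : G × Spor.Co1}, O.InX c → (O.π c)⁻¹ * x1 * O.π c = x1 ∨ (O.π c)⁻¹ * x1 * O.π c = x1⁻¹ := by
      intro c hc
      rcases O.π_inX hc with q | q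
      · exact Or.inl (by calc (O.π c)⁻¹ * x1 * O.π c = (O.π c)⁻¹ * (O.π c * x1 * (O.π c)⁻¹) * O.π c := by rw [q]
                          _ = x1 := by group)
      · exact Or.inr (by calc (O.π c)⁻¹ * x1 * O.π c = ((O.π c)⁻¹ * x1⁻¹ * O.π c)⁻¹ := by group
                          _ = ((O.π c)⁻¹ * (O.π c * x1 * (O.π c)⁻¹) * O.π c)⁻¹ := by rw [q]
                          _ = x1⁻¹ := by group)
    rw [Xc, hw', mul_inv_rev, inv_inv, inv_inv]
    rcases key hb with q | q <;> rcases key ha with r | r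
    all_goals
      rw [show (O.π a)⁻¹ * (O.π b)⁻¹ * x1 * (O.π b * O.π a) = (O.π a)⁻¹ * ((O.π b)⁻¹ * x1 * O.π b) * O.π a by group,
        q]
    · exact Or.inl r
    · exact Or.inr r
    · exact Or.inr (by rw [show (O.π a)⁻¹ * x1⁻¹ * O.π a = ((O.π a)⁻¹ * x1 * O.π a)⁻¹ by group, r])
    · exact Or.inl (by rw [show (O.π a)⁻¹ * x1⁻¹ * O.π a = ((O.π a)⁻¹ * x1 * O.π a)⁻¹ by group, r, inv_inv])
  have hw1 : w = 1 := by
    simp only [Over.S5, List.mem_cons, List.not_mem_nil, or_false] at hw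
    rcases hw with rfl | rfl | rfl | rfl | rfl
    · rfl
    · exact absurd hX (not_or_intro (O.rep_nn.far (by norm_num) (by norm_num)).1 (O.rep_nn.far (by norm_num) (by norm_num)).2)
    · exact absurd hX (not_or_intro (O.rep_A.far (by norm_num) (by norm_num)).1 (O.rep_A.far (by norm_num) (by norm_num)).2)
    · exact absurd hX (not_or_intro (O.rep_B.far (by norm_num) (by norm_num)).1 (O.rep_B.far (by norm_num) (by norm_num)).2)
    · exact absurd hX (not_or_intro (O.rep_C.far (by norm_num) (by norm_num)).1 (O.rep_C.far (by norm_num) (by norm_num)).2)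
  rw [hw1, mul_one] at e
  obtain ⟨k, hk | hk⟩ := Over.InX.mul O ha hb
  · rw [← e] at hk
    obtain ⟨hg, h1⟩ := Prod.ext_iff.1 hk
    have : k = 1 := iq_injective (by rw [map_one]; exact h1.symm)
    rw [this] at hg
    exact hg.trans (map_one ι)
  · rw [← e] at hk
    exact absurd (Prod.ext_iff.1 hk).2.symm (s1_far k)

theorem gen_onto (A : Amalgam ι n s) (m : Spor.Co1) : ∃ g, ((g, m) : G × Spor.Co1) ∈ (prodOver A).Gen := by
  have hle : Im ≤ (prodOver A).Gen.map (MonoidHom.snd G Spor.Co1) := by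
    rw [Im, Subgroup.closure_le]
    rintro x (⟨u, rfl⟩ | rfl | rfl)
    · exact ⟨(prodOver A).ι u, Subgroup.subset_closure (Or.inl ⟨u, rfl⟩), rfl⟩
    · exact ⟨(prodOver A).n, Subgroup.subset_closure (Or.inr (Or.inl rfl)), rfl⟩
    · exact ⟨(prodOver A).s, Subgroup.subset_closure (Or.inr (Or.inr rfl)), rfl⟩
  obtain ⟨⟨g, m'⟩, hg, rfl⟩ := hle (Im_top ▸ Subgroup.mem_top m)
  exact ⟨g, hg⟩

/-- The embedding of the first Conway group. -/
theorem exists_embedding [Finite G] (A : Amalgam ι n s) :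
    ∃ th : Spor.Co1 →* G, Function.Injective th ∧ ∀ u, th (iq u) = ι u := by
  have huniq : ∀ {g g' : G} {m : Spor.Co1}, ((g, m) : G × Spor.Co1) ∈ (prodOver A).Gen →
      ((g', m) : G × Spor.Co1) ∈ (prodOver A).Gen → g = g' := fun {g g' m} h h' => by
    refine mul_inv_eq_one.1 (gen_kernel A ?_)
    have := mul_mem h (inv_mem h')
    rwa [Prod.inv_mk, Prod.mk_mul_mk, mul_inv_cancel] at this
  choose f hf using gen_onto A
  let th : Spor.Co1 →* G :=
    { toFun := f
      map_one' := huniq (hf 1) (one_mem _)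
      map_mul' := fun a b => huniq (hf (a * b)) (by simpa using mul_mem (hf a) (hf b)) }
  have hι : ∀ u, th (iq u) = ι u := fun u =>
    huniq (hf _) (Subgroup.subset_closure (Or.inl ⟨u, rfl⟩))
  refine ⟨th, ?_, hι⟩
  haveI : IsSimpleGroup Spor.Co1 :=
    (Leech.OneSimple.isCo1 Leech.TwoSimple.facts.1 Leech.TwoSimple.facts.2).1
  rw [← MonoidHom.ker_eq_bot_iff]
  refine (IsSimpleGroup.eq_bot_or_eq_top_of_normal th.ker (MonoidHom.normal_ker th)).resolve_right fun e => ?_
  have h : th (iq xq) = 1 := by rw [← MonoidHom.mem_ker, e]; trivial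
  rw [hι, ← map_one ι] at h
  have hne : pmEq aT oneP = false := by decide +kernel
  exact Bool.false_ne_true (hne.symm.trans (rep_x.pm rep_one (by rw [A.inj h, map_one])))

end Cfsg.Agent.Spor.CoUniq

end
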