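import Cfsg.Agent.Lib.Spor.CoUniq.Embed

/-!
The embedding sends the sign change on an octad to a conjugate of the central involution of the large extraspecial
centralizer.
-/

set_option autoImplicit false
set_option maxRecDepth 100000

noncomputable section

namespace Cfsg.Agent.Spor.CoUniq

open Cfsg Cfsg.Agent.Spor.CoSuz Cfsg.Agent.Spor.Cos

/-- A word moving the sign change to the member over the second letter. -/
def wordO : List ℕ := [5, 3, 2, 1, 0, 1, 6, 4, 3, 2, 1, 5, 1]

theorem wordO_chk : (wordO.all fun t => Nat.blt t 7) = true ∧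
    pmEq (mulP (evQ wordO) eP) (mulP (evQ [1, 2, 1]) (evQ wordO)) = true := by decide +kernel

theorem isConj_eO : IsConj (Fus.Co1Centre.mk Fus.Co1Centre.eO) (iq (ev hq [1, 2, 1])) := by
  have hw : ∀ t ∈ wordO, t < 7 := fun t ht =>
    Nat.le_of_ble_eq_true (List.all_eq_true.1 wordO_chk.1 t ht)
  have he : Rep (Fus.Co1Centre.mk Fus.Co1Centre.eO) eP := ⟨_, rfl, hasT_eO⟩
  refine isConj_iff.2 ⟨iq (ev hq wordO), mul_inv_eq_iff_eq_mul.2 ?_⟩
  exact ((rep_evQ hw).mul he).eq ((rep_evQ (by simp)).mul (rep_evQ hw)) wordO_chk.2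

variable {G : Type*} [Group G] [Finite G]

/-- An embedding of the first Conway group meeting the class of the central involution. -/
theorem Loc.exists_embedding {x n s q z : G} {L : Subgroup G} (h : Loc x n s q z L) :
    ∃ th : Spor.Co1 →* G, Function.Injective th ∧ IsConj z (th (Fus.Co1Centre.mk Fus.Co1Centre.eO)) := by
  obtain ⟨ι, n', s', A, u, hu, rfl⟩ := h.exists_amalgam
  obtain ⟨th, hth, hι⟩ := CoUniq.exists_embedding A
  refine ⟨th, hth, ?_⟩
  rw [← hι u]
  exact (th.map_isConj (isConj_eO.trans (iq.map_isConj hu))).symm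

end Cfsg.Agent.Spor.CoUniq

end
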