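import Cfsg.Agent.Lib.Spor.CoUniq.EngDefs

/-!
Checks of the orbits.
-/

set_option autoImplicit false
set_option maxRecDepth 100000

namespace Cfsg.Agent.Spor.CoUniq

open Cfsg Cfsg.Agent.Spor.Cos

theorem covB_chk : ((List.range 1782).all fun p => covB.chk p) = true := by decide +kernel

theorem covC_chk : ((List.range 1782).all fun p => covC.chk p) = true := by decide +kernel

end Cfsg.Agent.Spor.CoUniq
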