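import Cfsg.Agent.Lib.Spor.CoUniq.EngDefs

/-!
Checks of the chains, the links and the values at the representatives.
-/

set_option autoImplicit false
set_option maxRecDepth 100000

namespace Cfsg.Agent.Spor.CoUniq

open Cfsg Cfsg.Agent.Spor.CoSuz Cfsg.Agent.Spor.Cos

theorem chainA_chk : ((List.range chainA.length).all fun t => chkChain 2 chainA t) = true := by decide +kernel

theorem chainB_chk : ((List.range chainB.length).all fun t => chkChain 3 chainB t) = true := by decide +kernel

theorem chainC_chk : ((List.range chainC.length).all chkChainC) = true := by decide +kernel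

theorem jump_chk : ((List.range jumpB.length).all chkJump) = true := by decide +kernel

theorem val_chk : adjImg (mT 2) = false ∧ adjImg (mT 3) = false ∧ fiveImg (mT 3) = true ∧ comImg (mT 4) = true := by
  decide +kernel

theorem id_chk : engWord.getD idA [9] = [6] ∧ engWord.getD idB [9] = 7 :: swapW ∧ idA < 160 ∧ idB < 160 ∧ idC < 160 ∧
    covN.roots = [swapW, [], [6]] ∧ ((engWord.getD idC []).all fun t => Nat.blt t 7) = true ∧
    liftN.length = 3 := by decide +kernel

theorem link_chk : ((List.range 3).all fun j =>
    (fun i => decide (i < 160) && engWord.getD i [9] == List.replicate j 7 ++ [6] &&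
      pmEq (mulP (mulP (evQ (linkN.getD j ([], [])).1) (evQ [6])) (evQ (linkN.getD j ([], [])).2)) (eT i) &&
      ((linkN.getD j ([], [])).1 ++ (linkN.getD j ([], [])).2).all fun t => Nat.blt t 6)
    ((liftN.getD 2 []).getD j 999)) = true := by decide +kernel

end Cfsg.Agent.Spor.CoUniq
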