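import Cfsg.Agent.Lib.Spor.CoUniq.EngDefs

/-!
Checks of the lifts.
-/

set_option autoImplicit false
set_option maxRecDepth 100000

namespace Cfsg.Agent.Spor.CoUniq

theorem liftA_chk : ((List.range 9).all fun q => (List.range 3).all fun j => chkLift covA liftA 2 q j) = true := by
  decide +kernel

theorem liftB_chk : ((List.range 6).all fun q => (List.range 3).all fun j => chkLift covB liftB 3 q j) = true := by
  decide +kernel

end Cfsg.Agent.Spor.CoUniq
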