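import Cfsg.Agent.Lib.Spor.CoUniq.EngChk0
import Cfsg.Agent.Lib.Spor.CoUniq.EngChk1
import Cfsg.Agent.Lib.Spor.CoUniq.EngChk2
import Cfsg.Agent.Lib.Spor.CoUniq.EngChk3
import Cfsg.Agent.Lib.Spor.CoUniq.EngChk4
import Cfsg.Agent.Lib.Spor.CoUniq.EngChk5

/-!
Five double cosets are closed under multiplication by the double transposition.
-/

set_option autoImplicit false
set_option maxRecDepth 100000
set_option maxHeartbeats 800000

noncomputable section

namespace Cfsg.Agent.Spor.CoUniq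

open Cfsg Cfsg.Agent.Spor.CoSuz Cfsg.Agent.Spor.Cos

/-! ### Rows -/

/-- An element of the table. -/
def eQ (i : ℕ) : Hq := engTab.el i

theorem rep_e {i : ℕ} (h : i < 160) : Rep (iq (eQ i)) (eT i) ∧ Rep (iq (eQ i))⁻¹ (eI i) :=
  ElTab.rep (D := engTab) (N := 160) (fun i hi => by
    rcases Nat.lt_or_ge i 80 with h | h
    · exact List.all_eq_true.1 el_chk0 i (List.mem_range.2 h)
    · have := List.all_eq_true.1 el_chk1 (i - 80) (List.mem_range.2 (by omega))
      rwa [show 80 + (i - 80) = i by omega] at this) i h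

theorem eQ_word {i : ℕ} {w : List ℕ} (h : engWord.getD i [9] = w) (hw : w ≠ [9]) : eQ i = ev h8 w := by
  rcases Nat.lt_or_ge i engWord.length with hi | hi
  · rw [List.getD_eq_getElem _ _ hi] at h
    show ev h8 (engWord.getD i []) = _
    rw [List.getD_eq_getElem _ _ hi, h]
  · rw [List.getD_eq_default _ _ hi] at h
    exact absurd h.symm hw

theorem n1_inv : n1⁻¹ = n1 := inv_eq_of_mul_eq_one_right n1_sq

theorem rep_Y : Rep (Xc n1) y0T ∧ Rep (Xc n1)⁻¹ y0I := by
  rw [Xc, n1_inv, mul_inv_rev, mul_inv_rev, n1_inv, ← mul_assoc n1 x1⁻¹]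
  exact ⟨(rep_n.mul rep_x).mul rep_n, (rep_n.mul rep_xinv).mul rep_n⟩

theorem adjE_spec {i j : ℕ} (hi : i < 160) (hj : j < 160) (h : adjE i j = true) :
    AdjP (iq (eQ i) * Xc n1 * (iq (eQ i))⁻¹) (iq (eQ j) * Xc n1 * (iq (eQ j))⁻¹) := by
  refine (adjR_iff (((rep_e hi).1.mul rep_Y.1).mul (rep_e hi).2) (((rep_e hj).1.mul rep_Y.1).mul (rep_e hj).2) ?_).1 h
  rw [mul_inv_rev, mul_inv_rev, inv_inv, ← mul_assoc]
  exact ((rep_e hj).1.mul rep_Y.2).mul (rep_e hj).2

/-- Rows of a member and of its inverse. -/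
def Rep2 (m : Spor.Co1) (p : List ℕ × List ℕ) : Prop := Rep m p.1 ∧ Rep m⁻¹ p.2

theorem Rep2.rep_xT {m : Spor.Co1} {p : List ℕ × List ℕ} (h : Rep2 m p) :
    Rep (Xc m) (xT p) ∧ Rep (Xc m)⁻¹ (xI p) := by
  rw [Xc, mul_inv_rev, mul_inv_rev, inv_inv, ← mul_assoc m]
  exact ⟨(h.1.mul rep_x).mul h.2, (h.1.mul rep_xinv).mul h.2⟩

theorem Rep2.adj {m : Spor.Co1} {p : List ℕ × List ℕ} (h : Rep2 m p) : adjImg p = true ↔ AdjP x1 (Xc m) :=
  adjR_iff rep_x h.rep_xT.1 h.rep_xT.2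

theorem Rep2.com {m : Spor.Co1} {p : List ℕ × List ℕ} (h : Rep2 m p) : comImg p = true ↔ Commute x1 (Xc m) :=
  comR_iff rep_x h.rep_xT.1

theorem Rep2.five {m : Spor.Co1} {p : List ℕ × List ℕ} (h : Rep2 m p) : fiveImg p = true ↔ FP 5 x1 (Xc m) :=
  fR_iff 5 rep_x h.rep_xT.1 h.rep_xT.2

theorem Rep2.nbr {m : Spor.Co1} {p : List ℕ × List ℕ} (h : Rep2 m p) {i : ℕ} (hi : i < 160) :
    Rep2 (m * iq (eQ i) * n1) (mulP (mulP p.1 (eT i)) nT, mulP (mulP nT (eI i)) p.2) := by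
  refine ⟨(h.1.mul (rep_e hi).1).mul rep_n, ?_⟩
  rw [mul_inv_rev, mul_inv_rev, n1_inv, ← mul_assoc]
  exact (rep_n.mul (rep_e hi).2).mul h.2

theorem lift_ne {c : Cov} (hl : c.chkLt = true) (q j : ℕ) : List.replicate j 7 ++ c.roots.getD q [] ≠ [9] := by
  intro e
  simp only [Cov.chkLt, Bool.and_eq_true, List.all_eq_true] at hl
  have h : 9 ∈ List.replicate j 7 ++ c.roots.getD q [] := by rw [e]; exact List.mem_singleton_self _
  rcases List.mem_append.1 h with h | h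
  · exact absurd (List.eq_of_mem_replicate h) (by norm_num)
  · exact absurd (getD_all_lt (fun w hw t ht => Nat.le_of_ble_eq_true (hl.2 w hw t ht)) q 9 h) (by norm_num)

theorem eQ_A : eQ idA = h8 6 := by
  rw [eQ_word id_chk.1 (by simp)]; exact mul_one _

theorem eQ_B : eQ idB = gq * xq := by
  rw [eQ_word id_chk.2.1 (by simp), ev, h8, if_neg (by norm_num), ev_h8 _ (fun t ht =>
    Nat.le_of_ble_eq_true (List.all_eq_true.1 model_chk.2.2.2.2.2.2.2.2.2.2.2.2 t ht))]
  exact (xq_central gq).symm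

theorem x1_comm : Commute x1 (Xc 1) := by rw [Xc, inv_one, mul_one, one_mul]

namespace Over

variable {K : Type*} [Group K] (O : Over K)

/-- The first representative at distance two. -/
def wA : K := O.n * O.ι (h8 6) * O.n

/-- The second. -/
def wB : K := O.n * O.ι (gq * xq) * O.n

/-- The representative at distance three. -/
def wC : K := O.wB * O.ι (eQ idC) * O.n

/-- The five representatives. -/
def S5 : List K := [1, O.n, O.wA, O.wB, O.wC]

theorem rep_nn : Rep2 (O.π O.n) (mT 1) := by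
  rw [O.πn]; exact ⟨rep_n, n1_inv.symm ▸ rep_n⟩

theorem rep_A : Rep2 (O.π O.wA) (mT 2) := by
  rw [wA, map_mul, map_mul, O.πn, O.πι, ← eQ_A]
  exact Rep2.nbr (p := (nT, nT)) ⟨rep_n, n1_inv.symm ▸ rep_n⟩ id_chk.2.2.1

theorem rep_B : Rep2 (O.π O.wB) (mT 3) := by
  rw [wB, map_mul, map_mul, O.πn, O.πι, ← eQ_B]
  exact Rep2.nbr (p := (nT, nT)) ⟨rep_n, n1_inv.symm ▸ rep_n⟩ id_chk.2.2.2.1

theorem rep_C : Rep2 (O.π O.wC) (mT 4) := by
  rw [wC, map_mul, map_mul, O.πι, O.πn]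
  exact O.rep_B.nbr id_chk.2.2.2.2.1

theorem val_A : ¬ AdjP x1 (Xc (O.π O.wA)) := by
  rw [← O.rep_A.adj, val_chk.1]; exact Bool.false_ne_true

theorem val_B : ¬ AdjP x1 (Xc (O.π O.wB)) ∧ FP 5 x1 (Xc (O.π O.wB)) := by
  rw [← O.rep_B.adj, ← O.rep_B.five, val_chk.2.1]; exact ⟨Bool.false_ne_true, val_chk.2.2.1⟩

theorem val_C : Commute x1 (Xc (O.π O.wC)) := O.rep_C.com.1 val_chk.2.2.2

theorem hgg : O.ι gq * O.ι gq = 1 := by rw [← map_mul, gq_sq, map_one]

theorem ngn : O.n * O.ι gq * O.n = O.s * O.n * O.ι gq := by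
  rw [← O.amal.tri]
  calc O.n * O.ι gq * O.n = O.n * O.ι gq * O.n * O.ι gq * (O.n * O.n) * O.ι gq := by
        rw [O.amal.nn, mul_one, mul_assoc _ (O.ι gq) (O.ι gq), hgg, mul_one]
    _ = _ := by group

theorem n_xq {e : K} (he : e = O.ι xq ∨ e = O.ι xq⁻¹) : O.n * e * O.n = e⁻¹ * O.n * e⁻¹ := by
  have h : ∀ a : K, a * O.n * (a * O.n) * (a * O.n) = 1 → O.n * a * O.n = a⁻¹ * O.n * a⁻¹ := fun a ha => by
    calc O.n * a * O.n = a⁻¹ * (a * O.n * (a * O.n) * (a * O.n)) * O.n⁻¹ * a⁻¹ := by group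
      _ = a⁻¹ * O.n * a⁻¹ := by rw [ha, inv_eq_of_mul_eq_one_right O.amal.nn, mul_one]
  rcases he with rfl | rfl
  · exact h _ O.amal.xn
  · refine h _ ?_
    rw [map_inv]
    have hn : O.n⁻¹ = O.n := inv_eq_of_mul_eq_one_right O.amal.nn
    calc (O.ι xq)⁻¹ * O.n * ((O.ι xq)⁻¹ * O.n) * ((O.ι xq)⁻¹ * O.n)
        = O.n⁻¹ * (O.n * (O.ι xq)⁻¹ * (O.n * (O.ι xq)⁻¹) * (O.n * (O.ι xq)⁻¹)) * O.n := by group
      _ = O.n⁻¹ * (O.ι xq * O.n * (O.ι xq * O.n) * (O.ι xq * O.n))⁻¹ * O.n := by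
          simp only [mul_inv_rev, hn, mul_assoc]
      _ = 1 := by rw [O.amal.xn, inv_one, mul_one, inv_mul_cancel]

theorem G0_le_stab_n : G0 ≤ O.stabR O.n := fun c hc => ⟨c, O.n_G0 hc⟩

theorem rep_g : Rep (iq gq) gT := by
  obtain ⟨u, hu, hT⟩ := gq_rows
  exact ⟨u, hu.symm, hT⟩

theorem word_G0 {w : List ℕ} (h : ∀ t ∈ w, t < 6) : ev hq w ∈ G0 :=
  ev_mem w fun t ht => Subgroup.subset_closure ⟨t, h t ht, rfl⟩

theorem ι_eq {u v : Hq} {T U : List ℕ} (hu : Rep (iq u) T) (hv : Rep (iq v) U) (h : pmEq T U = true) :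
    O.ι u = O.ι v := congrArg O.ι (iq_injective (hu.eq hv h))

theorem closed_one : O.Closed 1 [O.n] := fun h =>
  ⟨O.n, List.mem_singleton_self _, O.ι h, 1, O.inX_ι h, O.inX_one, by rw [one_mul, mul_one]⟩

theorem closed_n : O.Closed O.n [1, O.n, O.wA, O.wB] := by
  intro h
  obtain ⟨d, hd, q, hq', j, hj, e, he, rfl⟩ := covN.cover lt_chk.1
    (fun p hp => List.all_eq_true.1 covN_chk p (List.mem_range.2 hp)) h
  have hd' : d ∈ O.stabR O.n := by
    refine O.G0_le_stab_n ((Subgroup.closure_le _).2 ?_ hd)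
    rintro _ ⟨w, hw, rfl⟩
    rw [gens_chk.1] at hw
    refine word_G0 fun t ht => ?_
    fin_cases hw <;> simp at ht <;> omega
  refine U.move O hd' he ?_
  rw [len_chk.2.1] at hq'
  have hsw : ∀ t ∈ swapW, t < 7 := fun t ht =>
    Nat.le_of_ble_eq_true (List.all_eq_true.1 model_chk.2.2.2.2.2.2.2.2.2.2.2.2 t ht)
  rw [id_chk.2.2.2.2.2.1]
  obtain rfl | rfl | rfl : q = 0 ∨ q = 1 ∨ q = 2 := by omega
  · have hev : ev h8 (List.replicate j 7 ++ swapW) = xq ^ j * gq := by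
      rw [ev_append, ev_h8_seven, ev_h8 _ hsw]; rfl
    show O.U _ (O.n * O.ι (ev h8 (List.replicate j 7 ++ swapW)) * O.n)
    rw [hev]
    obtain rfl | rfl | rfl : j = 0 ∨ j = 1 ∨ j = 2 := by omega
    · rw [pow_zero, one_mul, O.ngn]
      exact ⟨O.n, by simp, O.s, O.ι gq, O.inX_s, O.inX_ι _, rfl⟩
    · rw [pow_one, ← xq_central gq]
      exact ⟨O.wB, by simp, O.cl_refl _⟩
    · refine ⟨O.wB, by simp, O.ι gq * O.s, O.s * O.ι gq, InX.mul O (O.inX_ι _) O.inX_s,
        InX.mul O O.inX_s (O.inX_ι _), ?_⟩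
      have hsx : O.s * O.ι xq = O.ι xq⁻¹ * O.s := by rw [O.s_ι, theta_xq]
      have hxx : (xq ^ 2 : Hq) = xq⁻¹ := eq_inv_of_mul_eq_one_left (by rw [← pow_succ, xq_cube])
      have hcom : O.ι xq⁻¹ * O.ι gq = O.ι gq * O.ι xq⁻¹ := by
        rw [← map_mul, ← map_mul, (Commute.inv_right (show Commute gq xq from xq_central gq)).eq]
      symm
      calc O.ι gq * O.s * O.wB * (O.s * O.ι gq)
          = O.ι gq * (O.s * O.n) * O.ι gq * O.ι xq * O.n * O.s * O.ι gq := by
            rw [wB, map_mul]; group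
        _ = O.n * (O.s * O.ι gq * O.ι gq) * O.ι xq * O.n * O.s * O.ι gq := by
            rw [O.s_n, ← mul_assoc (O.ι gq), ← mul_assoc (O.ι gq), hgg, one_mul]; group
        _ = O.n * (O.s * O.ι xq) * O.n * O.s * O.ι gq := by
            rw [mul_assoc O.s, hgg, mul_one]; group
        _ = O.n * O.ι xq⁻¹ * (O.s * O.n) * O.s * O.ι gq := by rw [hsx]; group
        _ = O.n * (O.ι xq⁻¹ * O.ι gq) * O.n * (O.s * O.ι gq * (O.s * O.ι gq)) := by rw [O.s_n]; group
        _ = O.n * O.ι (xq ^ 2 * gq) * O.n := by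
            rw [show O.s * O.ι gq * (O.s * O.ι gq) = 1 by
              rw [← mul_assoc, mul_assoc O.s, ← O.amal.sg, ← mul_assoc, O.amal.ss, one_mul, hgg], mul_one, hxx,
              map_mul]
  · show O.U _ (O.n * O.ι (ev h8 (List.replicate j 7 ++ [])) * O.n)
    rw [List.append_nil, ev_h8_seven]
    obtain rfl | rfl | rfl : j = 0 ∨ j = 1 ∨ j = 2 := by omega
    · rw [pow_zero, map_one, mul_one, O.amal.nn]
      exact ⟨1, by simp, O.cl_refl _⟩
    · rw [pow_one, O.n_xq (Or.inl rfl), ← map_inv]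
      exact ⟨O.n, by simp, _, _, O.inX_ι _, O.inX_ι _, rfl⟩
    · rw [show (xq ^ 2 : Hq) = xq⁻¹ from eq_inv_of_mul_eq_one_left (by rw [← pow_succ, xq_cube]),
        O.n_xq (Or.inr rfl), ← map_inv]
      exact ⟨O.n, by simp, _, _, O.inX_ι _, O.inX_ι _, rfl⟩
  · show O.U _ (O.n * O.ι (ev h8 (List.replicate j 7 ++ [6])) * O.n)
    have h := List.all_eq_true.1 link_chk j (List.mem_range.2 hj)
    simp only [Bool.and_eq_true, decide_eq_true_eq, beq_iff_eq, List.all_eq_true, List.mem_append] at h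
    obtain ⟨⟨⟨hi, hw⟩, hpm⟩, hlt⟩ := h
    set d0 := (linkN.getD j ([], [])).1
    set c0 := (linkN.getD j ([], [])).2
    have hd6 : ∀ t ∈ d0, t < 6 := fun t ht => Nat.le_of_ble_eq_true (hlt t (Or.inl ht))
    have hc6 : ∀ t ∈ c0, t < 6 := fun t ht => Nat.le_of_ble_eq_true (hlt t (Or.inr ht))
    have e1 : ev h8 (List.replicate j 7 ++ [6]) = ev hq d0 * h8 6 * ev hq c0 := by
      rw [← eQ_word hw (by rcases j with _ | j <;> simp [List.replicate_succ])]
      refine iq_injective (Rep.eq (rep_e hi).1 ?_ (U := mulP (mulP (evQ d0) (evQ [6])) (evQ c0)) ?_)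
      · rw [map_mul, map_mul]
        refine ((rep_evQ fun t ht => Nat.lt_succ_of_lt (hd6 t ht)).mul ?_).mul
          (rep_evQ fun t ht => Nat.lt_succ_of_lt (hc6 t ht))
        rw [show h8 6 = ev hq [6] from (mul_one _).symm]
        exact rep_evQ (by simp)
      · exact Rep.pm (m := iq (eQ ((liftN.getD 2 []).getD j 999))) (rep_e hi).1
          (Rep.of_pm (rep_e hi).1 hpm) rfl
    rw [e1]
    exact U.move O (O.G0_le_stab_n (word_G0 hd6)) (word_G0 hc6) ⟨O.wA, by simp, O.cl_refl _⟩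

/-- An adjacent element. -/
theorem adj_e {i j : ℕ} (hi : i < 160) (hj : j < 160) (h : adjE i j = true) :
    O.Cl O.n (O.n * O.ι ((eQ i)⁻¹ * eQ j) * O.n) := by
  refine O.adj_n O.closed_n (fun h : AdjP x1 (Xc 1) => h.1 x1_comm) ?_ ?_ (adjE_spec hi hj h)
  · have := O.val_A
    rwa [wA, map_mul, map_mul, O.πn, O.πι] at this
  · have := O.val_B.1
    rwa [wB, map_mul, map_mul, O.πn, O.πι] at this

/-- The known neighbours in the class of the double transposition. -/
theorem chain {r : K} {ri : ℕ} {L : List (ℕ × ℕ)} (hr : Rep2 (O.π r) (mT ri))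
    (h0 : O.Cl O.n (r * O.n)) (hL : ((List.range L.length).all fun t => chkChain ri L t) = true) :
    ∀ t < L.length, (L.getD t (0, 0)).1 < 160 ∧ O.Cl O.n (r * O.ι (eQ (L.getD t (0, 0)).1) * O.n) := by
  intro t
  induction t using Nat.strong_induction_on with
  | _ t ih =>
    intro ht
    have h := List.all_eq_true.1 hL t (List.mem_range.2 ht)
    simp only [chkChain, Bool.and_eq_true, decide_eq_true_eq] at h
    obtain ⟨hlt, h⟩ := h
    rw [len_chk.1] at hlt
    refine ⟨hlt, ?_⟩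
    by_cases h1 : t = 0
    · rw [if_pos h1, beq_iff_eq] at h
      rwa [h, show eQ 0 = 1 from rfl, map_one, mul_one]
    · simp only [if_neg h1, Bool.and_eq_true, decide_eq_true_eq] at h
      obtain ⟨⟨hp, ha⟩, hi⟩ := h
      obtain ⟨hplt, hpc⟩ := ih _ hp (lt_trans hp ht)
      obtain ⟨w, hw, hc⟩ := O.nbr (T := [O.n]) (by simp; exact O.closed_n)
        ⟨O.n, List.mem_singleton_self _, hpc⟩ (O.adj_e hplt hlt ha)
      have hadj : AdjP x1 (Xc (O.π (r * O.ι (eQ (L.getD t (0, 0)).1) * O.n))) := by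
        rw [map_mul, map_mul, O.πι, O.πn]
        exact (hr.nbr hlt).adj.1 hi
      rw [O.cl_adj hc] at hadj
      simp only [List.mem_cons, List.not_mem_nil, or_false] at hw
      rcases hw with rfl | rfl | rfl | rfl
      · exact absurd (by rwa [map_one] at hadj) (fun h : AdjP x1 (Xc 1) => h.1 x1_comm)
      · exact hc
      · exact absurd hadj O.val_A
      · exact absurd hadj O.val_B.1

theorem start_A : O.Cl O.n (O.wA * O.n) :=
  ⟨1, O.ι (h8 6), O.inX_one, O.inX_ι _, by rw [wA, mul_assoc, O.amal.nn, mul_one, one_mul]⟩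

theorem start_B : O.Cl O.n (O.wB * O.n) :=
  ⟨1, O.ι (gq * xq), O.inX_one, O.inX_ι _, by rw [wB, mul_assoc, O.amal.nn, mul_one, one_mul]⟩

theorem comm_n_eq {u : Hq} {v : K} (hv : O.n * v = v * O.n) (h : O.ι u * v = v * O.ι u) :
    O.n * O.ι u * O.n * v = v * (O.n * O.ι u * O.n) := by
  calc O.n * O.ι u * O.n * v = O.n * (O.ι u * v) * O.n := by rw [mul_assoc _ O.n v, hv]; group
    _ = O.n * v * O.ι u * O.n := by rw [h]; group
    _ = _ := by rw [hv]; group

theorem closed_A : O.Closed O.wA [1, O.n, O.wA, O.wB] := by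
  intro h
  obtain ⟨d, hd, q, hq', j, hj, e, he, rfl⟩ := covA.cover lt_chk.2.1
    (fun p hp => List.all_eq_true.1 covA_chk p (List.mem_range.2 hp)) h
  have hd' : d ∈ O.stabR O.wA := by
    refine (Subgroup.closure_le _).2 ?_ hd
    rintro _ ⟨w, hw, rfl⟩
    rw [gens_chk.2.1, List.mem_map] at hw
    obtain ⟨p, hp, rfl⟩ := hw
    have h := List.all_eq_true.1 stabA_chk p hp
    simp only [Bool.and_eq_true, List.all_eq_true, List.mem_append] at h
    have h1 : ∀ t ∈ p.1, t < 6 := fun t ht => Nat.le_of_ble_eq_true (h.2 t (Or.inl ht))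
    have h2 : ∀ t ∈ p.2, t < 6 := fun t ht => Nat.le_of_ble_eq_true (h.2 t (Or.inr ht))
    have e : h8 6 * ev hq p.1 = ev hq p.2 * h8 6 := by
      have e6 : h8 6 = ev hq [6] := (mul_one _).symm
      refine iq_injective ?_
      rw [map_mul, map_mul, e6]
      exact ((rep_evQ (by simp)).mul (rep_evQ fun t ht => Nat.lt_succ_of_lt (h1 t ht))).eq
        ((rep_evQ fun t ht => Nat.lt_succ_of_lt (h2 t ht)).mul (rep_evQ (by simp))) h.1
    refine ⟨ev hq p.2, ?_⟩
    rw [wA, mul_assoc _ O.n, O.n_G0 (word_G0 h1), ← mul_assoc _ _ O.n, mul_assoc O.n, ← map_mul, e, map_mul,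
      ← mul_assoc O.n, O.n_G0 (word_G0 h2)]
    group
  refine U.move O hd' he ?_
  rw [len_chk.2.2.1] at hq'
  have hl := List.all_eq_true.1 (List.all_eq_true.1 liftA_chk q (List.mem_range.2 hq')) j (List.mem_range.2 hj)
  simp only [chkLift, Bool.and_eq_true, decide_eq_true_eq, beq_iff_eq] at hl
  generalize (liftA.getD q []).getD j (0, 9, 0) = v at hl
  obtain ⟨⟨hv, hw⟩, hm⟩ := hl
  rw [len_chk.1] at hv
  obtain ⟨v1, vk, vi⟩ := v
  rcases vk with _ | _ | k
  · simp only [if_pos rfl, Bool.and_eq_true, decide_eq_true_eq] at hm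
    obtain ⟨hlt, hc⟩ := O.chain O.rep_A O.start_A chainA_chk vi hm.1
    rw [← eQ_word hw (lift_ne lt_chk.2.1 q j)]
    exact O.nbr (T := [O.n]) (by simp; exact O.closed_n) ⟨O.n, List.mem_singleton_self _, hc⟩
      (O.adj_e hlt hv hm.2)
  · simp at hm
  · simp at hm

theorem push {r : K} {u a b c : Hq} (ha : a ∈ G0) (e : u * a = b * u) (hb : r * O.ι b = O.ι c * r) :
    r * O.ι u * O.n * O.ι a = O.ι c * (r * O.ι u * O.n) := by
  calc r * O.ι u * O.n * O.ι a = r * O.ι (u * a) * O.n := by rw [mul_assoc _ O.n, O.n_G0 ha, map_mul]; group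
    _ = r * O.ι b * O.ι u * O.n := by rw [e, map_mul]; group
    _ = _ := by rw [hb]; group

theorem push_B {a b : Hq} (ha : a ∈ G0) (hb : b ∈ G0) (e : gq * a = b * gq) :
    O.wB * O.ι a = O.ι b * O.wB :=
  O.push ha (show gq * xq * a = b * (gq * xq) by rw [mul_assoc gq, ← xq_central a, ← mul_assoc, e, mul_assoc])
    (O.n_G0 hb)

theorem closed_B : O.Closed O.wB O.S5 := by
  intro h
  obtain ⟨d, hd, q, hq', j, hj, e, he, rfl⟩ := covB.cover lt_chk.2.2.1
    (fun p hp => List.all_eq_true.1 covB_chk p (List.mem_range.2 hp)) h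
  have hd' : d ∈ O.stabR O.wB := by
    refine (Subgroup.closure_le _).2 ?_ hd
    rintro _ ⟨w, hw, rfl⟩
    rw [gens_chk.2.2.1] at hw
    obtain ⟨i, hi, rfl⟩ : ∃ i, i < 5 ∧ w = [i] := by fin_cases hw <;> exact ⟨_, by norm_num, rfl⟩
    have h := List.all_eq_true.1 stabB_chk i (List.mem_range.2 hi)
    simp only [Bool.and_eq_true, List.all_eq_true] at h
    have h2 : ∀ t ∈ swapJ.getD i [], t < 6 := fun t ht => Nat.le_of_ble_eq_true (h.2 t ht)
    have hi6 : ∀ t ∈ [i], t < 6 := fun t ht => by rw [List.mem_singleton] at ht; omega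
    refine ⟨ev hq (swapJ.getD i []), O.push_B (word_G0 hi6) (word_G0 h2) (iq_injective ?_)⟩
    rw [map_mul, map_mul, show ev hq [i] = hq i from mul_one _]
    exact (Rep.mul rep_g (rep_hq (by omega))).eq
      ((rep_evQ fun t ht => Nat.lt_succ_of_lt (h2 t ht)).mul rep_g) h.1
  refine U.move O hd' he ?_
  rw [len_chk.2.2.2.1] at hq'
  have hl := List.all_eq_true.1 (List.all_eq_true.1 liftB_chk q (List.mem_range.2 hq')) j (List.mem_range.2 hj)
  simp only [chkLift, Bool.and_eq_true, decide_eq_true_eq, beq_iff_eq] at hl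
  generalize (liftB.getD q []).getD j (0, 9, 0) = v at hl
  obtain ⟨⟨hv, hw⟩, hm⟩ := hl
  rw [len_chk.1] at hv
  obtain ⟨v1, vk, vi⟩ := v
  rw [← eQ_word hw (lift_ne lt_chk.2.2.1 q j)]
  rcases vk with _ | _ | k
  · simp at hm
    obtain ⟨hlt, hc⟩ := O.chain O.rep_B O.start_B chainB_chk vi hm.1
    exact U.mono O (O.nbr (T := [O.n]) (by simp; exact O.closed_n) ⟨O.n, List.mem_singleton_self _, hc⟩
      (O.adj_e hlt hv hm.2)) (by simp [S5])
  · simp only [Bool.and_eq_true, decide_eq_true_eq] at hm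
    obtain ⟨⟨-, hvi⟩, ha⟩ := hm
    have h := List.all_eq_true.1 jump_chk vi (List.mem_range.2 hvi)
    simp only [chkJump, Bool.and_eq_true, decide_eq_true_eq, Bool.not_eq_true'] at h
    obtain ⟨⟨⟨hlt, hp⟩, hadj⟩, hf⟩ := h
    rw [len_chk.1] at hlt
    obtain ⟨hplt, hc⟩ := O.chain O.rep_B O.start_B chainB_chk _ hp
    obtain ⟨w, hw', hcl⟩ := O.nbr (T := [O.n]) (by simp; exact O.closed_n) ⟨O.n, List.mem_singleton_self _, hc⟩
      (O.adj_e hplt hlt hadj)
    have hnot : ¬ FP 5 x1 (Xc (O.π (O.wB * O.ι (eQ (jumpB.getD vi (0, 0)).1) * O.n))) := by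
      rw [map_mul, map_mul, O.πι, O.πn, ← (O.rep_B.nbr hlt).five]
      exact fun h => Bool.false_ne_true (hf.symm.trans h)
    rw [(O.cl_inv hcl).2] at hnot
    have hU : O.U [1, O.n, O.wA] (O.wB * O.ι (eQ (jumpB.getD vi (0, 0)).1) * O.n) := by
      simp only [List.mem_cons, List.not_mem_nil, or_false] at hw'
      rcases hw' with rfl | rfl | rfl | rfl
      · exact ⟨1, by simp, hcl⟩
      · exact ⟨O.n, by simp, hcl⟩
      · exact ⟨O.wA, by simp, hcl⟩
      · exact absurd O.val_B.2 hnot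
    refine U.mono O (O.nbr (T := [1, O.n, O.wA]) (S := [1, O.n, O.wA, O.wB]) ?_ hU (O.adj_e hlt hv ha))
      (by simp [S5])
    intro w hw2
    simp only [List.mem_cons, List.not_mem_nil, or_false] at hw2
    rcases hw2 with rfl | rfl | rfl
    · exact fun u => U.mono O (O.closed_one u) (by simp)
    · exact O.closed_n
    · exact O.closed_A
  · simp only [Bool.and_eq_true, decide_eq_true_eq, beq_iff_eq] at hm
    rw [hm.2]
    exact ⟨O.wC, by simp [S5], O.cl_refl _⟩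

theorem eQ_C : eQ idC = ev hq (engWord.getD idC []) :=
  ev_h8 _ fun t ht => Nat.le_of_ble_eq_true (List.all_eq_true.1 id_chk.2.2.2.2.2.2.1 t ht)

/-- The representatives before the last. -/
def S4 : List K := [1, O.n, O.wA, O.wB]

theorem closed_four : ∀ w ∈ O.S4, O.Closed w O.S5 := by
  intro w hw
  simp only [S4, List.mem_cons, List.not_mem_nil, or_false] at hw
  rcases hw with rfl | rfl | rfl | rfl
  · exact fun u => U.mono O (O.closed_one u) (by simp [S5])
  · exact fun u => U.mono O (O.closed_n u) (by simp [S5])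
  · exact fun u => U.mono O (O.closed_A u) (by simp [S5])
  · exact O.closed_B

theorem chain_C : ∀ t < chainC.length, (chainC.getD t (0, 0)).1 < 160 ∧
    O.U O.S4 (O.wC * O.ι (eQ (chainC.getD t (0, 0)).1) * O.n) := by
  intro t
  induction t using Nat.strong_induction_on with
  | _ t ih =>
    intro ht
    have h := List.all_eq_true.1 chainC_chk t (List.mem_range.2 ht)
    simp only [chkChainC, Bool.and_eq_true, decide_eq_true_eq] at h
    obtain ⟨hlt, h⟩ := h
    rw [len_chk.1] at hlt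
    refine ⟨hlt, ?_⟩
    by_cases h1 : t = 0
    · rw [if_pos h1, beq_iff_eq] at h
      rw [h, show eQ 0 = 1 from rfl, map_one, mul_one]
      refine ⟨O.wB, by simp [S4], 1, O.ι (eQ idC), O.inX_one, O.inX_ι _, ?_⟩
      rw [wC, mul_assoc, O.amal.nn, mul_one, one_mul]
    · simp only [if_neg h1, Bool.and_eq_true, decide_eq_true_eq, Bool.not_eq_true'] at h
      obtain ⟨⟨hp, ha⟩, hi⟩ := h
      obtain ⟨hplt, hpc⟩ := ih _ hp (lt_trans hp ht)
      obtain ⟨w, hw, hc⟩ := O.nbr O.closed_four hpc (O.adj_e hplt hlt ha)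
      have hnot : ¬ Commute x1 (Xc (O.π (O.wC * O.ι (eQ (chainC.getD t (0, 0)).1) * O.n))) := by
        rw [map_mul, map_mul, O.πι, O.πn, ← (O.rep_C.nbr hlt).com]
        exact fun h => Bool.false_ne_true (hi.symm.trans h)
      rw [(O.cl_inv hc).1] at hnot
      simp only [S5, List.mem_cons, List.not_mem_nil, or_false] at hw
      rcases hw with rfl | rfl | rfl | rfl | rfl
      · exact ⟨1, by simp [S4], hc⟩
      · exact ⟨O.n, by simp [S4], hc⟩
      · exact ⟨O.wA, by simp [S4], hc⟩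
      · exact ⟨O.wB, by simp [S4], hc⟩
      · exact absurd O.val_C hnot

theorem closed_C : O.Closed O.wC O.S5 := by
  intro h
  obtain ⟨d, hd, q, hq', j, hj, e, he, rfl⟩ := covC.cover lt_chk.2.2.2
    (fun p hp => List.all_eq_true.1 covC_chk p (List.mem_range.2 hp)) h
  have hd' : d ∈ O.stabR O.wC := by
    refine (Subgroup.closure_le _).2 ?_ hd
    rintro _ ⟨w, hw, rfl⟩
    rw [gens_chk.2.2.2, List.mem_map] at hw
    obtain ⟨p, hp, rfl⟩ := hw
    have h := List.all_eq_true.1 stabC_chk p hp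
    simp only [Bool.and_eq_true, List.all_eq_true, List.mem_append] at h
    have h1 : ∀ t ∈ p.1, t < 6 := fun t ht => Nat.le_of_ble_eq_true (h.2 t (Or.inl (Or.inl ht)))
    have h2 : ∀ t ∈ p.2.1, t < 6 := fun t ht => Nat.le_of_ble_eq_true (h.2 t (Or.inl (Or.inr ht)))
    have h3 : ∀ t ∈ p.2.2, t < 6 := fun t ht => Nat.le_of_ble_eq_true (h.2 t (Or.inr ht))
    have h7 : ∀ {w : List ℕ}, (∀ t ∈ w, t < 6) → Rep (iq (ev hq w)) (evQ w) := fun hw =>
      rep_evQ fun t ht => Nat.lt_succ_of_lt (hw t ht)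
    refine ⟨ev hq p.2.2, O.push (word_G0 h1) (b := ev hq p.2.1) (iq_injective ?_)
      (O.push_B (word_G0 h2) (word_G0 h3) (iq_injective ?_))⟩
    · have hC : Rep (iq (eQ idC)) (evQ (engWord.getD idC [])) := eQ_C ▸
        rep_evQ fun t ht => Nat.le_of_ble_eq_true (List.all_eq_true.1 id_chk.2.2.2.2.2.2.1 t ht)
      rw [map_mul, map_mul]
      exact (hC.mul (h7 h1)).eq ((h7 h2).mul hC) h.1.1
    · rw [map_mul, map_mul]
      exact (Rep.mul rep_g (h7 h2)).eq ((h7 h3).mul rep_g) h.1.2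
  refine U.move O hd' he ?_
  rw [len_chk.2.2.2.2] at hq'
  have hl : chkLift covC liftC 4 q j = true := by
    rcases Nat.lt_or_ge q 6 with h6 | h6
    · exact List.all_eq_true.1 (List.all_eq_true.1 liftC_chk0 q (List.mem_range.2 h6)) j (List.mem_range.2 hj)
    · have := List.all_eq_true.1 (List.all_eq_true.1 liftC_chk1 (q - 6) (List.mem_range.2 (by omega))) j
        (List.mem_range.2 hj)
      rwa [show 6 + (q - 6) = q by omega] at this
  simp only [chkLift, Bool.and_eq_true, decide_eq_true_eq, beq_iff_eq] at hl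
  generalize (liftC.getD q []).getD j (0, 9, 0) = v at hl
  obtain ⟨⟨hv, hw⟩, hm⟩ := hl
  rw [len_chk.1] at hv
  obtain ⟨v1, vk, vi⟩ := v
  rw [← eQ_word hw (lift_ne lt_chk.2.2.2 q j)]
  rcases vk with _ | _ | k
  · simp at hm
    obtain ⟨hlt, hc⟩ := O.chain_C vi hm.1
    exact O.nbr O.closed_four hc (O.adj_e hlt hv hm.2)
  · simp at hm
  · simp at hm

/-! ### The group -/

theorem closed_five : ∀ w ∈ O.S5, O.Closed w O.S5 := by
  intro w hw
  simp only [S5, List.mem_cons, List.not_mem_nil, or_false] at hw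
  rcases hw with rfl | rfl | rfl | rfl | rfl
  · exact O.closed_four _ (by simp [S4])
  · exact O.closed_four _ (by simp [S4])
  · exact O.closed_four _ (by simp [S4])
  · exact O.closed_four _ (by simp [S4])
  · exact O.closed_C

/-- The group of the amalgam. -/
def Gen : Subgroup K := Subgroup.closure (Set.range O.ι ∪ {O.n, O.s})

theorem gen_le [Finite K] {y : K} (hy : y ∈ O.Gen) : O.U O.S5 y := by
  have key : ∀ y ∈ Submonoid.closure (Set.range O.ι ∪ {O.n, O.s}), ∀ z, O.U O.S5 z → O.U O.S5 (z * y) := by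
    intro y hy
    induction hy using Submonoid.closure_induction with
    | mem a ha =>
      intro z hz
      simp only [Set.mem_union, Set.mem_range, Set.mem_insert_iff, Set.mem_singleton_iff] at ha
      rcases ha with ⟨h, rfl⟩ | rfl | rfl
      · simpa using U.sandwich O hz O.inX_one (O.inX_ι h)
      · obtain ⟨w, hw, hc⟩ := hz
        simpa using O.step hc (O.closed_five w hw) 1
      · simpa using U.sandwich O hz O.inX_one O.inX_s
    | one => intro z hz; rwa [mul_one]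
    | mul a b _ _ ha hb => intro z hz; rw [← mul_assoc]; exact hb _ (ha _ hz)
  rw [Gen, ← Subgroup.mem_toSubmonoid, Subgroup.closure_toSubmonoid_of_finite] at hy
  simpa using key y hy 1 ⟨1, by simp [S5], O.cl_refl _⟩

end Over

end Cfsg.Agent.Spor.CoUniq

end
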