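import Cfsg.Agent.Lib.Spor.CoUniq.EngBase

/-!
Double cosets of the centralizer of the element of order three, and coverage of the neighbours by orbit
representatives.
-/

set_option autoImplicit false
set_option maxRecDepth 100000

noncomputable section

namespace Cfsg.Agent.Spor.CoUniq

open Cfsg Cfsg.Agent.Spor.Cos

/-- The element of order three in the model. -/
def x1 : Spor.Co1 := iq xq

/-- The conjugate of the element of order three by a member of the model. -/
def Xc (m : Spor.Co1) : Spor.Co1 := m * x1 * m⁻¹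

/-- The common centralizer of the double transposition. -/
def G0 : Subgroup Hq := Subgroup.closure {u | ∃ t < 6, hq t = u}

/-- An amalgam over the model. -/
structure Over (K : Type*) [Group K] where
  /-- the embedding -/
  ι : Hq →* K
  /-- the double transposition -/
  n : K
  /-- the inverting involution -/
  s : K
  /-- the projection -/
  π : K →* Spor.Co1
  amal : Amalgam ι n s
  πι : ∀ u, π (ι u) = iq u
  πn : π n = n1
  πs : π s = s1

namespace Over

variable {K : Type*} [Group K] (O : Over K)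

/-- The normalizer of the cyclic group of order three. -/
def InX (e : K) : Prop := ∃ h, e = O.ι h ∨ e = O.ι h * O.s

/-- A double coset. -/
def Cl (w y : K) : Prop := ∃ e1 e2, O.InX e1 ∧ O.InX e2 ∧ y = e1 * w * e2

/-- A union of double cosets. -/
def U (S : List K) (y : K) : Prop := ∃ w ∈ S, O.Cl w y

/-- All neighbours of a representative lie in a union. -/
def Closed (w : K) (S : List K) : Prop := ∀ h, O.U S (w * O.ι h * O.n)

theorem s_ι (h : Hq) : O.s * O.ι h = O.ι (theta h) * O.s := by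
  rw [← O.amal.sh]
  calc O.s * O.ι h = O.s * O.ι h * (O.s * O.s) := by rw [O.amal.ss, mul_one]
    _ = _ := by group

theorem inX_ι (h : Hq) : O.InX (O.ι h) := ⟨h, Or.inl rfl⟩

theorem inX_one : O.InX 1 := ⟨1, Or.inl (map_one _).symm⟩

theorem inX_s : O.InX O.s := ⟨1, Or.inr (by rw [map_one, one_mul])⟩

theorem InX.mul {e f : K} (he : O.InX e) (hf : O.InX f) : O.InX (e * f) := by
  obtain ⟨h, he⟩ := he
  obtain ⟨k, hf⟩ := hf
  rcases he with rfl | rfl <;> rcases hf with rfl | rfl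
  · exact ⟨h * k, Or.inl (map_mul _ _ _).symm⟩
  · exact ⟨h * k, Or.inr (by rw [map_mul, mul_assoc])⟩
  · exact ⟨h * theta k, Or.inr (by rw [mul_assoc, s_ι, map_mul, mul_assoc])⟩
  · exact ⟨h * theta k, Or.inl (by
      rw [map_mul, mul_assoc (O.ι h), ← mul_assoc O.s, s_ι, mul_assoc (O.ι (theta k)), O.amal.ss, mul_one])⟩

theorem s_n : O.s * O.n = O.ι gq * O.n * (O.s * O.ι gq) := by
  have hgg : O.ι gq * O.ι gq = 1 := by rw [← map_mul, gq_sq, map_one]
  rw [mul_assoc, O.amal.nsg, O.amal.sg]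
  calc O.s * O.n = O.ι gq * O.ι gq * O.s * O.n := by rw [hgg, one_mul]
    _ = _ := by group

theorem inX_n {e : K} (he : O.InX e) : ∃ h e', O.InX e' ∧ e * O.n = O.ι h * O.n * e' := by
  obtain ⟨h, rfl | rfl⟩ := he
  · exact ⟨h, 1, O.inX_one, by rw [mul_one]⟩
  · exact ⟨h * gq, O.s * O.ι gq, InX.mul O O.inX_s (O.inX_ι _), by
      rw [mul_assoc, s_n, map_mul]; group⟩

theorem cl_refl (w : K) : O.Cl w w := ⟨1, 1, O.inX_one, O.inX_one, by rw [one_mul, mul_one]⟩

theorem U.sandwich {S : List K} {y e f : K} (h : O.U S y) (he : O.InX e) (hf : O.InX f) : O.U S (e * y * f) := by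
  obtain ⟨w, hw, a, b, ha, hb, rfl⟩ := h
  exact ⟨w, hw, e * a, b * f, InX.mul O he ha, InX.mul O hb hf, by group⟩

theorem U.mono {S T : List K} {y : K} (h : O.U S y) (hST : ∀ w ∈ S, w ∈ T) : O.U T y := by
  obtain ⟨w, hw, h⟩ := h
  exact ⟨w, hST w hw, h⟩

theorem step {w y : K} {S : List K} (h : O.Cl w y) (hw : O.Closed w S) (u : Hq) : O.U S (y * O.ι u * O.n) := by
  obtain ⟨a, b, ha, hb, rfl⟩ := h
  obtain ⟨v, e, he, hv⟩ := O.inX_n (InX.mul O hb (O.inX_ι u))
  have := U.sandwich O (hw v) ha he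
  rwa [show a * w * b * O.ι u * O.n = a * (w * O.ι v * O.n) * e by
    calc a * w * b * O.ι u * O.n = a * w * (b * O.ι u * O.n) := by group
      _ = a * w * (O.ι v * O.n * e) := by rw [hv]
      _ = _ := by group]

/-! ### Invariants -/

theorem π_inX {e : K} (he : O.InX e) : O.π e * x1 * (O.π e)⁻¹ = x1 ∨ O.π e * x1 * (O.π e)⁻¹ = x1⁻¹ := by
  obtain ⟨h, rfl | rfl⟩ := he
  · left
    rw [O.πι, x1, ← map_mul, xq_central, map_mul, mul_inv_cancel_right]
  · right
    rw [map_mul, O.πι, O.πs, x1, inv_eq_of_mul_eq_one_right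
      (show iq h * s1 * (s1 * iq h⁻¹) = 1 by
        rw [mul_assoc, ← mul_assoc s1, s1_sq, one_mul, ← map_mul, mul_inv_cancel, map_one])]
    rw [show iq h * s1 * iq xq * (s1 * iq h⁻¹) = iq h * (s1 * iq xq * s1) * iq h⁻¹ by group, s1_theta, theta_xq,
      ← map_mul, ← map_mul, ← map_inv, (Commute.inv_right (show Commute h xq from xq_central h)).eq,
      mul_inv_cancel_right]

theorem cl_inv {w y : K} (h : O.Cl w y) : (Commute x1 (Xc (O.π y)) ↔ Commute x1 (Xc (O.π w))) ∧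
    ∀ k, (FP k x1 (Xc (O.π y)) ↔ FP k x1 (Xc (O.π w))) := by
  obtain ⟨a, b, ha, hb, rfl⟩ := h
  set A := O.π a
  set W := O.π w
  set x := Xc W with hx
  have hy : Xc (O.π (a * w * b)) = A * x * A⁻¹ ∨ Xc (O.π (a * w * b)) = A * x⁻¹ * A⁻¹ := by
    have e : Xc (O.π (a * w * b)) = A * (W * (O.π b * x1 * (O.π b)⁻¹) * W⁻¹) * A⁻¹ := by
      rw [Xc, map_mul, map_mul]; simp only [A, W]; group
    rcases O.π_inX hb with eb | eb <;> rw [eb] at e
    · exact Or.inl e
    · exact Or.inr (by rw [e, hx, Xc]; group)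
  have hx1 : x1 = A * x1 * A⁻¹ ∨ x1 = A * x1⁻¹ * A⁻¹ := by
    rcases O.π_inX ha with e | e
    · exact Or.inl e.symm
    · exact Or.inr (by rw [show A * x1⁻¹ * A⁻¹ = (A * x1 * A⁻¹)⁻¹ by group, e, inv_inv])
  refine ⟨?_, fun k => ?_⟩
  · rcases hy with e | e <;> rcases hx1 with e1 | e1 <;> rw [e] <;> conv_lhs => rw [e1]
    all_goals rw [comm_conj]
    · exact Commute.inv_left_iff
    · exact Commute.inv_right_iff
    · exact Commute.inv_left_iff.trans Commute.inv_right_iff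
  · rcases hy with e | e <;> rcases hx1 with e1 | e1 <;> rw [e] <;> conv_lhs => rw [e1]
    all_goals rw [FP.conj]
    · exact FP.inv_left
    · exact FP.inv_right
    · exact FP.inv_left.trans FP.inv_right

theorem cl_adj {w y : K} (h : O.Cl w y) : AdjP x1 (Xc (O.π y)) ↔ AdjP x1 (Xc (O.π w)) := by
  rw [AdjP, AdjP, (O.cl_inv h).1, (O.cl_inv h).2 2]

/-- A neighbour of a neighbour of the double transposition. -/
theorem adj_n (hn : O.Closed O.n [1, O.n, O.n * O.ι (h8 6) * O.n, O.n * O.ι (gq * xq) * O.n])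
    (h1 : ¬ AdjP x1 (Xc 1)) (hA : ¬ AdjP x1 (Xc (n1 * iq (h8 6) * n1)))
    (hB : ¬ AdjP x1 (Xc (n1 * iq (gq * xq) * n1))) {k h : Hq}
    (hadj : AdjP (iq k * Xc n1 * (iq k)⁻¹) (iq h * Xc n1 * (iq h)⁻¹)) :
    O.Cl O.n (O.n * O.ι (k⁻¹ * h) * O.n) := by
  have hn2 : n1⁻¹ = n1 := inv_eq_of_mul_eq_one_right n1_sq
  have key : AdjP x1 (Xc (O.π (O.n * O.ι (k⁻¹ * h) * O.n))) := by
    rw [← AdjP.conj (n1 * (iq k)⁻¹)] at hadj
    convert hadj using 1
    · rw [Xc, hn2, mul_inv_rev, inv_inv, hn2]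
      calc x1 = n1 * n1 * x1 * (n1 * n1) := by rw [n1_sq, one_mul, mul_one]
        _ = _ := by group
    · rw [map_mul, map_mul, O.πι, O.πn, map_mul, map_inv, Xc, Xc]; group
  obtain ⟨w, hw, hc⟩ := hn (k⁻¹ * h)
  rw [O.cl_adj hc] at key
  simp only [List.mem_cons, List.not_mem_nil, or_false] at hw
  rcases hw with rfl | rfl | rfl | rfl
  · exact absurd (by rwa [map_one] at key) h1
  · exact hc
  · exact absurd (by rwa [map_mul, map_mul, O.πn, O.πι] at key) hA
  · exact absurd (by rwa [map_mul, map_mul, O.πn, O.πι] at key) hB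

/-- The neighbour through an adjacent known one. -/
theorem nbr {r : K} {T S : List K} (hT : ∀ w ∈ T, O.Closed w S) {k h : Hq} (hk : O.U T (r * O.ι k * O.n))
    (ha : O.Cl O.n (O.n * O.ι (k⁻¹ * h) * O.n)) : O.U S (r * O.ι h * O.n) := by
  obtain ⟨e, f, he, hf, hef⟩ := ha
  obtain ⟨w, hw, a, b, ha', hb, hab⟩ := hk
  have := U.sandwich O (O.step (y := r * O.ι k * O.n * e) ⟨a, b * e, ha', InX.mul O hb he, by rw [hab]; group⟩
    (hT w hw) 1) O.inX_one hf
  rw [map_one, mul_one, one_mul] at this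
  rwa [show r * O.ι h * O.n = r * O.ι k * O.n * e * O.n * f by
    calc r * O.ι h * O.n = r * (O.ι k * O.ι (k⁻¹ * h)) * O.n := by rw [← map_mul, mul_inv_cancel_left]
      _ = r * O.ι k * (O.n * O.n) * O.ι (k⁻¹ * h) * O.n := by rw [O.amal.nn, mul_one]; group
      _ = r * O.ι k * O.n * (O.n * O.ι (k⁻¹ * h) * O.n) := by group
      _ = r * O.ι k * O.n * (e * O.n * f) := by rw [hef]
      _ = _ := by group]

theorem n_G0 {c : Hq} (hc : c ∈ G0) : O.n * O.ι c = O.ι c * O.n := by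
  induction hc using Subgroup.closure_induction with
  | mem u hu => obtain ⟨t, ht, rfl⟩ := hu; exact O.amal.nh t ht
  | one => rw [map_one, mul_one, one_mul]
  | mul a b _ _ ha hb => rw [map_mul, ← mul_assoc, ha, mul_assoc, hb, mul_assoc]
  | inv a _ ha => rw [map_inv]; exact (Commute.inv_right (show Commute O.n (O.ι a) from ha)).eq

/-- Members moving through a representative. -/
def stabR (r : K) : Subgroup Hq where
  carrier := {d | ∃ d', r * O.ι d = O.ι d' * r}
  one_mem' := ⟨1, by rw [map_one, mul_one, one_mul]⟩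
  mul_mem' := by
    rintro a b ⟨a', ha⟩ ⟨b', hb⟩
    exact ⟨a' * b', by rw [map_mul, map_mul, ← mul_assoc, ha, mul_assoc, hb, mul_assoc]⟩
  inv_mem' := by
    rintro a ⟨a', ha⟩
    exact ⟨a'⁻¹, by
      rw [map_inv, map_inv]
      calc r * (O.ι a)⁻¹ = (O.ι a')⁻¹ * (O.ι a' * r) * (O.ι a)⁻¹ := by group
        _ = _ := by rw [← ha]; group⟩

theorem U.move {r : K} {S : List K} {d c u : Hq} (hd : d ∈ O.stabR r) (hc : c ∈ G0)
    (hu : O.U S (r * O.ι u * O.n)) : O.U S (r * O.ι (d * u * c) * O.n) := by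
  obtain ⟨d', hd'⟩ := hd
  have := U.sandwich O hu (O.inX_ι d') (O.inX_ι c)
  rwa [show r * O.ι (d * u * c) * O.n = O.ι d' * (r * O.ι u * O.n) * O.ι c by
    calc r * O.ι (d * u * c) * O.n = r * O.ι d * O.ι u * (O.ι c * O.n) := by rw [map_mul, map_mul]; group
      _ = O.ι d' * r * O.ι u * (O.n * O.ι c) := by rw [hd', O.n_G0 hc]
      _ = _ := by group]

end Over

/-! ### Coverage -/

/-- Orbits on the 1782 points with representatives. -/
structure Cov where
  /-- generating words -/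
  gens : List (List ℕ)
  /-- representatives -/
  roots : List (List ℕ)
  /-- depth, generator and parent -/
  tree : Tab

/-- The check of a point. -/
noncomputable def Cov.chk (c : Cov) (p : ℕ) : Bool :=
  force (c.tree.at p) fun v =>
    bif Nat.beq (v / 2048 % 16) 0 then
      Nat.blt (v % 2048) c.roots.length && Nat.beq (Suz.actA.go (c.roots.getD (v % 2048) []) 0) p
    else Nat.blt (v % 2048) 1782 && Nat.blt (c.tree.at (v % 2048) / 32768) (v / 32768) &&
      Nat.blt (v / 2048 % 16 - 1) c.gens.length &&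
      Nat.beq (Suz.actA.go (c.gens.getD (v / 2048 % 16 - 1) []) (v % 2048)) p

/-- The check of the letters. -/
def Cov.chkLt (c : Cov) : Bool :=
  (c.gens.all fun w => w.all fun t => Nat.blt t 6) && c.roots.all fun w => w.all fun t => Nat.blt t 7

theorem getD_all_lt {ws : List (List ℕ)} {m : ℕ} (h : ∀ w ∈ ws, ∀ t ∈ w, t < m) (i : ℕ) :
    ∀ t ∈ ws.getD i [], t < m := by
  intro t ht
  rcases Nat.lt_or_ge i ws.length with hi | hi
  · rw [List.getD_eq_getElem _ _ hi] at ht; exact h _ (List.getElem_mem _) t ht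
  · rw [List.getD_eq_default _ _ hi] at ht; simp at ht

theorem ev_h8 (w : List ℕ) (h : ∀ t ∈ w, t < 7) : ev h8 w = ev hq w :=
  Tree5.ev_congr _ fun t ht => if_pos (h t ht)

theorem ev_h8_seven : ∀ j : ℕ, ev h8 (List.replicate j 7) = xq ^ j
  | 0 => rfl
  | j + 1 => by rw [List.replicate_succ, ev, ev_h8_seven j, h8, if_neg (by norm_num), pow_succ']

theorem Cov.cover {c : Cov} (hl : c.chkLt = true) (hc : ∀ p < 1782, c.chk p = true) (h : Hq) :
    ∃ d ∈ Subgroup.closure {u | ∃ w ∈ c.gens, ev hq w = u}, ∃ q < c.roots.length, ∃ j < 3, ∃ e ∈ G0,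
      h = d * ev h8 (List.replicate j 7 ++ c.roots.getD q []) * e := by
  obtain ⟨η, hη, hg, hk⟩ := exists_eta
  simp only [Cov.chkLt, Bool.and_eq_true, List.all_eq_true] at hl
  have hgl : ∀ w ∈ c.gens, ∀ t ∈ w, t < 6 := fun w hw t ht => Nat.le_of_ble_eq_true (hl.1 w hw t ht)
  have hrl : ∀ w ∈ c.roots, ∀ t ∈ w, t < 7 := fun w hw t ht => Nat.le_of_ble_eq_true (hl.2 w hw t ht)
  have hN : Suz.actA.N = 1782 := rfl
  have hηw : ∀ w : List ℕ, (∀ t ∈ w, t < 7) → η (ev hq w) = ev Suz.g w := fun w hw => by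
    rw [ev_map η hq w]
    exact Tree5.ev_congr _ fun t ht => hg t (hw t ht)
  set D := Subgroup.closure {u | ∃ w ∈ c.gens, ev hq w = u}
  have key : ∀ m, ∀ p : Fin Suz.actA.N, c.tree.at (p : ℕ) / 32768 = m → ∃ d ∈ D, ∃ q < c.roots.length,
      Suz.piA (η d * ev Suz.g (c.roots.getD q [])) Suz.baseA = p := by
    intro m
    induction m using Nat.strong_induction_on with
    | _ m ih =>
      intro p hm
      have hp := hc p p.2
      simp only [Cov.chk, force_eq] at hp
      cases hb : Nat.beq (c.tree.at (p : ℕ) / 2048 % 16) 0 <;> rw [hb] at hp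
      · simp only [Bool.cond_false, Bool.and_eq_true] at hp
        obtain ⟨⟨⟨h1, h2⟩, h3⟩, h4⟩ := hp
        obtain ⟨d, hd, q, hq', e⟩ := ih _ (hm ▸ Nat.le_of_ble_eq_true h2)
          ⟨_, show _ < Suz.actA.N from lt_of_lt_of_eq (Nat.le_of_ble_eq_true h1) hN.symm⟩ rfl
        have hgi := Nat.le_of_ble_eq_true h3
        set w := c.gens.getD (c.tree.at (p : ℕ) / 2048 % 16 - 1) [] with hw
        have hw6 := getD_all_lt hgl (c.tree.at (p : ℕ) / 2048 % 16 - 1)
        refine ⟨ev hq w * d, mul_mem (Subgroup.subset_closure ⟨w, ?_, rfl⟩) hd, q, hq', Fin.ext ?_⟩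
        · rw [hw, List.getD_eq_getElem _ _ hgi]; exact List.getElem_mem _
        · rw [map_mul η, hηw w (fun t ht => Nat.lt_succ_of_lt (hw6 t ht)), mul_assoc, map_mul, Equiv.Perm.mul_apply, e,
            Suz.homA.apply_ev w (fun t ht => Nat.lt_succ_of_lt (hw6 t ht))]
          exact Nat.eq_of_beq_eq_true h4
      · simp only [Bool.cond_true, Bool.and_eq_true] at hp
        refine ⟨1, one_mem _, _, Nat.le_of_ble_eq_true hp.1, Fin.ext ?_⟩
        rw [map_one, one_mul, Suz.homA.apply_ev _ (getD_all_lt hrl _)]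
        exact Nat.eq_of_beq_eq_true hp.2
  obtain ⟨d, hd, q, hq', e⟩ := key _ (Suz.piA (η h) Suz.baseA) rfl
  set r := ev hq (c.roots.getD q []) with hr
  have hrq : η r = ev Suz.g (c.roots.getD q []) := hηw _ (getD_all_lt hrl q)
  have hstab : η ((d * r)⁻¹ * h) ∈ val Suz.g Suz.lv1W := by
    rw [Suz.stabA]
    show Suz.piA (η ((d * r)⁻¹ * h)) Suz.baseA = Suz.baseA
    rw [map_mul η _ h, map_inv η, map_mul Suz.piA, map_inv Suz.piA, Equiv.Perm.mul_apply, Equiv.Perm.inv_eq_iff_eq, ← e, map_mul η d r, hrq]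
  have hle : val Suz.g Suz.lv1W ≤ G0.map η := by
    refine (Subgroup.closure_le _).2 ?_
    rintro _ ⟨w, hw, rfl⟩
    obtain ⟨t, ht, rfl⟩ : ∃ t, t < 6 ∧ w = [t] := by fin_cases hw <;> exact ⟨_, by norm_num, rfl⟩
    exact ⟨hq t, Subgroup.subset_closure ⟨t, ht, rfl⟩, by rw [hg t (by omega)]; exact (mul_one _).symm⟩
  obtain ⟨e0, he0, hee⟩ := hle hstab
  obtain ⟨i, hi⟩ := (hk (e0⁻¹ * ((d * r)⁻¹ * h))).1 (by rw [map_mul, map_inv, hee, inv_mul_cancel])
  change xq ^ i = e0⁻¹ * ((d * r)⁻¹ * h) at hi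
  have h3 : xq ^ (3 : ℤ) = 1 := by rw [show xq ^ (3 : ℤ) = xq ^ (3 : ℕ) from zpow_natCast xq 3, xq_cube]
  refine ⟨d, hd, q, hq', (i % 3).toNat, by omega, e0, he0, ?_⟩
  rw [ev_append, ev_h8_seven, ev_h8 _ (getD_all_lt hrl q), ← zpow_natCast, Int.toNat_of_nonneg (by omega)]
  have hx : xq ^ (i % 3) = xq ^ i := by
    conv_rhs => rw [← Int.emod_add_mul_ediv i 3, zpow_add, zpow_mul, h3, one_zpow, mul_one]
  rw [hx, ← hr]
  have hc' : ∀ u : Hq, u * xq ^ i = xq ^ i * u := fun u =>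
    (Commute.zpow_right (show Commute u xq from xq_central u) i).eq
  calc h = d * r * (e0 * (e0⁻¹ * ((d * r)⁻¹ * h))) := by group
    _ = d * r * (xq ^ i * e0) := by rw [← hi, hc']
    _ = d * (xq ^ i * r) * e0 := by rw [← hc' r]; group

end Cfsg.Agent.Spor.CoUniq

end
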