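import Cfsg.Agent.Lib.Spor.CoUniq.Amal

/-!
Rows for members of the model and invariants of pairs of elements of order three.
-/

set_option autoImplicit false
set_option maxRecDepth 100000

noncomputable section

namespace Cfsg.Agent.Spor.CoUniq

open Cfsg Cfsg.Agent.Spor.CoSuz Cfsg.Agent.Spor.Cos

/-- Rows of some preimage. -/
def Rep (m : Spor.Co1) (T : List ℕ) : Prop := ∃ a : Co0, Fus.Co1Centre.mk a = m ∧ HasT a T

theorem Rep.mul {m k : Spor.Co1} {T U : List ℕ} (h : Rep m T) (h' : Rep k U) : Rep (m * k) (mulP T U) := by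
  obtain ⟨a, rfl, ha⟩ := h
  obtain ⟨b, rfl, hb⟩ := h'
  exact ⟨a * b, map_mul _ _ _, ha.mul hb⟩

theorem rep_one : Rep 1 oneP := ⟨1, map_one _, hasT_one⟩

theorem Rep.of_pm {m : Spor.Co1} {T U : List ℕ} (h : Rep m U) (hp : pmEq T U = true) : Rep m T := by
  obtain ⟨a, rfl, ha⟩ := h
  rw [pmEq, Bool.or_eq_true, beq_iff_eq, beq_iff_eq] at hp
  rcases hp with e | e
  · exact ⟨a, rfl, e ▸ ha⟩
  · refine ⟨Leech.negCo * a, ?_, e ▸ ha.neg⟩
    rw [Fus.Co1Centre.mk_eq]
    exact Or.inr rfl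

theorem Rep.eq {m k : Spor.Co1} {T U : List ℕ} (h : Rep m T) (h' : Rep k U) (hp : pmEq T U = true) : m = k := by
  obtain ⟨a, rfl, ha⟩ := h
  obtain ⟨b, rfl, hb⟩ := h'
  exact mk_of_pm ha hb hp

theorem Rep.pm {m k : Spor.Co1} {T U : List ℕ} (h : Rep m T) (h' : Rep k U) (e : m = k) : pmEq T U = true := by
  obtain ⟨a, rfl, ha⟩ := h
  obtain ⟨b, rfl, hb⟩ := h'
  rw [Fus.Co1Centre.mk_eq] at e
  rw [pmEq, Bool.or_eq_true, beq_iff_eq, beq_iff_eq]
  rcases e with e | e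
  · exact Or.inl (rows_eq ha (e ▸ hb))
  · exact Or.inr (rows_eq ha (e ▸ hb.neg))

theorem rep_evQ {w : List ℕ} (h : ∀ t ∈ w, t < 7) : Rep (iq (ev hq w)) (evQ w) :=
  ⟨((ev hqC w : CA) : Co0), by rw [ev_hq, iq_mk], hasT_evQ w h⟩

theorem rep_n : Rep n1 nT := ⟨nC, rfl, hasT_n⟩

theorem rep_x : Rep (iq xq) aT := ⟨aC, by rw [xq, iq_mk], hasT_a⟩

theorem rep_xinv : Rep (iq xq)⁻¹ (mulP aT aT) := by
  have h : (iq xq)⁻¹ = iq xq * iq xq := by
    refine inv_eq_of_mul_eq_one_right ?_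
    rw [← map_mul, ← map_mul, ← mul_assoc, ← pow_two, ← pow_succ, xq_cube, map_one]
  rw [h]
  exact rep_x.mul rep_x

/-! ### Elements -/

/-- The seven generators and the element of order three. -/
def h8 (t : ℕ) : Hq := if t < 7 then hq t else xq

/-- Their rows. -/
def T8 (t : ℕ) : List ℕ := if t < 7 then hqP t else aT

/-- Rows of their inverses. -/
def I8 (t : ℕ) : List ℕ := if t < 7 then hqP t else mulP aT aT

theorem rep_hq {t : ℕ} (h : t < 7) : Rep (iq (hq t)) (hqP t) := ⟨hqC t, by rw [hq, iq_mk], hasT_hqC h⟩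

theorem rep_h8 (t : ℕ) : Rep (iq (h8 t)) (T8 t) ∧ Rep (iq (h8 t))⁻¹ (I8 t) := by
  by_cases h : t < 7
  · simp only [h8, T8, I8, if_pos h]
    refine ⟨rep_hq h, ?_⟩
    rw [inv_eq_of_mul_eq_one_right (show iq (hq t) * iq (hq t) = 1 by rw [← map_mul, hq_sq, map_one])]
    exact rep_hq h
  · simp only [h8, T8, I8, if_neg h]
    exact ⟨rep_x, rep_xinv⟩

/-- A table of elements: words, parents, rows and rows of inverses. -/
structure ElTab where
  /-- the words -/
  word : List (List ℕ)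
  /-- parents -/
  par : List ℕ
  /-- rows -/
  rows : List (List ℕ)
  /-- rows of the inverses -/
  inv : List (List ℕ)

/-- An element of the table. -/
def ElTab.el (D : ElTab) (i : ℕ) : Hq := ev h8 (D.word.getD i [])

/-- The check of an entry. -/
def ElTab.chk (D : ElTab) (i : ℕ) : Bool :=
  if i = 0 then D.word.getD 0 [1] == [] && D.rows.getD 0 [] == oneP && D.inv.getD 0 [] == oneP
  else decide (D.par.getD i 0 < i) && match D.word.getD i [] with
    | [] => false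
    | t :: w => w == D.word.getD (D.par.getD i 0) [] && D.rows.getD i [] == mulP (T8 t) (D.rows.getD (D.par.getD i 0) []) &&
        D.inv.getD i [] == mulP (D.inv.getD (D.par.getD i 0) []) (I8 t)

theorem ElTab.rep {D : ElTab} {N : ℕ} (h : ∀ i < N, D.chk i = true) :
    ∀ i < N, Rep (iq (D.el i)) (D.rows.getD i []) ∧ Rep (iq (D.el i))⁻¹ (D.inv.getD i []) := by
  intro i
  induction i using Nat.strong_induction_on with
  | _ i ih =>
    intro hi
    have hc := h i hi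
    rw [ElTab.chk] at hc
    by_cases h0 : i = 0
    · subst h0
      simp only [if_true, Bool.and_eq_true, beq_iff_eq] at hc
      obtain ⟨⟨hw, hr⟩, hv⟩ := hc
      have hw' : D.word.getD 0 [] = [] := by
        rcases Nat.lt_or_ge 0 D.word.length with hl | hl
        · rw [List.getD_eq_getElem _ _ hl] at hw ⊢; exact hw
        · exact List.getD_eq_default _ _ hl
      rw [hr, hv, ElTab.el, hw', show ev h8 [] = 1 from rfl, map_one, inv_one]
      exact ⟨rep_one, rep_one⟩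
    · simp only [if_neg h0, Bool.and_eq_true, decide_eq_true_eq] at hc
      obtain ⟨hp, hm⟩ := hc
      obtain ⟨h1, h2⟩ := ih _ hp (lt_trans hp hi)
      rcases hw : D.word.getD i [] with _ | ⟨t, w⟩
      · rw [hw] at hm; exact Bool.noConfusion hm
      · rw [hw] at hm
        simp only [Bool.and_eq_true, beq_iff_eq] at hm
        obtain ⟨⟨e1, e2⟩, e3⟩ := hm
        rw [ElTab.el, hw, e1, e2, e3, ev, map_mul, mul_inv_rev]
        exact ⟨(rep_h8 t).1.mul h1, h2.mul (rep_h8 t).2⟩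

/-! ### Invariants -/

variable {M : Type*} [Group M]

/-- A product or quotient has the given exponent. -/
def FP (k : ℕ) (x y : M) : Prop := (x * y) ^ k = 1 ∨ (x * y⁻¹) ^ k = 1

theorem FP.inv_right {k : ℕ} {x y : M} : FP k x y⁻¹ ↔ FP k x y := by rw [FP, FP, inv_inv, or_comm]

theorem pow_conj_one {k : ℕ} {a b : M} (h : (a * b) ^ k = 1) : (b * a) ^ k = 1 := by
  rw [show b * a = a⁻¹ * (a * b) * a⁻¹⁻¹ by group, conj_pow, h, mul_one, mul_inv_cancel]

theorem FP.inv_left {k : ℕ} {x y : M} : FP k x⁻¹ y ↔ FP k x y := by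
  have e1 : (x⁻¹ * y) ^ k = 1 ↔ (x * y⁻¹) ^ k = 1 := by
    rw [show x * y⁻¹ = (y * x⁻¹)⁻¹ by group, inv_pow, inv_eq_one]
    exact ⟨pow_conj_one, pow_conj_one⟩
  have e2 : (x⁻¹ * y⁻¹) ^ k = 1 ↔ (x * y) ^ k = 1 := by
    rw [show x⁻¹ * y⁻¹ = (y * x)⁻¹ by group, inv_pow, inv_eq_one]
    exact ⟨pow_conj_one, pow_conj_one⟩
  rw [FP, FP, e1, e2, or_comm]

theorem FP.conj {k : ℕ} {x y : M} (c : M) : FP k (c * x * c⁻¹) (c * y * c⁻¹) ↔ FP k x y := by
  simp only [FP, show c * x * c⁻¹ * (c * y * c⁻¹) = c * (x * y) * c⁻¹ by group,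
    show c * x * c⁻¹ * (c * y * c⁻¹)⁻¹ = c * (x * y⁻¹) * c⁻¹ by group, conj_pow, conj_eq_one_iff]

theorem comm_conj {x y : M} (c : M) : Commute (c * x * c⁻¹) (c * y * c⁻¹) ↔ Commute x y := by
  constructor
  · intro h
    have := h.eq
    rw [show c * x * c⁻¹ * (c * y * c⁻¹) = c * (x * y) * c⁻¹ by group,
      show c * y * c⁻¹ * (c * x * c⁻¹) = c * (y * x) * c⁻¹ by group] at this
    exact mul_left_cancel (mul_right_cancel this)
  · intro h
    show c * x * c⁻¹ * (c * y * c⁻¹) = c * y * c⁻¹ * (c * x * c⁻¹)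
    rw [show c * x * c⁻¹ * (c * y * c⁻¹) = c * (x * y) * c⁻¹ by group, h.eq]; group

/-- Adjacency. -/
def AdjP (x y : M) : Prop := ¬ Commute x y ∧ FP 2 x y

theorem AdjP.conj {x y : M} (c : M) : AdjP (c * x * c⁻¹) (c * y * c⁻¹) ↔ AdjP x y := by
  rw [AdjP, AdjP, comm_conj, FP.conj]

/-- Powers of rows. -/
def powP (T : List ℕ) : ℕ → List ℕ
  | 0 => oneP
  | k + 1 => mulP (powP T k) T

theorem Rep.pow {m : Spor.Co1} {T : List ℕ} (h : Rep m T) : ∀ k, Rep (m ^ k) (powP T k)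
  | 0 => by rw [pow_zero]; exact rep_one
  | k + 1 => by rw [pow_succ, powP]; exact (h.pow k).mul h

/-- Commuting rows. -/
def comR (A B : List ℕ) : Bool := pmEq (mulP A B) (mulP B A)

/-- The exponent test on rows. -/
def fR (k : ℕ) (A B BI : List ℕ) : Bool := pmEq (powP (mulP A B) k) oneP || pmEq (powP (mulP A BI) k) oneP

/-- Adjacent rows. -/
def adjR (A B BI : List ℕ) : Bool := !(comR A B) && fR 2 A B BI

theorem comR_iff {x y : Spor.Co1} {A B : List ℕ} (hA : Rep x A) (hB : Rep y B) : comR A B = true ↔ Commute x y :=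
  ⟨fun h => (hA.mul hB).eq (hB.mul hA) h, fun h => (hA.mul hB).pm (hB.mul hA) h.eq⟩

theorem fR_iff {x y : Spor.Co1} {A B BI : List ℕ} (k : ℕ) (hA : Rep x A) (hB : Rep y B) (hI : Rep y⁻¹ BI) :
    fR k A B BI = true ↔ FP k x y := by
  rw [fR, Bool.or_eq_true]
  exact or_congr ⟨fun h => ((hA.mul hB).pow k).eq rep_one h, fun h => ((hA.mul hB).pow k).pm rep_one h⟩
    ⟨fun h => ((hA.mul hI).pow k).eq rep_one h, fun h => ((hA.mul hI).pow k).pm rep_one h⟩

theorem adjR_iff {x y : Spor.Co1} {A B BI : List ℕ} (hA : Rep x A) (hB : Rep y B) (hI : Rep y⁻¹ BI) :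
    adjR A B BI = true ↔ AdjP x y := by
  rw [adjR, Bool.and_eq_true, Bool.not_eq_true', AdjP, ← comR_iff hA hB, fR_iff 2 hA hB hI, Bool.not_eq_true]

end Cfsg.Agent.Spor.CoUniq

end
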