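import Cfsg.Agent.Lib.Spor.CoUniq.EngDefs

/-!
Checks of the table of elements, the orbits and the stabilizer words.
-/

set_option autoImplicit false
set_option maxRecDepth 100000

namespace Cfsg.Agent.Spor.CoUniq

open Cfsg Cfsg.Agent.Spor.CoSuz Cfsg.Agent.Spor.Cos

theorem el_chk0 : ((List.range 80).all fun i => engTab.chk i) = true := by decide +kernel

theorem el_chk1 : ((List.range 80).all fun i => engTab.chk (80 + i)) = true := by decide +kernel

theorem len_chk : engWord.length = 160 ∧ covN.roots.length = 3 ∧ covA.roots.length = 9 ∧ covB.roots.length = 6 ∧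
    covC.roots.length = 12 := by decide +kernel

theorem lt_chk : covN.chkLt = true ∧ covA.chkLt = true ∧ covB.chkLt = true ∧ covC.chkLt = true := by decide +kernel

theorem stabA_chk : (stabA.all fun d => pmEq (mulP (evQ [6]) (evQ d.1)) (mulP (evQ d.2) (evQ [6])) &&
    (d.1 ++ d.2).all fun t => Nat.blt t 6) = true := by decide +kernel

theorem stabB_chk : ((List.range 5).all fun i => pmEq (mulP gT (hqP i)) (mulP (evQ (swapJ.getD i [])) gT) &&
    (swapJ.getD i []).all fun t => Nat.blt t 6) = true := by decide +kernel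

theorem stabC_chk : (stabC.all fun d => pmEq (mulP (evQ (engWord.getD idC [])) (evQ d.1))
      (mulP (evQ d.2.1) (evQ (engWord.getD idC []))) && pmEq (mulP gT (evQ d.2.1)) (mulP (evQ d.2.2) gT) &&
    (d.1 ++ d.2.1 ++ d.2.2).all fun t => Nat.blt t 6) = true := by decide +kernel

theorem gens_chk : covN.gens = [[0], [1], [2], [3], [4], [5]] ∧ covA.gens = stabA.map Prod.fst ∧
    covB.gens = [[0], [1], [2], [3], [4]] ∧ covC.gens = stabC.map Prod.fst := by decide +kernel

end Cfsg.Agent.Spor.CoUniq
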