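import Cfsg.Agent.Lib.Spor.CoUniq.EngData

/-!
The checks of the certificates for the double cosets.
-/

set_option autoImplicit false
set_option maxRecDepth 100000

noncomputable section

namespace Cfsg.Agent.Spor.CoUniq

open Cfsg Cfsg.Agent.Spor.CoSuz Cfsg.Agent.Spor.Cos

/-- Rows of the conjugate of the element of order three. -/
def y0T : List ℕ := mulP (mulP nT aT) nT

/-- Rows of its inverse. -/
def y0I : List ℕ := mulP (mulP nT (mulP aT aT)) nT

/-- Rows of an element. -/
def eT (i : ℕ) : List ℕ := engTab.rows.getD i []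

/-- Rows of its inverse. -/
def eI (i : ℕ) : List ℕ := engTab.inv.getD i []

/-- Adjacent neighbours. -/
def adjE (i j : ℕ) : Bool :=
  adjR (mulP (mulP (eT i) y0T) (eI i)) (mulP (mulP (eT j) y0T) (eI j)) (mulP (mulP (eT j) y0I) (eI j))

/-- Rows of a representative and of its inverse. -/
def mT : ℕ → List ℕ × List ℕ
  | 0 => (oneP, oneP)
  | 1 => (nT, nT)
  | 2 => (mulP (mulP nT (eT idA)) nT, mulP (mulP nT (eI idA)) nT)
  | 3 => (mulP (mulP nT (eT idB)) nT, mulP (mulP nT (eI idB)) nT)
  | _ => (mulP (mulP (mulP (mulP nT (eT idB)) nT) (eT idC)) nT,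
      mulP (mulP nT (eI idC)) (mulP (mulP nT (eI idB)) nT))

/-- Rows of the conjugate by a pair. -/
def xT (m : List ℕ × List ℕ) : List ℕ := mulP (mulP m.1 aT) m.2

/-- Rows of the inverse of the conjugate by a pair. -/
def xI (m : List ℕ × List ℕ) : List ℕ := mulP (mulP m.1 (mulP aT aT)) m.2

/-- Rows of a neighbour of a representative. -/
def imgT (r i : ℕ) : List ℕ × List ℕ := (mulP (mulP (mT r).1 (eT i)) nT, mulP (mulP nT (eI i)) (mT r).2)

/-- The adjacency test on a neighbour. -/
def adjImg (m : List ℕ × List ℕ) : Bool := adjR aT (xT m) (xI m)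

/-- The commuting test on a neighbour. -/
def comImg (m : List ℕ × List ℕ) : Bool := comR aT (xT m)

/-- The order five test on a neighbour. -/
def fiveImg (m : List ℕ × List ℕ) : Bool := fR 5 aT (xT m) (xI m)

/-- The check of a chain of neighbours in the class of the double transposition. -/
def chkChain (r : ℕ) (L : List (ℕ × ℕ)) (t : ℕ) : Bool :=
  decide ((L.getD t (0, 0)).1 < engWord.length) &&
    if t = 0 then (L.getD t (0, 0)).1 == 0 else decide ((L.getD t (0, 0)).2 < t) &&
      adjE (L.getD (L.getD t (0, 0)).2 (0, 0)).1 (L.getD t (0, 0)).1 &&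
      adjImg (imgT r (L.getD t (0, 0)).1)

/-- The check of the chain for the last representative. -/
def chkChainC (t : ℕ) : Bool :=
  decide ((chainC.getD t (0, 0)).1 < engWord.length) &&
    if t = 0 then (chainC.getD t (0, 0)).1 == 0 else decide ((chainC.getD t (0, 0)).2 < t) &&
      adjE (chainC.getD (chainC.getD t (0, 0)).2 (0, 0)).1 (chainC.getD t (0, 0)).1 &&
      !(comImg (imgT 4 (chainC.getD t (0, 0)).1))

/-- The check of a further neighbour. -/
def chkJump (t : ℕ) : Bool :=
  decide ((jumpB.getD t (0, 0)).1 < engWord.length) && decide ((jumpB.getD t (0, 0)).2 < chainB.length) &&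
    adjE (chainB.getD (jumpB.getD t (0, 0)).2 (0, 0)).1 (jumpB.getD t (0, 0)).1 &&
    !(fiveImg (imgT 3 (jumpB.getD t (0, 0)).1))

/-- The check of a lift of a representative of an orbit. -/
def chkLift (c : Cov) (L : List (List (ℕ × ℕ × ℕ))) (r q j : ℕ) : Bool :=
  (fun v : ℕ × ℕ × ℕ => decide (v.1 < engWord.length) &&
    engWord.getD v.1 [9] == List.replicate j 7 ++ c.roots.getD q [] &&
    match v.2.1 with
    | 0 => decide (v.2.2 < (if r = 2 then chainA else if r = 3 then chainB else chainC).length) &&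
        adjE ((if r = 2 then chainA else if r = 3 then chainB else chainC).getD v.2.2 (0, 0)).1 v.1
    | 1 => decide (r = 3) && decide (v.2.2 < jumpB.length) && adjE (jumpB.getD v.2.2 (0, 0)).1 v.1
    | _ => decide (r = 3) && v.1 == idC)
  ((L.getD q []).getD j (0, 9, 0))

end Cfsg.Agent.Spor.CoUniq

end
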