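import Cfsg.Agent.Lib.Spor.Cos.Bst

/-! Data: a group of Hall-Janko type and the involutions commuting with its first involution. -/

set_option autoImplicit false
set_option maxRecDepth 100000

namespace Cfsg.Agent.Spor.CoUniq

/-- The standard tuple in the presenting letters. -/
def tauA : List (List ℕ) := [[1, 2, 1], [1, 0, 2, 1], [3, 2, 3, 4, 0, 1, 0, 1, 0, 1, 2, 3, 1, 2, 1, 3, 4, 3, 2, 1, 2, 0, 1, 2, 3, 2, 1, 4, 3, 2, 0, 1, 4, 3, 2, 3, 1, 4, 2, 3, 0], [3, 2, 3, 4, 1, 0, 3, 4, 2, 3, 1, 3, 4, 0, 1, 3, 2, 3, 1, 0, 4, 1, 3, 2, 4, 3, 4, 1, 3, 0, 1, 2, 3, 0, 1, 2, 3, 1, 3, 4, 3, 2, 4, 3, 4, 1, 2, 4, 3, 2, 1, 3, 4, 3, 2, 4, 1, 3,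 2, 4, 1, 3, 4], [3, 4, 2, 3, 1, 0, 1, 2, 1, 4, 0, 3, 2, 0, 4, 1, 0, 1, 2, 4, 3, 4, 1, 3, 2, 4, 3, 4, 1, 3, 0, 1, 2, 3, 0, 1, 2, 3, 1, 3, 4, 3, 2, 4, 3, 4, 1, 2, 1], [0, 2, 4, 3, 2, 3, 4, 2, 1, 0, 4, 3, 2, 1, 4, 0, 1, 2, 3, 1, 4, 3]]

/-- The five letters in the standard tuple. -/
def tauGen : List (List ℕ) := [[3, 1, 3, 0, 1, 5, 1, 5, 2, 0, 2, 5, 1, 5, 1, 5, 2, 0], [0, 2, 5, 1, 5, 1, 5, 2, 0], [2, 5, 1, 5, 1, 5, 2], [2, 5, 2, 4, 3, 0, 2, 5, 1, 3, 5, 1, 5, 3, 0, 1, 3, 5, 1, 5, 0, 1, 5, 0, 1], [3, 5, 1, 5, 0, 2, 5, 2, 5, 1, 5, 1, 0, 3, 5, 2, 0, 3, 2, 5, 1, 0, 3, 2]]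

/-- Generators of a subgroup of order 128. -/
def sylJG : List (List ℕ) := [[2, 3, 2, 1, 0, 1, 4, 2, 3, 1, 2], [1, 0, 2, 1], [1, 0, 2, 4, 3, 2, 1, 4, 3, 2, 0, 1, 3, 0, 4, 0, 2, 3, 2, 4, 1, 4, 3, 2, 4, 3, 2, 1, 0, 2, 0, 3, 2, 4, 3, 4], [2, 0, 1, 2, 3, 2, 4, 0, 2, 1, 3, 4, 0, 1, 0, 4, 2, 1, 0, 3, 2, 4, 3, 2, 1, 4, 3, 2, 3, 0, 1, 0, 2, 4, 3, 4, 0, 1, 2, 1, 4, 3, 2, 1, 4, 0, 1, 2, 3, 1, 4, 3]]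

/-- Its elements. -/
def sylJW : List (List ℕ) := [[], [2, 3, 2, 1, 0, 1, 4, 2, 3, 1, 2], [1, 0, 2, 1], [1, 0, 2, 4, 3, 2, 1, 4, 3, 2, 0, 1, 3, 0, 4, 0, 2, 3, 2, 4, 1, 4, 3, 2, 4, 3, 2, 1, 0, 2, 0, 3, 2, 4, 3, 4], [2, 0, 1, 2, 3, 2, 4, 0, 2, 1, 3, 4, 0, 1, 0, 4, 2, 1, 0, 3, 2, 4, 3, 2, 1, 4, 3, 2, 3, 0, 1, 0, 2, 4, 3, 4, 0, 1, 2, 1, 4, 3, 2, 1, 4, 0, 1, 2, 3, 1, 4, 3], [2, 3, 2, 1, 0, 1, 4, 2, 3, 4, 3, 2, 1, 2, 0, 1, 2, 3, 2, 1, 4, 1], [2, 3, 4, 3, 2, 1, 0, 3, 4, 3, 2, 1, 3, 2, 0, 3, 1, 2, 4, 1, 3, 2, 4, 2, 1, 2, 1, 4, 3, 2, 4, 3, 2, 1, 0, 2, 0, 3, 2, 4, 3, 4], [3, 4, 2, 1, 3, 1, 4, 2, 4, 1, 3, 2, 3, 2, 0, 1, 0, 1, 2, 0, 3, 2,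 3, 2, 1, 3, 2, 0, 1, 0, 3, 1, 4, 2, 3, 2, 3, 4, 3, 2, 1, 4, 0, 1, 2, 0, 4, 3, 1, 2, 1, 2, 1, 0, 1, 2, 3, 4], [2, 3, 4, 2, 4, 1, 2, 0, 1, 2, 4, 3, 2, 4, 1, 0, 4, 2, 1], [2, 1, 3, 2, 0, 1, 0, 3, 2, 3, 2, 1, 2, 0, 3, 2, 4, 3, 2, 0, 1, 3, 0, 4, 2, 1, 3, 2, 3, 1, 2, 4, 2, 3, 0, 3, 2, 0, 1, 4, 3, 2, 3, 1, 4, 2, 3, 0], [4, 3, 2, 4, 3, 4, 0, 1, 4, 2, 4, 1, 3, 2, 3, 2, 0, 1, 0, 1, 2, 0, 3, 2, 3, 1, 2, 3, 4, 2, 3, 2, 1, 2, 3, 2, 0, 2, 4, 3, 2, 3, 1, 2, 1], [2, 3, 4, 2, 4, 1, 2, 0, 1, 2, 4, 3, 2, 4, 1, 0, 4, 2, 4, 3, 2, 1, 4, 3, 2, 0, 1, 3, 0, 4, 0, 2, 3, 2, 4, 1, 4, 3, 2, 4, 3, 2, 1, 0, 2, 0, 3, 2, 4, 3, 4], [3, 0, 2, 3, 4, 3, 2, 1, 4, 2,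 3, 0, 4, 2, 1, 3, 2, 1, 4, 3, 2, 4, 3, 2, 1, 0, 2, 0, 3, 2, 4, 3, 4], [1, 2, 1], [4, 3, 2, 4, 3, 4, 0, 1, 4, 2, 4, 1, 3, 2, 3, 2, 0, 1, 0, 1, 2, 0, 3, 4, 3, 2, 1, 4, 3, 0, 2, 3, 4, 0, 1, 2, 1, 3, 2, 4, 1], [2, 0, 1, 2, 3, 2, 4, 2, 3, 1, 2, 3, 0, 3, 1, 0, 3, 2, 4, 3, 2, 1, 4, 3, 2, 3, 0, 1, 0, 2, 4, 3, 4, 0, 1, 2, 1, 4, 3, 2, 1, 4, 0, 1, 2, 3, 1, 4, 3], [2, 0, 1, 2, 3, 2, 4, 2, 3, 1, 2, 3, 0, 3, 1, 0, 2, 0, 4, 3, 1, 2, 3, 4, 1, 2, 3, 2, 0, 4, 3, 2, 1, 3, 4, 3, 2, 4, 1, 3, 2, 4, 1, 3, 4], [4, 3, 2, 1, 0, 1, 2, 3, 4, 2, 4, 3, 2, 1, 0, 1, 2, 3, 4], [2, 3, 4, 3, 2, 1, 0, 3, 2, 1, 3, 2, 0, 1, 0, 3, 1, 4, 2, 3, 2, 3, 4, 3, 2, 1, 4, 0,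 1, 2, 0, 4, 3, 1, 2, 1, 3, 4], [3, 4, 2, 1, 3, 1, 4, 2, 4, 1, 3, 2, 3, 2, 0, 1, 0, 1, 2, 0, 3, 1, 3, 2, 0, 1, 0, 3, 2, 3, 2, 1, 2, 0, 3, 4, 3, 2, 3, 1, 2, 3, 4, 3, 2, 1, 0, 1, 2, 3, 1, 0, 2, 4, 1, 4, 3, 2, 4, 3, 2, 1, 0, 2, 0, 3, 2, 4, 3, 4], [4, 1, 0, 1, 2, 1, 4, 0, 3, 2, 0, 4, 1, 0, 1, 2, 4, 1, 2, 3, 4, 2, 3, 2, 1, 2, 3, 2, 0, 2, 4, 3, 2, 3, 1, 2, 1, 4, 3, 2, 4, 3, 2, 1, 0, 2, 0, 3, 2, 4, 3, 4], [2, 3, 4, 3, 2, 1, 0, 3, 2, 1, 3, 2, 0, 1, 0, 3, 1, 4, 2, 3, 2, 3, 4, 3, 1, 2, 3, 0, 4, 1, 2, 4, 3, 0, 4, 2, 4, 3, 2, 1, 4, 0, 1, 2, 3, 1, 4, 3], [2, 3, 2, 1, 0, 1, 4, 2, 3, 2], [3, 4, 2, 1, 3, 1, 0, 1, 0, 1, 2, 3, 1, 2, 1, 3, 1, 2, 3,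 2, 0, 1, 4, 3, 2, 3, 1, 4, 2, 3, 0], [3, 4, 2, 1, 3, 1, 4, 2, 4, 1, 3, 2, 3, 2, 0, 1, 0, 1, 2, 0, 3, 2, 4, 3, 2, 1, 2, 0, 1, 2, 3, 2, 1, 4, 1, 4, 3, 2, 4, 3, 2, 1, 0, 2, 0, 3, 2, 4, 3, 4], [0, 3, 2, 3, 1, 2, 4, 0, 3, 4, 0, 1, 0, 2, 3, 1, 2, 3, 1, 2], [2, 3, 4, 2, 4, 1, 2, 0, 1, 2, 4, 3, 2, 4, 1, 0, 3, 2, 1, 2, 0, 1, 2, 3, 2, 1, 3, 2, 1, 4, 0, 1, 2, 3, 1, 4, 3], [2, 3, 4, 3, 2, 4, 3, 2, 1, 4, 3, 0, 2, 3, 4, 0, 1, 2, 1, 3, 2, 4, 1, 4, 3, 2, 4, 3, 2, 1, 0, 2, 0, 3, 2, 4, 3, 4], [0, 3, 2, 3, 1, 2, 4, 0, 3, 4, 0, 1, 0, 2, 3, 1, 2, 3, 2, 4, 3, 2, 1, 4, 3, 0, 2, 3, 4, 0, 1, 2, 1, 3, 2, 4, 1, 4, 3, 2, 4, 3, 2, 1, 0, 2, 0, 3, 2, 4, 3, 4],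 [2, 3, 2, 1, 0, 1, 4, 2, 3, 2, 4, 3, 2, 1, 4, 3, 0, 2, 3, 4, 0, 1, 2, 1, 3, 2, 4, 1, 4, 3, 2, 4, 3, 2, 1, 0, 2, 0, 3, 2, 4, 3, 4], [1, 0, 3, 4, 3, 2, 1, 3, 2, 0, 3, 1, 2, 4, 1, 3, 2, 4, 2, 1, 2, 1, 4, 3, 2, 4, 3, 2, 1, 0, 2, 0, 3, 2, 4, 3, 4], [1, 0, 1], [2, 0, 1, 2, 3, 2, 4, 0, 2, 1, 3, 4, 0, 1, 0, 4, 2, 1, 0, 2, 1, 3, 2, 0, 1, 0, 3, 1, 4, 2, 3, 2, 3, 4, 3, 1, 2, 3, 0, 4, 1, 2, 4, 3, 0, 4, 2, 4, 3, 2, 1, 0, 1, 2, 3, 4], [4, 3, 2, 4, 3, 1, 0, 2, 1, 0, 4, 3, 2, 1, 3, 0, 2, 4, 3, 2, 1, 4, 3, 0, 2, 3, 4, 0, 1, 2, 1, 3, 2, 4, 3, 4, 3, 2, 3, 1, 2, 3, 0, 4, 1, 2, 3, 4], [4, 3, 2, 4, 3, 1, 0, 2, 1, 0, 4, 3, 2, 1, 3, 0, 2, 4, 3, 2, 1,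 4, 3, 0, 1, 3, 2, 1, 0, 3, 4, 3, 0, 2, 1, 4, 3, 2, 1, 3, 4, 3, 2, 4, 1, 3, 2, 4, 1, 3, 4], [2, 3, 4, 2, 4, 1, 2, 0, 1, 2, 4, 3, 2, 4, 1, 0, 4, 3, 2, 1, 3, 2, 0, 1, 0, 3, 1, 4, 2, 3, 2, 3, 4, 3, 1, 2, 3, 0, 4, 1, 2, 4, 3, 0, 4, 2, 4, 3, 2, 1, 4, 0, 1, 2, 3, 1, 4, 3], [2, 3, 4, 3, 2], [0, 3, 2, 3, 1, 2, 4, 0, 3, 4, 0, 1, 0, 2, 3, 1, 2, 3, 2], [2, 3, 2, 1, 0, 1, 4, 2, 1, 2, 3, 4, 2, 3, 2, 1, 2, 3, 2, 0, 2, 4, 3, 2, 3, 1, 2, 1, 4, 3, 2, 4, 3, 2, 1, 0, 2, 0, 3, 2, 4, 3, 4], [2, 0, 1, 2, 3, 2, 4, 0, 2, 1, 3, 4, 0, 1, 0, 4, 2, 1, 0, 3, 2, 1, 3, 2, 0, 1, 0, 3, 2, 3, 2, 1, 2, 0, 3, 4, 3, 2, 3, 1, 2, 3, 4, 3, 2, 1, 0, 1, 2, 3, 1, 0, 2, 3,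 2, 1, 3, 4, 3, 2, 4, 1, 3, 2, 4, 1, 3, 4], [2, 0, 1, 2, 3, 2, 4, 0, 2, 1, 3, 4, 0, 1, 0, 4, 2, 1, 0, 3, 0, 1, 2, 3, 2, 4, 3, 2, 3, 4, 1, 0, 3, 1, 2, 3, 0, 4, 2, 0, 1, 2, 3, 2, 1, 2, 0, 1, 3, 4, 3, 0, 2, 3, 1], [4, 3, 2, 4, 3, 1, 0, 2, 1, 0, 4, 3, 2, 1, 3, 1, 2, 3, 2, 4, 3, 2, 3, 4, 1, 0, 3, 1, 2, 3, 0, 4, 2, 0, 1, 2, 3, 2, 1, 2, 0, 1, 3, 4, 3, 1, 4, 3, 2, 3, 1, 4, 2, 3, 0], [4, 3, 2, 4, 3, 1, 0, 2, 1, 0, 4, 3, 2, 1, 3, 0, 4, 3, 2, 1, 2, 0, 1, 2, 3, 2, 1, 3, 2, 1, 3, 4, 3, 2, 4, 1, 3, 2, 4, 1, 3, 4], [3, 4, 2, 1, 3, 1, 0, 1, 0, 1, 2, 3, 1, 2, 1, 3, 2, 1, 3, 2, 0, 1, 0, 3, 2, 3, 2, 1, 2, 0, 3, 2, 4, 3, 2, 0, 1, 3, 0, 4, 2, 1, 3,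 2, 3, 1, 2, 4, 2, 3, 0, 4, 3, 2, 1, 4, 0, 1, 2, 3, 1, 4, 3], [2, 0, 1, 2, 3, 2, 4, 0, 2, 1, 3, 4, 0, 1, 0, 4, 2, 1, 0, 3, 2, 4, 3, 2, 1, 3, 4, 3, 2, 4, 1, 3, 2, 4, 1, 3, 4], [4, 1, 0, 1, 2, 1, 4, 0, 3, 2, 0, 4, 1, 0, 1, 2, 4, 2, 1, 3, 2, 0, 1, 0, 3, 1, 4, 2, 3, 2, 3, 4, 3, 2, 1, 4, 0, 1, 2, 0, 4, 3, 1, 2, 1, 3, 4, 3, 4, 3, 2, 3, 1, 2, 3, 0, 4, 1, 2, 3, 4], [3, 4, 2, 1, 3, 1, 0, 1, 0, 1, 2, 3, 1, 3, 4, 2, 3, 2, 1, 2, 3, 2, 0, 2, 4, 3, 2, 3, 1, 2, 1], [2, 0, 1, 2, 3, 2, 4, 0, 2, 1, 3, 4, 0, 1, 0, 4, 2, 1, 0, 2, 0, 4, 3, 1, 2, 3, 4, 1, 2, 3, 2, 0, 4, 3, 2, 1, 3, 4, 3, 2, 4, 1, 3, 2, 4, 1, 3, 4], [4, 1, 0, 1, 2, 1, 4, 0, 3, 2, 0, 4,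 1, 0, 1, 2, 4, 3, 2, 4, 3, 2, 1, 4, 3, 0, 2, 3, 4, 0, 1, 2, 1, 3, 2, 4, 1, 4, 3, 2, 4, 3, 2, 1, 0, 2, 0, 3, 2, 4, 3, 4], [1, 0, 2, 4, 3, 2, 1, 4, 3, 0, 1, 3, 2, 1, 0, 3, 4, 3, 0, 2, 1, 4, 3, 2, 1, 4, 0, 1, 2, 3, 1, 4, 3], [1, 0, 3, 2, 1, 3, 2, 0, 1, 0, 3, 1, 4, 2, 3, 2, 3, 4, 3, 1, 2, 3, 0, 4, 1, 2, 4, 3, 0, 4, 2, 4, 3, 2, 1, 4, 0, 1, 2, 3, 1, 4, 3], [2, 3, 4, 3, 2, 1, 0, 2, 4, 3, 2, 1, 4, 3, 2, 0, 1, 3, 0, 4, 0, 2, 3, 2, 4, 1, 4, 3, 2, 4, 3, 2, 1, 0, 2, 0, 3, 2, 4, 3, 4], [2, 3, 2, 1, 0, 1, 4, 2, 3, 4, 3, 2, 1, 0, 1, 2, 3, 4, 2], [3, 4, 2, 1, 3, 1, 4, 2, 4, 1, 3, 2, 3, 2, 0, 1, 0, 1, 2, 0, 3, 1, 3, 2, 0, 1, 0, 3, 2, 3, 2, 1, 2,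 0, 3, 2, 4, 3, 2, 0, 1, 3, 0, 4, 2, 1, 3, 2, 3, 1, 2, 4, 2, 3, 0, 4, 3, 2, 1, 3, 4, 3, 2, 4, 1, 3, 2, 4, 1, 3, 4], [0, 3, 2, 3, 1, 2, 4, 0, 3, 4, 0, 1, 0, 2, 3, 1, 2, 3, 4, 3, 2, 1, 2, 0, 1, 2, 3, 2, 1, 4, 1], [1, 0, 3, 0, 1, 2, 3, 0, 2, 1, 0, 3, 1, 2, 1, 2, 3, 4, 2, 3, 2, 1, 2, 3, 2, 0, 2, 4, 3, 2, 3, 1, 2, 1, 4, 3, 2, 4, 3, 2, 1, 0, 2, 0, 3, 2, 4, 3, 4], [1, 0, 3, 0, 1, 2, 3, 0, 2, 1, 0, 3, 1, 2, 3, 1, 2], [2, 0, 1, 2, 3, 2, 4, 2, 3, 1, 2, 3, 0, 3, 1, 0, 3, 2, 4, 3, 2, 1, 3, 4, 3, 2, 4, 1, 3, 2, 4, 1, 3, 4], [4, 1, 0, 1, 2, 1, 4, 0, 3, 2, 0, 4, 1, 0, 1, 2, 4, 3, 4, 1, 3, 2, 4, 3, 4, 1, 3, 0, 1, 2, 3, 0, 1, 2, 3, 1, 3, 4, 3, 2,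 4, 3, 4, 1, 2, 1, 4, 3, 2, 4, 3, 2, 1, 0, 2, 0, 3, 2, 4, 3, 4], [3, 4, 2, 1, 3, 1, 0, 1, 0, 1, 2, 3, 1, 2, 1, 3, 2, 1, 3, 2, 0, 1, 0, 3, 2, 3, 2, 1, 2, 0, 3, 4, 3, 2, 3, 1, 2, 3, 4, 3, 2, 1, 0, 1, 2, 3, 1, 0, 2, 4, 1], [3, 4, 2, 1, 3, 1, 4, 2, 4, 1, 3, 2, 3, 2, 0, 1, 0, 1, 2, 0, 3, 2, 4, 3, 2, 1, 0, 1, 2, 3, 4, 2, 3, 2, 0, 1, 4, 3, 2, 3, 1, 4, 2, 3, 0], [3, 4, 2, 1, 3, 1, 0, 1, 0, 1, 2, 3, 1, 2, 1, 3, 2, 4, 3, 2, 1, 4, 3, 0, 2, 3, 4, 0, 1, 2, 1, 3, 2, 4, 1], [0, 3, 2, 3, 1, 2, 4, 0, 3, 4, 0, 2, 3, 1, 2, 3, 0, 3, 1, 0, 4, 3, 2, 1, 3, 2, 0, 3, 1, 2, 4, 1, 3, 2, 4, 2, 1, 2, 1, 4, 3, 2, 4, 3, 2, 1, 0, 2, 0, 3, 2, 4, 3, 4], [4, 3, 2,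 4, 3, 4, 0, 1, 4, 2, 4, 1, 3, 2, 3, 2, 0, 1, 0, 1, 2, 0, 2, 0, 1, 4, 3, 2, 3, 1, 4, 2, 3, 0], [0, 3, 2, 3, 1, 2, 4, 0, 3, 4, 0, 1, 0, 2, 3, 1, 2, 1, 2, 3, 4, 2, 3, 2, 1, 2, 3, 2, 0, 2, 4, 3, 2, 3, 1, 2, 1, 4, 3, 2, 4, 3, 2, 1, 0, 2, 0, 3, 2, 4, 3, 4], [2, 3, 4, 2, 4, 1, 2, 0, 1, 2, 4, 3, 2, 4, 1, 0, 4, 3, 4, 3, 2, 1, 3, 2, 0, 3, 1, 2, 4, 1, 3, 2, 4, 2, 1, 2, 1, 4, 3, 2, 4, 3, 2, 1, 0, 2, 0, 3, 2, 4, 3, 4], [1, 0, 4, 3, 2, 1, 2, 0, 1, 2, 3, 2, 1, 3, 2, 1, 4, 0, 1, 2, 3, 1, 4, 3], [2, 3, 4, 2, 1, 3, 2, 0, 1, 0, 3, 1, 4, 2, 3, 2, 3, 4, 3, 2, 1, 4, 0, 1, 2, 0, 4, 3, 1, 2, 1, 3, 4, 3, 4, 3, 2, 3, 1, 2, 3, 0, 4, 1, 2, 3, 4], [0, 3, 2,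 3, 1, 2, 4, 0, 3, 4, 3, 1, 4, 2, 3, 2, 3, 4, 3, 2, 1, 4, 0, 1, 2, 0, 4, 3, 1, 2, 1, 3, 4, 3, 4, 3, 2, 3, 1, 2, 3, 0, 4, 1, 2, 3, 4], [2, 3, 4, 3, 4, 1, 3, 2, 4, 3, 4, 1, 3, 0, 1, 2, 3, 0, 1, 2, 3, 1, 3, 4, 3, 2, 4, 3, 4, 1, 2, 1, 4, 3, 2, 4, 3, 2, 1, 0, 2, 0, 3, 2, 4, 3, 4], [2, 3, 4, 2, 4, 1, 2, 0, 1, 2, 4, 3, 2, 4, 1, 0, 4, 1], [0, 3, 2, 3, 1, 2, 4, 0, 3, 4, 0, 2, 3, 1, 2, 3, 0, 3, 1, 0, 3, 2, 1], [3, 4, 2, 1, 3, 1, 4, 2, 4, 1, 3, 2, 3, 2, 0, 1, 0, 1, 2, 0, 3, 2, 4, 1, 3, 2, 4, 3, 4, 1, 3, 0, 1, 2, 3, 0, 1, 2, 3, 1, 3, 4, 3, 2, 4, 3, 4, 1, 2, 1], [2, 3, 2, 1, 0, 1, 4, 1, 3, 2, 0, 1, 0, 3, 1, 4, 2, 3, 2, 3, 4, 3, 2, 1, 4, 0, 1,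 2, 0, 4, 3, 1, 2, 1, 3, 4, 3, 4, 3, 2, 3, 1, 2, 3, 0, 4, 1, 2, 3, 4], [2, 3, 4, 3, 2, 1, 0, 2, 1], [4, 3, 2, 4, 3, 4, 0, 1, 4, 2, 4, 1, 3, 2, 3, 2, 0, 1, 0, 1, 2, 0, 3, 2, 1, 2, 3, 2, 0, 1, 4, 3, 2, 3, 1, 4, 2, 3, 0], [2, 0, 1, 2, 3, 2, 4, 2, 3, 1, 2, 3, 0, 3, 1, 0, 2, 1, 3, 2, 0, 1, 0, 3, 1, 4, 2, 3, 2, 3, 4, 3, 1, 2, 3, 0, 4, 1, 2, 4, 3, 0, 4, 2, 4, 3, 2, 1, 0, 1, 2, 3, 4], [2, 0, 1, 2, 3, 2, 4, 2, 3, 1, 2, 3, 0, 3, 1, 0, 3, 4, 3, 2, 1, 0, 1, 2, 3, 4, 2, 4, 3, 2, 1, 3, 4, 3, 2, 4, 1, 3, 2, 4, 1, 3, 4], [0, 3, 2, 3, 1, 2, 4, 0, 3, 4, 0, 2, 3, 1, 2, 3, 0, 3, 1, 0, 3, 4, 3, 2, 1, 2, 0, 1, 2, 3, 2, 1, 3, 2, 1, 4, 0, 1, 2, 3, 1, 4,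 3], [4, 3, 2, 4, 3, 4, 0, 1, 4, 2, 4, 1, 3, 2, 3, 2, 0, 1, 0, 1, 2, 0, 3, 1, 3, 2, 0, 1, 0, 3, 2, 3, 2, 1, 2, 0, 3, 2, 4, 3, 2, 0, 1, 3, 0, 4, 2, 1, 3, 2, 3, 1, 2, 4, 2, 3, 0, 4, 3, 2, 1, 4, 0, 1, 2, 3, 1, 4, 3], [1, 0, 3, 0, 1, 2, 3, 0, 2, 1, 0, 3, 1, 2, 3, 4, 1, 3, 2, 4, 3, 4, 1, 3, 0, 1, 2, 3, 0, 1, 2, 3, 1, 3, 4, 3, 2, 4, 3, 4, 1, 2, 1, 4, 3, 2, 4, 3, 2, 1, 0, 2, 0, 3, 2, 4, 3, 4], [0, 3, 2, 3, 1, 2, 4, 0, 3, 4, 0, 2, 3, 1, 2, 3, 0, 3, 1, 0, 3, 1], [4, 3, 2, 4, 3, 4, 0, 1, 4, 2, 4, 1, 3, 2, 3, 2, 0, 1, 0, 1, 2, 0, 3, 1, 3, 2, 0, 1, 0, 3, 2, 3, 2, 1, 2, 0, 3, 4, 3, 2, 3, 1, 2, 3, 4, 3, 2, 1, 0, 1, 2, 3, 1, 0, 2, 4, 1], [1, 0,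 3, 0, 1, 2, 3, 0, 2, 1, 0, 3, 1, 2, 3, 2, 4, 3, 2, 1, 4, 3, 0, 2, 3, 4, 0, 1, 2, 1, 3, 2, 4, 1, 4, 3, 2, 4, 3, 2, 1, 0, 2, 0, 3, 2, 4, 3, 4], [2, 3, 4, 3, 4, 3, 2, 1, 0, 1, 2, 3, 4, 2], [0, 3, 2, 3, 1, 2, 4, 0, 3, 4, 0, 1, 0, 2, 3, 1, 2, 3, 4, 3, 2, 1, 0, 1, 2, 3, 4, 2], [2, 3, 4, 3, 4, 3, 2, 1, 2, 0, 1, 2, 3, 2, 1, 4, 1], [0, 3, 2, 3, 1, 2, 4, 0, 3, 4, 0, 2, 3, 1, 2, 3, 0, 3, 1, 0, 3, 2, 4, 3, 2, 1, 4, 3, 2, 0, 1, 3, 0, 4, 0, 2, 3, 2, 4, 1, 4, 3, 2, 4, 3, 2, 1, 0, 2, 0, 3, 2, 4, 3, 4], [2, 3, 2, 1, 0, 1, 4, 2, 3, 4, 1, 3, 2, 4, 3, 4, 1, 3, 0, 1, 2, 3, 0, 1, 2, 3, 1, 3, 4, 3, 2, 4, 3, 4, 1, 2, 1, 4, 3, 2, 4, 3, 2, 1, 0, 2, 0, 3,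 2, 4, 3, 4], [2, 3, 4, 3, 2, 1, 0, 1], [2, 0, 1, 2, 3, 2, 4, 2, 3, 1, 2, 3, 0, 3, 1, 0, 3, 2, 1, 3, 2, 0, 1, 0, 3, 2, 3, 2, 1, 2, 0, 3, 4, 3, 2, 3, 1, 2, 3, 4, 3, 2, 1, 0, 1, 2, 3, 1, 0, 2, 3, 2, 1, 3, 4, 3, 2, 4, 1, 3, 2, 4, 1, 3, 4], [2, 0, 1, 2, 3, 2, 4, 2, 3, 1, 2, 3, 0, 3, 1, 0, 4, 3, 2, 1, 3, 2, 0, 3, 1, 2, 4, 1, 3, 2, 4, 2, 1, 2, 4, 3, 2, 1, 3, 4, 3, 2, 4, 1, 3, 2, 4, 1, 3, 4], [2, 0, 1, 2, 3, 2, 4, 2, 3, 1, 2, 3, 0, 3, 1, 0, 3, 0, 1, 2, 3, 2, 4, 3, 2, 3, 4, 1, 0, 3, 1, 2, 3, 0, 4, 2, 0, 1, 2, 3, 2, 1, 2, 0, 1, 3, 4, 3, 0, 2, 3, 1], [0, 3, 2, 3, 1, 2, 4, 0, 3, 4, 0, 2, 3, 1, 2, 3, 0, 3, 1, 0, 2, 1, 3, 2, 0, 1, 0, 3, 1, 4,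 2, 3, 2, 3, 4, 3, 1, 2, 3, 0, 4, 1, 2, 4, 3, 0, 4, 2, 4, 3, 2, 1, 4, 0, 1, 2, 3, 1, 4, 3], [4, 3, 2, 4, 3, 4, 0, 1, 4, 2, 4, 1, 3, 2, 3, 2, 0, 1, 0, 1, 2, 0, 3, 2, 0, 1, 2, 3, 2, 4, 3, 2, 3, 4, 1, 0, 3, 1, 2, 3, 0, 4, 2, 0, 1, 2, 3, 2, 1, 2, 0, 1, 3, 4, 3, 0, 2, 3, 4, 3, 2, 1, 4, 0, 1, 2, 3, 1, 4, 3], [1, 0, 3, 0, 1, 2, 3, 0, 2, 1, 0, 3, 1, 2, 3, 4, 3, 2, 1, 2, 0, 1, 2, 3, 2, 1, 4, 1], [4, 3, 2, 4, 3, 4, 0, 1, 4, 2, 4, 1, 3, 2, 3, 2, 0, 1, 0, 1, 2, 0, 3, 4, 3, 2, 1, 4, 3, 2, 0, 1, 3, 0, 4, 0, 2, 3, 2, 3, 2, 1, 0, 1, 2, 3, 4], [1, 0, 3, 0, 1, 2, 3, 0, 2, 1, 0, 3, 1, 2, 3, 2], [3, 4, 2, 1, 3, 1, 0, 1, 0, 1, 2, 3, 1, 2, 1, 3, 0, 1,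 2, 3, 2, 4, 3, 2, 3, 4, 1, 0, 3, 1, 2, 3, 0, 4, 2, 0, 1, 2, 3, 2, 1, 2, 0, 1, 3, 4, 3, 0, 2, 3, 4, 3, 2, 1, 4, 0, 1, 2, 3, 1, 4, 3], [0, 3, 2, 3, 1, 2, 4, 0, 3, 4, 0, 2, 3, 1, 2, 3, 0, 3, 1, 0, 2, 1, 3, 2, 0, 1, 0, 3, 1, 4, 2, 3, 2, 3, 4, 3, 2, 1, 4, 0, 1, 2, 0, 4, 3, 1, 2, 1, 3, 4], [1, 0, 3, 0, 1, 2, 3, 0, 2, 1, 0, 2, 0, 1, 0, 3, 1, 4, 2, 3, 2, 3, 4, 3, 2, 1, 4, 0, 1, 2, 0, 4, 3, 1, 2, 1, 3, 4, 3, 4, 3, 2, 3, 1, 2, 3, 0, 4, 1, 2, 3, 4], [3, 4, 2, 1, 3, 1, 0, 1, 0, 1, 2, 3, 1, 2, 1, 3, 2, 3, 2, 0, 1, 4, 3, 2, 3, 1, 4, 2, 3, 0], [3, 4, 2, 1, 3, 1, 4, 2, 4, 1, 3, 2, 3, 2, 0, 1, 0, 1, 2, 0, 3, 4, 3, 2, 1, 4, 3, 2, 0, 1, 3, 0, 4,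 0, 2, 3, 2, 4, 3, 4, 3, 2, 3, 1, 2, 3, 0, 4, 1, 2, 3, 4], [2, 4, 3, 2, 1, 4, 3, 0, 1, 3, 2, 1, 0, 3, 4, 3, 0, 2], [2, 3, 4, 2, 4, 1, 2, 0, 1, 2, 4, 3, 2, 4, 1, 0, 4, 2, 4, 3, 2, 1, 4, 3, 0, 1, 3, 2, 1, 0, 3, 4, 3, 0, 2, 1, 4, 3, 2, 1, 4, 0, 1, 2, 3, 1, 4, 3], [3, 2, 1, 3, 2, 0, 1, 0, 3, 1, 4, 2, 3, 2, 3, 4, 3, 1, 2, 3, 0, 4, 1, 2, 4, 3, 0, 4, 2, 1, 4, 3, 2, 4, 3, 2, 1, 0, 2, 0, 3, 2, 4, 3, 4], [4, 1, 3, 2, 4, 3, 4, 1, 3, 0, 1, 2, 3, 0, 1, 2, 3, 1, 3, 4, 3, 2, 4, 3, 4, 1, 2, 4, 3, 2, 1, 4, 0, 1, 2, 3, 1, 4, 3], [2, 0, 1, 2, 3, 2, 4, 0, 2, 1, 3, 4, 0, 1, 0, 4, 2, 1, 0, 3, 4, 3, 2, 1, 0, 1, 2, 3, 4, 2, 4, 3, 2, 1, 3, 4, 3, 2, 4, 1,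 3, 2, 4, 1, 3, 4], [0, 3, 2, 3, 1, 2, 4, 0, 3, 4, 0, 1, 0, 2, 3, 1, 2, 3, 4, 1, 3, 2, 4, 3, 4, 1, 3, 0, 1, 2, 3, 0, 1, 2, 3, 1, 3, 4, 3, 2, 4, 3, 4, 1, 2, 1, 4, 3, 2, 4, 3, 2, 1, 0, 2, 0, 3, 2, 4, 3, 4], [2, 3, 4, 2, 4, 1, 2, 0, 1, 2, 4, 3, 2, 4, 1, 0, 4, 3, 2, 1, 3, 2, 0, 1, 0, 3, 1, 4, 2, 3, 2, 3, 4, 3, 2, 1, 4, 0, 1, 2, 0, 4, 3, 1, 2, 1, 3, 4], [4, 1, 0, 1, 2, 1, 4, 0, 3, 2, 0, 4, 1, 0, 1, 2, 4, 3, 2], [4, 3, 2, 4, 3, 1, 0, 2, 1, 0, 4, 3, 2, 1, 3, 0, 3, 2, 1, 3, 2, 0, 1, 0, 3, 1, 4, 2, 3, 2, 3, 4, 3, 2, 1, 4, 0, 1, 2, 0, 4, 3, 1, 2, 1, 3, 4, 3, 2, 0, 1, 4, 3, 2, 3, 1, 4, 2, 3, 0], [4, 1, 0, 1, 2, 1, 4, 0, 3, 2, 0, 4, 1, 0, 1,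 2, 4, 3, 1, 2], [4, 3, 2, 4, 3, 1, 0, 2, 1, 0, 4, 3, 2, 1, 3, 0, 3, 2, 1, 3, 2, 0, 1, 0, 3, 1, 4, 2, 3, 2, 3, 4, 3, 1, 2, 3, 0, 4, 1, 2, 4, 3, 0, 4, 2, 4, 3, 2, 1, 3, 4, 3, 2, 4, 1, 3, 2, 4, 1, 3, 4], [1, 0, 3, 0, 1, 2, 3, 0, 2, 1, 0, 3, 1, 2, 3, 4, 3, 2, 1, 0, 1, 2, 3, 4, 2], [3, 4, 2, 1, 3, 1, 0, 1, 0, 1, 2, 3, 1, 2, 1, 3, 2, 4, 3, 2, 1, 4, 3, 2, 0, 1, 3, 0, 4, 0, 2, 3, 2, 3, 2, 1, 0, 1, 2, 3, 4], [2, 3, 4, 3, 1, 2], [4, 3, 2, 4, 3, 1, 0, 2, 1, 0, 4, 3, 2, 1, 3, 0, 3, 0, 2, 3, 4, 3, 2, 1, 4, 2, 3, 0, 4, 2, 1, 3, 2, 3, 4, 3, 2, 3, 1, 2, 3, 0, 4, 1, 2, 3, 4], [2, 3, 4, 1, 2, 3, 4, 2, 3, 2, 1, 2, 3, 2, 0, 2, 4, 3, 2, 3, 1, 2, 1,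 4, 3, 2, 4, 3, 2, 1, 0, 2, 0, 3, 2, 4, 3, 4], [0, 3, 2, 3, 1, 2, 4, 0, 3, 4, 0, 2, 3, 1, 2, 3, 0, 3, 1, 0, 3, 2, 4, 3, 2, 1, 4, 3, 0, 1, 3, 2, 1, 0, 3, 4, 3, 0, 2, 1, 4, 3, 2, 1, 4, 0, 1, 2, 3, 1, 4, 3], [2, 3, 4, 3, 2, 1, 0, 4, 3, 2, 1, 2, 0, 1, 2, 3, 2, 1, 3, 2, 1, 4, 0, 1, 2, 3, 1, 4, 3], [3, 4, 2, 1, 3, 1, 4, 2, 4, 1, 3, 2, 3, 2, 0, 1, 0, 1, 2, 0, 3, 2, 0, 1, 2, 3, 2, 4, 3, 2, 3, 4, 1, 0, 3, 1, 2, 3, 0, 4, 2, 0, 1, 2, 3, 2, 1, 2, 0, 1, 3, 4, 3, 0, 2, 3, 4, 3, 2, 1, 3, 4, 3, 2, 4, 1, 3, 2, 4, 1, 3, 4], [2, 3, 4, 3, 2, 1, 0, 2, 4, 3, 2, 1, 4, 3, 0, 1, 3, 2, 1, 0, 3, 4, 3, 0, 2, 1, 4, 3, 2, 1, 4, 0, 1, 2, 3, 1, 4, 3], [4, 3, 2,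 4, 3, 1, 0, 2, 1, 0, 4, 3, 2, 1, 3, 1, 2, 1, 3, 2, 0, 1, 2, 3, 4, 2, 4, 1, 4, 3, 2, 3, 1, 2, 4, 3, 2, 1, 0, 2, 1, 4, 2, 3, 0, 4, 2, 3, 4, 3, 2, 3, 1, 2, 3, 0, 4, 1, 2, 3, 4], [2, 0, 1, 2, 3, 2, 4, 0, 2, 1, 3, 4, 0, 1, 0, 4, 2, 1, 0, 4, 3, 2, 1, 3, 2, 0, 3, 1, 2, 4, 1, 3, 2, 4, 2, 1, 2, 4, 3, 2, 1, 3, 4, 3, 2, 4, 1, 3, 2, 4, 1, 3, 4], [4, 1, 0, 1, 2, 1, 4, 0, 3, 2, 0, 4, 1, 0, 1, 2, 4, 3, 4, 3, 2, 1, 2, 0, 1, 2, 3, 2, 1, 4, 1], [4, 1, 0, 1, 2, 1, 4, 0, 3, 2, 0, 4, 1, 0, 1, 2, 4, 3, 4, 3, 2, 1, 0, 1, 2, 3, 4, 2], [1, 0, 3, 2, 1, 3, 2, 0, 1, 0, 3, 1, 4, 2, 3, 2, 3, 4, 3, 2, 1, 4, 0, 1, 2, 0, 4, 3, 1, 2, 1, 3, 4]]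

/-- Products with the generators. -/
def sylJS : List (List ℕ) := [[1, 2, 3, 4], [0, 5, 6, 7], [8, 0, 9, 10], [11, 12, 13, 14], [7, 15, 16, 0], [17, 1, 18, 19], [20, 21, 22, 23], [4, 24, 25, 1], [2, 26, 27, 28], [29, 30, 31, 32], [28, 33, 34, 2], [3, 35, 36, 37], [38, 3, 2, 39], [22, 31, 30, 40], [37, 41, 42, 3], [43, 4, 44, 45], [46, 47, 40, 48], [5, 49, 50, 44], [45, 51, 52, 43], [44, 53, 54, 5], [6, 55, 56, 57], [58, 6, 5, 59], [13, 52, 51, 60], [57, 61, 62, 6], [32, 7, 28, 29], [63, 64, 60, 65], [66, 8, 67, 68], [55, 69, 70, 71], [10, 37, 72, 8], [9, 73, 74, 24], [65, 9, 0, 63], [70, 13, 12, 75], [24, 76, 77, 9], [78, 10,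 79, 80], [81, 82, 75, 83], [50, 11, 84, 85], [56, 86, 65, 87], [14, 28, 7, 11], [12, 88, 89, 72], [72, 90, 91, 12], [60, 92, 57, 13], [93, 14, 94, 95], [62, 96, 63, 97], [15, 98, 99, 18], [19, 57, 92, 17], [18, 100, 95, 15], [16, 101, 87, 51], [102, 16, 15, 103], [51, 83, 97, 16], [104, 17, 105, 82], [35, 106, 103, 94], [48, 18, 1, 46], [103, 22, 21, 102], [107, 19, 108, 88], [96, 68, 102, 109], [27, 20, 110, 111], [36, 112, 48, 113], [23, 44, 4, 20], [21, 80, 114, 92], [92, 115, 93, 21], [40, 72, 37, 22], [91, 23, 71, 74], [42, 81, 46, 116], [25, 117, 113, 30], [75, 25, 24, 70], [30, 109, 116, 25], [26, 103, 106, 79], [80, 118,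 104, 78], [79, 54, 53, 26], [100, 27, 26, 119], [31, 104, 118, 64], [111, 87, 101, 27], [39, 60, 64, 38], [106, 29, 120, 121], [110, 122, 38, 61], [64, 123, 111, 31], [115, 32, 124, 125], [101, 107, 39, 112], [33, 99, 98, 67], [68, 111, 123, 66], [67, 58, 125, 33], [34, 62, 61, 118], [108, 34, 33, 49], [118, 48, 112, 34], [95, 116, 109, 93], [94, 108, 19, 35], [114, 36, 35, 99], [113, 71, 23, 36], [105, 38, 122, 53], [112, 120, 29, 101], [98, 39, 107, 126], [61, 124, 32, 110], [59, 40, 47, 58], [41, 119, 43, 84], [85, 113, 117, 50], [84, 125, 58, 41], [54, 42, 41, 127], [116, 110, 20, 42], [90, 43, 119, 122], [117, 78, 59, 86],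 [69, 45, 126, 123], [77, 46, 81, 89], [47, 121, 85, 52], [52, 66, 127, 47], [49, 70, 69, 108], [88, 127, 66, 107], [73, 50, 49, 124], [53, 77, 76, 105], [82, 85, 121, 104], [127, 65, 86, 54], [74, 97, 83, 91], [71, 79, 10, 55], [89, 56, 55, 77], [87, 94, 14, 56], [86, 126, 45, 117], [76, 59, 78, 120], [97, 84, 11, 62], [99, 63, 96, 114], [83, 67, 8, 81], [123, 93, 115, 69], [125, 89, 88, 115], [124, 102, 68, 73], [126, 74, 73, 98], [119, 75, 82, 100], [121, 91, 90, 106], [120, 95, 100, 76], [122, 114, 80, 90], [109, 105, 17, 96]]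

/-- The kinds of the representatives with their words; the sixth letter is the involution. -/
def kindW : List (ℕ × List (List ℕ)) := [(0, [[1, 2, 1]]), (1, [[1, 5, 1]]), (0, [[1, 0, 1]]), (1, [[0, 1, 5, 1]]), (1, [[3, 2, 1, 0, 3, 2, 1, 0, 3, 2, 1, 0, 3, 2, 1, 0, 3, 2, 1, 0, 0, 5, 0, 3, 2, 1, 0, 3, 2, 1, 0, 3, 2, 1, 0]]), (1, [[2, 0, 1, 5, 1]]), (1, [[2, 0, 1, 2, 5, 0, 1, 2, 5]]), (1, [[3, 2, 1, 0, 3, 2, 1, 0, 3, 2, 1, 0, 3, 2, 1, 0, 1, 3, 2, 1, 0, 0, 1, 2, 5, 0, 3, 2, 1, 0, 3, 2, 1, 0, 3, 2, 1, 0]]), (1, [[2, 1, 5, 1]]), (2, [[1, 3, 2, 1, 0, 3, 2, 1, 0, 3, 2, 1, 0, 3, 2, 1, 0, 3, 2, 1, 0, 3, 2, 1, 0, 3, 2, 1, 0, 0, 1, 0, 1, 5,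 0, 3, 2, 1, 0, 1]]), (2, [[1, 3, 2, 1, 0, 3, 2, 1, 0, 3, 2, 1, 0, 3, 2, 1, 0, 3, 2, 1, 0, 3, 2, 1, 0, 3, 2, 1, 0, 0, 5, 0, 3, 2, 1, 0, 1]]), (2, [[3, 2, 1, 0, 0, 1, 0, 1, 2, 5, 3, 2, 1, 0, 5]]), (2, [[2, 1, 3, 2, 1, 0, 1, 2, 3, 2, 1, 0, 1, 2, 3, 2, 1, 0, 1, 0, 1, 2, 5, 0, 3, 2, 1, 0, 1]]), (3, [[1, 4, 4, 1, 4, 5, 3, 0, 5, 4, 4, 5, 2, 3, 2, 1, 0, 0, 1, 2, 3, 0, 1, 2, 3, 5, 0, 0, 1, 2, 3, 1, 0, 1, 2, 3, 4, 1, 3, 2, 1, 0, 1, 2, 3, 2, 1, 0, 1, 2, 3, 2, 1, 0, 1, 0, 1, 0, 2, 1, 4, 3, 2, 1, 0, 3, 2, 1, 0, 0, 4, 1, 5, 2, 3, 5, 0, 4, 3, 3, 0, 3, 0, 1, 3, 5, 0, 1, 2, 3, 1, 5, 0, 5, 0, 4, 1, 5, 2, 3, 5, 0, 4, 3, 3, 0, 3, 0, 1, 3, 5, 0, 1,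 2, 3, 1, 5, 0, 5, 2, 0, 4, 1, 5, 2, 3, 5, 0, 4, 3, 3, 0, 3, 0, 1, 3, 5, 0, 1, 2, 3, 1, 5, 0, 5, 2, 5, 0, 5, 1, 5, 3, 2, 1, 0, 0, 0, 0, 5, 4, 0, 3, 5, 1, 3, 5, 0, 1, 4, 4, 1, 4, 5, 3, 0, 5, 4, 4, 5, 2, 3, 2, 1, 0, 0, 1, 2, 3, 0, 1, 2, 3, 5, 0, 0, 1, 2, 3, 1, 0, 1, 2, 3, 4, 1, 3, 2, 1, 0, 1, 2, 3, 2, 1, 0, 1, 2, 3, 2, 1, 0, 1, 0, 1, 0, 2, 1, 4, 3, 2, 1, 0, 3, 2, 1, 0, 0, 4, 1, 5, 2, 3, 5, 0, 4, 3, 3, 0, 3, 0, 1, 3, 5, 0, 1, 2, 3, 1, 5, 0, 5, 0, 4, 1, 5, 2, 3, 5, 0, 4, 3, 3, 0, 3, 0, 1, 3, 5, 0, 1, 2, 3, 1, 5, 0, 5, 2, 0, 4, 1, 5, 2, 3, 5, 0, 4, 3, 3, 0, 3, 0, 1, 3, 5, 0, 1, 2, 3, 1, 5, 0, 5, 2, 5, 0, 5, 1, 5, 3, 2, 1, 0, 0, 0, 0,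 5, 4, 0, 3, 5, 1, 3, 5, 0, 0, 5, 3, 1, 5, 3, 0, 4, 5, 0, 0, 0, 0, 1, 2, 3, 5, 1, 5, 0, 5, 2, 5, 0, 5, 1, 3, 2, 1, 0, 5, 3, 1, 0, 3, 0, 3, 3, 4, 0, 5, 3, 2, 5, 1, 4, 0, 2, 5, 0, 5, 1, 3, 2, 1, 0, 5, 3, 1, 0, 3, 0, 3, 3, 4, 0, 5, 3, 2, 5, 1, 4, 0, 5, 0, 5, 1, 3, 2, 1, 0, 5, 3, 1, 0, 3, 0, 3, 3, 4, 0, 5, 3, 2, 5, 1, 4, 0, 0, 1, 2, 3, 0, 1, 2, 3, 4, 1, 2, 0, 1, 0, 1, 0, 1, 2, 3, 2, 1, 0, 1, 2, 3, 2, 1, 0, 1, 2, 3, 1, 0, 5, 3, 1, 5, 3, 0, 4, 5, 0, 0, 0, 0, 1, 2, 3, 5, 1, 5, 0, 5, 2, 5, 0, 5, 1, 3, 2, 1, 0, 5, 3, 1, 0, 3, 0, 3, 3, 4, 0, 5, 3, 2, 5, 1, 4, 0, 2, 5, 0, 5, 1, 3, 2, 1, 0, 5, 3, 1, 0, 3, 0, 3, 3, 4, 0, 5, 3, 2, 5, 1, 4, 0,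 5, 0, 5, 1, 3, 2, 1, 0, 5, 3, 1, 0, 3, 0, 3, 3, 4, 0, 5, 3, 2, 5, 1, 4, 0, 0, 1, 2, 3, 0, 1, 2, 3, 4, 1, 2, 0, 1, 0, 1, 0, 1, 2, 3, 2, 1, 0, 1, 2, 3, 2, 1, 0, 1, 2, 3, 3, 2, 1, 0, 1, 2, 0, 1, 0, 4, 0, 4, 1, 5, 2, 3, 5, 0, 4, 3, 3, 0, 3, 0, 1, 3, 5, 0, 1, 2, 3, 1, 5, 0, 5, 3, 2, 1, 0, 4, 0, 4, 1, 5, 2, 3, 5, 0, 4, 3, 3, 0, 3, 0, 1, 3, 5, 0, 1, 2, 3, 1, 5, 0, 5, 2, 3, 2, 1, 0], [1, 4, 4, 1, 4, 5, 3, 0, 5, 4, 4, 5, 2, 3, 2, 1, 0, 0, 1, 2, 3, 0, 1, 2, 3, 5, 0, 0, 1, 2, 3, 1, 0, 1, 2, 3, 4, 1, 3, 2, 1, 0, 1, 2, 3, 2, 1, 0, 1, 2, 3, 2, 1, 0, 1, 0, 1, 0, 2, 1, 4, 3, 2, 1, 0, 3, 2, 1, 0, 0, 4, 1, 5, 2, 3, 5, 0, 4, 3, 3, 0, 3, 0, 1, 3,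 5, 0, 1, 2, 3, 1, 5, 0, 5, 0, 4, 1, 5, 2, 3, 5, 0, 4, 3, 3, 0, 3, 0, 1, 3, 5, 0, 1, 2, 3, 1, 5, 0, 5, 2, 0, 4, 1, 5, 2, 3, 5, 0, 4, 3, 3, 0, 3, 0, 1, 3, 5, 0, 1, 2, 3, 1, 5, 0, 5, 2, 5, 0, 5, 1, 5, 3, 2, 1, 0, 0, 0, 0, 5, 4, 0, 3, 5, 1, 3, 5, 0, 1, 4, 4, 1, 4, 5, 3, 0, 5, 4, 4, 5, 2, 3, 2, 1, 0, 0, 1, 2, 3, 0, 1, 2, 3, 5, 0, 0, 1, 2, 3, 1, 0, 1, 2, 3, 4, 1, 3, 2, 1, 0, 1, 2, 3, 2, 1, 0, 1, 2, 3, 2, 1, 0, 1, 0, 1, 0, 2, 1, 4, 3, 2, 1, 0, 3, 2, 1, 0, 0, 4, 1, 5, 2, 3, 5, 0, 4, 3, 3, 0, 3, 0, 1, 3, 5, 0, 1, 2, 3, 1, 5, 0, 5, 0, 4, 1, 5, 2, 3, 5, 0, 4, 3, 3, 0, 3, 0, 1, 3, 5, 0, 1, 2, 3, 1, 5, 0, 5, 2, 0, 4, 1, 5, 2, 3, 5, 0, 4, 3,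 3, 0, 3, 0, 1, 3, 5, 0, 1, 2, 3, 1, 5, 0, 5, 2, 5, 0, 5, 1, 5, 3, 2, 1, 0, 0, 0, 0, 5, 4, 0, 3, 5, 1, 3, 5, 0, 0, 5, 3, 1, 5, 3, 0, 4, 5, 0, 0, 0, 0, 1, 2, 3, 5, 1, 5, 0, 5, 2, 5, 0, 5, 1, 3, 2, 1, 0, 5, 3, 1, 0, 3, 0, 3, 3, 4, 0, 5, 3, 2, 5, 1, 4, 0, 2, 5, 0, 5, 1, 3, 2, 1, 0, 5, 3, 1, 0, 3, 0, 3, 3, 4, 0, 5, 3, 2, 5, 1, 4, 0, 5, 0, 5, 1, 3, 2, 1, 0, 5, 3, 1, 0, 3, 0, 3, 3, 4, 0, 5, 3, 2, 5, 1, 4, 0, 0, 1, 2, 3, 0, 1, 2, 3, 4, 1, 2, 0, 1, 0, 1, 0, 1, 2, 3, 2, 1, 0, 1, 2, 3, 2, 1, 0, 1, 2, 3, 1, 3, 2, 1, 0, 1, 3, 2, 1, 0, 3, 2, 1, 0, 3, 2, 1, 0, 0, 1, 0, 1, 2, 1, 4, 3, 2, 1, 0, 3, 2, 1, 0, 0, 4, 1, 5, 2, 3, 5, 0, 4, 3, 3, 0, 3,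 0, 1, 3, 5, 0, 1, 2, 3, 1, 5, 0, 5, 3, 2, 1, 0, 0, 3, 2, 1, 0, 0, 4, 1, 5, 2, 3, 5, 0, 4, 3, 3, 0, 3, 0, 1, 3, 5, 0, 1, 2, 3, 1, 5, 0, 5, 2, 5, 1]]), (2, [[2, 0, 5, 0, 1, 0, 5]]), (2, [[2, 0, 5, 0, 5]]), (2, [[2, 1, 3, 2, 1, 0, 1, 2, 3, 2, 1, 0, 1, 2, 3, 2, 1, 0, 1, 0, 1, 0, 2, 5, 2, 5, 3, 2, 1, 0, 1]]), (3, [[2, 1, 5, 4, 3, 4, 5, 5, 2, 5, 0, 0, 5, 4, 1, 0, 0, 1, 2, 3, 5, 4, 1, 0, 0, 1, 2, 3, 2, 1, 0, 1, 2, 3, 1, 0, 1, 2, 4, 3, 2, 1, 0, 1, 5, 2, 5, 0, 1, 4, 5, 5, 3, 1, 0, 3, 0, 3, 3, 4, 0, 5, 3, 2, 5, 1, 4, 0, 0, 2, 5, 5, 5, 4, 2, 2, 5, 0, 0, 1, 2, 3, 0, 1, 2, 3, 4, 1, 0, 0, 1, 2, 3, 0, 1, 2, 3, 2, 1, 0, 1, 2, 3, 3, 2, 1, 0, 1,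 3, 2, 1, 0, 3, 2, 1, 0, 0, 1, 0, 2, 1, 4, 3, 2, 1, 0, 1, 3, 2, 1, 0, 0, 5, 3, 1, 5, 3, 0, 4, 5, 0, 0, 0, 0, 5, 2, 5, 1, 2, 0, 4, 1, 5, 2, 3, 5, 0, 4, 3, 3, 0, 3, 0, 1, 3, 5, 5, 4, 1, 0, 5, 2, 5, 1, 0, 1, 2, 3, 4, 2, 1, 0, 5, 0, 1, 5, 4, 3, 2, 1, 0, 3, 2, 1, 0, 5, 1, 3, 3, 4, 1, 2, 1, 5, 1, 3, 2, 0, 3, 4, 5, 0, 1, 5, 1, 2, 5, 1, 0, 5, 4, 3, 0, 2, 3, 1, 5, 1, 2, 1, 4, 3, 3, 1, 5, 0, 1, 2, 3, 0, 1, 2, 3, 4, 5, 1, 0, 5, 0, 1, 2, 4, 3, 2, 1, 0, 1, 5, 2, 5, 0, 1, 4, 5, 5, 3, 1, 0, 3, 0, 3, 3, 4, 0, 5, 3, 2, 5, 1, 4, 0, 2, 1, 5, 2, 5, 0, 0, 0, 0, 5, 4, 0, 3, 5, 1, 3, 5, 0, 0, 1, 2, 3, 1, 0, 1, 2, 3, 4, 1, 2, 0, 1, 0, 0, 1, 2, 3, 0, 1,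 2, 3, 1, 0, 1, 2, 3, 3, 2, 1, 0, 3, 2, 1, 0, 1, 3, 2, 1, 0, 3, 2, 1, 0, 0, 1, 0, 1, 2, 1, 4, 3, 2, 1, 0, 3, 2, 1, 0, 1, 0, 5, 3, 1, 5, 3, 0, 4, 5, 0, 0, 0, 0, 5, 2, 5, 1, 0, 4, 1, 5, 2, 3, 5, 0, 4, 3, 3, 0, 3, 0, 1, 3, 5, 5, 4, 1, 0, 5, 2, 5, 1, 0, 1, 2, 3, 4, 2, 1, 0, 3, 2, 1, 0, 3, 2, 1, 0], [2, 1, 5, 4, 3, 4, 5, 5, 2, 5, 0, 0, 5, 4, 1, 0, 0, 1, 2, 3, 5, 4, 1, 0, 0, 1, 2, 3, 2, 1, 0, 1, 2, 3, 1, 0, 1, 2, 4, 3, 2, 1, 0, 1, 5, 2, 5, 0, 1, 4, 5, 5, 3, 1, 0, 3, 0, 3, 3, 4, 0, 5, 3, 2, 5, 1, 4, 0, 2, 0, 4, 1, 5, 2, 3, 5, 0, 4, 3, 3, 0, 3, 0, 1, 3, 5, 5, 4, 1, 0, 5, 2, 5, 1, 0, 1, 2, 3, 4, 2, 1, 0, 5, 1, 0, 5, 4, 3, 0, 2, 3, 1, 5,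 1, 2, 1, 4, 3, 3, 1, 5, 0, 1, 2, 3, 0, 1, 2, 3, 4, 5, 1, 0, 5, 0, 1, 2, 4, 3, 2, 1, 0, 1, 5, 2, 5, 0, 1, 4, 5, 5, 3, 1, 0, 3, 0, 3, 3, 4, 0, 5, 3, 2, 5, 1, 4, 0, 2, 1, 5, 2, 5, 0, 0, 0, 0, 5, 4, 0, 3, 5, 1, 3, 5, 0, 0, 1, 2, 3, 1, 0, 1, 2, 3, 4, 1, 2, 0, 1, 0, 0, 1, 2, 3, 0, 1, 2, 3, 1, 0, 1, 2, 3, 1, 3, 2, 1, 0, 3, 2, 1, 0, 1, 3, 2, 1, 0, 0, 1, 0, 4, 3, 2, 1, 0, 3, 2, 1, 0, 0, 0, 5, 3, 1, 5, 3, 0, 4, 5, 0, 0, 0, 0, 5, 2, 5, 0, 2, 0, 5, 3, 1, 5, 3, 0, 4, 5, 0, 0, 0, 0, 5, 2, 5, 3, 2, 1, 0, 5, 0, 3, 2, 1, 0, 0, 5]]), (3, [[1, 2, 3, 2, 1, 0, 3, 2, 1, 0, 1, 3, 2, 1, 0, 3, 2, 1, 0, 0, 1, 0, 4, 0, 4, 1, 5, 2, 3, 5, 0, 4, 3, 3, 0, 3,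 0, 1, 3, 5, 5, 4, 5, 0, 1, 2, 3, 5, 2, 5, 2, 1], [2, 1, 3, 2, 1, 0, 3, 2, 1, 0, 1, 0, 1, 0, 1, 2, 1, 4, 0, 4, 1, 5, 2, 3, 5, 0, 4, 3, 3, 0, 3, 0, 1, 3, 5, 5, 4, 5, 0, 1, 2, 3, 5, 2, 5, 0, 1, 3, 2, 1, 0, 3, 2, 1, 0, 3, 2, 1, 0, 5, 0, 1, 3, 2, 1, 0, 5, 0, 1]]), (3, [[2, 1, 3, 2, 1, 0, 3, 2, 1, 0, 3, 2, 1, 0, 3, 2, 1, 0, 3, 2, 1, 0, 3, 2, 1, 0, 1, 0, 1, 0, 1, 2, 1, 4, 0, 4, 1, 5, 2, 3, 5, 0, 4, 3, 3, 0, 3, 0, 1, 3, 5, 5, 4, 0, 5, 1, 5, 1, 3, 2, 1, 0, 1], [0, 5, 0, 5, 2, 5, 0, 5]])]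

/-- The representatives. -/
def repJ : List ℕ := [0, 1, 2, 3, 4, 5, 9, 11, 12, 63, 64, 65, 66, 67, 79, 80, 81, 84, 111, 112]

/-- Conjugators to the listed involutions. -/
def conjJ0 : List (ℕ × List ℕ) := [(0, []), (1, []), (2, []), (3, []), (4, []), (5, []), (2, [3, 4, 1, 2, 1, 4, 3, 2, 0, 1, 0]), (1, [3, 4, 1, 2, 1, 4, 3, 2, 0, 1, 0]), (3, [3, 4, 1, 2, 1, 4, 3, 2, 0, 1, 0]), (6, []), (3, [2, 3, 2]), (7, []), (8, []), (1, [2, 3, 2]), (2, [2, 3, 2]), (2, [1, 0, 3, 0, 1, 0, 1, 2, 1, 3, 2, 1, 3, 0]), (6, [2, 3, 2]), (8, [3, 4, 1, 2, 1, 4, 3, 2, 0, 1, 0]), (5, [3, 4, 1, 2, 1, 4, 3, 2, 0, 1, 0]), (5, [2, 3, 2]), (6, [3, 4, 1, 2,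 1, 4, 3, 2, 0, 1, 0]), (6, [1, 0, 3, 0, 1, 0, 1, 2, 1, 3, 2, 1, 3, 0]), (8, [2, 3, 2]), (1, [1, 0, 3, 0, 1, 0, 1, 2, 1, 3, 2, 1, 3, 0]), (3, [1, 0, 3, 0, 1, 0, 1, 2, 1, 3, 2, 1, 3, 0]), (8, [1, 0, 3, 0, 1, 0, 1, 2, 1, 3, 2, 1, 3, 0]), (5, [1, 0, 3, 0, 1, 0, 1, 2, 1, 3, 2, 1, 3, 0]), (3, [3, 4, 2, 1, 3, 0, 3, 0, 1, 0, 2, 1, 0, 2, 0, 4, 3, 1, 2, 3, 4, 1, 2, 3, 2, 0]), (3, [2, 3, 2, 0, 3, 4, 1, 0, 3, 0, 1, 0, 1, 2, 4, 1, 4, 3, 2, 3, 1, 2, 3, 4, 3, 2, 1, 4, 3, 2, 3, 0, 1, 0, 2, 4, 3, 4, 0, 1, 2, 1, 4, 3, 2, 1, 4, 0, 1, 2, 3, 1, 4, 3]), (3, [1, 0, 4, 0, 1, 2, 3, 2]), (1, [1, 0, 4, 0, 1, 2, 3, 2]), (2, [1, 0, 4, 0, 1, 2, 3, 2]), (5,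 [1, 0, 4, 0, 1, 2, 3, 2]), (5, [3, 4, 2, 1, 3, 0, 3, 0, 1, 0, 2, 1, 0, 2, 0, 4, 3, 1, 2, 3, 4, 1, 2, 3, 2, 0]), (5, [2, 3, 2, 0, 3, 4, 1, 0, 3, 0, 1, 0, 1, 2, 4, 1, 4, 3, 2, 3, 1, 2, 3, 4, 3, 2, 1, 4, 3, 2, 3, 0, 1, 0, 2, 4, 3, 4, 0, 1, 2, 1, 4, 3, 2, 1, 4, 0, 1, 2, 3, 1, 4, 3]), (6, [1, 0, 4, 3, 0, 1, 0, 1, 2, 1, 3, 2, 1, 3, 0]), (8, [1, 0, 4, 0, 1, 2, 3, 2]), (1, [3, 4, 2, 1, 3, 0, 3, 0, 1, 0, 2, 1, 0, 2, 0, 4, 3, 1, 2, 3, 4, 1, 2, 3, 2, 0]), (6, [0, 3, 2, 3, 1, 2, 4, 0, 3, 4, 0, 3, 2, 1, 0, 1, 2, 0, 3, 2]), (8, [3, 4, 2, 1, 3, 0, 3, 0, 1, 0, 2, 1, 0, 2, 0, 4, 3, 1, 2, 3, 4, 1, 2, 3, 2, 0]), (8, [2, 3, 2, 0, 3, 4, 1, 0, 3, 0,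 1, 0, 1, 2, 4, 1, 4, 3, 2, 3, 1, 2, 3, 4, 3, 2, 1, 4, 3, 2, 3, 0, 1, 0, 2, 4, 3, 4, 0, 1, 2, 1, 4, 3, 2, 1, 4, 0, 1, 2, 3, 1, 4, 3]), (6, [2, 3, 2, 0, 3, 4, 1, 0, 3, 4, 2, 4, 3, 2, 1, 0, 2, 3, 1, 2, 1, 0, 2, 3, 2, 0, 1, 4, 3, 2, 3, 1, 4, 2, 3, 0]), (6, [1, 0, 4, 0, 1, 2, 3, 2]), (1, [2, 3, 2, 0, 3, 4, 1, 0, 3, 0, 1, 0, 1, 2, 4, 1, 4, 3, 2, 3, 1, 2, 3, 4, 3, 2, 1, 4, 3, 2, 3, 0, 1, 0, 2, 4, 3, 4, 0, 1, 2, 1, 4, 3, 2, 1, 4, 0, 1, 2, 3, 1, 4, 3]), (6, [3, 4, 2, 1, 3, 0, 3, 0, 1, 0, 2, 1, 0, 2, 0, 4, 3, 1, 2, 3, 4, 1, 2, 3, 2, 0]), (6, [2, 3, 2, 0, 3, 4, 1, 0, 3, 0, 1, 0, 1, 2, 4, 1, 4, 3, 2, 3, 1, 2, 3, 4, 3, 2, 1, 4, 3, 2, 3, 0,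 1, 0, 2, 4, 3, 4, 0, 1, 2, 1, 4, 3, 2, 1, 4, 0, 1, 2, 3, 1, 4, 3]), (2, [3, 4, 2, 1, 3, 0, 3, 0, 1, 0, 2, 1, 0, 2, 0, 4, 3, 1, 2, 3, 4, 1, 2, 3, 2, 0]), (2, [2, 3, 2, 0, 3, 4, 1, 0, 3, 0, 1, 0, 1, 2, 4, 1, 4, 3, 2, 3, 1, 2, 3, 4, 3, 2, 1, 4, 3, 2, 3, 0, 1, 0, 2, 4, 3, 4, 0, 1, 2, 1, 4, 3, 2, 1, 4, 0, 1, 2, 3, 1, 4, 3]), (2, [1, 0, 4, 3, 0, 1, 0, 1, 2, 1, 3, 2, 1, 3, 0]), (2, [0, 3, 2, 3, 1, 2, 4, 0, 3, 4, 0, 3, 2, 1, 0, 1, 2, 0, 3, 2]), (2, [2, 3, 2, 0, 3, 4, 1, 0, 3, 4, 2, 4, 3, 2, 1, 0, 2, 3, 1, 2, 1, 0, 2, 3, 2, 0, 1, 4, 3, 2, 3, 1, 4, 2, 3, 0]), (1, [1, 0, 4, 3, 0, 1, 0, 1, 2, 1, 3, 2, 1, 3, 0]), (3, [1, 0, 4, 3, 0, 1, 0, 1,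 2, 1, 3, 2, 1, 3, 0]), (8, [1, 0, 4, 3, 0, 1, 0, 1, 2, 1, 3, 2, 1, 3, 0]), (1, [0, 3, 2, 3, 1, 2, 4, 0, 3, 4, 0, 3, 2, 1, 0, 1, 2, 0, 3, 2]), (8, [0, 3, 2, 3, 1, 2, 4, 0, 3, 4, 0, 3, 2, 1, 0, 1, 2, 0, 3, 2]), (8, [2, 3, 2, 0, 3, 4, 1, 0, 3, 4, 2, 4, 3, 2, 1, 0, 2, 3, 1, 2, 1, 0, 2, 3, 2, 0, 1, 4, 3, 2, 3, 1, 4, 2, 3, 0]), (3, [2, 3, 2, 0, 3, 4, 1, 0, 3, 4, 2, 4, 3, 2, 1, 0, 2, 3, 1, 2, 1, 0, 2, 3, 2, 0, 1, 4, 3, 2, 3, 1, 4, 2, 3, 0]), (1, [2, 3, 2, 0, 3, 4, 1, 0, 3, 4, 2, 4, 3, 2, 1, 0, 2, 3, 1, 2, 1, 0, 2, 3, 2, 0, 1, 4, 3, 2, 3, 1, 4, 2, 3, 0]), (5, [1, 0, 4, 3, 0, 1, 0, 1, 2, 1, 3, 2, 1, 3, 0]), (3, [0, 3, 2, 3, 1, 2, 4, 0,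 3, 4, 0, 3, 2, 1, 0, 1, 2, 0, 3, 2]), (5, [0, 3, 2, 3, 1, 2, 4, 0, 3, 4, 0, 3, 2, 1, 0, 1, 2, 0, 3, 2]), (5, [2, 3, 2, 0, 3, 4, 1, 0, 3, 4, 2, 4, 3, 2, 1, 0, 2, 3, 1, 2, 1, 0, 2, 3, 2, 0, 1, 4, 3, 2, 3, 1, 4, 2, 3, 0]), (9, []), (10, []), (11, []), (12, []), (13, []), (13, [1, 0, 2, 0, 4, 3, 2, 1, 3, 4, 3, 2, 4, 1, 4, 3, 2, 3, 4, 2, 0, 1, 0, 1, 2, 0, 3, 2, 1, 3, 0, 3, 4, 2, 4, 3, 2, 1, 4, 3, 2, 3, 0, 1, 0, 2, 4, 3, 4, 0, 1, 2, 4, 3, 2, 4, 3, 2, 1, 0, 2, 0, 3, 2, 4, 3, 4]), (13, [3, 1, 4, 2, 0, 3, 2, 3, 4, 2, 1, 0, 3, 2, 1, 2, 0, 3, 1, 2, 3, 4, 2, 3, 2, 1, 2, 3, 2, 0, 2, 4, 3, 2, 3, 1, 2, 1, 4, 3, 2, 4, 3, 2, 1, 0, 2, 0, 3, 2, 4,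 3, 4])]

/-- Conjugators to the listed involutions. -/
def conjJ1 : List (ℕ × List ℕ) := [(13, [2, 3, 2, 0, 3, 4, 1, 0, 2, 1, 0, 2, 4, 3, 2, 1, 0, 1, 2, 3, 4]), (13, [1, 3, 2, 3, 1, 0, 4, 3, 0, 1, 2, 3, 1]), (13, [3, 1, 4, 2, 0, 3, 2, 3, 4, 3, 0, 1, 0, 1, 0, 1, 2, 3, 1, 2, 1, 3, 2, 1, 3, 2, 0, 1, 0, 3, 2, 3, 2, 1, 2, 0, 3, 2, 4, 3, 2, 0, 1, 3, 0, 4, 2, 1, 3, 2, 3, 1, 2, 4, 2, 3, 0, 3, 2, 0, 1, 4, 3, 2, 3, 1, 4, 2, 3, 0]), (13, [4]), (13, [1, 0, 4, 2, 0, 4, 3, 2, 1, 3, 4, 3, 2, 4, 1, 4, 3, 2, 3, 4, 2, 0, 1, 0, 1, 2, 0, 3, 2, 1, 3, 0, 3, 4, 2, 4, 3, 2, 1, 4, 3, 2, 3, 0, 1, 0, 2, 4, 3, 4, 0, 1, 2, 4, 3, 2, 4, 3, 2, 1, 0, 2, 0, 3,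 2, 4, 3, 4]), (13, [3, 2, 3, 0, 1, 2, 3, 4, 0, 1, 0, 2, 3, 2, 4, 1, 3, 2, 4, 2, 4, 3, 2, 1, 4, 3, 2, 0, 1, 3, 0, 4, 0, 2, 3, 2, 3, 2, 1, 4, 0, 1, 2, 3, 1, 4, 3]), (13, [3, 4, 2, 3, 2, 3, 4, 3, 4, 3, 2, 1, 3, 4, 3, 2, 4, 1, 3, 2, 4, 1, 3, 4]), (13, [4, 3, 2, 3, 0, 1, 2, 3, 4, 0, 1, 0, 2, 3, 2, 4, 1, 3, 2, 4, 2, 4, 3, 2, 1, 4, 3, 2, 0, 1, 3, 0, 4, 0, 2, 3, 2, 3, 2, 1, 4, 0, 1, 2, 3, 1, 4, 3]), (13, [1, 3, 2, 3, 1, 0, 4, 3, 0, 4, 3, 2, 1, 0, 2, 4, 3, 1, 2, 4, 1, 3, 2, 1, 3, 4, 2, 4, 3, 2, 1, 0, 1, 2, 3, 4]), (14, []), (15, []), (16, []), (15, [3, 4, 1, 2, 1, 4, 3, 2, 0, 1, 0]), (15, [2, 3, 2]), (17, []), (15, [1, 0, 3, 0, 1, 0, 1,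 2, 1, 3, 2, 1, 3, 0]), (17, [1, 0, 1]), (17, [1, 0, 4, 1]), (15, [1, 0, 4, 0, 1, 2, 3, 2]), (17, [3, 4, 2, 3, 4, 3, 0, 2, 1, 2, 3, 4, 2, 1, 4, 0, 1, 3, 0, 2, 1, 3, 2, 1, 3, 2, 0, 1, 0, 3, 1, 4, 2, 3, 2, 3, 4, 3, 2, 1, 4, 0, 1, 2, 0, 4, 3, 1, 2, 1, 2, 1, 4, 0, 1, 2, 3, 1, 4, 3]), (17, [3, 2, 0, 1, 0, 4, 3, 4, 2, 3, 4, 0, 3, 4, 3, 1, 2, 1, 3, 2, 3, 4, 3, 0, 1, 0, 2, 3, 1, 2, 1, 4, 0, 2]), (17, [3, 4, 0, 1, 0, 3, 2, 1, 2, 0, 2, 4, 3, 2, 1, 0, 1, 2, 3, 4]), (17, [2, 3, 2, 0, 3, 4, 1, 0, 3, 0, 1, 2, 3, 2, 4, 3, 2, 1, 3, 4, 3, 2, 4, 1, 3, 2, 4, 1, 3, 4]), (17, [0, 3, 2, 3, 1, 2, 4, 0, 3, 4, 3, 2, 1, 0]), (17, [3, 0, 2, 1, 2, 3, 4, 0,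 2, 0, 1, 0, 1, 2, 4, 1, 4, 3, 2, 3, 1, 2, 3, 2, 3, 2, 1, 3, 2, 0, 1, 0, 3, 1, 4, 2, 3, 2, 3, 4, 3, 1, 2, 3, 0, 4, 1, 2, 4, 3, 0, 4, 2, 4, 3, 2, 1, 0, 1, 2, 3, 4]), (17, [3, 1, 0, 2, 3, 1, 2, 4, 3, 4, 2, 1, 0, 2, 4, 3, 2, 1, 4, 3, 0, 1, 3, 2, 1, 0, 3, 4, 3, 0, 2, 1]), (17, [3, 4, 2, 3, 2, 3, 4, 3, 4, 3, 2, 1, 3, 4, 3, 2, 4, 1, 3, 2, 4, 1, 3, 4]), (17, [2, 0, 1, 2, 3, 2, 4, 0, 4, 0, 1, 2, 1, 4, 3, 0, 1, 2, 3, 1, 3, 4, 3, 2, 3, 1, 2, 3, 0, 4, 1, 2, 3, 4]), (17, [4, 3, 2, 4, 3, 4, 3, 0, 2, 1, 2, 3, 4, 2, 1, 4, 0, 1, 3, 0, 2, 1, 3, 2, 1, 3, 2, 0, 1, 0, 3, 1, 4, 2, 3, 2, 3, 4, 3, 2, 1, 4, 0, 1, 2, 0, 4, 3, 1, 2, 1, 2, 1, 4, 0, 1, 2,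 3, 1, 4, 3]), (17, [2, 3, 4, 2]), (17, [4, 2, 0, 1, 2, 3, 4, 1, 0, 2, 3, 1, 2, 3, 4, 3, 2, 1, 3, 4, 3, 2, 4, 1, 3, 2, 4, 1, 3, 4]), (17, [4]), (15, [3, 4, 2, 1, 3, 0, 3, 0, 1, 0, 2, 1, 0, 2, 0, 4, 3, 1, 2, 3, 4, 1, 2, 3, 2, 0]), (15, [2, 3, 2, 0, 3, 4, 1, 0, 3, 0, 1, 0, 1, 2, 4, 1, 4, 3, 2, 3, 1, 2, 3, 4, 3, 2, 1, 4, 3, 2, 3, 0, 1, 0, 2, 4, 3, 4, 0, 1, 2, 1, 4, 3, 2, 1, 4, 0, 1, 2, 3, 1, 4, 3]), (15, [1, 0, 4, 3, 0, 1, 0, 1, 2, 1, 3, 2, 1, 3, 0]), (17, [2, 3, 4, 2, 1, 0, 1]), (17, [3, 1, 4, 2, 0, 3, 2, 3, 4, 3, 0, 1, 0, 1, 0, 1, 2, 3, 1, 2, 1, 2, 1, 3, 2, 0, 1, 0, 3, 1, 4, 2, 3, 2, 3, 4, 3, 1, 2, 3, 0, 4, 1, 2, 4, 3, 0, 4, 2, 1,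 4, 3, 2, 4, 3, 2, 1, 0, 2, 0, 3, 2, 4, 3, 4]), (15, [0, 3, 2, 3, 1, 2, 4, 0, 3, 4, 0, 3, 2, 1, 0, 1, 2, 0, 3, 2]), (17, [3, 4, 2, 1, 3, 0, 3, 2, 1, 0, 1, 2, 4, 3, 2, 1, 4, 0, 1, 2, 3, 1, 4, 3]), (17, [1, 3, 2, 3, 1, 0, 4, 3, 0, 1, 2, 3, 1]), (15, [2, 3, 2, 0, 3, 4, 1, 0, 3, 4, 2, 4, 3, 2, 1, 0, 2, 3, 1, 2, 1, 0, 2, 3, 2, 0, 1, 4, 3, 2, 3, 1, 4, 2, 3, 0]), (18, []), (19, []), (18, [4]), (18, [1, 0, 1]), (19, [1, 0, 1]), (19, [2, 3, 2, 0, 3, 4, 1, 0, 3, 0, 1, 2, 3, 2, 4, 3, 2, 1, 3, 4, 3, 2, 4, 1, 3, 2, 4, 1, 3, 4]), (19, [3, 4, 2, 3, 2, 3, 4, 3, 4, 3, 2, 1, 3, 4, 3, 2, 4, 1, 3, 2, 4, 1, 3, 4]), (19, [4]), (18, [3, 4, 2, 3, 2, 3,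 4, 3, 4, 3, 2, 1, 3, 4, 3, 2, 4, 1, 3, 2, 4, 1, 3, 4]), (18, [2, 3, 2, 0, 3, 4, 1, 0, 3, 0, 1, 2, 3, 2, 4, 3, 2, 1, 3, 4, 3, 2, 4, 1, 3, 2, 4, 1, 3, 4]), (19, [1, 0, 4, 1]), (18, [1, 0, 4, 1]), (18, [3, 1, 4, 2, 0, 3, 2, 3, 4, 3, 1]), (18, [1, 3, 2, 3, 1, 0, 4, 3, 0, 1, 2, 3, 1]), (19, [3, 1, 4, 2, 0, 3, 2, 3, 4, 3, 1]), (19, [1, 3, 2, 3, 1, 0, 4, 3, 0, 1, 2, 3, 1]), (9, [2, 3, 2]), (11, [2, 3, 2]), (10, [2, 3, 2]), (12, [2, 3, 2]), (13, [0, 3, 2, 3, 1, 2, 4, 0, 3, 4, 0, 1, 2, 3, 1]), (13, [4, 3, 2, 4, 3, 4, 3, 2, 1, 0, 3, 2, 1, 2, 0, 2, 4, 3, 2, 1, 4, 3, 2, 3, 0, 1, 0, 2, 4, 3, 4, 0, 1, 2, 1, 3, 2, 0, 1, 4, 3, 2, 3, 1, 4, 2, 3,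 0]), (13, [2, 3, 4, 3, 0, 4, 3, 2, 1, 0, 2, 4, 3, 1, 2, 4, 1, 3, 2, 1, 3, 4, 3, 0, 2, 3, 4, 3, 2, 1, 4, 2, 3, 0, 4, 2, 1, 3, 2, 4, 3, 2, 1, 3, 4, 3, 2, 4, 1, 3, 2, 4, 1, 3, 4]), (13, [2, 3, 4, 2]), (13, [3, 4, 2, 1, 3, 4, 3, 2, 1, 0, 2, 4, 3, 1, 2, 4, 1, 3, 2, 1, 3, 4, 3, 0, 2, 3, 4, 3, 2, 1, 4, 2, 3, 0, 4, 2, 1, 3, 2, 1, 4, 3, 2, 4, 3, 2, 1, 0, 2, 0, 3, 2, 4, 3, 4]), (13, [0, 3, 2, 3, 1, 2, 4, 0, 3, 4, 3, 2, 1, 0, 2, 4, 3, 2, 1, 4, 3, 0, 1, 3, 2, 1, 0, 3, 4, 3, 0, 2]), (13, [0, 1, 0, 1, 2, 4, 1, 4, 3, 2, 3, 1, 2, 3, 2]), (13, [1, 3, 4, 3, 1, 2, 1, 3, 2, 3, 4, 3, 0, 1, 0, 2, 3, 1, 2, 1, 4, 0, 1, 2, 4, 3, 2, 1, 3, 4, 3, 2, 4, 1,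 3, 2, 4, 1, 3, 4]), (13, [4, 3, 2, 4, 3, 4, 0, 1, 0, 1, 0, 1, 2, 3, 1, 2, 1, 3, 0, 1, 2, 3, 2, 4, 3, 2, 3, 4, 1, 0, 3, 1, 2, 3, 0, 4, 2, 0, 1, 2, 3, 2, 1, 2, 0, 1, 3, 4, 3, 0, 2, 3, 4, 3, 2, 1, 3, 4, 3, 2, 4, 1, 3, 2, 4, 1, 3, 4])]

/-- Conjugators to the listed involutions. -/
def conjJ2 : List (ℕ × List ℕ) := [(13, [2, 3, 4, 3, 4, 3, 2, 1, 4, 3, 0, 2, 1, 0, 1, 3, 2, 1, 2, 4, 3, 2, 4, 2, 0, 4, 3, 1, 2, 3, 4, 1, 2, 3, 2, 0, 4, 3, 2, 1, 3, 4, 3, 2, 4, 1, 3, 2, 4, 1, 3, 4]), (13, [4, 3, 2, 4, 3, 4, 2, 4, 3, 2, 1, 3, 4, 3, 2, 4, 1, 3, 2, 4, 1, 3, 4]), (13, [2, 3, 2]), (11, [3, 4, 1, 2, 1, 4, 3, 2, 0, 1, 0]), (10, [3, 4, 1, 2, 1, 4,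 3, 2, 0, 1, 0]), (9, [3, 4, 1, 2, 1, 4, 3, 2, 0, 1, 0]), (12, [3, 4, 1, 2, 1, 4, 3, 2, 0, 1, 0]), (13, [1, 0, 3, 0, 1, 2, 3, 0, 2, 1, 0, 3, 1, 2, 3, 1, 2]), (13, [0, 1, 0, 2, 3, 1, 2, 3, 1]), (13, [1, 0, 4, 3, 0, 1, 2, 3, 0, 2, 1, 0, 3, 1, 2, 3, 1, 2]), (13, [1, 3, 2, 3, 1, 0, 4, 3, 0, 4, 3, 2, 1, 0, 2, 4, 3, 1, 2, 4, 1, 3, 2, 1, 3, 4, 3, 1, 2, 3, 4, 2, 3, 2, 1, 2, 3, 2, 0, 2, 4, 3, 2, 3, 1, 2, 4, 3, 2, 1, 4, 0, 1, 2, 3, 1, 4, 3]), (13, [2, 3, 2, 0, 3, 4, 1, 0, 3, 1, 0, 1, 2, 3, 1, 0, 1, 2, 3, 2, 4, 3, 2, 3, 4, 1, 0, 3, 1, 2, 3, 0, 4, 2, 0, 1, 2, 3, 2, 1, 2, 0, 1, 3, 4, 3, 0, 2, 3, 1, 4, 3, 2, 4, 3, 2, 1, 0, 2, 0, 3, 2, 4, 3, 4]),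 (13, [4, 0, 1, 0, 2, 3, 1, 2, 3, 1]), (13, [4, 2, 4, 3, 2, 1, 4, 3, 0, 1, 3, 2, 1, 0, 3, 4, 3, 0, 2]), (13, [3, 1, 4, 2, 0, 3, 2, 3, 4, 3, 0, 1, 0, 1, 0, 1, 2, 3, 1, 2, 1, 2, 1, 3, 2, 0, 1, 0, 3, 1, 4, 2, 3, 2, 3, 4, 3, 1, 2, 3, 0, 4, 1, 2, 4, 3, 0, 4, 2, 1, 4, 3, 2, 4, 3, 2, 1, 0, 2, 0, 3, 2, 4, 3, 4]), (13, [1, 0, 3, 2, 3, 0, 1, 2, 3, 4, 0, 1, 0, 2, 3, 2, 4, 1, 3, 2, 4, 2, 3, 4, 3, 2, 3, 1, 2, 3, 0, 4, 1, 2, 3, 4]), (13, [3, 4, 1, 2, 1, 4, 3, 2, 0, 1, 0]), (13, [3, 4, 2, 3, 2, 3, 4, 2, 1, 0, 3, 2, 3, 1, 2, 3, 0, 1, 0, 2, 1, 3, 2, 0, 1, 0, 3, 1, 4, 2, 3, 2, 3, 4, 3, 2, 1, 4, 0, 1, 2, 0, 4, 3, 1, 2, 1, 2, 1, 4, 0, 1, 2, 3, 1, 4,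 3]), (13, [1, 3, 2, 3, 1, 0, 4, 2, 1, 0]), (11, [1, 0, 3, 0, 1, 0, 1, 2, 1, 3, 2, 1, 3, 0]), (9, [1, 0, 3, 0, 1, 0, 1, 2, 1, 3, 2, 1, 3, 0]), (10, [1, 0, 3, 0, 1, 0, 1, 2, 1, 3, 2, 1, 3, 0]), (12, [1, 0, 3, 0, 1, 0, 1, 2, 1, 3, 2, 1, 3, 0]), (13, [0, 3, 2, 3, 1, 2, 4, 0, 3, 4, 0, 4, 3, 2, 1, 0, 2, 4, 3, 1, 2, 4, 1, 3, 2, 1, 3, 4, 3, 1, 2, 3, 4, 2, 3, 2, 1, 2, 3, 2, 0, 2, 4, 3, 2, 3, 1, 2, 4, 3, 2, 1, 4, 0, 1, 2, 3, 1, 4, 3]), (13, [2, 3, 4, 3, 0, 4, 3, 2, 1, 0, 2, 4, 3, 1, 2, 4, 1, 3, 2, 1, 3, 4, 1, 2, 4, 3, 2, 1, 3, 4, 3, 2, 4, 1, 3, 2, 4, 1, 3, 4]), (13, [1, 0, 1, 2, 3, 2]), (13, [1, 0, 3, 0, 2, 1, 3, 0, 2, 1, 2, 3, 0, 2]), (13,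 [0, 3, 2, 3, 1, 2, 4, 0, 2, 1, 4, 3, 0, 2, 1, 0, 1, 3, 2, 1, 2, 4, 3, 2, 4, 3, 1]), (13, [2, 3, 0, 1, 2, 1, 4, 3, 0, 1, 2, 3, 1]), (13, [1, 0, 3, 0, 1, 0, 1, 2, 1, 3, 2, 1, 3, 0]), (13, [4, 3, 2, 4, 3, 4, 3, 0, 2, 1, 2, 3, 4, 2, 1, 4, 0, 1, 3, 0, 2, 1, 3, 2, 1, 3, 2, 0, 1, 0, 3, 1, 4, 2, 3, 2, 3, 4, 3, 2, 1, 4, 0, 1, 2, 0, 4, 3, 1, 2, 1, 2, 1, 4, 0, 1, 2, 3, 1, 4, 3]), (13, [4, 3, 2, 4, 2, 1, 0, 1, 2, 3, 4, 2, 4, 3, 2, 1, 3, 4, 3, 2, 4, 1, 3, 2, 4, 1, 3, 4]), (13, [1, 0, 1, 2, 3, 4, 2]), (13, [2, 0, 1, 2, 3, 2, 4, 0, 4, 3, 2, 1, 4, 0, 1, 2, 3, 1, 4, 3]), (13, [0, 3, 2, 3, 1, 2, 4, 0, 3, 4, 3, 2, 1, 0]), (18, [2, 3, 2]), (19, [2,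 3, 2]), (18, [2, 3, 2, 1, 0, 1]), (19, [2, 3, 2, 1, 0, 1]), (19, [3, 4, 2, 1, 3, 0, 3, 2, 1, 0, 2, 4, 3, 2, 1, 4, 0, 1, 2, 3, 1, 4, 3]), (19, [4, 3, 2, 4, 3, 4, 0, 1, 0, 1, 0, 1, 2, 3, 1, 2, 1, 3, 0, 1, 2, 3, 2, 4, 3, 2, 3, 4, 1, 0, 3, 1, 2, 3, 0, 4, 2, 0, 1, 2, 3, 2, 1, 2, 0, 1, 3, 4, 3, 0, 2, 3, 4, 3, 2, 1, 3, 4, 3, 2, 4, 1, 3, 2, 4, 1, 3, 4]), (18, [2, 3, 4, 2]), (18, [3, 4, 2, 1, 3, 0, 3, 2, 1, 0, 2, 4, 3, 2, 1, 4, 0, 1, 2, 3, 1, 4, 3]), (18, [4, 3, 2, 4, 3, 4, 0, 1, 0, 1, 0, 1, 2, 3, 1, 2, 1, 3, 0, 1, 2, 3, 2, 4, 3, 2, 3, 4, 1, 0, 3, 1, 2, 3, 0, 4, 2, 0, 1, 2, 3, 2, 1, 2, 0, 1, 3, 4, 3, 0, 2, 3, 4, 3, 2, 1, 3, 4, 3, 2, 4,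 1, 3, 2, 4, 1, 3, 4]), (19, [2, 3, 4, 2]), (18, [2, 3, 4, 2, 1, 0, 1]), (18, [0, 3, 2, 3, 1, 2, 4, 0, 3, 4, 0, 1, 2, 3, 1]), (18, [2, 0, 1, 2, 3, 2, 4, 0, 2, 4, 3, 2, 1, 4, 3, 0, 1, 3, 2, 1, 0, 3, 4, 3, 0, 2, 1, 4, 3, 2, 1, 0, 1, 2, 3, 4]), (19, [2, 3, 4, 2, 1, 0, 1]), (19, [0, 3, 2, 3, 1, 2, 4, 0, 3, 4, 0, 1, 2, 3, 1]), (19, [2, 0, 1, 2, 3, 2, 4, 0, 2, 4, 3, 2, 1, 4, 3, 0, 1, 3, 2, 1, 0, 3, 4, 3, 0, 2, 1, 4, 3, 2, 1, 0, 1, 2, 3, 4]), (19, [1, 0, 3, 0, 1, 0, 1, 2, 1, 3, 2, 1, 3, 0]), (19, [3, 0, 2, 1, 2, 3, 4, 2, 1, 4, 0, 1, 3, 0, 1]), (18, [1, 0, 3, 0, 1, 0, 1, 2, 1, 3, 2, 1, 3, 0]), (18, [3, 0, 2, 1, 2, 3, 4, 2, 1, 4, 0, 1, 3,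 0, 1]), (18, [0, 3, 2, 3, 1, 2, 4, 0, 3, 4, 3, 2, 1, 0]), (18, [2, 0, 1, 2, 3, 2, 4, 0, 4, 0, 1, 2, 1, 4, 3, 0, 1, 2, 3, 1, 3, 4, 3, 2, 3, 1, 2, 3, 0, 4, 1, 2, 3, 4]), (18, [1, 0, 1, 2, 3, 4, 2]), (18, [3, 4, 2, 1, 3, 0, 3, 2, 1, 0, 1, 2, 4, 3, 2, 1, 4, 0, 1, 2, 3, 1, 4, 3]), (19, [3, 4, 2, 1, 3, 0, 3, 2, 1, 0, 1, 2, 4, 3, 2, 1, 4, 0, 1, 2, 3, 1, 4, 3]), (18, [4, 3, 2, 4, 3, 4, 3, 0, 2, 1, 2, 3, 4, 2, 1, 4, 0, 1, 3, 0, 2, 1, 3, 2, 1, 3, 2, 0, 1, 0, 3, 1, 4, 2, 3, 2, 3, 4, 3, 2, 1, 4, 0, 1, 2, 0, 4, 3, 1, 2, 1, 2, 1, 4, 0, 1, 2, 3, 1, 4, 3]), (19, [1, 0, 1, 2, 3, 4, 2]), (19, [2, 3, 4, 3, 0, 4, 3, 2, 1, 0, 2, 4, 3, 1, 2, 4, 1, 3,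 2, 1, 3, 4, 1, 2, 4, 3, 2, 1, 3, 4, 3, 2, 4, 1, 3, 2, 4, 1, 3, 4]), (18, [2, 3, 4, 3, 0, 4, 3, 2, 1, 0, 2, 4, 3, 1, 2, 4, 1, 3, 2, 1, 3, 4, 1, 2, 4, 3, 2, 1, 3, 4, 3, 2, 4, 1, 3, 2, 4, 1, 3, 4]), (19, [2, 0, 1, 2, 3, 2, 4, 0, 4, 0, 1, 2, 1, 4, 3, 0, 1, 2, 3, 1, 3, 4, 3, 2, 3, 1, 2, 3, 0, 4, 1, 2, 3, 4]), (19, [0, 3, 2, 3, 1, 2, 4, 0, 3, 4, 3, 2, 1, 0]), (19, [4, 3, 2, 4, 3, 4, 3, 0, 2, 1, 2, 3, 4, 2, 1, 4, 0, 1, 3, 0, 2, 1, 3, 2, 1, 3, 2, 0, 1, 0, 3, 1, 4, 2, 3, 2, 3, 4, 3, 2, 1, 4, 0, 1, 2, 0, 4, 3, 1, 2, 1, 2, 1, 4, 0, 1, 2, 3, 1, 4, 3]), (18, [3, 4, 1, 2, 1, 4, 3, 2, 0, 1, 0]), (18, [1, 0, 3, 2, 1, 0, 3, 2, 1, 2, 0, 1, 2]),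 (18, [1, 0, 4, 0, 1, 0, 1, 0, 1, 2, 3, 1, 2, 1, 2, 1, 3, 2, 0, 1, 0, 3, 1, 4, 2, 3, 2, 3, 4, 3, 1, 2, 3, 0, 4, 1, 2, 4, 3, 0, 4, 2, 1, 4, 3, 2, 4, 3, 2, 1, 0, 2, 0, 3, 2, 4, 3, 4])]

/-- Conjugators to the listed involutions. -/
def conjJ3 : List (ℕ × List ℕ) := [(19, [1, 0, 3, 2, 1, 0, 3, 2, 1, 2, 0, 1, 2]), (19, [1, 0, 4, 0, 1, 0, 1, 0, 1, 2, 3, 1, 2, 1, 2, 1, 3, 2, 0, 1, 0, 3, 1, 4, 2, 3, 2, 3, 4, 3, 1, 2, 3, 0, 4, 1, 2, 4, 3, 0, 4, 2, 1, 4, 3, 2, 4, 3, 2, 1, 0, 2, 0, 3, 2, 4, 3, 4]), (19, [3, 4, 1, 2, 1, 4, 3, 2, 0, 1, 0]), (19, [4, 3, 4, 1, 2, 1, 4, 3, 2, 0, 1, 0]), (18, [4, 3, 4, 1, 2, 1, 4, 3, 2, 0, 1, 0]), (18, [3, 1, 4,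 2, 0, 3, 2, 3, 4, 3, 0, 1, 0, 1, 0, 1, 2, 3, 1, 2, 1, 2, 1, 3, 2, 0, 1, 0, 3, 1, 4, 2, 3, 2, 3, 4, 3, 1, 2, 3, 0, 4, 1, 2, 4, 3, 0, 4, 2, 1, 4, 3, 2, 4, 3, 2, 1, 0, 2, 0, 3, 2, 4, 3, 4]), (18, [1, 3, 2, 3, 1, 0, 4, 2, 1, 0]), (18, [3, 4, 2, 3, 2, 3, 4, 2, 1, 0, 3, 2, 3, 1, 2, 3, 0, 1, 0, 2, 1, 3, 2, 0, 1, 0, 3, 1, 4, 2, 3, 2, 3, 4, 3, 2, 1, 4, 0, 1, 2, 0, 4, 3, 1, 2, 1, 2, 1, 4, 0, 1, 2, 3, 1, 4, 3]), (18, [2, 3, 2, 0, 3, 4, 1, 0, 2, 1, 0, 4, 3, 2, 1, 0, 1, 2, 3, 4]), (19, [3, 4, 2, 3, 2, 3, 4, 2, 1, 0, 3, 2, 3, 1, 2, 3, 0, 1, 0, 2, 1, 3, 2, 0, 1, 0, 3, 1, 4, 2, 3, 2, 3, 4, 3, 2, 1, 4, 0, 1, 2, 0, 4, 3, 1, 2, 1, 2, 1, 4, 0, 1,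 2, 3, 1, 4, 3]), (19, [2, 3, 2, 0, 3, 4, 1, 0, 2, 1, 0, 4, 3, 2, 1, 0, 1, 2, 3, 4]), (19, [3, 1, 4, 2, 0, 3, 2, 3, 4, 3, 0, 1, 0, 1, 0, 1, 2, 3, 1, 2, 1, 2, 1, 3, 2, 0, 1, 0, 3, 1, 4, 2, 3, 2, 3, 4, 3, 1, 2, 3, 0, 4, 1, 2, 4, 3, 0, 4, 2, 1, 4, 3, 2, 4, 3, 2, 1, 0, 2, 0, 3, 2, 4, 3, 4]), (19, [1, 3, 2, 3, 1, 0, 4, 2, 1, 0]), (9, [1, 0, 4, 0, 1, 2, 3, 2]), (11, [1, 0, 4, 0, 1, 2, 3, 2]), (13, [3, 4, 2, 3, 4, 2, 4, 3, 2, 1, 3, 4, 3, 2, 4, 1, 3, 2, 4, 1, 3, 4]), (13, [3, 2, 0, 1, 0, 4, 3, 4, 2, 3, 4, 2, 3, 2, 1, 0, 2, 4, 3, 2, 1, 4, 3, 0, 2, 3, 4, 0, 1, 2, 1, 3, 2, 4]), (10, [1, 0, 4, 0, 1, 2, 3, 2]), (13, [3, 2, 0, 1, 0, 4, 3, 4,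 2, 3, 4, 3, 4, 1, 2, 1, 4, 3, 2, 0, 1, 0, 4, 1, 3, 2, 4, 3, 4, 1, 3, 0, 1, 2, 3, 0, 1, 2, 3, 1, 3, 4, 3, 2, 4, 3, 4, 1, 2, 3, 4, 3, 2, 3, 1, 2, 3, 0, 4, 1, 2, 3, 4]), (13, [2, 3, 4, 3, 2]), (13, [4, 0, 1, 4, 2, 4, 1, 3, 2, 3, 2, 0, 1, 0, 1, 2, 0, 3, 4, 3, 2, 1, 4, 3, 0, 1, 3, 2, 1, 0, 3, 4, 3, 0, 2, 1, 4, 3, 2, 1, 4, 0, 1, 2, 3, 1, 4, 3]), (13, [3, 4, 2, 3, 4, 0, 1, 0, 1, 0, 1, 2, 3, 1, 2, 1, 3, 0, 1, 2, 3, 2, 4, 3, 2, 3, 4, 1, 0, 3, 1, 2, 3, 0, 4, 2, 0, 1, 2, 3, 2, 1, 2, 0, 1, 3, 4, 3, 0, 2, 3, 4, 3, 2, 1, 3, 4, 3, 2, 4, 1, 3, 2, 4, 1, 3, 4]), (13, [3, 2, 0, 1, 0, 4, 3, 4, 2, 3, 4, 0, 3, 4, 3, 1, 2, 1, 3, 2, 3, 4, 3, 0, 1, 0,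 2, 3, 1, 2, 1, 4, 0, 4, 3, 2, 1, 2, 0, 1, 2, 3, 2, 1, 4, 1]), (13, [4, 3, 0, 2, 1, 2, 3, 4, 2, 1, 4, 0, 1, 3, 0, 2, 1, 3, 0, 2, 3, 4, 3, 2, 1, 4, 2, 3, 0, 4, 2, 1, 3, 2, 1, 4, 3, 2, 4, 3, 2, 1, 0, 2, 0, 3, 2, 4, 3, 4]), (13, [4, 0, 1, 0, 1, 2, 4, 1, 4, 3, 2, 3, 1, 2, 3, 2]), (13, [3, 4, 0, 2, 0, 2, 1, 2, 3, 4, 2, 1, 4, 0, 1, 3, 0, 2, 0, 3, 4, 2, 3, 1, 4, 2, 4, 3, 4, 1, 2, 3, 2, 0, 3, 2, 0, 1, 4, 3, 2, 3, 1, 4, 2, 3, 0]), (13, [1, 0, 4, 0, 3, 4, 3, 1, 2, 1, 3, 2, 3, 4, 3, 0, 1, 0, 2, 3, 1, 2, 1, 4, 0, 1, 2, 4, 3, 2, 1, 3, 4, 3, 2, 4, 1, 3, 2, 4, 1, 3, 4]), (12, [1, 0, 4, 0, 1, 2, 3, 2]), (13, [1, 0, 4, 0, 1, 2, 3, 2]), (9, [3, 4,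 2, 1, 3, 0, 3, 0, 1, 0, 2, 1, 0, 2, 0, 4, 3, 1, 2, 3, 4, 1, 2, 3, 2, 0]), (11, [3, 4, 2, 1, 3, 0, 3, 0, 1, 0, 2, 1, 0, 2, 0, 4, 3, 1, 2, 3, 4, 1, 2, 3, 2, 0]), (13, [3, 4, 2, 1, 3, 0, 3, 0, 1, 0, 2, 1, 0, 2, 0, 4, 3, 1, 2, 3, 4, 1, 2, 3, 2, 0]), (13, [3, 1, 0, 2, 3, 1, 2, 4, 2, 1, 3, 2, 0, 3, 1, 2, 4, 1, 3, 2, 4, 2, 1, 2]), (13, [3, 0, 2, 1, 2, 3, 4, 0, 2, 0, 4, 3, 2, 1, 0, 2, 4, 3, 1, 2, 4, 1, 3, 2, 1, 3, 4, 3, 0, 2, 3, 4, 3, 2, 1, 4, 2, 3, 0, 4, 2, 1, 3, 2, 4, 3, 2, 1, 4, 0, 1, 2, 3, 1, 4, 3]), (13, [3, 1, 4, 2, 0, 3, 2, 3, 4, 3, 0, 1, 2, 3, 2]), (13, [3, 4, 2, 3, 2, 3, 4, 3, 2, 3, 2, 1, 0, 3, 2, 0, 4, 3, 1, 2, 3, 4, 1, 2, 3,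 2, 0]), (13, [0, 3, 2, 3, 1, 2, 4, 0, 3, 4, 0, 3, 2, 1, 0, 1, 2, 0, 1, 2, 3, 4, 2, 3, 2, 1, 2, 3, 2, 0, 2, 4, 3, 2, 3, 1, 2, 1, 4, 3, 2, 4, 3, 2, 1, 0, 2, 0, 3, 2, 4, 3, 4]), (13, [3, 4, 2, 3, 2, 3, 1, 2, 1, 4, 3, 2, 0, 1, 0, 3, 2, 0, 4, 3, 1, 2, 3, 4, 1, 2, 3, 2, 0, 4, 3, 2, 1, 3, 4, 3, 2, 4, 1, 3, 2, 4, 1, 3, 4]), (13, [3, 1, 0, 2, 3, 1, 2, 4, 3, 4, 0, 1, 0, 1, 2, 1, 3, 2, 1, 3, 0, 4, 3, 2, 1, 0, 1, 2, 3, 4, 2, 4, 3, 2, 1, 3, 4, 3, 2, 4, 1, 3, 2, 4, 1, 3, 4]), (13, [3, 4, 2, 3, 2, 3, 4, 3, 4, 0, 1, 2, 1, 4, 3, 0, 1, 2, 3, 0, 3, 4, 2, 3, 1, 4, 2, 4, 3, 4, 1, 2, 3, 2, 0, 4, 3, 2, 1, 0, 1, 2, 3, 4]), (10, [3, 4, 2, 1, 3, 0, 3, 0,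 1, 0, 2, 1, 0, 2, 0, 4, 3, 1, 2, 3, 4, 1, 2, 3, 2, 0]), (13, [0, 3, 2, 3, 1, 2, 4, 0, 3, 4, 0, 1, 0, 2, 3, 1, 2, 3, 1, 2]), (12, [3, 4, 2, 1, 3, 0, 3, 0, 1, 0, 2, 1, 0, 2, 0, 4, 3, 1, 2, 3, 4, 1, 2, 3, 2, 0]), (13, [3, 1, 4, 2, 0, 3, 2, 3, 4, 3, 2, 1, 2, 3, 2, 1, 0, 3, 4, 3, 2, 1, 3, 2, 0, 3, 1, 2, 4, 1, 3, 2, 4, 2, 1, 2, 1, 4, 3, 2, 4, 3, 2, 1, 0, 2, 0, 3, 2, 4, 3, 4]), (13, [3, 4, 2, 1, 3, 1, 0, 1, 0, 1, 2, 3, 1, 2, 1, 3, 2, 3, 2, 0, 1, 4, 3, 2, 3, 1, 4, 2, 3, 0]), (9, [2, 3, 2, 0, 3, 4, 1, 0, 3, 0, 1, 0, 1, 2, 4, 1, 4, 3, 2, 3, 1, 2, 3, 4, 3, 2, 1, 4, 3, 2, 3, 0, 1, 0, 2, 4, 3, 4, 0, 1, 2, 1, 4, 3, 2, 1, 4, 0, 1, 2, 3, 1, 4,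 3]), (11, [2, 3, 2, 0, 3, 4, 1, 0, 3, 0, 1, 0, 1, 2, 4, 1, 4, 3, 2, 3, 1, 2, 3, 4, 3, 2, 1, 4, 3, 2, 3, 0, 1, 0, 2, 4, 3, 4, 0, 1, 2, 1, 4, 3, 2, 1, 4, 0, 1, 2, 3, 1, 4, 3]), (13, [2, 3, 2, 0, 3, 4, 1, 0, 2, 0, 4, 3, 1, 2, 3, 4, 1, 2, 3, 2, 0]), (13, [3, 1, 0, 2, 3, 1, 2, 4, 3, 4, 3, 0, 4, 3, 2, 1, 0, 2, 4, 3, 1, 2, 4, 1, 3, 2, 1, 3, 4, 1, 2, 4, 3, 2, 1, 4, 0, 1, 2, 3, 1, 4, 3]), (13, [3, 2, 0, 1, 0, 4, 3, 4, 2, 3, 4, 0, 2, 3, 1, 2, 3, 0, 3, 1, 0, 3, 2, 1, 3, 2, 0, 1, 0, 3, 2, 3, 2, 1, 2, 0, 3, 4, 3, 2, 3, 1, 2, 3, 4, 3, 2, 1, 0, 1, 2, 3, 1, 0, 2, 3, 2, 1, 4, 0, 1, 2, 3, 1, 4, 3]), (13, [4, 3, 2, 4, 3, 2, 4, 3, 2, 1, 0, 2, 3, 1,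 2, 1, 0, 3, 2, 0, 4, 3, 1, 2, 3, 4, 1, 2, 3, 2, 0, 1]), (13, [2, 0, 1, 2, 3, 2, 4, 1, 0, 1, 2, 4, 1, 4, 3, 2, 3, 1, 2, 3, 2, 3, 0, 2, 3, 4, 3, 2, 1, 4, 2, 3, 0, 4, 2, 1, 3, 2, 1]), (13, [1, 3, 2, 3, 1, 0, 4, 3, 0, 1, 0, 2, 3, 1, 2, 3, 2]), (13, [4, 3, 2, 4, 3, 4, 3, 0, 1, 0, 2, 1, 0, 2, 0, 4, 3, 1, 2, 3, 4, 1, 2, 3, 2, 0, 4, 3, 2, 1, 4, 0, 1, 2, 3, 1, 4, 3]), (13, [1, 3, 2, 3, 1, 0, 4, 3, 0, 3, 2, 1, 0, 1, 2, 0, 3, 4, 3, 2, 1, 0, 1, 2, 3, 4, 2]), (13, [2, 3, 2, 0, 3, 4, 1, 0, 3, 0, 1, 0, 1, 2, 4, 1, 4, 3, 2, 3, 1, 2, 3, 4, 3, 2, 1, 4, 3, 2, 3, 0, 1, 0, 2, 4, 3, 4, 0, 1, 2, 1, 4, 3, 2, 1, 4, 0, 1, 2, 3, 1, 4, 3]), (13, [2, 0, 1,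 2, 3, 2, 4, 0, 1, 0, 1, 2, 3, 1, 3, 2, 0, 4, 3, 1, 2, 3, 4, 1, 2, 3, 2, 0]), (10, [2, 3, 2, 0, 3, 4, 1, 0, 3, 0, 1, 0, 1, 2, 4, 1, 4, 3, 2, 3, 1, 2, 3, 4, 3, 2, 1, 4, 3, 2, 3, 0, 1, 0, 2, 4, 3, 4, 0, 1, 2, 1, 4, 3, 2, 1, 4, 0, 1, 2, 3, 1, 4, 3]), (13, [2, 3, 2, 0, 3, 4, 1, 0, 3, 4, 2, 4, 3, 2, 1, 0, 2, 3, 1, 2, 1, 0, 3, 1, 2, 3, 4, 2, 3, 2, 1, 2, 3, 2, 0, 2, 4, 3, 2, 3, 1, 2, 1]), (12, [2, 3, 2, 0, 3, 4, 1, 0, 3, 0, 1, 0, 1, 2, 4, 1, 4, 3, 2, 3, 1, 2, 3, 4, 3, 2, 1, 4, 3, 2, 3, 0, 1, 0, 2, 4, 3, 4, 0, 1, 2, 1, 4, 3, 2, 1, 4, 0, 1, 2, 3, 1, 4, 3]), (13, [2, 0, 1, 2, 3, 2, 4, 0, 2, 1, 3, 4, 0, 1, 0, 4, 2, 1, 0, 3, 2, 4, 3, 2, 1,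 4, 3, 2, 3, 0, 1, 0, 2, 4, 3, 4, 0, 1, 2, 1, 4, 3, 2, 1, 4, 0, 1, 2, 3, 1, 4, 3]), (11, [0, 3, 2, 3, 1, 2, 4, 0, 3, 4, 0, 3, 2, 1, 0, 1, 2, 0, 3, 2]), (9, [0, 3, 2, 3, 1, 2, 4, 0, 3, 4, 0, 3, 2, 1, 0, 1, 2, 0, 3, 2]), (10, [0, 3, 2, 3, 1, 2, 4, 0, 3, 4, 0, 3, 2, 1, 0, 1, 2, 0, 3, 2]), (12, [0, 3, 2, 3, 1, 2, 4, 0, 3, 4, 0, 3, 2, 1, 0, 1, 2, 0, 3, 2]), (13, [3, 4, 2, 1, 3, 0, 3, 0, 1, 0, 2, 1, 0, 3, 1, 0, 3, 4, 2, 3, 1, 4, 2, 4, 3, 4, 1, 2, 3, 2, 0]), (13, [3, 1, 2, 4, 1, 3, 2, 1, 3, 4, 2, 4, 3, 2, 1, 4, 3, 2, 3, 0, 1, 0, 2, 4, 3, 4, 0, 1, 2, 1, 4, 3, 2, 1, 4, 0, 1, 2, 3, 1, 4, 3]), (13, [3, 4, 2, 3, 2, 3, 4, 0, 2, 1, 2, 0, 1, 0,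 3, 0, 1, 4, 3, 2, 3, 1, 4, 2, 3, 0]), (13, [3, 1, 0, 2, 3, 1, 2, 4, 3, 4, 2, 0, 4, 3, 1, 2, 3, 4, 1, 2, 3, 2, 0]), (13, [3, 1, 4, 2, 0, 3, 2, 3, 4, 3, 0, 3, 4, 3, 1, 2, 1, 3, 2, 3, 4, 3, 0, 1, 0, 2, 3, 1, 2, 1, 4, 0, 2, 4, 3, 2, 1, 4, 3, 2, 3, 0, 1, 0, 2, 4, 3, 4, 0, 1, 2, 1, 4, 3, 2, 1, 3, 4, 3, 2, 4, 1, 3, 2, 4, 1, 3, 4])]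

/-- Conjugators to the listed involutions. -/
def conjJ4 : List (ℕ × List ℕ) := [(13, [3, 4, 2, 3, 2, 3, 4, 3, 0, 2, 3, 1, 2, 3, 0, 3, 1, 0, 3, 2, 4, 3, 2, 1, 4, 0, 1, 2, 3, 1, 4, 3]), (13, [3, 4, 2, 3, 2, 3, 4, 3, 0, 1, 0, 4, 1, 2, 1, 4, 0, 1, 2, 3, 2, 3, 1, 0, 2, 4, 3, 2, 1, 4, 3, 0, 2, 3, 4, 0, 1, 2, 1, 3, 2, 4, 3, 4, 3, 2, 3, 1, 2, 3, 0, 4, 1, 2, 3, 4]), (13, [3, 4, 2, 3, 4, 0, 1, 0, 2, 3, 1, 2, 3, 4, 1, 3, 2, 4, 3, 4, 1, 3, 0, 1, 2, 3, 0, 1, 2, 3, 1, 3, 4, 3, 2, 4, 3, 4, 1, 2, 4, 3, 2, 1, 0, 1, 2, 3, 4]), (13, [3, 4, 2, 1, 3, 1, 0, 1, 0, 1, 2, 3, 1, 2, 1, 3, 1, 2, 3, 2, 0, 1, 4, 3, 2, 3, 1, 4, 2, 3, 0]), (13, [0, 3, 2, 3,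 1, 2, 4, 0, 3, 4, 0, 3, 2, 1, 0, 1, 2, 0, 3, 2]), (13, [3, 1, 4, 2, 0, 3, 2, 3, 4, 3, 4, 3, 2, 3, 2, 1, 0, 1, 2, 1, 4, 3, 4, 2, 3, 4, 1, 0, 1, 4, 3, 2, 1, 4, 3, 0, 2, 3, 4, 0, 1, 2, 1, 3, 2, 4]), (13, [3, 1, 4, 2, 0, 3, 2, 3, 4, 0, 1, 0, 1, 2, 1, 3, 2, 1, 3, 0]), (11, [2, 3, 2, 0, 3, 4, 1, 0, 3, 4, 2, 4, 3, 2, 1, 0, 2, 3, 1, 2, 1, 0, 2, 3, 2, 0, 1, 4, 3, 2, 3, 1, 4, 2, 3, 0]), (9, [2, 3, 2, 0, 3, 4, 1, 0, 3, 4, 2, 4, 3, 2, 1, 0, 2, 3, 1, 2, 1, 0, 2, 3, 2, 0, 1, 4, 3, 2, 3, 1, 4, 2, 3, 0]), (10, [2, 3, 2, 0, 3, 4, 1, 0, 3, 4, 2, 4, 3, 2, 1, 0, 2, 3, 1, 2, 1, 0, 2, 3, 2, 0, 1, 4, 3, 2, 3, 1, 4, 2, 3, 0]), (12, [2, 3, 2, 0, 3, 4,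 1, 0, 3, 4, 2, 4, 3, 2, 1, 0, 2, 3, 1, 2, 1, 0, 2, 3, 2, 0, 1, 4, 3, 2, 3, 1, 4, 2, 3, 0]), (13, [3, 0, 2, 1, 2, 3, 4, 0, 2, 0, 1, 0, 1, 2, 4, 1, 4, 3, 2, 3, 1, 2, 3, 2, 3, 2, 1, 3, 2, 0, 1, 0, 3, 1, 4, 2, 3, 2, 3, 4, 3, 1, 2, 3, 0, 4, 1, 2, 4, 3, 0, 4, 2, 4, 3, 2, 1, 0, 1, 2, 3, 4]), (13, [1, 3, 2, 3, 1, 0, 1, 2, 1, 4, 3, 2, 0, 1, 0, 2, 4, 3, 2, 1, 4, 3, 0, 1, 3, 2, 1, 0, 3, 4, 3, 0, 2, 1, 4, 3, 2, 1, 4, 0, 1, 2, 3, 1, 4, 3]), (13, [4, 3, 2, 4, 3, 1, 0, 2, 1, 0, 4, 3, 2, 1, 3, 0, 3, 2, 1, 3, 2, 0, 1, 0, 3, 1, 4, 2, 3, 2, 3, 4, 3, 1, 2, 3, 0, 4, 1, 2, 4, 3, 0, 4, 2, 4, 3, 2, 1, 3, 4, 3, 2, 4, 1, 3, 2, 4, 1, 3, 4]), (13, [2, 0,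 1, 2, 3, 2, 4, 1, 0, 1, 2, 4, 1, 4, 3, 2, 3, 1, 2, 3, 2, 1, 2, 1, 4, 3, 2, 4, 3, 2, 1, 0, 2, 0, 3, 2, 4, 3, 4]), (13, [3, 2, 0, 1, 0, 4, 3, 4, 2, 3, 4, 0, 2, 3, 1, 2, 3, 0, 3, 1, 0, 3, 1, 2, 4, 3, 2, 1, 3, 4, 3, 2, 4, 1, 3, 2, 4, 1, 3, 4]), (13, [3, 1, 0, 2, 3, 1, 2, 4, 3, 4, 3, 0, 4, 3, 2, 1, 0, 2, 4, 3, 1, 2, 4, 1, 3, 2, 1, 2, 1, 0, 1, 2, 3, 4, 2, 4, 3, 2, 1, 4, 0, 1, 2, 3, 1, 4, 3]), (13, [2, 3, 2, 0, 3, 4, 1, 0, 3, 4, 2, 4, 3, 2, 1, 0, 2, 3, 1, 2, 1, 0, 2, 3, 2, 0, 1, 4, 3, 2, 3, 1, 4, 2, 3, 0]), (13, [1, 3, 2, 3, 1, 0, 4, 3, 0, 1, 0, 4, 1, 2, 1, 4, 0, 1, 2, 3, 2, 3, 1, 0]), (13, [3, 2, 0, 1, 0, 4, 3, 4, 2, 3, 4, 0, 1, 0, 1,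 2, 4, 1, 4, 3, 2, 3, 1, 2, 3, 4, 3, 2, 1, 4, 3, 0, 2, 3, 4, 0, 1, 2, 1, 3, 2, 4, 1]), (13, [2, 0, 1, 2, 3, 2, 4, 0, 4, 1, 0, 1, 2, 1, 4, 0, 3, 2, 0, 4, 1, 0, 1, 2, 4, 2, 0, 4, 3, 1, 2, 3, 4, 1, 2, 3, 2, 0, 4, 3, 2, 1, 4, 0, 1, 2, 3, 1, 4, 3]), (13, [4, 3, 2, 4, 3, 4, 0, 1, 0, 2, 3, 1, 2, 3, 4, 1, 3, 2, 4, 3, 4, 1, 3, 0, 1, 2, 3, 0, 1, 2, 3, 1, 3, 4, 3, 2, 4, 3, 4, 1, 2, 4, 3, 2, 1, 0, 1, 2, 3, 4]), (13, [2, 3, 2, 0, 3, 4, 1, 0, 3, 4, 2, 1, 0, 1, 4, 0, 4, 3, 1, 2, 3, 4, 1, 2, 3, 2, 0, 4, 3, 2, 1, 4, 0, 1, 2, 3, 1, 4, 3]), (11, [1, 0, 4, 3, 0, 1, 0, 1, 2, 1, 3, 2, 1, 3, 0]), (9, [1, 0, 4, 3, 0, 1, 0, 1, 2, 1, 3, 2, 1, 3, 0]), (10,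 [1, 0, 4, 3, 0, 1, 0, 1, 2, 1, 3, 2, 1, 3, 0]), (12, [1, 0, 4, 3, 0, 1, 0, 1, 2, 1, 3, 2, 1, 3, 0]), (13, [2, 3, 4, 0, 4, 3, 2, 1, 0, 2, 4, 3, 1, 2, 4, 1, 3, 2, 1, 3, 4, 1, 2, 4, 3, 2, 1, 3, 4, 3, 2, 4, 1, 3, 2, 4, 1, 3, 4]), (13, [4, 1, 0, 1, 2, 3, 2]), (13, [2, 3, 2, 1, 0, 1, 4, 2, 3, 2]), (13, [4, 2, 0, 1, 2, 3, 4, 0, 2, 4, 3, 2, 1, 4, 0, 1, 2, 3, 1, 4, 3]), (13, [2, 3, 4, 3, 4, 0, 1, 2, 1, 4, 3, 0, 1, 2, 3, 1]), (13, [1, 0, 4, 3, 0, 1, 0, 1, 2, 1, 3, 2, 1, 3, 0]), (13, [3, 2, 0, 1, 0, 4, 3, 4, 2, 3, 4, 0, 3, 4, 3, 1, 2, 1, 3, 2, 3, 4, 3, 0, 1, 0, 2, 3, 1, 2, 1, 4, 0, 2]), (13, [3, 4, 2, 3, 4, 3, 0, 2, 1, 2, 3, 4, 2, 1, 4, 0,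 1, 3, 0, 2, 1, 3, 2, 1, 3, 2, 0, 1, 0, 3, 1, 4, 2, 3, 2, 3, 4, 3, 2, 1, 4, 0, 1, 2, 0, 4, 3, 1, 2, 1, 2, 1, 4, 0, 1, 2, 3, 1, 4, 3]), (13, [2, 3, 4, 3, 4, 3, 2, 1, 0, 1, 2, 3, 4, 2]), (13, [3, 2, 0, 1, 0, 4, 3, 4, 2, 3, 4, 3, 4, 1, 2, 1, 4, 3, 2, 0, 1, 0, 3, 1, 2, 3, 4, 2, 3, 2, 1, 2, 3, 2, 0, 2, 4, 3, 2, 3, 1, 2, 4, 3, 2, 1, 3, 4, 3, 2, 4, 1, 3, 2, 4, 1, 3, 4]), (13, [1, 0, 4, 3, 0, 2, 1, 3, 0, 2, 1, 2, 3, 0, 2]), (13, [1, 0, 4, 0, 1, 2, 3, 4, 3, 2, 1, 2, 0, 1, 2, 3, 2, 1, 4, 1]), (18, [1, 0, 4, 0, 1, 2, 3, 2]), (19, [3, 4, 0, 1, 0, 3, 2, 1, 2, 0, 4, 3, 2, 1, 0, 1, 2, 3, 4]), (19, [2, 3, 4, 3, 2]), (18, [2, 3, 4, 3, 2]), (18,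 [3, 4, 2, 3, 4, 0, 1, 0, 1, 0, 1, 2, 3, 1, 2, 1, 3, 0, 1, 2, 3, 2, 4, 3, 2, 3, 4, 1, 0, 3, 1, 2, 3, 0, 4, 2, 0, 1, 2, 3, 2, 1, 2, 0, 1, 3, 4, 3, 0, 2, 3, 4, 3, 2, 1, 3, 4, 3, 2, 4, 1, 3, 2, 4, 1, 3, 4]), (19, [1, 0, 4, 0, 1, 2, 3, 2]), (18, [3, 4, 0, 1, 0, 3, 2, 1, 2, 0, 4, 3, 2, 1, 0, 1, 2, 3, 4]), (19, [3, 4, 2, 3, 4, 0, 1, 0, 1, 0, 1, 2, 3, 1, 2, 1, 3, 0, 1, 2, 3, 2, 4, 3, 2, 3, 4, 1, 0, 3, 1, 2, 3, 0, 4, 2, 0, 1, 2, 3, 2, 1, 2, 0, 1, 3, 4, 3, 0, 2, 3, 4, 3, 2, 1, 3, 4, 3, 2, 4, 1, 3, 2, 4, 1, 3, 4]), (18, [4, 2, 3, 2, 1, 0, 1]), (19, [2, 3, 4, 3, 2, 1, 0, 1]), (18, [4, 2, 0, 1, 2, 3, 4, 0, 4, 3, 2, 1, 2, 0, 1, 2, 3, 2, 1, 3,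 2, 1, 0, 1, 2, 3, 4]), (19, [3, 2, 0, 1, 0, 4, 3, 4, 2, 3, 4, 2, 3, 2, 1, 0, 2, 4, 3, 2, 1, 4, 3, 0, 2, 3, 4, 0, 1, 2, 1, 3, 2, 4]), (19, [4, 2, 3, 2, 1, 0, 1]), (19, [4, 2, 0, 1, 2, 3, 4, 0, 4, 3, 2, 1, 2, 0, 1, 2, 3, 2, 1, 3, 2, 1, 0, 1, 2, 3, 4]), (18, [3, 2, 0, 1, 0, 4, 3, 4, 2, 3, 4, 2, 3, 2, 1, 0, 2, 4, 3, 2, 1, 4, 3, 0, 2, 3, 4, 0, 1, 2, 1, 3, 2, 4]), (18, [2, 3, 4, 3, 2, 1, 0, 1]), (18, [4, 3, 0, 2, 1, 2, 3, 4, 2, 1, 4, 0, 1, 3, 0, 1]), (19, [4, 3, 0, 2, 1, 2, 3, 4, 2, 1, 4, 0, 1, 3, 0, 1]), (19, [1, 0, 4, 3, 0, 1, 0, 1, 2, 1, 3, 2, 1, 3, 0]), (18, [1, 0, 4, 3, 0, 1, 0, 1, 2, 1, 3, 2, 1, 3, 0]), (18, [4, 2, 0, 1, 2, 3,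 4, 1, 0, 2, 3, 1, 2, 3, 4, 3, 2, 1, 3, 4, 3, 2, 4, 1, 3, 2, 4, 1, 3, 4]), (18, [2, 3, 4, 3, 4, 2, 4, 3, 2, 1, 0, 2, 3, 1, 2, 1, 0, 2]), (18, [3, 4, 2, 3, 4, 3, 0, 2, 1, 2, 3, 4, 2, 1, 4, 0, 1, 3, 0, 2, 1, 3, 2, 1, 3, 2, 0, 1, 0, 3, 1, 4, 2, 3, 2, 3, 4, 3, 2, 1, 4, 0, 1, 2, 0, 4, 3, 1, 2, 1, 2, 1, 4, 0, 1, 2, 3, 1, 4, 3]), (18, [3, 2, 0, 1, 0, 4, 3, 4, 2, 3, 4, 0, 3, 4, 3, 1, 2, 1, 3, 2, 3, 4, 3, 0, 1, 0, 2, 3, 1, 2, 1, 4, 0, 2]), (19, [4, 2, 0, 1, 2, 3, 4, 1, 0, 2, 3, 1, 2, 3, 4, 3, 2, 1, 3, 4, 3, 2, 4, 1, 3, 2, 4, 1, 3, 4]), (19, [2, 3, 4, 3, 2, 1, 0, 3, 2, 3, 1, 2, 3, 0, 1, 0, 3, 1, 2, 1]), (18, [3, 4, 0, 1, 0, 3, 2, 1, 2, 0,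 2, 4, 3, 2, 1, 0, 1, 2, 3, 4]), (19, [3, 2, 0, 1, 0, 4, 3, 4, 2, 3, 4, 0, 3, 4, 3, 1, 2, 1, 3, 2, 3, 4, 3, 0, 1, 0, 2, 3, 1, 2, 1, 4, 0, 2]), (18, [2, 3, 4, 3, 2, 1, 0, 3, 2, 3, 1, 2, 3, 0, 1, 0, 3, 1, 2, 1]), (19, [3, 4, 0, 1, 0, 3, 2, 1, 2, 0, 2, 4, 3, 2, 1, 0, 1, 2, 3, 4]), (19, [2, 3, 4, 3, 4, 2, 4, 3, 2, 1, 0, 2, 3, 1, 2, 1, 0, 2])]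

/-- Conjugators to the listed involutions. -/
def conjJ5 : List (ℕ × List ℕ) := [(19, [3, 4, 2, 3, 4, 3, 0, 2, 1, 2, 3, 4, 2, 1, 4, 0, 1, 3, 0, 2, 1, 3, 2, 1, 3, 2, 0, 1, 0, 3, 1, 4, 2, 3, 2, 3, 4, 3, 2, 1, 4, 0, 1, 2, 0, 4, 3, 1, 2, 1, 2, 1, 4, 0, 1, 2, 3, 1, 4, 3]), (19, [4, 2, 0, 1, 2, 3, 4, 0, 4, 2, 4, 3, 2, 1, 0, 2, 3, 1, 2, 1, 0, 2, 1, 3, 2, 0, 1, 0, 3, 2, 3, 2, 1, 2, 0, 3, 4, 3, 2, 3, 1, 2, 3, 4, 3, 2, 1, 0, 1, 2, 3, 1, 0, 2, 4, 1, 4, 3, 2, 4, 3, 2, 1, 0, 2, 0, 3, 2, 4, 3, 4]), (19, [3, 0, 2, 1, 2, 3, 4, 0, 2, 0, 4, 3, 2, 1, 0, 2, 4, 3, 1, 2, 4, 1, 3, 2, 1, 3, 4, 3, 0, 2, 3, 4, 3, 2, 1, 4, 2, 3, 0, 4, 2, 1, 3, 2, 4, 3,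 2, 1, 4, 0, 1, 2, 3, 1, 4, 3]), (19, [0, 3, 2, 3, 1, 2, 4, 0, 3, 4, 0, 1, 0, 2, 3, 1, 2, 3, 1, 2]), (18, [3, 0, 2, 1, 2, 3, 4, 0, 2, 0, 4, 3, 2, 1, 0, 2, 4, 3, 1, 2, 4, 1, 3, 2, 1, 3, 4, 3, 0, 2, 3, 4, 3, 2, 1, 4, 2, 3, 0, 4, 2, 1, 3, 2, 4, 3, 2, 1, 4, 0, 1, 2, 3, 1, 4, 3]), (18, [3, 1, 4, 2, 0, 3, 2, 3, 4, 3, 0, 1, 2, 3, 2]), (18, [4, 2, 0, 1, 2, 3, 4, 0, 4, 2, 4, 3, 2, 1, 0, 2, 3, 1, 2, 1, 0, 2, 1, 3, 2, 0, 1, 0, 3, 2, 3, 2, 1, 2, 0, 3, 4, 3, 2, 3, 1, 2, 3, 4, 3, 2, 1, 0, 1, 2, 3, 1, 0, 2, 4, 1, 4, 3, 2, 4, 3, 2, 1, 0, 2, 0, 3, 2, 4, 3, 4]), (18, [0, 3, 2, 3, 1, 2, 4, 0, 3, 4, 0, 1, 0, 2, 3, 1, 2, 3, 1, 2]), (19, [3, 1, 4, 2,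 0, 3, 2, 3, 4, 3, 0, 1, 2, 3, 2]), (18, [3, 4, 2, 3, 2, 3, 1, 2, 1, 4, 3, 2, 0, 1, 0, 3, 2, 0, 4, 3, 1, 2, 3, 4, 1, 2, 3, 2, 0, 4, 3, 2, 1, 3, 4, 3, 2, 4, 1, 3, 2, 4, 1, 3, 4]), (18, [3, 4, 2, 1, 3, 0, 3, 0, 1, 0, 2, 1, 0, 2, 0, 4, 3, 1, 2, 3, 4, 1, 2, 3, 2, 0]), (18, [3, 1, 0, 2, 3, 1, 2, 4, 2, 1, 3, 2, 0, 3, 1, 2, 4, 1, 3, 2, 4, 2, 1, 2]), (19, [3, 4, 2, 1, 3, 0, 3, 0, 1, 0, 2, 1, 0, 2, 0, 4, 3, 1, 2, 3, 4, 1, 2, 3, 2, 0]), (19, [3, 4, 2, 3, 2, 3, 1, 2, 1, 4, 3, 2, 0, 1, 0, 3, 2, 0, 4, 3, 1, 2, 3, 4, 1, 2, 3, 2, 0, 4, 3, 2, 1, 3, 4, 3, 2, 4, 1, 3, 2, 4, 1, 3, 4]), (19, [3, 1, 0, 2, 3, 1, 2, 4, 2, 1, 3, 2, 0, 3, 1, 2, 4, 1, 3,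 2, 4, 2, 1, 2]), (18, [3, 4, 2, 3, 4, 3, 0, 1, 0, 2, 1, 0, 3, 1, 2, 4, 3, 2, 1, 4, 0, 1, 2, 3, 1, 4, 3]), (19, [3, 4, 2, 3, 4, 3, 0, 1, 0, 2, 1, 0, 3, 1, 2, 4, 3, 2, 1, 4, 0, 1, 2, 3, 1, 4, 3]), (19, [3, 1, 0, 2, 3, 1, 2, 4, 3, 4, 3, 0, 4, 3, 2, 1, 0, 2, 4, 3, 1, 2, 4, 1, 3, 2, 1, 3, 4, 1, 2, 4, 3, 2, 1, 4, 0, 1, 2, 3, 1, 4, 3]), (19, [3, 2, 0, 1, 0, 4, 3, 4, 2, 3, 4, 0, 2, 3, 1, 2, 3, 0, 3, 1, 0, 3, 2, 1, 3, 2, 0, 1, 0, 3, 2, 3, 2, 1, 2, 0, 3, 4, 3, 2, 3, 1, 2, 3, 4, 3, 2, 1, 0, 1, 2, 3, 1, 0, 2, 3, 2, 1, 4, 0, 1, 2, 3, 1, 4, 3]), (18, [2, 0, 1, 2, 3, 2, 4, 0, 2, 1, 3, 4, 0, 1, 0, 4, 2, 1, 0, 3, 2, 4, 3, 2, 1, 4, 3, 2, 3, 0, 1,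 0, 2, 4, 3, 4, 0, 1, 2, 1, 4, 3, 2, 1, 4, 0, 1, 2, 3, 1, 4, 3]), (18, [1, 3, 2, 3, 1, 0, 4, 3, 4, 1, 0, 1, 2, 1, 4, 0, 3, 2, 0, 4, 1, 0, 1, 2, 4, 3]), (18, [3, 1, 0, 2, 3, 1, 2, 4, 3, 4, 3, 0, 4, 3, 2, 1, 0, 2, 4, 3, 1, 2, 4, 1, 3, 2, 1, 3, 4, 1, 2, 4, 3, 2, 1, 4, 0, 1, 2, 3, 1, 4, 3]), (18, [3, 2, 0, 1, 0, 4, 3, 4, 2, 3, 4, 0, 2, 3, 1, 2, 3, 0, 3, 1, 0, 3, 2, 1, 3, 2, 0, 1, 0, 3, 2, 3, 2, 1, 2, 0, 3, 4, 3, 2, 3, 1, 2, 3, 4, 3, 2, 1, 0, 1, 2, 3, 1, 0, 2, 3, 2, 1, 4, 0, 1, 2, 3, 1, 4, 3]), (19, [1, 3, 2, 3, 1, 0, 4, 3, 4, 1, 0, 1, 2, 1, 4, 0, 3, 2, 0, 4, 1, 0, 1, 2, 4, 3]), (19, [2, 0, 1, 2, 3, 2, 4, 0, 2, 1, 3, 4, 0, 1, 0, 4, 2,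 1, 0, 3, 2, 4, 3, 2, 1, 4, 3, 2, 3, 0, 1, 0, 2, 4, 3, 4, 0, 1, 2, 1, 4, 3, 2, 1, 4, 0, 1, 2, 3, 1, 4, 3]), (19, [4, 3, 2, 4, 3, 4, 3, 0, 1, 0, 2, 1, 0, 2, 0, 4, 3, 1, 2, 3, 4, 1, 2, 3, 2, 0, 4, 3, 2, 1, 4, 0, 1, 2, 3, 1, 4, 3]), (18, [4, 3, 2, 4, 3, 4, 3, 0, 1, 0, 2, 1, 0, 2, 0, 4, 3, 1, 2, 3, 4, 1, 2, 3, 2, 0, 4, 3, 2, 1, 4, 0, 1, 2, 3, 1, 4, 3]), (18, [2, 3, 2, 0, 3, 4, 1, 0, 3, 0, 1, 0, 1, 2, 4, 1, 4, 3, 2, 3, 1, 2, 3, 4, 3, 2, 1, 4, 3, 2, 3, 0, 1, 0, 2, 4, 3, 4, 0, 1, 2, 1, 4, 3, 2, 1, 4, 0, 1, 2, 3, 1, 4, 3]), (19, [3, 0, 2, 1, 2, 3, 4, 0, 2, 0, 1, 0, 1, 2, 4, 1, 4, 3, 2, 3, 1, 2, 3, 2, 4, 3, 2, 1, 0, 1, 2, 3, 4, 2, 4, 3,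 2, 1, 3, 4, 3, 2, 4, 1, 3, 2, 4, 1, 3, 4]), (19, [2, 3, 2, 0, 3, 4, 1, 0, 3, 0, 1, 0, 1, 2, 4, 1, 4, 3, 2, 3, 1, 2, 3, 4, 3, 2, 1, 4, 3, 2, 3, 0, 1, 0, 2, 4, 3, 4, 0, 1, 2, 1, 4, 3, 2, 1, 4, 0, 1, 2, 3, 1, 4, 3]), (18, [3, 0, 2, 1, 2, 3, 4, 0, 2, 0, 1, 0, 1, 2, 4, 1, 4, 3, 2, 3, 1, 2, 3, 2, 4, 3, 2, 1, 0, 1, 2, 3, 4, 2, 4, 3, 2, 1, 3, 4, 3, 2, 4, 1, 3, 2, 4, 1, 3, 4]), (18, [3, 4, 0, 2, 0, 1, 0, 2, 1, 0, 3, 1, 2, 4, 3, 2, 1, 4, 0, 1, 2, 3, 1, 4, 3]), (19, [3, 4, 0, 2, 0, 1, 0, 2, 1, 0, 3, 1, 2, 4, 3, 2, 1, 4, 0, 1, 2, 3, 1, 4, 3]), (19, [4, 3, 2, 4, 3, 1, 0, 2, 1, 0, 4, 3, 2, 1, 3, 0, 3, 2, 1, 3, 2, 0, 1, 0, 3, 1, 4, 2, 3, 2, 3,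 4, 3, 1, 2, 3, 0, 4, 1, 2, 4, 3, 0, 4, 2, 4, 3, 2, 1, 3, 4, 3, 2, 4, 1, 3, 2, 4, 1, 3, 4]), (18, [2, 0, 1, 2, 3, 2, 4, 1, 0, 1, 2, 4, 1, 4, 3, 2, 3, 1, 2, 3, 2, 1, 2, 1, 4, 3, 2, 4, 3, 2, 1, 0, 2, 0, 3, 2, 4, 3, 4]), (19, [1, 3, 2, 3, 1, 0, 4, 3, 0, 2, 3, 1, 2, 3, 0, 3, 1, 0, 3, 1]), (18, [3, 0, 2, 1, 2, 3, 4, 0, 2, 0, 1, 0, 1, 2, 4, 1, 4, 3, 2, 3, 1, 2, 3, 2, 3, 2, 1, 3, 2, 0, 1, 0, 3, 1, 4, 2, 3, 2, 3, 4, 3, 1, 2, 3, 0, 4, 1, 2, 4, 3, 0, 4, 2, 4, 3, 2, 1, 0, 1, 2, 3, 4]), (18, [3, 2, 0, 1, 0, 4, 3, 4, 2, 3, 4, 0, 1, 0, 1, 2, 4, 1, 4, 3, 2, 3, 1, 2, 3, 4, 3, 2, 1, 4, 3, 0, 2, 3, 4, 0, 1, 2, 1, 3, 2, 4, 1]), (19, [3, 4, 0, 2, 3,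 0, 1, 0, 2, 3, 1, 2, 3, 4, 1, 3, 2, 4, 3, 4, 1, 3, 0, 1, 2, 3, 0, 1, 2, 3, 1, 3, 4, 3, 2, 4, 3, 4, 1, 2, 4, 3, 2, 1, 0, 1, 2, 3, 4]), (18, [3, 4, 0, 2, 3, 0, 1, 0, 2, 3, 1, 2, 3, 4, 1, 3, 2, 4, 3, 4, 1, 3, 0, 1, 2, 3, 0, 1, 2, 3, 1, 3, 4, 3, 2, 4, 3, 4, 1, 2, 4, 3, 2, 1, 0, 1, 2, 3, 4]), (18, [2, 3, 2, 0, 3, 4, 1, 0, 3, 4, 2, 4, 3, 2, 1, 0, 2, 3, 1, 2, 1, 0, 2, 3, 2, 0, 1, 4, 3, 2, 3, 1, 4, 2, 3, 0]), (19, [2, 3, 2, 0, 3, 4, 1, 0, 3, 4, 2, 4, 3, 2, 1, 0, 2, 3, 1, 2, 1, 0, 2, 3, 2, 0, 1, 4, 3, 2, 3, 1, 4, 2, 3, 0]), (19, [2, 0, 1, 2, 3, 2, 4, 1, 0, 1, 2, 4, 1, 4, 3, 2, 3, 1, 2, 3, 2, 1, 2, 1, 4, 3, 2, 4, 3, 2, 1, 0, 2, 0, 3, 2,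 4, 3, 4]), (18, [3, 1, 0, 2, 3, 1, 2, 4, 3, 4, 2, 1, 0, 2, 4, 3, 2, 1, 4, 3, 0, 1, 3, 2, 1, 0, 3, 4, 3, 0, 2, 1]), (18, [4, 3, 2, 4, 3, 1, 0, 2, 1, 0, 4, 3, 2, 1, 3, 0, 3, 2, 1, 3, 2, 0, 1, 0, 3, 1, 4, 2, 3, 2, 3, 4, 3, 1, 2, 3, 0, 4, 1, 2, 4, 3, 0, 4, 2, 4, 3, 2, 1, 3, 4, 3, 2, 4, 1, 3, 2, 4, 1, 3, 4]), (19, [3, 0, 2, 1, 2, 3, 4, 0, 2, 0, 1, 0, 1, 2, 4, 1, 4, 3, 2, 3, 1, 2, 3, 2, 3, 2, 1, 3, 2, 0, 1, 0, 3, 1, 4, 2, 3, 2, 3, 4, 3, 1, 2, 3, 0, 4, 1, 2, 4, 3, 0, 4, 2, 4, 3, 2, 1, 0, 1, 2, 3, 4]), (18, [1, 3, 2, 3, 1, 0, 4, 3, 0, 2, 3, 1, 2, 3, 0, 3, 1, 0, 3, 1]), (19, [3, 2, 0, 1, 0, 4, 3, 4, 2, 3, 4, 0, 1, 0, 1, 2, 4, 1, 4, 3, 2,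 3, 1, 2, 3, 4, 3, 2, 1, 4, 3, 0, 2, 3, 4, 0, 1, 2, 1, 3, 2, 4, 1]), (19, [3, 1, 0, 2, 3, 1, 2, 4, 3, 4, 2, 1, 0, 2, 4, 3, 2, 1, 4, 3, 0, 1, 3, 2, 1, 0, 3, 4, 3, 0, 2, 1]), (19, [3, 1, 0, 2, 3, 1, 2, 4, 3, 4, 2, 0, 4, 3, 1, 2, 3, 4, 1, 2, 3, 2, 0]), (18, [3, 0, 2, 1, 2, 3, 4, 0, 2, 3, 2, 1, 0, 4, 3, 2, 1, 0, 1, 2, 3, 4]), (19, [3, 1, 4, 2, 0, 3, 2, 3, 4, 3, 0, 3, 4, 3, 1, 2, 1, 3, 2, 3, 4, 3, 0, 1, 0, 2, 3, 1, 2, 1, 4, 0, 2, 4, 3, 2, 1, 4, 3, 2, 3, 0, 1, 0, 2, 4, 3, 4, 0, 1, 2, 1, 4, 3, 2, 1, 3, 4, 3, 2, 4, 1, 3, 2, 4, 1, 3, 4]), (19, [3, 4, 2, 1, 3, 1, 0, 1, 0, 1, 2, 3, 1, 2, 1, 3, 1, 2, 3, 2, 0, 1, 4, 3, 2, 3, 1, 4, 2, 3, 0]),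 (18, [0, 3, 2, 3, 1, 2, 4, 0, 3, 4, 0, 3, 2, 1, 0, 1, 2, 0, 3, 2]), (18, [3, 1, 0, 2, 3, 1, 2, 4, 3, 4, 2, 0, 4, 3, 1, 2, 3, 4, 1, 2, 3, 2, 0]), (18, [3, 4, 2, 3, 2, 3, 4, 0, 2, 1, 2, 0, 1, 0, 3, 0, 1, 4, 3, 2, 3, 1, 4, 2, 3, 0]), (19, [3, 4, 2, 3, 2, 3, 4, 0, 2, 1, 2, 0, 1, 0, 3, 0, 1, 4, 3, 2, 3, 1, 4, 2, 3, 0]), (18, [3, 4, 2, 3, 4, 0, 1, 0, 2, 3, 1, 2, 3, 4, 1, 3, 2, 4, 3, 4, 1, 3, 0, 1, 2, 3, 0, 1, 2, 3, 1, 3, 4, 3, 2, 4, 3, 4, 1, 2, 4, 3, 2, 1, 0, 1, 2, 3, 4]), (18, [3, 1, 4, 2, 0, 3, 2, 3, 4, 3, 0, 3, 4, 3, 1, 2, 1, 3, 2, 3, 4, 3, 0, 1, 0, 2, 3, 1, 2, 1, 4, 0, 2, 4, 3, 2, 1, 4, 3, 2, 3, 0, 1, 0, 2, 4, 3, 4, 0, 1, 2, 1, 4,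 3, 2, 1, 3, 4, 3, 2, 4, 1, 3, 2, 4, 1, 3, 4]), (19, [0, 3, 2, 3, 1, 2, 4, 0, 3, 4, 0, 3, 2, 1, 0, 1, 2, 0, 3, 2]), (19, [3, 4, 2, 3, 4, 0, 1, 0, 2, 3, 1, 2, 3, 4, 1, 3, 2, 4, 3, 4, 1, 3, 0, 1, 2, 3, 0, 1, 2, 3, 1, 3, 4, 3, 2, 4, 3, 4, 1, 2, 4, 3, 2, 1, 0, 1, 2, 3, 4]), (18, [3, 4, 2, 1, 3, 1, 0, 1, 0, 1, 2, 3, 1, 2, 1, 3, 1, 2, 3, 2, 0, 1, 4, 3, 2, 3, 1, 4, 2, 3, 0]), (18, [4, 2, 0, 1, 2, 3, 4, 0, 3, 2, 4, 1, 2, 0, 1, 2, 4, 3, 2, 4, 1, 0, 3, 2, 1, 0, 1, 2, 3, 4]), (19, [4, 2, 0, 1, 2, 3, 4, 0, 3, 2, 4, 1, 2, 0, 1, 2, 4, 3, 2, 4, 1, 0, 3, 2, 1, 0, 1, 2, 3, 4]), (19, [3, 0, 2, 1, 2, 3, 4, 0, 2, 3, 2, 1, 0, 4, 3, 2, 1, 0, 1, 2, 3,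 4])]

/-- Conjugators to the listed involutions. -/
def conjJ : List (ℕ × List ℕ) := conjJ0 ++ conjJ1 ++ conjJ2 ++ conjJ3 ++ conjJ4 ++ conjJ5

/-- An involution exchanging the two fixed points. -/
def swapW : List ℕ := [6, 1, 2, 3, 2, 1, 0, 6, 5, 0, 1, 2, 3, 2, 1, 6, 5, 0, 1, 2, 3, 2, 1, 6]

/-- The letters moved by it. -/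
def swapJ : List (List ℕ) := [[0, 2], [1], [2], [2, 4, 1, 2, 0, 1, 2, 4, 3, 2, 4, 1, 0, 4, 1, 2, 1], [4]]

end Cfsg.Agent.Spor.CoUniq
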