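import Cfsg.Agent.Lib.Spor.CoSuz.Hom
import Cfsg.Agent.Lib.Spor.CoUniq.ModelData
import Cfsg.Agent.Lib.Spor.CoUniq.LocData
import Cfsg.Agent.Lib.Grp.Components

/-!
The triple cover inside the automorphism group of the rank 24 lattice modulo its centre, with the involution
generating the whole group over it.
-/

set_option autoImplicit false
set_option maxRecDepth 100000
set_option maxHeartbeats 1000000

noncomputable section

namespace Cfsg.Agent.Spor.CoUniq

open Cfsg Cfsg.Agent.Spor.CoSuz Cfsg.Agent.Spor.Cos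

/-- Equality up to sign. -/
def pmEq (T U : List ℕ) : Bool := T == U || T == U.map negX

theorem mk_of_pm {a b : Co0} {T U : List ℕ} (ha : HasT a T) (hb : HasT b U) (h : pmEq T U = true) :
    Fus.Co1Centre.mk a = Fus.Co1Centre.mk b := by
  rw [Fus.Co1Centre.mk_eq]
  rw [pmEq, Bool.or_eq_true, beq_iff_eq, beq_iff_eq] at h
  rcases h with e | e
  · exact Or.inl (ha.eq (e ▸ hb))
  · exact Or.inr (ha.eq (e ▸ hb.neg))

/-- The signs in the centralizer. -/
def Cn : Subgroup CA := (Subgroup.center Co0).subgroupOf CA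

instance Cn_normal : Cn.Normal := inferInstanceAs ((Subgroup.center Co0).subgroupOf CA).Normal

/-- The triple cover. -/
abbrev Hq : Type := CA ⧸ Cn

/-- Its embedding. -/
def iq : Hq →* Spor.Co1 :=
  QuotientGroup.lift Cn (Fus.Co1Centre.mk.comp CA.subtype) fun u hu => by
    rw [MonoidHom.mem_ker, MonoidHom.comp_apply]
    exact (QuotientGroup.eq_one_iff _).2 (Subgroup.mem_subgroupOf.1 hu)

theorem iq_mk (u : CA) : iq (QuotientGroup.mk' Cn u) = Fus.Co1Centre.mk u := rfl

theorem iq_injective : Function.Injective iq := (injective_iff_map_eq_one iq).2 fun a ha => by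
  obtain ⟨u, rfl⟩ := QuotientGroup.mk'_surjective Cn a
  rw [iq_mk] at ha
  rw [QuotientGroup.mk'_apply, QuotientGroup.eq_one_iff]
  exact Subgroup.mem_subgroupOf.2 ((QuotientGroup.eq_one_iff _).1 ha)

/-- The element of order three in the cover. -/
def xq : Hq := QuotientGroup.mk' Cn ⟨aC, mem_CA.2 rfl⟩

/-- A lifted generator as rows. -/
def hqP (s : ℕ) : List ℕ := hqT.getD s []

/-- A word as rows. -/
def evQ : List ℕ → List ℕ
  | [] => oneP
  | s :: w => mulP (hqP s) (evQ w)

theorem hq_chk : ∀ s < 7, (chkT (hqP s) && chkComm (hqP s) && pmEq (mulP (hqP s) (hqP s)) oneP &&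
    sixP.contains (mulP (genP s) (hqP s))) = true := by
  decide +kernel

/-- A lifted generator in the centralizer. -/
def hqC (s : ℕ) : CA :=
  if h : s < 7 then ⟨ofT (hqP s), mem_CA_of (hasT_ofT (by
      have := hq_chk s h; simp only [Bool.and_eq_true] at this; exact this.1.1.1))
    (by have := hq_chk s h; simp only [Bool.and_eq_true] at this; exact this.1.1.2)⟩ else 1

theorem hasT_hqC {s : ℕ} (h : s < 7) : HasT (hqC s : Co0) (hqP s) := by
  rw [hqC, dif_pos h]
  exact hasT_ofT (by have := hq_chk s h; simp only [Bool.and_eq_true] at this; exact this.1.1.1)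

theorem hasT_evQ : ∀ w : List ℕ, (∀ s ∈ w, s < 7) → HasT ((ev hqC w : CA) : Co0) (evQ w)
  | [], _ => hasT_one
  | s :: w, h => by
    rw [ev, evQ, Subgroup.coe_mul]
    exact (hasT_hqC (h s List.mem_cons_self)).mul (hasT_evQ w fun t ht => h t (List.mem_cons_of_mem _ ht))

/-- The lifted generators. -/
def hq (s : ℕ) : Hq := QuotientGroup.mk' Cn (hqC s)

theorem hq_out {s : ℕ} (h : 7 ≤ s) : hq s = 1 := by
  rw [hq, hqC, dif_neg (by omega)]
  exact map_one _

theorem ev_hq (w : List ℕ) : ev hq w = QuotientGroup.mk' Cn (ev hqC w) := (ev_map (QuotientGroup.mk' Cn) hqC w).symm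

theorem hq_sq (s : ℕ) : hq s * hq s = 1 := by
  rcases Nat.lt_or_ge s 7 with h | h
  · apply iq_injective
    rw [map_one, hq, ← map_mul, iq_mk, Subgroup.coe_mul, ← map_one Fus.Co1Centre.mk]
    have := hq_chk s h
    simp only [Bool.and_eq_true] at this
    exact mk_of_pm ((hasT_hqC h).mul (hasT_hqC h)) hasT_one this.1.2
  · rw [hq_out h, mul_one]

theorem xq_cube : xq ^ 3 = 1 := by
  rw [xq, ← map_pow, show (⟨aC, mem_CA.2 rfl⟩ : CA) ^ 3 = 1 from Subtype.ext a_cube, map_one]

theorem xq_central (u : Hq) : u * xq = xq * u := by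
  obtain ⟨v, rfl⟩ := QuotientGroup.mk'_surjective Cn u
  rw [xq, ← map_mul, ← map_mul]
  exact congrArg _ (Subtype.ext (mem_CA.1 v.2))

theorem Cn_le : Cn ≤ N0 := fun _ hu => Subgroup.mem_subgroupOf.2 (Subgroup.mem_sup_right (Subgroup.mem_subgroupOf.1 hu))

/-- The reduction. -/
def red : Hq →* Sq := QuotientGroup.map Cn N0 (MonoidHom.id CA) Cn_le

theorem exists_eta : ∃ η : Hq →* Spor.Suz, Function.Surjective η ∧ (∀ s < 7, η (hq s) = Suz.g s) ∧
    ∀ u, η u = 1 ↔ u ∈ Subgroup.zpowers xq := by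
  obtain ⟨π, hπ⟩ := exists_pi
  haveI := Suz.isSimple
  haveI := Suz.finite
  have hinj : Function.Injective π := by
    rw [← MonoidHom.ker_eq_bot_iff]
    refine (IsSimpleGroup.eq_bot_or_eq_top_of_normal π.ker (MonoidHom.normal_ker π)).resolve_right fun e => ?_
    have h : π (Suz.g 0) = 1 := by rw [← MonoidHom.mem_ker, e]; trivial
    rw [hπ, sig, QuotientGroup.mk'_apply, QuotientGroup.eq_one_iff] at h
    have h' := six_of_mem_N0 (hasT_gC (by norm_num)) h
    have hf : sixP.contains (genP 0) = false := by decide +kernel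
    rw [hf] at h'
    exact Bool.noConfusion h'
  let e := MulEquiv.ofBijective π (hinj.bijective_of_nat_card_le (by rw [Suz.card_eq]; exact card_Sq_le))
  have hsq : ∀ s, π (Suz.g s) * π (Suz.g s) = 1 := fun s => by rw [← map_mul, Suz.g_sq, map_one]
  have hred : Function.Surjective red := fun a => by
    obtain ⟨u, rfl⟩ := QuotientGroup.mk'_surjective N0 a
    exact ⟨QuotientGroup.mk' Cn u, rfl⟩
  refine ⟨e.symm.toMonoidHom.comp red, e.symm.surjective.comp hred, fun s hs => ?_, fun u => ?_⟩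
  · refine e.injective ((e.apply_symm_apply _).trans ?_)
    show QuotientGroup.mk' N0 (hqC s) = π (Suz.g s)
    refine mul_left_cancel (a := π (Suz.g s)) ?_
    rw [hsq, hπ, sig, ← map_mul, QuotientGroup.mk'_apply, QuotientGroup.eq_one_iff]
    refine mem_N0_of ((hasT_gC hs).mul (hasT_hqC hs)) ?_
    have := hq_chk s hs
    simp only [Bool.and_eq_true] at this
    exact this.2
  · rw [MonoidHom.comp_apply, MulEquiv.coe_toMonoidHom, MulEquiv.map_eq_one_iff]
    constructor
    · intro h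
      obtain ⟨v, rfl⟩ := QuotientGroup.mk'_surjective Cn u
      change QuotientGroup.mk' N0 v = 1 at h
      rw [QuotientGroup.mk'_apply, QuotientGroup.eq_one_iff] at h
      obtain ⟨k, -, e | e⟩ := mem_N0.1 h
      · refine ⟨(k : ℤ), ?_⟩
        show xq ^ (k : ℤ) = _
        rw [zpow_natCast, xq, ← map_pow]
        exact congrArg _ (Subtype.ext e.symm)
      · refine ⟨(k : ℤ), ?_⟩
        show xq ^ (k : ℤ) = _
        rw [zpow_natCast]
        apply iq_injective
        rw [xq, ← map_pow, iq_mk, iq_mk, Subgroup.coe_pow, Fus.Co1Centre.mk_eq, e]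
        exact Or.inr (by rw [← mul_assoc, negCo_sq, one_mul])
    · rintro ⟨i, rfl⟩
      rw [map_zpow]
      have h1 : red xq = 1 := by
        show QuotientGroup.mk' N0 _ = 1
        rw [QuotientGroup.mk'_apply, QuotientGroup.eq_one_iff]
        exact mem_N0.2 ⟨1, by norm_num, Or.inl (pow_one _).symm⟩
      rw [h1, one_zpow]

/-! ### Perfectness -/

theorem rel_chk : pmEq (evQ (Suz.words.getD 24 [])) (mulP aT aT) = true ∧
    ((Suz.words.getD 24 []).all fun s => Nat.blt s 7) = true := by decide +kernel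

theorem cover_top {K : Subgroup Hq} (hx : xq ∈ K) (h : ∀ s < 7, hq s ∈ K) : K = ⊤ := by
  obtain ⟨η, hs, hg, hker⟩ := exists_eta
  refine top_le_iff.1 fun u _ => ?_
  obtain ⟨v, hv, e⟩ : η u ∈ K.map η := by
    have : (⊤ : Subgroup Spor.Suz) ≤ K.map η := by
      rw [← Suz.g_gen, Subgroup.closure_le]
      rintro _ ⟨s, hs', rfl⟩
      exact ⟨hq s, h s hs', hg s hs'⟩
    exact this (Subgroup.mem_top _)
  have hm : v⁻¹ * u ∈ Subgroup.zpowers xq := (hker _).1 (by rw [map_mul, map_inv, e, inv_mul_cancel])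
  have := mul_mem hv (Subgroup.zpowers_le.2 hx hm)
  rwa [mul_inv_cancel_left] at this

theorem hom_trivial {A : Type*} [CommGroup A] (f : Hq →* A) : f = 1 := by
  have hsq : ∀ s, f (hq s) * f (hq s) = 1 := fun s => by rw [← map_mul, hq_sq, map_one]
  have hw2 : ∀ w : List ℕ, f (ev hq w) * f (ev hq w) = 1 := fun w => by
    induction w with
    | nil => simp [ev]
    | cons s w ih => rw [ev, map_mul, mul_mul_mul_comm, hsq, ih, one_mul]
  have e : ev hq (Suz.words.getD 24 []) = xq * xq := by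
    apply iq_injective
    rw [ev_hq, iq_mk, xq, ← map_mul, iq_mk]
    exact mk_of_pm (hasT_evQ _ fun s hs => Nat.le_of_ble_eq_true (List.all_eq_true.1 rel_chk.2 s hs))
      (hasT_a.mul hasT_a) rel_chk.1
  have hx : f xq = 1 := by
    have h1 := hw2 (Suz.words.getD 24 [])
    rw [e, map_mul] at h1
    have h3 : f xq ^ 3 = 1 := by rw [← map_pow, xq_cube, map_one]
    calc f xq = (f xq * f xq * (f xq * f xq)) / f xq ^ 3 := by
          rw [eq_div_iff_mul_eq', pow_succ, pow_two]; simp only [mul_assoc]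
      _ = 1 := by rw [h1, h3, div_one]
  obtain ⟨η, hs, -, hker⟩ := exists_eta
  have hk : η.ker ≤ f.ker := fun u hu => by
    obtain ⟨i, rfl⟩ := (hker u).1 (MonoidHom.mem_ker.1 hu)
    rw [MonoidHom.mem_ker, map_zpow, hx, one_zpow]
  let f' : Spor.Suz →* A := (MonoidHom.liftOfSurjective η hs) ⟨f, hk⟩
  haveI := Suz.isSimple
  refine MonoidHom.ext fun u => ?_
  have hf : f u = f' (η u) := (MonoidHom.liftOfRightInverse_comp_apply η _ _ ⟨f, hk⟩ u).symm
  rw [hf, MonoidHom.one_apply]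
  rcases IsSimpleGroup.eq_bot_or_eq_top_of_normal f'.ker f'.normal_ker with hb | hb
  · exfalso
    have hi : Function.Injective f' := (MonoidHom.ker_eq_bot_iff f').1 hb
    refine not_comm_Sq ⟨⟨fun a b => ?_⟩⟩
    obtain ⟨e'⟩ := exists_equiv
    obtain ⟨a, rfl⟩ := e'.surjective a
    obtain ⟨b, rfl⟩ := e'.surjective b
    rw [← map_mul, ← map_mul]
    exact congrArg _ (hi (by rw [map_mul, map_mul, mul_comm]))
  · exact MonoidHom.mem_ker.1 (hb ▸ Subgroup.mem_top _)

theorem perfect_Hq : commutator Hq = ⊤ := by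
  refine top_le_iff.1 fun u _ => ?_
  have h := DFunLike.congr_fun (hom_trivial (Abelianization.of : Hq →* Abelianization Hq)) u
  rwa [MonoidHom.one_apply, ← MonoidHom.mem_ker, Abelianization.ker_of] at h

/-! ### The involution and the relations -/

/-- The rows of the involution. -/
theorem model_chk : chkT nT = true ∧ chkT sT = true ∧ (evQ swapW == gT) = true ∧ pmEq (mulP nT nT) oneP = true ∧
    pmEq (mulP sT sT) oneP = true ∧ pmEq (mulP gT gT) oneP = true ∧
    pmEq (mulP nT (mulP gT (mulP nT (mulP gT nT)))) sT = true ∧ pmEq (mulP sT gT) (mulP gT sT) = true ∧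
    pmEq (mulP nT (mulP sT gT)) (mulP (mulP sT gT) nT) = true ∧ (mulP sT aT == mulP (mulP aT aT) sT) = true ∧
    ((List.range 6).all fun i => pmEq (mulP nT (hqP i)) (mulP (hqP i) nT)) = true ∧
    ((List.range 5).all fun i => pmEq (mulP sT (hqP i)) (mulP (hqP i) sT)) = true ∧
    (swapW.all fun t => Nat.blt t 7) = true := by decide +kernel

/-- The double transposition in the lattice group. -/
def nC : Co0 := ofT nT

/-- The inverting member in the lattice group. -/
def sC : Co0 := ofT sT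

theorem hasT_n : HasT nC nT := hasT_ofT model_chk.1

theorem hasT_s : HasT sC sT := hasT_ofT model_chk.2.1

/-- The exchanging member. -/
def gq : Hq := ev hq swapW

theorem iq_gq_eq : ∃ u : CA, iq gq = Fus.Co1Centre.mk u ∧ HasT (u : Co0) (evQ swapW) :=
  ⟨ev hqC swapW, by rw [gq, ev_hq, iq_mk], hasT_evQ _ fun t ht =>
    Nat.le_of_ble_eq_true (List.all_eq_true.1 model_chk.2.2.2.2.2.2.2.2.2.2.2.2 t ht)⟩

theorem gq_rows : ∃ u : Co0, iq gq = Fus.Co1Centre.mk u ∧ HasT u gT := by
  obtain ⟨u, hu, hT⟩ := iq_gq_eq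
  exact ⟨u, hu, beq_iff_eq.1 model_chk.2.2.1 ▸ hT⟩

theorem gq_sq : gq * gq = 1 := by
  obtain ⟨u, hu, hT⟩ := gq_rows
  apply iq_injective
  rw [map_mul, hu, ← map_mul, map_one, ← map_one Fus.Co1Centre.mk]
  exact mk_of_pm (hT.mul hT) hasT_one model_chk.2.2.2.2.2.1

theorem s_conj_CA (u : CA) : sC * u * sC⁻¹ ∈ CA := by
  have h := hasT_s.mul hasT_a
  rw [beq_iff_eq.1 model_chk.2.2.2.2.2.2.2.2.2.1] at h
  have e : sC * aC = aC * aC * sC := h.eq ((hasT_a.mul hasT_a).mul hasT_s)
  have e' : sC⁻¹ * aC * sC = aC * aC := by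
    have h3 : aC * aC * aC = 1 := by rw [← a_cube, pow_succ, pow_two]
    have ha : aC * aC * (aC * aC) = aC := by
      calc aC * aC * (aC * aC) = aC * aC * aC * aC := by group
        _ = aC := by rw [h3, one_mul]
    calc sC⁻¹ * aC * sC = sC⁻¹ * (aC * aC * (aC * aC)) * sC := by rw [ha]
      _ = sC⁻¹ * (aC * aC * sC) * (sC⁻¹ * (aC * aC * sC)) := by group
      _ = aC * aC := by rw [← e]; group
  refine mem_CA.2 ?_
  have hu : (u : Co0) * (aC * aC) = aC * aC * u :=
    ((show Commute (u : Co0) aC from mem_CA.1 u.2).mul_right (show Commute (u : Co0) aC from mem_CA.1 u.2)).eq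
  calc sC * (u : Co0) * sC⁻¹ * aC = sC * ((u : Co0) * (sC⁻¹ * aC * sC)) * sC⁻¹ := by group
    _ = sC * (sC⁻¹ * aC * sC * u) * sC⁻¹ := by rw [e', hu]
    _ = _ := by group

/-- Conjugation by the inverting member. -/
def thC : CA →* CA where
  toFun u := ⟨sC * u * sC⁻¹, s_conj_CA u⟩
  map_one' := Subtype.ext (by simp)
  map_mul' u v := Subtype.ext (by simp only [Subgroup.coe_mul]; group)

/-- Its action on the cover. -/
def theta : Hq →* Hq := QuotientGroup.map Cn Cn thC fun (u : CA) (hu : u ∈ Cn) => by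
  have hc : (u : Co0) ∈ Subgroup.center Co0 := hu
  show sC * (u : Co0) * sC⁻¹ ∈ Subgroup.center Co0
  rwa [Subgroup.mem_center_iff.1 hc sC, mul_inv_cancel_right]

/-- The involution in the quotient. -/
def n1 : Spor.Co1 := Fus.Co1Centre.mk nC

/-- The inverting member in the quotient. -/
def s1 : Spor.Co1 := Fus.Co1Centre.mk sC

theorem n1_sq : n1 * n1 = 1 := by
  rw [n1, ← map_mul, ← map_one Fus.Co1Centre.mk]
  exact mk_of_pm (hasT_n.mul hasT_n) hasT_one model_chk.2.2.2.1

theorem s1_sq : s1 * s1 = 1 := by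
  rw [s1, ← map_mul, ← map_one Fus.Co1Centre.mk]
  exact mk_of_pm (hasT_s.mul hasT_s) hasT_one model_chk.2.2.2.2.1

theorem s1_theta (u : Hq) : s1 * iq u * s1 = iq (theta u) := by
  obtain ⟨v, rfl⟩ := QuotientGroup.mk'_surjective Cn u
  rw [show iq (theta (QuotientGroup.mk' Cn v)) = Fus.Co1Centre.mk (sC * v * sC⁻¹) from rfl, iq_mk, s1, map_mul, map_mul,
    map_inv, inv_eq_of_mul_eq_one_right (show Fus.Co1Centre.mk sC * Fus.Co1Centre.mk sC = 1 from s1_sq)]

theorem theta_xq : theta xq = xq⁻¹ := by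
  have h := hasT_s.mul hasT_a
  rw [beq_iff_eq.1 model_chk.2.2.2.2.2.2.2.2.2.1] at h
  have e : sC * aC = aC * aC * sC := h.eq ((hasT_a.mul hasT_a).mul hasT_s)
  rw [eq_inv_iff_mul_eq_one, xq, show theta (QuotientGroup.mk' Cn _) = QuotientGroup.mk' Cn (thC _) from rfl, ← map_mul,
    ← map_one (QuotientGroup.mk' Cn)]
  refine congrArg _ (Subtype.ext ?_)
  show sC * aC * sC⁻¹ * aC = 1
  rw [e, mul_inv_cancel_right, ← a_cube, pow_succ, pow_two]

theorem n1_hq {i : ℕ} (hi : i < 6) : n1 * iq (hq i) = iq (hq i) * n1 := by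
  have h := List.all_eq_true.1 model_chk.2.2.2.2.2.2.2.2.2.2.1 i (List.mem_range.2 hi)
  rw [n1, hq, iq_mk, ← map_mul, ← map_mul]
  exact mk_of_pm (hasT_n.mul (hasT_hqC (by omega))) ((hasT_hqC (by omega)).mul hasT_n) h

theorem theta_hq {i : ℕ} (hi : i < 5) : theta (hq i) = hq i := by
  apply iq_injective
  have h := List.all_eq_true.1 model_chk.2.2.2.2.2.2.2.2.2.2.2.1 i (List.mem_range.2 hi)
  rw [← s1_theta]
  have e : s1 * iq (hq i) = iq (hq i) * s1 := by
    rw [s1, hq, iq_mk, ← map_mul, ← map_mul]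
    exact mk_of_pm (hasT_s.mul (hasT_hqC (by omega))) ((hasT_hqC (by omega)).mul hasT_s) h
  rw [e, mul_assoc, s1_sq, mul_one]

theorem tri1 : n1 * iq gq * n1 * iq gq * n1 = s1 := by
  obtain ⟨u, hu, hT⟩ := gq_rows
  rw [hu, n1, s1, ← map_mul, ← map_mul, ← map_mul, ← map_mul]
  refine mk_of_pm ?_ hasT_s model_chk.2.2.2.2.2.2.1
  have := hasT_n.mul (hT.mul (hasT_n.mul (hT.mul hasT_n)))
  simpa [mul_assoc] using this

theorem s1_gq : s1 * iq gq = iq gq * s1 := by
  obtain ⟨u, hu, hT⟩ := gq_rows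
  rw [hu, s1, ← map_mul, ← map_mul]
  exact mk_of_pm (hasT_s.mul hT) (hT.mul hasT_s) model_chk.2.2.2.2.2.2.2.1

theorem n1_sg : n1 * (s1 * iq gq) = s1 * iq gq * n1 := by
  obtain ⟨u, hu, hT⟩ := gq_rows
  rw [hu, n1, s1, ← map_mul, ← map_mul, ← map_mul]
  exact mk_of_pm (hasT_n.mul (hasT_s.mul hT)) ((hasT_s.mul hT).mul hasT_n) model_chk.2.2.2.2.2.2.2.2.1

end Cfsg.Agent.Spor.CoUniq

end
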