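import Cfsg.Agent.Lib.Spor.CoUniq.GSigns
import Cfsg.Agent.Lib.Spor.CoUniq.Model
import Cfsg.Agent.Lib.Invol.Co1.Setting
import Cfsg.Agent.Lib.Invol.Co1.Sep

/-!
The three classes of involutions of the model, with the two kinds of sign changes.
-/

set_option autoImplicit false
set_option maxRecDepth 100000

open Cfsg
open scoped Pointwise

namespace Cfsg.Agent.Spor.CoUniq

open Cfsg.Agent.Spor Cfsg.Agent.Spor.Leech
open Cfsg.Agent.Fus
open Co1Centre (mk eO)
open Co1Out (dg md md_eq E1)
open Cfsg.Agent.Invol.Co1 (Std)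

local notation "SC" => supports (golayCode : Set (GolayPt → ZMod 2))

theorem finite_model : Finite Spor.Co1 := Quotient.finite _

/-- The model in coordinates. -/
theorem model_std : ∃ (Q : Subgroup Spor.Co1) (cd : Spor.Co1 → ℕ), Std (mk eO) Q cd ∧ Nat.card Q = 512 ∧
    Nat.card (Subgroup.centralizer ({mk eO} : Set Spor.Co1)) = 42525 * (2 ^ 12 * Nat.card Q) := by
  haveI := finite_model
  haveI := Co1Centre.theta.normal_ker
  obtain ⟨cd, h⟩ := Invol.Co1.setting_of (mk eO) Co1Centre.orderOf_eO Co1Centre.theta.ker Co1Centre.gfit_eq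
    Co1Centre.extraspecial Co1Centre.card_Q
    (by rw [← Classical.coe_qfPlus]; exact QuotientGroup.quotientKerEquivOfSurjective _ Co1Centre.theta_surjective)
    Co1Centre.not_weakly_closed
  exact ⟨_, cd, h⟩

theorem dd_card : (Golay.pts Golay.dd).card = 12 := Golay.pts_dd_mem.2

theorem dd_sc : Golay.pts Golay.dd ∈ SC := Golay.pts_dd_mem.1

/-- The sign change on the fixed word of weight twelve. -/
def dod : Spor.Co1 := dg dd_sc

theorem n_chk : (CoSuz.mulP nT nT == CoSuz.oneP.map CoSuz.negX) = true := by decide +kernel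

theorem nC_sq : nC * nC = negCo :=
  (hasT_n.mul hasT_n).eq ((beq_iff_eq.1 n_chk).symm ▸ by
    simpa using (CoSuz.hasT_one).neg)

theorem negCo_ne : negCo ≠ (1 : Co0) := negCo_ne_one

/-- An element whose lift squares to the centre. -/
def Twist (u : Spor.Co1) : Prop := ∃ g : Co0, mk g = u ∧ g * g = negCo

theorem twist_conj {u v : Spor.Co1} (h : Twist u) (hc : IsConj u v) : Twist v := by
  obtain ⟨g, rfl, hg⟩ := h
  obtain ⟨c', hc'⟩ := isConj_iff.1 hc
  obtain ⟨c, rfl⟩ := QuotientGroup.mk'_surjective (Subgroup.center Co0) c'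
  refine ⟨c * g * c⁻¹, by rw [← hc']; simp only [map_mul, map_inv]; rfl, ?_⟩
  calc c * g * c⁻¹ * (c * g * c⁻¹) = c * (g * g) * c⁻¹ := by group
    _ = negCo := by rw [hg, negCo_central c, mul_inv_cancel_right]

theorem not_twist_of_invol {g : Co0} (h : g * g = 1) : ¬ Twist (mk g) := by
  rintro ⟨k, hk, hk2⟩
  rcases Co1Centre.mk_eq.1 hk with rfl | rfl
  · exact negCo_ne (hk2.symm.trans h)
  · refine negCo_ne (hk2.symm.trans ?_)
    calc negCo * g * (negCo * g) = negCo * (g * negCo) * g := by group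
      _ = negCo * negCo * (g * g) := by rw [negCo_central g]; group
      _ = 1 := by rw [h, mul_one, CoSuz.negCo_sq]

theorem mono_sign_sq {c : Finset GolayPt} (hc : c ∈ SC) : mono (one_mem M24) hc * mono (one_mem M24) hc = 1 := by
  refine ext_axis fun i => Subtype.ext (funext fun k => ?_)
  rw [mul_smul, one_smul, sign_apply, sign_apply]
  split_ifs <;> simp

theorem not_twist_dg {c : Finset GolayPt} (hc : c ∈ SC) : ¬ Twist (dg hc) := not_twist_of_invol (mono_sign_sq hc)

theorem not_twist_eO : ¬ Twist (mk eO) := not_twist_of_invol (mono_sign_sq _)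

theorem twist_n : Twist n1 := ⟨nC, rfl, nC_sq⟩

theorem orderOf_dg {c : Finset GolayPt} (hc : c ∈ SC) (h : dg hc ≠ 1) : orderOf (dg hc) = 2 :=
  orderOf_eq_prime (by rw [pow_two]; exact Co1Out.dg_sq hc) h

theorem dg_ne {c : Finset GolayPt} (hc : c ∈ SC) (h0 : c.card ≠ 0) (h24 : c.card ≠ 24) : dg hc ≠ 1 := fun e => by
  obtain ⟨-, h | h⟩ := Co1Out.md_eq_one.1 e <;> subst h
  · exact h0 rfl
  · exact h24 (by rw [Finset.card_univ, Golay.card_golayPt])

theorem orderOf_dod : orderOf dod = 2 :=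
  orderOf_dg _ (dg_ne _ (by rw [dd_card]; norm_num) (by rw [dd_card]; norm_num))

theorem n1_ne : n1 ≠ 1 := fun e => not_twist_of_invol (one_mul 1) (by rw [map_one, ← e]; exact twist_n)

theorem orderOf_n1 : orderOf n1 = 2 := orderOf_eq_prime (by rw [pow_two]; exact n1_sq) n1_ne

theorem not_conj_eO_dod : ¬ IsConj (mk eO) dod := not_conj_dod _ dd_card

theorem not_conj_eO_n : ¬ IsConj (mk eO) n1 := fun h => not_twist_eO (twist_conj twist_n h.symm)

theorem not_conj_dod_n : ¬ IsConj dod n1 := fun h => not_twist_dg _ (twist_conj twist_n h.symm)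

/-- Three classes. -/
theorem classes3 {u : Spor.Co1} (hu : orderOf u = 2) :
    IsConj u (mk eO) ∨ IsConj u dod ∨ IsConj u n1 := by
  haveI := finite_model
  obtain ⟨Q, cd, S, h512, hC⟩ := model_std
  obtain ⟨a, b, c, -, -, -, -, -, -, hall⟩ := Invol.Co1.Pr.three S h512 hC
  have key : ∀ {x y w : Spor.Co1}, IsConj x w → IsConj y w → IsConj x y := fun h1 h2 => h1.trans h2.symm
  have h1 := hall _ Co1Centre.orderOf_eO
  have h2 := hall _ orderOf_dod
  have h3 := hall _ orderOf_n1
  have h0 := hall u hu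
  rcases h1 with h1 | h1 | h1 <;> rcases h2 with h2 | h2 | h2 <;>
    first
    | exact absurd (key h1 h2) not_conj_eO_dod
    | (rcases h3 with h3 | h3 | h3 <;>
        first
        | exact absurd (key h1 h3) not_conj_eO_n
        | exact absurd (key h2 h3) not_conj_dod_n
        | (rcases h0 with h0 | h0 | h0 <;>
            first
            | exact Or.inl (key h0 h1)
            | exact Or.inr (Or.inl (key h0 h2))
            | exact Or.inr (Or.inr (key h0 h3))))

theorem conj_dods {D : Finset GolayPt} (hD : D ∈ SC) (h12 : D.card = 12) : IsConj (dg hD) dod := by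
  rcases classes3 (orderOf_dg hD (dg_ne hD (by rw [h12]; norm_num) (by rw [h12]; norm_num))) with h | h | h
  · exact absurd h.symm (not_conj_dod hD h12)
  · exact h
  · exact absurd (twist_conj twist_n h.symm) (not_twist_dg hD)

/-- A sign change is trivial or of one of two kinds. -/
theorem E1_cases {x : Spor.Co1} (hx : x ∈ E1) (h1 : x ≠ 1) :
    IsConj (mk eO) x ∨ ∃ (D : Finset GolayPt) (hD : D ∈ SC), D.card = 12 ∧ x = dg hD := by
  obtain ⟨c, hc, rfl⟩ := hx
  obtain ⟨w, hw, hwc⟩ := id hc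
  rcases code_weight hw with h | h | h | h | h <;> rw [hwc] at h
  · exact absurd (Co1Out.md_eq_one.2 ⟨rfl, Or.inl (Finset.card_eq_zero.1 h)⟩) h1
  · exact Or.inl (conj_octad hc h)
  · exact Or.inr ⟨c, hc, h, rfl⟩
  · have h8 : cᶜ.card = 8 := by rw [Finset.card_compl, Golay.card_golayPt, h]
    rw [show dg hc = dg (Co1Out.compl_mem hc) from md_eq.2 ⟨rfl, Or.inr (compl_compl c).symm⟩]
    exact Or.inl (conj_octad _ h8)
  · exact absurd (Co1Out.md_eq_one.2 ⟨rfl, Or.inr ((Finset.card_eq_iff_eq_univ c).1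
      (by rw [h, Golay.card_golayPt]))⟩) h1

/-- The sign change of a listed word. -/
def octEl (m : ℕ) (hm : m ∈ Golay.octList) : Spor.Co1 := dg (Golay.mem_octads.2 ⟨m, hm, rfl⟩).1

/-- The sign changes conjugate to the standard one. -/
noncomputable def Oc : Finset Spor.Co1 := by
  classical exact Golay.octList.toFinset.attach.image fun m => octEl m.1 (List.mem_toFinset.1 m.2)

theorem octEl_inj {a b : ℕ} {ha : a ∈ Golay.octList} {hb : b ∈ Golay.octList} (h : octEl a ha = octEl b hb) :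
    a = b := by
  obtain ⟨-, h | h⟩ := md_eq.1 h
  · exact Golay.pts_injOn (Golay.weightList_lt ha) (Golay.weightList_lt hb) h
  · exfalso
    have := congrArg Finset.card h
    rw [Finset.card_compl, Golay.card_golayPt, Golay.card_pts, Golay.card_pts,
      (Golay.mem_weightList.1 ha).2, (Golay.mem_weightList.1 hb).2] at this
    omega

theorem card_Oc : Oc.card = 759 := by
  classical
  rw [Oc, Finset.card_image_of_injective _ (fun a b h => Subtype.ext (octEl_inj h)), Finset.card_attach,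
    List.toFinset_card_of_nodup (Golay.weightList_nodup 8)]
  decide +kernel

theorem mem_Oc {x : Spor.Co1} : x ∈ Oc ↔ x ∈ E1 ∧ IsConj (mk eO) x := by
  classical
  simp only [Oc, Finset.mem_image, Finset.mem_attach, true_and, Subtype.exists, List.mem_toFinset]
  constructor
  · rintro ⟨m, hm, rfl⟩
    exact ⟨Co1Out.dg_mem _, conj_octad _ (Golay.mem_octads.2 ⟨m, hm, rfl⟩).2⟩
  · rintro ⟨⟨c, hc, rfl⟩, h⟩
    have h8 : c.card = 8 ∨ cᶜ.card = 8 := by
      obtain ⟨w, hw, hwc⟩ := id hc
      rcases code_weight hw with e | e | e | e | e <;> rw [hwc] at e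
      · exfalso
        obtain ⟨g, hg⟩ := isConj_iff.1 h
        rw [show dg hc = 1 from Co1Out.md_eq_one.2 ⟨rfl, Or.inl (Finset.card_eq_zero.1 e)⟩, conj_eq_one_iff] at hg
        exact absurd Co1Centre.orderOf_eO (by rw [hg, orderOf_one]; norm_num)
      · exact Or.inl e
      · exact absurd h (not_conj_dod hc e)
      · exact Or.inr (by rw [Finset.card_compl, Golay.card_golayPt, e])
      · exfalso
        obtain ⟨g, hg⟩ := isConj_iff.1 h
        rw [show dg hc = 1 from Co1Out.md_eq_one.2 ⟨rfl, Or.inr ((Finset.card_eq_iff_eq_univ c).1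
          (by rw [e, Golay.card_golayPt]))⟩, conj_eq_one_iff] at hg
        exact absurd Co1Centre.orderOf_eO (by rw [hg, orderOf_one]; norm_num)
    rcases h8 with h8 | h8
    · obtain ⟨m, hm, e⟩ := Golay.mem_octads.1 ⟨hc, h8⟩
      exact ⟨m, hm, md_eq.2 ⟨rfl, Or.inl e.symm⟩⟩
    · obtain ⟨m, hm, e⟩ := Golay.mem_octads.1 ⟨Co1Out.compl_mem hc, h8⟩
      exact ⟨m, hm, md_eq.2 ⟨rfl, Or.inr e.symm⟩⟩

theorem oct_count : (Golay.octList.countP fun m =>
    Nat.beq (Golay.pop (m ^^^ Golay.dd)) 8 || Nat.beq (Golay.pop (m ^^^ Golay.dd)) 16) = 264 := by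
  decide +kernel

open scoped _root_.Classical in
/-- How many of them stay in the class on multiplying by the fixed word. -/
theorem count_dod : (Oc.filter fun x => IsConj (mk eO) (x * dod)).card = 264 := by
  rw [Oc, Finset.filter_image, Finset.card_image_of_injective _ (fun a b h => Subtype.ext (octEl_inj h))]
  have hiff : ∀ m (hm : m ∈ Golay.octList), IsConj (mk eO) (octEl m hm * dod) ↔
      (Nat.beq (Golay.pop (m ^^^ Golay.dd)) 8 || Nat.beq (Golay.pop (m ^^^ Golay.dd)) 16) = true := by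
    intro m hm
    have hmc := (Golay.mem_weightList.1 hm).1
    have hdc : Golay.dd ∈ Golay.codeList := Golay.mem_codeList.2 Golay.dd_checks.1
    have hsc : Golay.pts (m ^^^ Golay.dd) ∈ SC :=
      ⟨Golay.vec (m ^^^ Golay.dd), Golay.mem_golayCode.2 ⟨_, Golay.xor_mem_codeList hmc hdc, rfl⟩, Golay.support_vec _⟩
    have e : octEl m hm * dod = dg hsc := by
      rw [octEl, dod, Co1Out.dg_mul]
      exact md_eq.2 ⟨rfl, Or.inl (Golay.pts_symmDiff _ _)⟩
    rw [e, Bool.or_eq_true, Nat.beq_eq, Nat.beq_eq, ← Golay.card_pts]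
    constructor
    · intro h
      have hm' : dg hsc ∈ Oc := mem_Oc.2 ⟨Co1Out.dg_mem _, h⟩
      simp only [Oc, Finset.mem_image, Finset.mem_attach, true_and, Subtype.exists, List.mem_toFinset] at hm'
      obtain ⟨a, ha, he⟩ := hm'
      obtain ⟨-, h | h⟩ := md_eq.1 he
      · left; rw [← h, Golay.card_pts]; exact (Golay.mem_weightList.1 ha).2
      · right
        have := congrArg Finset.card h
        rw [Finset.card_compl, Golay.card_golayPt, Golay.card_pts, (Golay.mem_weightList.1 ha).2] at this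
        omega
    · rintro (h | h)
      · exact conj_octad hsc h
      · rw [show dg hsc = dg (Co1Out.compl_mem hsc) from md_eq.2 ⟨rfl, Or.inr (compl_compl _).symm⟩]
        exact conj_octad _ (by rw [Finset.card_compl, Golay.card_golayPt, h])
  rw [← oct_count, List.countP_eq_length_filter, ← List.toFinset_card_of_nodup ((Golay.weightList_nodup 8).filter _)]
  refine Finset.card_bij (fun m _ => m.1) (fun m hm => ?_) (fun a _ b _ h => Subtype.ext h) (fun b hb => ?_)
  · rw [List.mem_toFinset, List.mem_filter]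
    exact ⟨List.mem_toFinset.1 m.2, (hiff _ _).1 (Finset.mem_filter.1 hm).2⟩
  · rw [List.mem_toFinset, List.mem_filter] at hb
    exact ⟨⟨b, List.mem_toFinset.2 hb.1⟩, Finset.mem_filter.2 ⟨Finset.mem_attach _ _, (hiff _ hb.1).2 hb.2⟩, rfl⟩

open scoped _root_.Classical in
/-- The same count for every word of weight twelve. -/
theorem count_any {D : Finset GolayPt} (hD : D ∈ SC) (h12 : D.card = 12) :
    (Oc.filter fun x => IsConj (mk eO) (x * dg hD)).card = 264 := by
  obtain ⟨c, hc⟩ := isConj_iff.1 (conj_dods hD h12)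
  have hN : c ∈ Co1Out.N1 := mem_N1_of_conj h12 dd_card (x := c) (hD := hD) (hD' := dd_sc)
    (show c * dg hD = dod * c by rw [← hc]; group)
  have hOc : ∀ {k x : Spor.Co1}, k ∈ Co1Out.N1 → x ∈ Oc → k * x * k⁻¹ ∈ Oc := fun {k x} hk hx =>
    mem_Oc.2 ⟨Co1Out.conj_E1 hk (mem_Oc.1 hx).1, (mem_Oc.1 hx).2.trans (isConj_iff.2 ⟨k, rfl⟩)⟩
  rw [← count_dod]
  refine Finset.card_bij (fun x _ => c * x * c⁻¹) (fun x hx => ?_) (fun a _ b _ h => by simpa using h)
    (fun b hb => ⟨c⁻¹ * b * c, ?_, by group⟩)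
  · obtain ⟨hx1, hx2⟩ := Finset.mem_filter.1 hx
    refine Finset.mem_filter.2 ⟨hOc hN hx1, hx2.trans (isConj_iff.2 ⟨c, ?_⟩)⟩
    rw [← hc]; group
  · obtain ⟨hb1, hb2⟩ := Finset.mem_filter.1 hb
    refine Finset.mem_filter.2 ⟨by simpa using hOc (inv_mem hN) hb1, hb2.trans (isConj_iff.2 ⟨c⁻¹, ?_⟩)⟩
    rw [← hc]; group

end Cfsg.Agent.Spor.CoUniq
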