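import Cfsg.Agent.Lib.Spor.CoUniq.GCls
import Cfsg.Agent.Lib.Fus.Co1Out.Stable

/-!
A group of first Conway type containing a copy of the model is that copy: no order formula is used, only the three
classes of involutions and a count of sign changes.
-/

set_option autoImplicit false
set_option maxRecDepth 100000

open Cfsg
open scoped Pointwise

namespace Cfsg.Agent.Spor.CoUniq

open Cfsg.Agent.Spor Cfsg.Agent.Spor.Leech
open Cfsg.Agent.Fus
open Co1Centre (mk eO)
open Co1Out (dg E1)
open Cfsg.Agent.Invol.Co1 (Std)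

local notation "SC" => supports (golayCode : Set (GolayPt → ZMod 2))

section Dihedral

variable {K : Type*} [Group K]

/-- A reflection of a dihedral group is conjugate to one of the two generators. -/
theorem refl_conj {x y : K} (hx : x * x = 1) (hy : y * y = 1) (j : ℕ) :
    ∃ e ∈ Subgroup.closure ({x, y} : Set K),
      (Even j ∧ x * (x * y) ^ j = e * x * e⁻¹) ∨ (Odd j ∧ x * (x * y) ^ j = e * y * e⁻¹) := by
  have hxi : x⁻¹ = x := inv_eq_of_mul_eq_one_right hx
  have hyi : y⁻¹ = y := inv_eq_of_mul_eq_one_right hy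
  have hc : x * y ∈ Subgroup.closure ({x, y} : Set K) :=
    mul_mem (Subgroup.subset_closure (Or.inl rfl)) (Subgroup.subset_closure (Or.inr rfl))
  have hflip : ∀ i : ℕ, x * (x * y) ^ i = ((x * y) ^ i)⁻¹ * x := by
    intro i
    induction i with
    | zero => simp
    | succ i ih =>
      calc x * (x * y) ^ (i + 1) = x * (x * y) ^ i * (x * y) := by rw [pow_succ, ← mul_assoc]
        _ = ((x * y) ^ i)⁻¹ * ((x * x) * y) := by rw [ih]; group
        _ = ((x * y) ^ i)⁻¹ * y := by rw [hx, one_mul]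
        _ = ((x * y) ^ (i + 1))⁻¹ * x := by
          rw [pow_succ', mul_inv_rev, mul_assoc, mul_inv_rev, hxi, hyi, mul_assoc y, hx, mul_one]
  rcases Nat.even_or_odd j with h | h
  · obtain ⟨i, rfl⟩ := id h
    refine ⟨((x * y) ^ i)⁻¹, inv_mem (pow_mem hc i), Or.inl ⟨h, ?_⟩⟩
    rw [pow_add, ← mul_assoc, hflip i, inv_inv]
  · obtain ⟨i, rfl⟩ := id h
    refine ⟨((x * y) ^ i)⁻¹, inv_mem (pow_mem hc i), Or.inr ⟨h, ?_⟩⟩
    rw [inv_inv, show 2 * i + 1 = i + (1 + i) by ring, pow_add, pow_add, pow_one, ← mul_assoc, hflip i]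
    calc ((x * y) ^ i)⁻¹ * x * (x * y * (x * y) ^ i) = ((x * y) ^ i)⁻¹ * ((x * x) * y) * (x * y) ^ i := by
          simp only [mul_assoc]
      _ = _ := by rw [hx, one_mul]

theorem pow_comm_gen {x y : K} (hx : x * x = 1) (hy : y * y = 1) {n m : ℕ} (hn : (x * y) ^ n = 1) (hnm : n = 2 * m) :
    Commute x ((x * y) ^ m) ∧ Commute y ((x * y) ^ m) := by
  have hw : (x * y) ^ m * (x * y) ^ m = 1 := by rw [← pow_add, ← two_mul, ← hnm, hn]
  have hxi : x⁻¹ = x := inv_eq_of_mul_eq_one_right hx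
  have h1 : Commute x ((x * y) ^ m) := by
    have e : x * (x * y) * x = (x * y)⁻¹ := by
      rw [mul_inv_rev, hxi, inv_eq_of_mul_eq_one_right hy, ← mul_assoc, hx, one_mul]
    have e2 : x * (x * y) ^ m * x = ((x * y) ^ m)⁻¹ := by
      have h := conj_pow (a := x) (b := x * y) (i := m)
      rw [hxi, e, inv_pow] at h
      exact h.symm
    show x * (x * y) ^ m = (x * y) ^ m * x
    calc x * (x * y) ^ m = x * (x * y) ^ m * (x * x) := by rw [hx, mul_one]
      _ = x * (x * y) ^ m * x * x := by group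
      _ = _ := by rw [e2, inv_eq_of_mul_eq_one_right hw]
  refine ⟨h1, ?_⟩
  have h2 : Commute (x * y) ((x * y) ^ m) := Commute.self_pow _ m
  have : Commute (x⁻¹ * (x * y)) ((x * y) ^ m) := (h1.inv_left).mul_left h2
  rwa [inv_mul_cancel_left] at this

theorem comm_of_mem {x y q : K} (hx : Commute x q) (hy : Commute y q) {e : K}
    (he : e ∈ Subgroup.closure ({x, y} : Set K)) : Commute e q := by
  have : Subgroup.closure ({x, y} : Set K) ≤ Subgroup.centralizer ({q} : Set K) := by
    rw [Subgroup.closure_le]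
    rintro u (rfl | rfl)
    · exact Subgroup.mem_centralizer_singleton_iff.2 hx
    · exact Subgroup.mem_centralizer_singleton_iff.2 hy
  exact Subgroup.mem_centralizer_singleton_iff.1 (this he)

end Dihedral

variable {G : Type*} [Group G] [Finite G] {z : G} {Q : Subgroup G} {cd : G → ℕ}

/-- What is used of an embedding. -/
structure Emb (th : Spor.Co1 →* G) : Prop where
  intro ::
  inj : Function.Injective th
  cent : ∀ g, g * th (mk eO) = th (mk eO) * g → g ∈ th.range
  fus : ∀ u v, orderOf u = 2 → orderOf v = 2 → IsConj (th u) (th v) → IsConj u v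

set_option maxHeartbeats 1000000 in
theorem exists_emb (S : Std z Q cd) (hQ : Nat.card Q = 512)
    (hC : Nat.card (Subgroup.centralizer ({z} : Set G)) = 42525 * (2 ^ 12 * Nat.card Q))
    {th : Spor.Co1 →* G} (hth : Function.Injective th) : Emb th := by
  classical
  haveI := finite_model
  haveI : Fact (Nat.Prime 2) := ⟨Nat.prime_two⟩
  obtain ⟨H, hH, -⟩ := Invol.Co1.exists_full S.code hC
  have hHc := Invol.Co1.card_full hH hQ hC
  obtain ⟨Q0, cd0, S0, hQ0, hC0⟩ := model_std
  obtain ⟨H0, hH0, -⟩ := Invol.Co1.exists_full S0.code hC0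
  have hH0c := Invol.Co1.card_full hH0 hQ0 hC0
  -- the image of a full subgroup
  set T := H0.map th
  have hTc : Nat.card T = 2 ^ 21 := by rw [Subgroup.card_map_of_injective hth, hH0c]
  have hTcent : ∀ u ∈ T, u * th (mk eO) = th (mk eO) * u := by
    rintro _ ⟨u, hu, rfl⟩
    rw [← map_mul, ← map_mul, Subgroup.mem_centralizer_singleton_iff.1 (hH0.le hu)]
  have hHP : ∀ P : Sylow 2 G, H ≤ P → (P : Subgroup G) = H := by
    intro P hP
    obtain ⟨n, hn⟩ := IsPGroup.iff_card.1 P.isPGroup'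
    refine (Subgroup.eq_of_le_of_card_ge hP ?_).symm
    by_contra hlt
    haveI : Group.IsNilpotent (P : Subgroup G) := P.isPGroup'.isNilpotent
    have hlt' : H.subgroupOf (P : Subgroup G) < ⊤ := lt_top_iff_ne_top.2 fun e =>
      hlt (Subgroup.card_le_of_le (Subgroup.subgroupOf_eq_top.1 e))
    obtain ⟨⟨p, hp⟩, hpn, hpH⟩ := SetLike.exists_of_lt (Group.normalizerCondition_of_isNilpotent _ hlt')
    rw [Subgroup.mem_subgroupOf] at hpH
    have hconj : ∀ y ∈ H, p⁻¹ * y * p ∈ H := fun y hy => by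
      have := (Subgroup.mem_normalizer_iff''.1 hpn ⟨y, hP hy⟩).1 (by rwa [Subgroup.mem_subgroupOf])
      rw [Subgroup.mem_subgroupOf] at this
      exact this
    set z' := p * z * p⁻¹
    have hcen : ∀ y ∈ H, y * z' = z' * y := by
      intro y hy
      have h2 : (p⁻¹ * y * p) * z = z * (p⁻¹ * y * p) :=
        Subgroup.mem_centralizer_singleton_iff.1 (hH.le (hconj y hy))
      calc y * z' = p * ((p⁻¹ * y * p) * z) * p⁻¹ := by simp only [z']; group
        _ = p * (z * (p⁻¹ * y * p)) * p⁻¹ := by rw [h2]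
        _ = z' * y := by simp only [z']; group
    have hz'Q : z' ∈ Q := S.code.ext.self z' fun q hq => hcen q (hH.Q_le hq)
    have hpz : p * z = z * p := by
      rcases S.code.ext.cen z' hz'Q (fun q hq => hcen q (hH.Q_le hq)) with e | e
      · exact absurd (conj_eq_one_iff.1 e) S.code.ne
      · calc p * z = p * z * p⁻¹ * p := by group
          _ = z * p := by rw [show p * z * p⁻¹ = z from e]
    set I := (P : Subgroup G) ⊓ Subgroup.centralizer ({z} : Set G)
    obtain ⟨i, hi⟩ := IsPGroup.iff_card.1 (P.isPGroup'.to_le (inf_le_left : I ≤ _))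
    have hIle : H ≤ I := le_inf hP hH.le
    have : I = H := (Subgroup.eq_of_le_of_card_ge hIle (by
      rw [hi, hHc]
      refine Nat.pow_le_pow_right (by norm_num) ?_
      by_contra hlt2
      exact hH.full 21 hHc ((pow_dvd_pow 2 (by omega : 21 + 1 ≤ i)).trans
        (hi ▸ Subgroup.card_dvd_of_le (inf_le_right : I ≤ _))))).symm
    exact hpH (this ▸ ⟨hp, Subgroup.mem_centralizer_singleton_iff.2 hpz⟩)
  obtain ⟨P, hP⟩ := hH.two.exists_le_sylow
  obtain ⟨R, hR⟩ := (IsPGroup.of_card hTc).exists_le_sylow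
  obtain ⟨c, hc⟩ := MulAction.exists_smul_eq G R P
  have hT : T.map (MulAut.conj c).toMonoidHom = H := by
    refine Subgroup.eq_of_le_of_card_ge ?_ ?_
    · rintro _ ⟨u, hu, rfl⟩
      rw [← hHP P hP, ← hc, Sylow.coe_subgroup_smul]
      exact Subgroup.smul_mem_pointwise_smul u (MulAut.conj c) _ (hR hu)
    · rw [Subgroup.card_map_of_injective (MulAut.conj c).injective, hTc, hHc]
  -- the image of the involution is conjugate to the centre
  set z0 := th (mk eO) with hz0
  have hz0T : z0 ∈ T := ⟨_, hH0.Q_le S0.code.ext.mem, rfl⟩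
  have hcz : c * z0 * c⁻¹ = z := by
    have hmem : c * z0 * c⁻¹ ∈ H := hT ▸ ⟨z0, hz0T, rfl⟩
    have hcen : ∀ q ∈ H, q * (c * z0 * c⁻¹) = c * z0 * c⁻¹ * q := by
      rintro q hq
      rw [← hT] at hq
      obtain ⟨u, hu, rfl⟩ := hq
      show c * u * c⁻¹ * (c * z0 * c⁻¹) = c * z0 * c⁻¹ * (c * u * c⁻¹)
      calc c * u * c⁻¹ * (c * z0 * c⁻¹) = c * (u * z0) * c⁻¹ := by group
        _ = c * (z0 * u) * c⁻¹ := by rw [hTcent u hu]
        _ = _ := by group
    rcases S.code.ext.cen _ (S.code.ext.self _ fun q hq => hcen q (hH.Q_le hq))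
      (fun q hq => hcen q (hH.Q_le hq)) with e | e
    · exfalso
      rw [conj_eq_one_iff, hz0, map_eq_one_iff _ hth] at e
      exact absurd Co1Centre.orderOf_eO (by rw [e, orderOf_one]; norm_num)
    · exact e
  have hcard : Nat.card (Subgroup.centralizer ({z0} : Set G)) = 42525 * (2 ^ 12 * Nat.card Q) := by
    rw [← hC]
    refine Nat.card_congr (Equiv.subtypeEquiv (MulAut.conj c).toEquiv fun u => ?_)
    simp only [Subgroup.mem_centralizer_singleton_iff, MulEquiv.toEquiv_eq_coe, EquivLike.coe_coe,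
      MulAut.conj_apply, ← hcz]
    constructor <;> intro h
    · calc c * u * c⁻¹ * (c * z0 * c⁻¹) = c * (u * z0) * c⁻¹ := by group
        _ = c * (z0 * u) * c⁻¹ := by rw [h]
        _ = _ := by group
    · calc u * z0 = c⁻¹ * (c * u * c⁻¹ * (c * z0 * c⁻¹)) * c := by group
        _ = c⁻¹ * (c * z0 * c⁻¹ * (c * u * c⁻¹)) * c := by rw [h]
        _ = _ := by group
  have hmap : (Subgroup.centralizer ({mk eO} : Set Spor.Co1)).map th = Subgroup.centralizer ({z0} : Set G) := by
    refine Subgroup.eq_of_le_of_card_ge ?_ ?_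
    · rintro _ ⟨u, hu, rfl⟩
      exact Subgroup.mem_centralizer_singleton_iff.2 (by
        rw [hz0, ← map_mul, ← map_mul, Subgroup.mem_centralizer_singleton_iff.1 hu])
    · rw [Subgroup.card_map_of_injective hth, hcard, hC0, hQ, hQ0]
  have hcent : ∀ g, g * z0 = z0 * g → g ∈ th.range := fun g hg => by
    obtain ⟨u, -, hu⟩ := (hmap ▸ (Subgroup.mem_centralizer_singleton_iff.2 hg) :
      g ∈ (Subgroup.centralizer ({mk eO} : Set Spor.Co1)).map th)
    exact ⟨u, hu⟩
  refine ⟨hth, hcent, fun u v hu hv huv => ?_⟩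
  -- three classes in both groups
  obtain ⟨a, b, c', ha, hb, hc', hab, hac, hbc, -⟩ := Invol.Co1.Pr.three S hQ hC
  have hinR : ∀ x : G, orderOf x = 2 →
      IsConj x (th (mk eO)) ∨ IsConj x (th dod) ∨ IsConj x (th n1) := by
    intro x hx
    obtain ⟨g, hg⟩ := hH.global S.code (x := x) (by rw [← pow_two, ← hx, pow_orderOf_eq_one])
    rw [← hT] at hg
    obtain ⟨w, hw, hwe⟩ := hg
    obtain ⟨w', -, rfl⟩ := hw
    have hxw : IsConj x (th w') := by
      refine isConj_iff.2 ⟨c⁻¹ * g, ?_⟩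
      have : c * th w' * c⁻¹ = g * x * g⁻¹ := hwe
      calc c⁻¹ * g * x * (c⁻¹ * g)⁻¹ = c⁻¹ * (g * x * g⁻¹) * c := by group
        _ = th w' := by rw [← this]; group
    have hw' : orderOf w' = 2 := by
      rw [← orderOf_injective th hth]
      obtain ⟨k, hk⟩ := isConj_iff.1 hxw
      rw [← hk, ← hx]
      exact orderOf_injective (MulAut.conj k).toMonoidHom (MulAut.conj k).injective x
    exact (classes3 hw').imp (fun h => hxw.trans (th.map_isConj h))
      (Or.imp (fun h => hxw.trans (th.map_isConj h)) fun h => hxw.trans (th.map_isConj h))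
  have htwo : ∀ p r : G, (IsConj a p ∨ IsConj a r) → (IsConj b p ∨ IsConj b r) → (IsConj c' p ∨ IsConj c' r) →
      False := by
    rintro p r (h1 | h1) (h2 | h2) (h3 | h3) <;>
      first
      | exact hab (h1.trans h2.symm)
      | exact hac (h1.trans h3.symm)
      | exact hbc (h2.trans h3.symm)
  have hdist : ¬ IsConj (th (mk eO)) (th dod) ∧ ¬ IsConj (th (mk eO)) (th n1) ∧ ¬ IsConj (th dod) (th n1) := by
    refine ⟨fun h => htwo (th dod) (th n1) ?_ ?_ ?_, fun h => htwo (th n1) (th dod) ?_ ?_ ?_,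
      fun h => htwo (th n1) (th (mk eO)) ?_ ?_ ?_⟩
    all_goals
      first
      | exact (hinR a ha).elim (fun e => Or.inl (e.trans h)) id
      | exact (hinR b hb).elim (fun e => Or.inl (e.trans h)) id
      | exact (hinR c' hc').elim (fun e => Or.inl (e.trans h)) id
      | exact (hinR a ha).elim (fun e => Or.inl (e.trans h)) fun e => Or.symm e
      | exact (hinR b hb).elim (fun e => Or.inl (e.trans h)) fun e => Or.symm e
      | exact (hinR c' hc').elim (fun e => Or.inl (e.trans h)) fun e => Or.symm e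
      | exact (hinR a ha).elim Or.inr fun e => e.elim (fun e => Or.inl (e.trans h)) Or.inl
      | exact (hinR b hb).elim Or.inr fun e => e.elim (fun e => Or.inl (e.trans h)) Or.inl
      | exact (hinR c' hc').elim Or.inr fun e => e.elim (fun e => Or.inl (e.trans h)) Or.inl
  obtain ⟨d1, d2, d3⟩ := hdist
  have hm : ∀ {p q : Spor.Co1}, IsConj p q → IsConj (th p) (th q) := fun h => th.map_isConj h
  rcases classes3 hu with h1 | h1 | h1 <;> rcases classes3 hv with h2 | h2 | h2 <;>
    first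
    | exact h1.trans h2.symm
    | exact absurd (((hm h1).symm.trans huv).trans (hm h2)) d1
    | exact absurd (((hm h1).symm.trans huv).trans (hm h2)).symm d1
    | exact absurd (((hm h1).symm.trans huv).trans (hm h2)) d2
    | exact absurd (((hm h1).symm.trans huv).trans (hm h2)).symm d2
    | exact absurd (((hm h1).symm.trans huv).trans (hm h2)) d3
    | exact absurd (((hm h1).symm.trans huv).trans (hm h2)).symm d3

namespace Emb

variable {th : Spor.Co1 →* G} (E : Emb th)
include E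

theorem order_eq {u : Spor.Co1} {g : G} {u' : Spor.Co1} (h : g * th u * g⁻¹ = th u') : orderOf u' = orderOf u := by
  rw [← orderOf_injective th E.inj u', ← h, ← orderOf_injective th E.inj u]
  exact orderOf_injective (MulAut.conj g).toMonoidHom (MulAut.conj g).injective (th u)

theorem fix_one {u : Spor.Co1} (hu : IsConj (mk eO) u) {g : G} (h : g * th u * g⁻¹ ∈ th.range) : g ∈ th.range := by
  obtain ⟨u', hu'⟩ := h
  obtain ⟨s, hs⟩ := isConj_iff.1 hu
  have ho : orderOf u = 2 := by
    rw [← hs, ← Co1Centre.orderOf_eO]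
    exact orderOf_injective (MulAut.conj s).toMonoidHom (MulAut.conj s).injective _
  obtain ⟨r, hr⟩ := isConj_iff.1 (E.fus u u' ho (by rw [E.order_eq hu'.symm, ho]) (isConj_iff.2 ⟨g, hu'.symm⟩))
  set k := (th s)⁻¹ * ((th r)⁻¹ * g) * th s with hk
  have hkz : k * th (mk eO) = th (mk eO) * k := by
    refine mul_inv_eq_iff_eq_mul.1 ?_
    calc k * th (mk eO) * k⁻¹ = (th s)⁻¹ * ((th r)⁻¹ * (g * (th s * th (mk eO) * (th s)⁻¹) * g⁻¹) * th r) * th s := by
          rw [hk]; group
      _ = (th s)⁻¹ * ((th r)⁻¹ * (g * th u * g⁻¹) * th r) * th s := by rw [← hs]; simp only [map_mul, map_inv]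
      _ = (th s)⁻¹ * th u * th s := by rw [← hu', ← hr]; simp only [map_mul, map_inv]; group
      _ = th (mk eO) := by rw [← hs]; simp only [map_mul, map_inv]; group
  obtain ⟨j, hj⟩ := E.cent k hkz
  exact ⟨r * s * j * s⁻¹, by simp only [map_mul, map_inv, hj, hk]; group⟩

theorem land {D D' : Finset GolayPt} {hD : D ∈ SC} {hD' : D' ∈ SC} (h12 : D.card = 12) (h12' : D'.card = 12)
    {a : Spor.Co1} (ha : a ∈ Oc) {g : G} (hg : g * th (dg hD) * g⁻¹ = th (dg hD'))
    (h : g * th a * g⁻¹ ∈ th.range) : ∃ b ∈ E1, g * th a * g⁻¹ = th b := by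
  obtain ⟨n, rfl⟩ := E.fix_one (mem_Oc.1 ha).2 h
  rw [← map_inv, ← map_mul, ← map_mul] at hg
  have hN : n ∈ Co1Out.N1 := mem_N1_of_conj h12 h12' (hD := hD) (hD' := hD')
    (by rw [← E.inj hg]; group)
  exact ⟨n * a * n⁻¹, Co1Out.conj_E1 hN (mem_Oc.1 ha).1, by simp only [map_mul, map_inv]⟩

set_option maxHeartbeats 2000000 in
/-- The centraliser of the second kind of sign change lies in the copy. -/
theorem cent_dod {d : G} (hd : d * th dod = th dod * d) : d ∈ th.range := by
  classical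
  haveI := finite_model
  by_contra hdR
  set A := E1.map th with hA
  set V := A ⊓ A.map (MulAut.conj d).toMonoidHom with hV
  have hVmem : ∀ {q : G}, q ∈ V ↔ q ∈ A ∧ d⁻¹ * q * d ∈ A := by
    intro q
    rw [hV, Subgroup.mem_inf]
    refine and_congr_right fun _ => ⟨?_, fun h => ⟨_, h, by simp [mul_assoc]⟩⟩
    rintro ⟨p, hp, rfl⟩
    simpa [mul_assoc] using hp
  have hAR : A ≤ th.range := by rintro _ ⟨u, -, rfl⟩; exact ⟨u, rfl⟩
  have hAcomm : ∀ p ∈ A, ∀ q ∈ A, Commute p q := by
    rintro _ ⟨_, ⟨c, hc, rfl⟩, rfl⟩ _ ⟨_, ⟨e, he, rfl⟩, rfl⟩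
    show th (dg hc) * th (dg he) = th (dg he) * th (dg hc)
    rw [← map_mul, ← map_mul, Co1Out.dg_mul, Co1Out.dg_mul]
    exact congrArg th (Co1Out.md_eq.2 ⟨rfl, Or.inl (symmDiff_comm _ _)⟩)
  have hAsq : ∀ p ∈ A, p * p = 1 := by
    rintro _ ⟨_, ⟨c, hc, rfl⟩, rfl⟩
    rw [← map_mul, Co1Out.dg_sq, map_one]
  have hdd : th dod ∈ V := hVmem.2 ⟨⟨dod, Co1Out.dg_mem _, rfl⟩, by
    rw [mul_assoc, ← hd, inv_mul_cancel_left]; exact ⟨dod, Co1Out.dg_mem _, rfl⟩⟩
  have hdod1 : th dod ≠ 1 := fun e => absurd orderOf_dod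
    (by rw [(map_eq_one_iff _ E.inj).1 e, orderOf_one]; norm_num)
  -- every non-trivial member is of the second kind
  have hkind : ∀ q ∈ V, q ≠ 1 → ∃ (D : Finset GolayPt) (hD : D ∈ SC) (D' : Finset GolayPt) (hD' : D' ∈ SC),
      D.card = 12 ∧ D'.card = 12 ∧ q = th (dg hD) ∧ d⁻¹ * q * d = th (dg hD') := by
    intro q hq hq1
    obtain ⟨⟨u, hu, rfl⟩, ⟨u', hu', he⟩⟩ := hVmem.1 hq
    have hu1 : u ≠ 1 := fun e => hq1 (by rw [e, map_one])
    rcases E1_cases hu hu1 with h | ⟨D, hD, h12, rfl⟩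
    · exact absurd (E.fix_one h (g := d⁻¹) (by rw [inv_inv, ← he]; exact ⟨u', rfl⟩)) fun h' =>
        hdR (by simpa using inv_mem h')
    have hu'1 : u' ≠ 1 := fun e => by
      rw [e, map_one] at he
      exact hq1 (by
        calc th (dg hD) = d * (d⁻¹ * th (dg hD) * d) * d⁻¹ := by group
          _ = 1 := by rw [← he]; group)
    rcases E1_cases hu' hu'1 with h | ⟨D', hD', h12', rfl⟩
    · exact absurd (E.fix_one h (g := d) (by
        rw [he]; exact ⟨dg hD, by group⟩)) hdR
    exact ⟨D, hD, D', hD', h12, h12', rfl, he.symm⟩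
  -- the counting function
  let N : G → ℕ := fun g => Nat.card {q : V // IsConj (th (mk eO)) (g * (q : G))}
  have hNconj : ∀ e g, (∀ q ∈ V, Commute e q) → N (e * g * e⁻¹) = N g := fun e g he => by
    refine Nat.card_congr (Equiv.subtypeEquivRight fun q => ?_)
    have : e * g * e⁻¹ * (q : G) = e * (g * q) * e⁻¹ := by
      rw [mul_assoc _ e⁻¹, ((he q q.2).inv_left).eq]; group
    rw [this]
    exact ⟨fun h => h.trans (isConj_iff.2 ⟨e⁻¹, by group⟩), fun h => h.trans (isConj_iff.2 ⟨e, rfl⟩)⟩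
  have hNshift : ∀ g w, w ∈ V → N (g * w) = N g := fun g w hw =>
    Nat.card_congr (Equiv.subtypeEquiv (Equiv.mulLeft (⟨w, hw⟩ : V)) fun q => by
      simp [mul_assoc])
  -- two members of the first kind on either side
  have hsame : ∀ a ∈ Oc, ∀ a' ∈ Oc, N (th a) = N (d * th a' * d⁻¹) := by
    intro a ha a' ha'
    set x := th a
    set y := d * th a' * d⁻¹ with hy
    have hxA : x ∈ A := ⟨a, (mem_Oc.1 ha).1, rfl⟩
    have hyA : th a' ∈ A := ⟨a', (mem_Oc.1 ha').1, rfl⟩
    have hxV : ∀ q ∈ V, Commute x q := fun q hq => hAcomm _ hxA _ (hVmem.1 hq).1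
    have hyV : ∀ q ∈ V, Commute y q := fun q hq => by
      have h := hAcomm _ hyA _ (hVmem.1 hq).2
      show y * q = q * y
      calc y * q = d * (th a' * (d⁻¹ * q * d)) * d⁻¹ := by rw [hy]; group
        _ = d * ((d⁻¹ * q * d) * th a') * d⁻¹ := by rw [h.eq]
        _ = _ := by rw [hy]; group
    have hx2 : x * x = 1 := hAsq _ hxA
    have hy2 : y * y = 1 := by
      rw [hy, show d * th a' * d⁻¹ * (d * th a' * d⁻¹) = d * (th a' * th a') * d⁻¹ by group, hAsq _ hyA, mul_one,
        mul_inv_cancel]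
    have hcl : ∀ e ∈ Subgroup.closure ({x, y} : Set G), ∀ q ∈ V, Commute e q := fun e he q hq =>
      comm_of_mem (hxV q hq) (hyV q hq) he
    -- reflections in the copy are sign changes, on either side
    obtain ⟨D, hD, D', hD', h12, h12', eD, eD'⟩ := hkind _ hdd hdod1
    have hland : ∀ e ∈ Subgroup.closure ({x, y} : Set G), ∀ r, (r = e * x * e⁻¹ ∨ r = e * y * e⁻¹) →
        (r ∈ th.range → r ∈ A) ∧ (d⁻¹ * r * d ∈ th.range → d⁻¹ * r * d ∈ A) := by
      intro e he r hr
      have hq : e * th (dg hD) * e⁻¹ = th (dg hD) := by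
        rw [← eD, (hcl e he _ hdd).eq, mul_inv_cancel_right]
      have hq' : (e * d) * th (dg hD') * (e * d)⁻¹ = th (dg hD) := by
        rw [← eD', ← eD]
        calc e * d * (d⁻¹ * th dod * d) * (e * d)⁻¹ = e * th dod * e⁻¹ := by group
          _ = th dod := by rw [(hcl e he _ hdd).eq, mul_inv_cancel_right]
      have hd2 : (d⁻¹ * e) * th (dg hD) * (d⁻¹ * e)⁻¹ = th (dg hD') := by
        calc (d⁻¹ * e) * th (dg hD) * (d⁻¹ * e)⁻¹ = d⁻¹ * (e * th (dg hD) * e⁻¹) * d := by group
          _ = _ := by rw [hq, ← eD, eD']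
      have hd2' : (d⁻¹ * e * d) * th (dg hD') * (d⁻¹ * e * d)⁻¹ = th (dg hD') := by
        calc (d⁻¹ * e * d) * th (dg hD') * (d⁻¹ * e * d)⁻¹ = d⁻¹ * ((e * d) * th (dg hD') * (e * d)⁻¹) * d := by group
          _ = _ := by rw [hq', ← eD, eD']
      rcases hr with rfl | rfl
      · refine ⟨fun h => ?_, fun h => ?_⟩
        · obtain ⟨b, hb, hbe⟩ := E.land h12 h12 ha hq h
          exact ⟨b, hb, hbe.symm⟩
        · have e1 : d⁻¹ * (e * x * e⁻¹) * d = (d⁻¹ * e) * th a * (d⁻¹ * e)⁻¹ := by simp only [x]; group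
          rw [e1] at h ⊢
          obtain ⟨b, hb, hbe⟩ := E.land h12 h12' ha hd2 h
          exact ⟨b, hb, hbe.symm⟩
      · refine ⟨fun h => ?_, fun h => ?_⟩
        · have e1 : e * y * e⁻¹ = (e * d) * th a' * (e * d)⁻¹ := by rw [hy]; group
          rw [e1] at h ⊢
          obtain ⟨b, hb, hbe⟩ := E.land h12' h12 ha' hq' h
          exact ⟨b, hb, hbe.symm⟩
        · have e1 : d⁻¹ * (e * y * e⁻¹) * d = (d⁻¹ * e * d) * th a' * (d⁻¹ * e * d)⁻¹ := by rw [hy]; group
          rw [e1] at h ⊢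
          obtain ⟨b, hb, hbe⟩ := E.land h12' h12' ha' hd2' h
          exact ⟨b, hb, hbe.symm⟩
    set n := orderOf (x * y)
    have hn : (x * y) ^ n = 1 := pow_orderOf_eq_one _
    have hxy : x * y ∈ Subgroup.closure ({x, y} : Set G) :=
      mul_mem (Subgroup.subset_closure (Or.inl rfl)) (Subgroup.subset_closure (Or.inr rfl))
    rcases Nat.even_or_odd n with ⟨m, hm⟩ | hodd
    swap
    · obtain ⟨e, he, ⟨hev, -⟩ | ⟨-, hre⟩⟩ := refl_conj hx2 hy2 n
      · exact absurd hodd (Nat.not_odd_iff_even.2 hev)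
      rw [hn, mul_one] at hre
      rw [hre, hNconj e y (hcl e he)]
    obtain ⟨hxw, hyw⟩ := pow_comm_gen hx2 hy2 hn (m := m) (by omega)
    set w := (x * y) ^ m with hwdef
    have hw2 : w * w = 1 := by rw [hwdef, ← pow_add, ← hm, hn]
    have hn0 : 0 < n := orderOf_pos _
    have hw1 : w ≠ 1 := pow_ne_one_of_lt_orderOf (by omega) (by omega)
    have hwR : w ∈ th.range := E.fix_one (mem_Oc.1 ha).2
      (by rw [show w * th a * w⁻¹ = x by rw [← hxw.eq, mul_inv_cancel_right]]; exact ⟨a, rfl⟩)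
    have hw'R : d⁻¹ * w * d ∈ th.range := E.fix_one (mem_Oc.1 ha').2 (by
      refine ⟨a', ?_⟩
      calc th a' = d⁻¹ * y * d := by rw [hy]; group
        _ = d⁻¹ * (w * y * w⁻¹) * d := by rw [← hyw.eq, mul_inv_cancel_right]
        _ = _ := by rw [hy]; group)
    obtain ⟨e, he, hre⟩ := refl_conj hx2 hy2 m
    rw [← hwdef] at hre
    obtain ⟨e', he', hre'⟩ := refl_conj hy2 hx2 m
    have hyx : (y * x) ^ m = w := by
      rw [show y * x = (x * y)⁻¹ by rw [mul_inv_rev, inv_eq_of_mul_eq_one_right hx2, inv_eq_of_mul_eq_one_right hy2],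
        inv_pow, ← hwdef, inv_eq_of_mul_eq_one_right hw2]
    rw [hyx] at hre'
    rw [Set.pair_comm] at he'
    have hwA : w ∈ A := by
      have h1 : x * w ∈ A := (hland e he (x * w) (hre.imp (fun h => h.2) fun h => h.2)).1 (mul_mem ⟨a, rfl⟩ hwR)
      have := mul_mem hxA h1
      rwa [← mul_assoc, hx2, one_mul] at this
    have hw'A : d⁻¹ * w * d ∈ A := by
      have e1 : d⁻¹ * (y * w) * d = th a' * (d⁻¹ * w * d) := by rw [hy]; group
      have h1 : d⁻¹ * (y * w) * d ∈ A := (hland e' he' (y * w) ((hre'.imp (fun h => h.2) fun h => h.2).symm)).2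
        (by rw [e1]; exact mul_mem ⟨a', rfl⟩ hw'R)
      rw [e1] at h1
      have := mul_mem hyA h1
      rwa [← mul_assoc, hAsq _ hyA, one_mul] at this
    have hwV : w ∈ V := hVmem.2 ⟨hwA, hw'A⟩
    rcases Nat.even_or_odd m with ⟨i, hi⟩ | hmodd
    · exfalso
      set k := (x * y) ^ i with hk
      have hkk : k * k = w := by rw [hk, hwdef, hi, pow_add]
      have hkx : k * x * k⁻¹ = w * x := by
        have hflip : x * k⁻¹ = k * x := by
          have e1 : x * (x * y) * x = (x * y)⁻¹ := by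
            rw [mul_inv_rev, inv_eq_of_mul_eq_one_right hx2, inv_eq_of_mul_eq_one_right hy2, ← mul_assoc, hx2, one_mul]
          have h := conj_pow (a := x) (b := x * y) (i := i)
          rw [inv_eq_of_mul_eq_one_right hx2, e1, inv_pow, ← hk] at h
          calc x * k⁻¹ = x * (x * k * x) := by rw [← h]
            _ = x * x * k * x := by group
            _ = _ := by rw [hx2, one_mul]
        rw [mul_assoc, hflip, ← mul_assoc, hkk]
      have hkR : k ∈ th.range := E.fix_one (mem_Oc.1 ha).2 (by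
        rw [show k * th a * k⁻¹ = w * x from hkx]; exact mul_mem hwR ⟨a, rfl⟩)
      obtain ⟨f, hf, hfe⟩ := refl_conj hx2 hy2 i
      rw [← hk] at hfe
      have h1 : x * k ∈ A := (hland f hf (x * k) (hfe.imp (fun h => h.2) fun h => h.2)).1 (mul_mem ⟨a, rfl⟩ hkR)
      have h2 := mul_mem hxA h1
      rw [← mul_assoc, hx2, one_mul] at h2
      exact hw1 (hkk ▸ hAsq _ h2)
    · obtain ⟨e1, he1, ⟨hev, -⟩ | ⟨-, hr⟩⟩ := refl_conj hx2 hy2 m
      · exact absurd hmodd (Nat.not_odd_iff_even.2 hev)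
      rw [← hwdef] at hr
      rw [← hNshift x w hwV, hr, hNconj e1 y (hcl e1 he1)]
  obtain ⟨a0, ha0⟩ : Oc.Nonempty := Finset.card_pos.1 (by rw [card_Oc]; norm_num)
  set k := N (d * th a0 * d⁻¹)
  have hk : ∀ a ∈ Oc, N (th a) = k := fun a ha => hsame a ha a0 ha0
  -- double counting
  haveI : Fintype V := Fintype.ofFinite _
  have h759 : 759 * k = 759 + 264 * (Nat.card V - 1) := by
    have hN : ∀ a, N (th a) = ∑ q : V, if IsConj (th (mk eO)) (th a * (q : G)) then 1 else 0 := fun a => by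
      simp only [N, Nat.card_eq_fintype_card, Fintype.card_subtype, Finset.card_filter]
    calc 759 * k = ∑ a ∈ Oc, N (th a) := by rw [Finset.sum_congr rfl hk, Finset.sum_const, card_Oc, smul_eq_mul]
      _ = ∑ q : V, ∑ a ∈ Oc, if IsConj (th (mk eO)) (th a * (q : G)) then 1 else 0 := by
          simp only [hN]; exact Finset.sum_comm
      _ = 759 + ∑ q ∈ (Finset.univ : Finset V).erase 1, 264 := by
          rw [← Finset.add_sum_erase _ _ (Finset.mem_univ (1 : V))]
          refine congrArg₂ (· + ·) ?_ (Finset.sum_congr rfl fun q hq => ?_)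
          · rw [← card_Oc, Finset.card_eq_sum_ones]
            exact Finset.sum_congr rfl fun a ha => by
              rw [OneMemClass.coe_one, mul_one, if_pos (th.map_isConj (mem_Oc.1 ha).2)]
          · obtain ⟨D, hD, D', -, h12, -, eq, -⟩ := hkind q q.2
              fun e => (Finset.mem_erase.1 hq).1 (Subtype.ext e)
            rw [← count_any hD h12, Finset.card_filter]
            refine Finset.sum_congr rfl fun a ha => if_congr ?_ rfl rfl
            rw [eq, ← map_mul]
            refine ⟨fun h => E.fus _ _ Co1Centre.orderOf_eO ?_ h, th.map_isConj⟩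
            obtain ⟨c, hc⟩ := isConj_iff.1 h
            rw [E.order_eq hc, Co1Centre.orderOf_eO]
      _ = _ := by
          rw [Finset.sum_const, Finset.card_erase_of_mem (Finset.mem_univ _), Finset.card_univ, smul_eq_mul,
            Nat.card_eq_fintype_card, mul_comm]
  have hVA : V ≤ A := inf_le_left
  have hAc : Nat.card A = 2048 := by rw [hA, Subgroup.card_map_of_injective E.inj, Co1Out.card_E1]
  have hdvd : Nat.card V ∣ 2 ^ 11 := (Subgroup.card_dvd_of_le hVA).trans (by rw [hAc]; norm_num)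
  obtain ⟨j, hj, hVc⟩ := (Nat.dvd_prime_pow Nat.prime_two).1 hdvd
  have hV2 : 2 ≤ Nat.card V := Finite.one_lt_card_iff_nontrivial.2 ⟨⟨⟨_, hdd⟩, 1, fun e => hdod1 (congrArg Subtype.val e)⟩⟩
  rw [hVc] at h759 hV2
  have hj11 : j = 11 := by interval_cases j <;> omega
  have hVA' : V = A := Subgroup.eq_of_le_of_card_ge hVA (by rw [hVc, hj11, hAc]; norm_num)
  obtain ⟨D, hD, -, -, h12, -, eq, -⟩ := hkind (th a0) (hVA' ▸ ⟨a0, (mem_Oc.1 ha0).1, rfl⟩) (fun e => by
    obtain ⟨c, hc⟩ := isConj_iff.1 (mem_Oc.1 ha0).2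
    rw [(map_eq_one_iff _ E.inj).1 e, conj_eq_one_iff] at hc
    exact absurd Co1Centre.orderOf_eO (by rw [hc, orderOf_one]; norm_num))
  exact not_conj_dod hD h12 (E.inj eq ▸ (mem_Oc.1 ha0).2)

set_option maxHeartbeats 1000000 in
/-- The copy is everything. -/
theorem surjective : Function.Surjective th := by
  intro g
  by_contra hg
  have hgR : g ∉ th.range := fun h => hg h
  set t := g * th (mk eO) * g⁻¹ with htdef
  have htR : t ∉ th.range := fun h => hgR (E.fix_one (IsConj.refl _) h)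
  have ht2 : t * t = 1 := by
    rw [htdef, show g * th (mk eO) * g⁻¹ * (g * th (mk eO) * g⁻¹) = g * th (mk eO * mk eO) * g⁻¹ by
      rw [map_mul]; group]
    rw [show mk eO * mk eO = 1 from Co1Out.dg_sq _, map_one, mul_one, mul_inv_cancel]
  set v := th dod
  have hv2 : v * v = 1 := by rw [← map_mul, show dod * dod = 1 from Co1Out.dg_sq _, map_one]
  have hne : ¬ IsConj (th (mk eO)) v := fun h => not_conj_eO_dod (E.fus _ _ Co1Centre.orderOf_eO orderOf_dod h)
  have htz : IsConj (th (mk eO)) t := isConj_iff.2 ⟨g, rfl⟩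
  set n := orderOf (t * v)
  have hn : (t * v) ^ n = 1 := pow_orderOf_eq_one _
  rcases Nat.even_or_odd n with ⟨m, hm⟩ | hodd
  swap
  · obtain ⟨e, -, ⟨hev, -⟩ | ⟨-, hre⟩⟩ := refl_conj ht2 hv2 n
    · exact Nat.not_odd_iff_even.2 hev hodd
    rw [hn, mul_one] at hre
    exact hne (htz.trans (isConj_iff.2 ⟨e⁻¹, by rw [hre]; group⟩))
  obtain ⟨htw, hvw⟩ := pow_comm_gen ht2 hv2 hn (m := m) (by omega)
  set w := (t * v) ^ m with hwdef
  have hn0 : 0 < n := orderOf_pos _
  have hw1 : w ≠ 1 := pow_ne_one_of_lt_orderOf (by omega) (by omega)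
  have hwo : orderOf w = 2 := orderOf_eq_prime (by rw [pow_two, hwdef, ← pow_add, ← hm, hn]) hw1
  obtain ⟨ω, hω⟩ := E.cent_dod (d := w) hvw.symm.eq
  have hωo : orderOf ω = 2 := by rw [← orderOf_injective th E.inj, hω, hwo]
  rcases classes3 hωo with h | h | h
  · obtain ⟨s, hs⟩ := isConj_iff.1 h
    have hcom : (th s * t * (th s)⁻¹) * th (mk eO) = th (mk eO) * (th s * t * (th s)⁻¹) := by
      rw [← hs]; simp only [map_mul, map_inv, hω]
      calc th s * t * (th s)⁻¹ * (th s * w * (th s)⁻¹) = th s * (t * w) * (th s)⁻¹ := by group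
        _ = th s * (w * t) * (th s)⁻¹ := by rw [htw.eq]
        _ = _ := by group
    have h1 := mul_mem (mul_mem (inv_mem (⟨s, rfl⟩ : th s ∈ th.range)) (E.cent _ hcom)) ⟨s, rfl⟩
    exact htR (by simpa [mul_assoc] using h1)
  · obtain ⟨s, hs⟩ := isConj_iff.1 h
    have hcom : (th s * t * (th s)⁻¹) * th dod = th dod * (th s * t * (th s)⁻¹) := by
      rw [← hs]; simp only [map_mul, map_inv, hω]
      calc th s * t * (th s)⁻¹ * (th s * w * (th s)⁻¹) = th s * (t * w) * (th s)⁻¹ := by group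
        _ = th s * (w * t) * (th s)⁻¹ := by rw [htw.eq]
        _ = _ := by group
    have h1 := mul_mem (mul_mem (inv_mem (⟨s, rfl⟩ : th s ∈ th.range)) (E.cent_dod hcom)) ⟨s, rfl⟩
    exact htR (by simpa [mul_assoc] using h1)
  · -- the third class: `t * w` is conjugate to `t` or to `v`
    have hw' : g⁻¹ * w * g ∈ th.range := E.cent _ (by
      calc g⁻¹ * w * g * th (mk eO) = g⁻¹ * (w * t) * g := by rw [htdef]; group
        _ = g⁻¹ * (t * w) * g := by rw [htw.eq]
        _ = _ := by rw [htdef]; group)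
    obtain ⟨ω', hω'⟩ := hw'
    have hω'o : orderOf ω' = 2 := by
      rw [← orderOf_injective th E.inj, hω', ← hwo]
      simpa using orderOf_injective (MulAut.conj g⁻¹).toMonoidHom (MulAut.conj g⁻¹).injective w
    have hωω' : IsConj ω ω' := E.fus _ _ hωo hω'o (by
      rw [hω, hω']; exact isConj_iff.2 ⟨g⁻¹, by group⟩)
    obtain ⟨k, hk, hk2⟩ := twist_conj twist_n (h.symm.trans hωω')
    have hcommω : mk eO * ω' = ω' * mk eO := E.inj (by
      rw [map_mul, map_mul, hω']
      calc th (mk eO) * (g⁻¹ * w * g) = g⁻¹ * (t * w) * g := by rw [htdef]; group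
        _ = g⁻¹ * (w * t) * g := by rw [htw.eq]
        _ = _ := by rw [htdef]; group)
    have hcomm : k * eO = eO * k := by
      rcases Co1Centre.mk_eq.1 (show mk (k * eO) = mk (eO * k) by rw [map_mul, map_mul, hk, hcommω]) with h | h
      · exact h
      · exact (Co1Centre.not_anti h).elim
    have htwist : Twist (mk eO * ω') := ⟨eO * k, by rw [map_mul, hk], by
      calc eO * k * (eO * k) = eO * (k * eO) * k := by group
        _ = eO * eO * (k * k) := by rw [hcomm]; group
        _ = negCo := by rw [show eO * eO = 1 from mono_sign_sq _, hk2, one_mul]⟩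
    obtain ⟨e, -, he⟩ := refl_conj ht2 hv2 m
    rw [← hwdef] at he
    have htw' : IsConj (th (mk eO * ω')) (t * w) := by
      refine isConj_iff.2 ⟨g, ?_⟩
      rw [map_mul, hω', htdef]; group
    have ho : orderOf (mk eO * ω') = 2 := by
      obtain ⟨c, hc⟩ := isConj_iff.1 htw'.symm
      have h1 : orderOf (t * w) = 2 := by
        rcases he with ⟨-, he⟩ | ⟨-, he⟩ <;> rw [he]
        · rw [show orderOf (e * t * e⁻¹) = orderOf t from
            orderOf_injective (MulAut.conj e).toMonoidHom (MulAut.conj e).injective t]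
          exact orderOf_eq_prime (by rw [pow_two, ht2]) fun e' => htR (e' ▸ one_mem _)
        · rw [show orderOf (e * v * e⁻¹) = orderOf v from
            orderOf_injective (MulAut.conj e).toMonoidHom (MulAut.conj e).injective v,
            show v = th dod from rfl, orderOf_injective th E.inj, orderOf_dod]
      rw [← orderOf_injective th E.inj, ← hc, ← h1]
      exact orderOf_injective (MulAut.conj c).toMonoidHom (MulAut.conj c).injective _
    rcases he with ⟨-, he⟩ | ⟨-, he⟩
    · have h1 : IsConj (th (mk eO * ω')) (th (mk eO)) :=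
        htw'.trans ((isConj_iff.2 ⟨e, he.symm⟩ : IsConj t (t * w)).symm.trans htz.symm)
      exact not_twist_eO (twist_conj htwist (E.fus _ _ ho Co1Centre.orderOf_eO h1))
    · have h1 : IsConj (th (mk eO * ω')) (th dod) :=
        htw'.trans (isConj_iff.2 ⟨e, he.symm⟩ : IsConj v (t * w)).symm
      exact not_twist_dg _ (twist_conj htwist (E.fus _ _ ho orderOf_dod h1))

end Emb

/-- An injective image of the model in a group of this type is the whole group. -/
theorem bijective_of_injective (S : Std z Q cd) (hQ : Nat.card Q = 512)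
    (hC : Nat.card (Subgroup.centralizer ({z} : Set G)) = 42525 * (2 ^ 12 * Nat.card Q))
    {th : Spor.Co1 →* G} (hth : Function.Injective th) : Function.Bijective th :=
  ⟨hth, (exists_emb S hQ hC hth).surjective⟩

theorem isoCo1_of_injective (S : Std z Q cd) (hQ : Nat.card Q = 512)
    (hC : Nat.card (Subgroup.centralizer ({z} : Set G)) = 42525 * (2 ^ 12 * Nat.card Q))
    {th : Spor.Co1 →* G} (hth : Function.Injective th) : Cfsg.Spor.IsoCo1 G :=
  ⟨(MulEquiv.ofBijective th (bijective_of_injective S hQ hC hth)).symm⟩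

end Cfsg.Agent.Spor.CoUniq
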