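import Cfsg.Agent.Lib.Fus.Co1Out.Basic

/-!
Sign changes on code words of weight eight and twelve: they are not conjugate, and an element carrying one of weight
twelve to another is a signed permutation.
-/

set_option autoImplicit false
set_option maxRecDepth 100000

open Cfsg
open scoped Pointwise

namespace Cfsg.Agent.Spor.CoUniq

open Cfsg.Agent.Spor Cfsg.Agent.Spor.Leech
open Cfsg.Agent.Fus
open Co1Centre (mk eO Om InO)
open Co1Out (dg md pm md_eq)

local notation "SC" => supports (golayCode : Set (GolayPt → ZMod 2))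

theorem dg_eq_mk {c : Finset GolayPt} (hc : c ∈ SC) : dg hc = mk (mono (one_mem M24) hc) := rfl

theorem sign_apply {c : Finset GolayPt} (hc : c ∈ SC) (v : leechLattice) (i : GolayPt) :
    ((mono (one_mem M24) hc • v : leechLattice) : Vec) i = if i ∈ c then -(v : Vec) i else (v : Vec) i := by
  rw [mono_apply, signedPerm]
  rfl

theorem negCo_central (g : Co0) : g * negCo = negCo * g :=
  Subgroup.mem_center_iff.1 (mem_center_iff.2 (Or.inr rfl)) g

/-- Every octad gives a conjugate of the standard sign change. -/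
theorem conj_octad {c : Finset GolayPt} (hc : c ∈ SC) (h8 : c.card = 8) : IsConj (mk eO) (dg hc) := by
  obtain ⟨σ, hσ, hσc⟩ := Golay.exists_smul_octA (o := c) ⟨hc, h8⟩
  refine isConj_iff.2 ⟨pm hσ, ?_⟩
  have he : mk eO = dg Co1Centre.om_octad.1 := rfl
  rw [he, pm, Co1Out.conj_dg hσ _ Co1Centre.om_octad.1, mul_inv_cancel_right]
  exact md_eq.2 ⟨rfl, Or.inl hσc⟩

/-! ### Two classes -/

theorem twoInd_mem {D : Finset GolayPt} (hD : D ∈ SC) (h12 : D.card = 12) :
    (fun i => if i ∈ D then (2 : ℤ) else 0) ∈ leechLattice := by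
  classical
  refine mem_lattice.2 ⟨0, fun i => if i ∈ D then 1 else 0, Or.inl rfl, fun i => by dsimp only; split_ifs <;> simp, ?_, ?_⟩
  · obtain ⟨w, hw, hwD⟩ := hD
    suffices hpar : par (fun i => if i ∈ D then 1 else 0) = w by rw [hpar]; exact hw
    funext i
    have hi : (i ∈ D) ↔ w i ≠ 0 := by rw [← hwD]; simp [support₂]
    rcases (show w i = 0 ∨ w i = 1 by generalize w i = u; revert u; decide) with h | h <;>
      simp [par, hi, h]
  · rw [Finset.sum_ite_mem, Finset.univ_inter, Finset.sum_const, h12]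
    decide

theorem twoInd_norm {D : Finset GolayPt} (h12 : D.card = 12) :
    sqNorm (fun i => if i ∈ D then (2 : ℤ) else 0) = 48 := by
  classical
  simp [sqNorm, ite_pow, Finset.sum_ite_mem, h12]

theorem not_to_dod {D : Finset GolayPt} (hD : D ∈ SC) (h12 : D.card = 12) (g : Co0) :
    g * eO ≠ mono (one_mem M24) hD * g := by
  intro e
  set v : leechLattice := ⟨_, twoInd_mem hD h12⟩ with hv
  have hm : mono (one_mem M24) hD • v = -v := by
    refine Subtype.ext (funext fun i => ?_)
    rw [sign_apply, AddSubgroup.coe_neg, Pi.neg_apply, hv]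
    by_cases hi : i ∈ D <;> simp [hi]
  have hu : eO • g⁻¹ • v = -(g⁻¹ • v) := by
    have e' : eO * g⁻¹ = g⁻¹ * mono (one_mem M24) hD := by
      calc eO * g⁻¹ = g⁻¹ * (g * eO) * g⁻¹ := by group
        _ = _ := by rw [e]; group
    rw [← mul_smul, e', mul_smul, hm, co_neg]
  have hIn : InO ((g⁻¹ • v : leechLattice) : Vec) := fun i hi => by
    have e3 := congrArg (fun w : leechLattice => (w : Vec) i) hu
    simp only [Co1Centre.eO_apply, if_neg hi, AddSubgroup.coe_neg, Pi.neg_apply] at e3
    omega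
  have h32 := Co1Centre.norm32 (g⁻¹ • v).2 hIn
  rw [co_norm, hv, twoInd_norm h12] at h32
  norm_num at h32

/-- Weight twelve is not weight eight. -/
theorem not_conj_dod {D : Finset GolayPt} (hD : D ∈ SC) (h12 : D.card = 12) : ¬ IsConj (mk eO) (dg hD) := by
  intro h
  obtain ⟨g', hg'⟩ := isConj_iff.1 h
  obtain ⟨g, rfl⟩ := QuotientGroup.mk'_surjective (Subgroup.center Co0) g'
  have e : mk (g * eO) = mk (mono (one_mem M24) hD * g) := by
    rw [map_mul, map_mul, ← dg_eq_mk, ← hg']
    exact (inv_mul_cancel_right _ _).symm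
  rcases Co1Centre.mk_eq.1 e with e | e
  · exact not_to_dod hD h12 g e
  · rw [← mul_assoc, Co1Out.negCo_mono] at e
    exact not_to_dod (Co1Out.compl_mem hD) (by rw [Finset.card_compl, Golay.card_golayPt, h12]) g e

/-! ### Signed permutations -/

theorem neg_on {D : Finset GolayPt} {hD : D ∈ SC} {g : Co0} {D' : Finset GolayPt} {hD' : D' ∈ SC}
    (e : g * mono (one_mem M24) hD = mono (one_mem M24) hD' * g) {v : leechLattice}
    (hv : ∀ i ∉ D, (v : Vec) i = 0) : ∀ i ∉ D', ((g • v : leechLattice) : Vec) i = 0 := by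
  intro i hi
  have hm : mono (one_mem M24) hD • v = -v := by
    refine Subtype.ext (funext fun i => ?_)
    rw [sign_apply, AddSubgroup.coe_neg, Pi.neg_apply]
    by_cases hi : i ∈ D
    · rw [if_pos hi]
    · rw [if_neg hi, hv i hi, neg_zero]
  have h1 := congrArg (fun x : Co0 => x • v) e
  simp only [mul_smul, hm, co_neg] at h1
  have h2 := congrArg (fun w : leechLattice => (w : Vec) i) h1
  simp only [sign_apply, if_neg hi, AddSubgroup.coe_neg, Pi.neg_apply] at h2
  omega

/-- A minimal vector supported on a code word of weight twelve has two entries. -/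
theorem root_in {D : Finset GolayPt} (hD : D ∈ SC) (h12 : D.card = 12) {x : Vec} (hx : x ∈ leechLattice)
    (hn : sqNorm x = 32) (hs : ∀ i ∉ D, x i = 0) :
    ∃ S ⊆ D, S.card = 2 ∧ (∀ i ∈ S, x i = 4 ∨ x i = -4) ∧ ∀ i ∉ S, x i = 0 := by
  classical
  obtain ⟨m, a, hm, hxa, hca, hsum⟩ := mem_lattice.1 hx
  obtain ⟨j, hj⟩ : ∃ j, j ∉ D := by
    by_contra hc
    push Not at hc
    rw [Finset.eq_univ_iff_forall.2 hc, Finset.card_univ, Golay.card_golayPt] at h12
    omega
  have hj0 := hxa j
  rw [hs j hj] at hj0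
  obtain rfl : m = 0 := by omega
  have hsub : support₂ (par a) ⊆ D := fun i hi => by
    by_contra hio
    simp only [support₂, Finset.mem_filter, Finset.mem_univ, true_and, par, intCast_zmod2_ne_zero] at hi
    have := hxa i
    rw [hs i hio] at this
    omega
  have hn' : ∑ i, a i * a i = 8 := by
    have : sqNorm x = 4 * ∑ i, a i * a i := by
      simp only [sqNorm, hxa, Finset.mul_sum]
      exact Finset.sum_congr rfl fun i _ => by ring
    omega
  have hev : support₂ (par a) = ∅ := by
    obtain ⟨p, hp, hpa⟩ := Golay.mem_golayCode.1 hca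
    obtain ⟨w, hw, hwD⟩ := id hD
    obtain ⟨q, hq, hqw⟩ := Golay.mem_golayCode.1 hw
    have hS : support₂ (par a) = Golay.pts p := by rw [hpa, Golay.support_vec]
    have hQ : D = Golay.pts q := by rw [← hwD, hqw, Golay.support_vec]
    rw [hS] at hsub ⊢
    rw [hQ] at hsub h12
    have hle := sq_le_sum (a := a)
    rw [hS, hn', Golay.card_pts] at hle
    rw [Golay.card_pts] at h12
    have h1 := Golay.pop_xor_add p q
    have h2 : Golay.pop (p &&& q) = Golay.pop p := by
      rw [← Golay.card_pts, ← Golay.card_pts, ← Golay.pts_inter, Finset.inter_eq_left.2 hsub]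
    rw [← Finset.card_eq_zero, Golay.card_pts]
    rcases Golay.pop_code (Golay.xor_mem_codeList hp hq) with e | e | e | e | e <;>
      rcases Golay.pop_code hp with e' | e' | e' | e' | e' <;> omega
  have h2a : ∀ i, a i % 2 = 0 := fun i => by
    have h1 : i ∉ support₂ (par a) := by rw [hev]; simp
    simp only [support₂, Finset.mem_filter, Finset.mem_univ, true_and, par, intCast_zmod2_ne_zero] at h1
    omega
  set b : Vec := fun i => a i / 2 with hb
  have hab : ∀ i, a i = 2 * b i := fun i => by have := h2a i; simp only [hb]; omega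
  have hb2 : ∑ i, b i * b i = 2 := by
    have : ∑ i, a i * a i = 4 * ∑ i, b i * b i := by
      rw [Finset.mul_sum]; exact Finset.sum_congr rfl fun i _ => by rw [hab i]; ring
    omega
  have hone : ∀ i, b i = 0 ∨ b i = 1 ∨ b i = -1 := fun i => by
    have hle := Finset.single_le_sum (f := fun i => b i * b i) (fun i _ => mul_self_nonneg (b i))
      (Finset.mem_univ i)
    rw [hb2] at hle
    have h1 : b i ≤ 1 := by nlinarith
    have h2 : -1 ≤ b i := by nlinarith
    omega
  refine ⟨Finset.univ.filter fun i => b i ≠ 0, fun i hi => ?_, ?_, fun i hi => ?_, fun i hi => ?_⟩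
  · by_contra hio
    have := hxa i
    rw [hs i hio, hab i] at this
    exact (Finset.mem_filter.1 hi).2 (by omega)
  · have : ∑ i, b i * b i = ((Finset.univ.filter fun i => b i ≠ 0).card : ℤ) := by
      rw [Finset.card_filter, Nat.cast_sum]
      refine Finset.sum_congr rfl fun i _ => ?_
      rcases hone i with h | h | h <;> simp [h]
    omega
  · have := (Finset.mem_filter.1 hi).2
    have := hxa i
    have := hab i
    rcases hone i with h | h | h <;> omega
  · have h0 : b i = 0 := by by_contra h; exact hi (Finset.mem_filter.2 ⟨Finset.mem_univ i, h⟩)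
    have := hxa i
    have := hab i
    omega

theorem dot_single (x : Vec) (j : GolayPt) (s : ℤ) : dotInt x (Pi.single j s) = x j * s := by
  rw [dotInt, Finset.sum_eq_single j (fun b _ hb => by rw [Pi.single_eq_of_ne hb, mul_zero]) (by simp),
    Pi.single_eq_same]

theorem dot_add_right (x y z : Vec) : dotInt x (y + z) = dotInt x y + dotInt x z := by
  simp [dotInt, mul_add, Finset.sum_add_distrib]

/-- Two orthogonal members with two entries: their sum is on an axis, or their supports are disjoint. -/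
theorem two_roots {p q : Vec} {S T : Finset GolayPt} (hSc : S.card = 2) (hTc : T.card = 2)
    (hS4 : ∀ i ∈ S, p i = 4 ∨ p i = -4) (hS0 : ∀ i ∉ S, p i = 0) (hT4 : ∀ i ∈ T, q i = 4 ∨ q i = -4)
    (hT0 : ∀ i ∉ T, q i = 0) (hpq : dotInt p q = 0) :
    (∃ l, p + q = Pi.single l 8 ∨ p + q = Pi.single l (-8)) ∨ Disjoint S T := by
  classical
  by_cases hd : Disjoint S T
  · exact Or.inr hd
  left
  obtain ⟨c, hcS, hcT⟩ := Finset.not_disjoint_iff.1 hd
  obtain ⟨d, hdc, rfl⟩ : ∃ d, c ≠ d ∧ S = {c, d} := by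
    obtain ⟨x, y, hxy, rfl⟩ := Finset.card_eq_two.1 hSc
    rcases Finset.mem_insert.1 hcS with rfl | h
    · exact ⟨y, hxy, rfl⟩
    · rw [Finset.mem_singleton] at h; subst h; exact ⟨x, Ne.symm hxy, Finset.pair_comm _ _⟩
  have hd' : dotInt p q = p c * q c + p d * q d := by
    rw [dotInt, Finset.sum_eq_add c d hdc (fun b _ hb => by
      rw [hS0 b (by simp [hb.1, hb.2]), zero_mul]) (by simp) (by simp)]
  rw [hpq] at hd'
  have hpc := hS4 c (by simp)
  have hpd := hS4 d (by simp)
  have hqc := hT4 c hcT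
  have hdT : d ∈ T := by
    by_contra hn
    rw [hT0 d hn] at hd'
    rcases hpc with h1 | h1 <;> rcases hqc with h2 | h2 <;> rw [h1, h2] at hd' <;> omega
  have hTe : ({c, d} : Finset GolayPt) = T :=
    Finset.eq_of_subset_of_card_le (by simp [Finset.insert_subset_iff, hcT, hdT]) (by omega)
  have hqd := hT4 d hdT
  have hz : ∀ k, k ≠ c → k ≠ d → (p + q) k = 0 := fun k h1 h2 => by
    rw [Pi.add_apply, hS0 k (by simp [h1, h2]), hT0 k (by rw [← hTe]; simp [h1, h2]), add_zero]
  have hmk : ∀ l m, (∀ k, k ≠ l → k ≠ m → (p + q) k = 0) → (p + q) m = 0 →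
      ((p + q) l = 8 ∨ (p + q) l = -8) → ∃ l, p + q = Pi.single l 8 ∨ p + q = Pi.single l (-8) := by
    intro l m h1 h2 h3
    refine ⟨l, h3.imp (fun h => ?_) fun h => ?_⟩ <;>
    · funext k
      rcases eq_or_ne k l with rfl | hk
      · rw [Pi.single_eq_same, h]
      · rw [Pi.single_eq_of_ne hk]
        rcases eq_or_ne k m with rfl | hk'
        · exact h2
        · exact h1 k hk hk'
  simp only [Pi.add_apply] at hmk hz
  by_cases h0 : p c + q c = 0
  · refine hmk d c (fun k a b => hz k b a) h0 ?_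
    rcases hpc with h1 | h1 <;> rcases hqc with h2 | h2 <;> rcases hpd with h3 | h3 <;>
      rcases hqd with h4 | h4 <;> rw [h1, h2, h3, h4] at hd' <;> omega
  · refine hmk c d hz ?_ ?_ <;>
    · rcases hpc with h1 | h1 <;> rcases hqc with h2 | h2 <;> rcases hpd with h3 | h3 <;>
        rcases hqd with h4 | h4 <;> rw [h1, h2, h3, h4] at hd' <;> omega

/-- A coordinate axis inside goes to a coordinate axis. -/
theorem axis_to_axis {D D' : Finset GolayPt} {hD : D ∈ SC} {hD' : D' ∈ SC} (h12 : D.card = 12)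
    (h12' : D'.card = 12) {g : Co0} (e : g * mono (one_mem M24) hD = mono (one_mem M24) hD' * g) {i : GolayPt}
    (hi : i ∈ D) : ∃ k, g • axis i = axis k ∨ g • axis i = -axis k := by
  classical
  set X : Vec := ((g • axis i : leechLattice) : Vec) with hX
  suffices h : ∃ l, X = Pi.single l 8 ∨ X = Pi.single l (-8) by
    obtain ⟨l, h | h⟩ := h
    · exact ⟨l, Or.inl (Subtype.ext h)⟩
    · exact ⟨l, Or.inr (Subtype.ext (by rw [AddSubgroup.coe_neg, axis_val, ← Pi.single_neg]; exact h))⟩
  by_contra hno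
  let P : GolayPt → leechLattice := fun j => ⟨_, pair_mem i j (Or.inl rfl : (4 : ℤ) = 4 ∨ _) (Or.inl rfl : (4 : ℤ) = 4 ∨ _)⟩
  let N : GolayPt → leechLattice := fun j => ⟨_, pair_mem i j (Or.inl rfl : (4 : ℤ) = 4 ∨ _) (Or.inr rfl : (-4 : ℤ) = 4 ∨ _)⟩
  have hnorm : ∀ j t, j ≠ i → (t = 4 ∨ t = -4) → sqNorm (Pi.single i 4 + Pi.single j t : Vec) = 32 := by
    intro j t hji ht
    rw [sqNorm, Finset.sum_eq_add i j (Ne.symm hji) (fun b _ hb => by
      simp [Pi.single_eq_of_ne hb.1, Pi.single_eq_of_ne hb.2]) (by simp) (by simp)]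
    rcases ht with rfl | rfl <;> simp [Pi.single_eq_of_ne hji, Pi.single_eq_of_ne (Ne.symm hji)]
  have hsupp : ∀ j ∈ D, ∀ t : ℤ, ∀ k ∉ D, (Pi.single i 4 + Pi.single j t : Vec) k = 0 := fun j hj t k hk => by
    rw [Pi.add_apply, Pi.single_eq_of_ne (fun h : k = i => hk (h ▸ hi)),
      Pi.single_eq_of_ne (fun h : k = j => hk (h ▸ hj)), add_zero]
  have hdec : ∀ j ∈ D, j ≠ i → ∃ S : Finset GolayPt, S.card = 2 ∧
      (∀ k, ((g • P j : leechLattice) : Vec) k = if k ∈ S then X k else 0) ∧ (∀ k ∈ S, X k ≠ 0) ∧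
      (Finset.univ.filter fun k => X k ≠ 0).card ≤ 4 := by
    intro j hj hji
    obtain ⟨S, -, hSc, hS4, hS0⟩ := root_in hD' h12' (g • P j).2
      (by rw [co_norm]; exact hnorm j 4 hji (Or.inl rfl)) (neg_on e (hsupp j hj 4))
    obtain ⟨T, -, hTc, hT4, hT0⟩ := root_in hD' h12' (g • N j).2
      (by rw [co_norm]; exact hnorm j (-4) hji (Or.inr rfl)) (neg_on e (hsupp j hj (-4)))
    set p : Vec := ((g • P j : leechLattice) : Vec)
    set q : Vec := ((g • N j : leechLattice) : Vec)
    have hsum : X = p + q := by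
      rw [hX, ← AddSubgroup.coe_add, ← co_add]
      refine congrArg (fun v : leechLattice => ((g • v : leechLattice) : Vec)) (Subtype.ext (funext fun k => ?_))
      rw [AddSubgroup.coe_add, axis_val]
      simp only [P, N, Pi.add_apply, Pi.single_apply]
      split_ifs <;> omega
    have hpq : dotInt p q = 0 := by
      rw [show dotInt p q = _ from co_dot g (P j) (N j)]
      show dotInt (Pi.single i 4 + Pi.single j 4 : Vec) (Pi.single i 4 + Pi.single j (-4)) = 0
      rw [dot_add_right, dot_single, dot_single]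
      simp [Pi.single_eq_of_ne hji, Pi.single_eq_of_ne (Ne.symm hji)]
    rcases two_roots hSc hTc hS4 hS0 hT4 hT0 hpq with h | hd
    · rw [← hsum] at h; exact absurd h hno
    refine ⟨S, hSc, fun k => ?_, fun k hk => ?_, ?_⟩
    · split_ifs with hk
      · rw [hsum, Pi.add_apply, hT0 k (Finset.disjoint_left.1 hd hk), add_zero]
      · exact hS0 k hk
    · rw [hsum, Pi.add_apply, hT0 k (Finset.disjoint_left.1 hd hk), add_zero]
      rcases hS4 k hk with h | h <;> omega
    · refine (Finset.card_le_card (t := S ∪ T) fun k hk => ?_).trans ((Finset.card_union_le _ _).trans (by omega))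
      by_contra hn
      rw [Finset.mem_union, not_or] at hn
      refine (Finset.mem_filter.1 hk).2 ?_
      rw [hsum, Pi.add_apply, hS0 k hn.1, hT0 k hn.2, add_zero]
  choose! S hSc hP hne hW using hdec
  set W := Finset.univ.filter fun k => X k ≠ 0
  have h11 : (D.erase i).card = 11 := by rw [Finset.card_erase_of_mem hi, h12]
  have hmaps : ∀ j ∈ D.erase i, S j ∈ W.powersetCard 2 := fun j hj => by
    obtain ⟨hji, hjD⟩ := Finset.mem_erase.1 hj
    exact Finset.mem_powersetCard.2
      ⟨fun k hk => Finset.mem_filter.2 ⟨Finset.mem_univ k, hne j hjD hji k hk⟩, hSc j hjD hji⟩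
  have hinj : Set.InjOn S (D.erase i : Set GolayPt) := fun j hj j' hj' hjj => by
    obtain ⟨hji, hjD⟩ := Finset.mem_erase.1 (Finset.mem_coe.1 hj)
    obtain ⟨hji', hjD'⟩ := Finset.mem_erase.1 (Finset.mem_coe.1 hj')
    have h1 : (g • P j : leechLattice) = g • P j' := Subtype.ext (funext fun k => by
      rw [hP j hjD hji k, hP j' hjD' hji' k, ← hjj])
    have h2 := congrArg (fun v : leechLattice => (v : Vec) j) (MulAction.injective g h1)
    by_contra hne'
    simp [P, Pi.single_eq_of_ne hji, Pi.single_eq_of_ne hne'] at h2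
  have hle := Finset.card_le_card_of_injOn S hmaps hinj
  rw [h11, Finset.card_powersetCard] at hle
  obtain ⟨j1, hj1⟩ := Finset.card_pos.1 (by rw [h11]; norm_num : 0 < (D.erase i).card)
  obtain ⟨hji, hjD⟩ := Finset.mem_erase.1 hj1
  have := Nat.choose_le_choose 2 (hW j1 hjD hji)
  rw [show Nat.choose 4 2 = 6 from rfl] at this
  omega

/-- Carrying one sign change of weight twelve to another forces a signed permutation. -/
theorem mem_cross {D D' : Finset GolayPt} {hD : D ∈ SC} {hD' : D' ∈ SC} (h12 : D.card = 12)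
    (h12' : D'.card = 12) {g : Co0} (e : g * mono (one_mem M24) hD = mono (one_mem M24) hD' * g) :
    g ∈ crossStab := by
  refine mem_crossStab.2 fun v hv => ?_
  obtain ⟨i, hiv⟩ := mem_stdL.1 (show v ∈ stdL from hv)
  have hc : ∀ {E : Finset GolayPt}, E.card = 12 → Eᶜ.card = 12 := fun h => by
    rw [Finset.card_compl, Golay.card_golayPt, h]
  obtain ⟨k, hk⟩ : ∃ k, g • axis i = axis k ∨ g • axis i = -axis k := by
    by_cases hi : i ∈ D
    · exact axis_to_axis h12 h12' e hi
    · refine axis_to_axis (hD := Co1Out.compl_mem hD) (hD' := Co1Out.compl_mem hD') (hc h12) (hc h12') ?_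
        (Finset.mem_compl.2 hi)
      rw [← Co1Out.negCo_mono (one_mem M24) hD, ← Co1Out.negCo_mono (one_mem M24) hD', ← mul_assoc, negCo_central g,
        mul_assoc, e, ← mul_assoc]
  show g • v ∈ stdL
  refine mem_stdL.2 ⟨k, ?_⟩
  rcases hiv with rfl | rfl <;> rcases hk with hk | hk
  · exact Or.inl hk
  · exact Or.inr hk
  · exact Or.inr (by rw [co_neg, hk])
  · exact Or.inl (by rw [co_neg, hk, neg_neg])

/-- The same in the quotient. -/
theorem mem_N1_of_conj {D D' : Finset GolayPt} {hD : D ∈ SC} {hD' : D' ∈ SC} (h12 : D.card = 12)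
    (h12' : D'.card = 12) {x : Spor.Co1} (e : x * dg hD = dg hD' * x) : x ∈ Co1Out.N1 := by
  obtain ⟨g, rfl⟩ := QuotientGroup.mk'_surjective (Subgroup.center Co0) x
  refine ⟨g, ?_, rfl⟩
  have e' : mk (g * mono (one_mem M24) hD) = mk (mono (one_mem M24) hD' * g) := by
    rw [map_mul, map_mul, ← dg_eq_mk, ← dg_eq_mk]; exact e
  rcases Co1Centre.mk_eq.1 e' with e' | e'
  · exact mem_cross h12 h12' e'
  · rw [← mul_assoc, Co1Out.negCo_mono] at e'
    exact mem_cross h12 (by rw [Finset.card_compl, Golay.card_golayPt, h12']) e'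

end Cfsg.Agent.Spor.CoUniq
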