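import Cfsg.Agent.Lib.Spor.CoUniq.Local0

/-!
The map from the centralizer of the element of order three onto a group on 1782 points, matched with the point
stabilizer.
-/

set_option autoImplicit false
set_option linter.unusedSectionVars false
set_option maxRecDepth 100000
set_option maxHeartbeats 1000000

noncomputable section

namespace Cfsg.Agent.Spor.CoUniq

open Cfsg.Spor Cfsg.Agent.Spor.Cos
open Cfsg.Agent.Invol.Co1.Three (MX mkX xM mkX_surj)
open Cfsg.Agent.Fus.GTwoJ2 (H2)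

variable {G : Type*} [Group G] [Finite G] {x n s q z : G} {L : Subgroup G}

theorem Loc.L_center (h : Loc x n s q z L) {l : G} (hl : l ∈ L) (hc : ∀ l' ∈ L, l' * l = l * l') : l = 1 := by
  obtain ⟨e⟩ := h.Liso
  haveI := Cfsg.Agent.J2Cert.simple_J2
  rcases IsSimpleGroup.eq_bot_or_eq_top_of_normal (Subgroup.center Cfsg.Spor.J2) inferInstance with hb | ht
  · have hm : e ⟨l, hl⟩ ∈ Subgroup.center Cfsg.Spor.J2 := Subgroup.mem_center_iff.2 fun u => by
      obtain ⟨v, rfl⟩ := e.surjective u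
      rw [← map_mul, ← map_mul]
      exact congrArg e (Subtype.ext (hc v v.2))
    rw [hb, Subgroup.mem_bot, MulEquiv.map_eq_one_iff] at hm
    exact congrArg Subtype.val hm
  · obtain ⟨a, b, hab⟩ := Cfsg.Agent.J2Cert.noncomm_J2
    exact absurd (Subgroup.mem_center_iff.1 (ht ▸ Subgroup.mem_top b) a) hab

theorem Loc.L_inter (h : Loc x n s q z L) {l : G} (hl : l ∈ L) (hlx : l ∈ Subgroup.zpowers x) : l = 1 := by
  refine h.L_center hl fun l' hl' => ?_
  obtain ⟨i, rfl⟩ := hlx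
  exact (Commute.zpow_right (show Commute l' x from h.Lx l' hl') i).eq

theorem Loc.L_le (h : Loc x n s q z L) {l : G} (hl : l ∈ L) : l ∈ Subgroup.centralizer ({x} : Set G) :=
  Subgroup.mem_centralizer_singleton_iff.2 (h.Lx l hl)

theorem Loc.Ln (h : Loc x n s q z L) {l : G} (hl : l ∈ L) : l * n = n * l := by
  obtain ⟨π, -, hn, -⟩ := h.alt
  rw [← hn]
  exact Subgroup.mem_centralizer_iff.1 (π.symm np).2 l hl

theorem Loc.Ls (h : Loc x n s q z L) {l : G} (hl : l ∈ L) : l * s = s * l := by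
  obtain ⟨π, -, -, hs⟩ := h.alt
  rw [← hs]
  exact Subgroup.mem_centralizer_iff.1 (π.symm sp5).2 l hl

theorem Loc.xn_ne (h : Loc x n s q z L) : x * n ≠ n * x := by
  obtain ⟨π, hx, hn, -⟩ := h.alt
  intro e
  have : π.symm xp * π.symm np = π.symm np * π.symm xp := Subtype.ext (by
    simp only [Subgroup.coe_mul, hx, hn]; exact e)
  rw [← map_mul, ← map_mul] at this
  exact a5_facts.2.2.2.2.2.2.2.2.2.2.2.1 (π.symm.injective this).symm

/-- A power of the element of order three whose square commutes with the involution commutes with it. -/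
theorem Loc.cube_root (h : Loc x n s q z L) {k : G} (hk : k ∈ Subgroup.zpowers x) : k = (k * k) * (k * k) := by
  obtain ⟨i, rfl⟩ := hk
  show x ^ i = x ^ i * x ^ i * (x ^ i * x ^ i)
  have h3 : x ^ i * x ^ i * x ^ i = 1 := by
    rw [← zpow_add, ← zpow_add, show i + i + i = (3 : ℤ) * i by ring, zpow_mul,
      show x ^ (3 : ℤ) = x ^ (3 : ℕ) from zpow_natCast x 3, h.x3, one_zpow]
  rw [← mul_assoc, h3, one_mul]

/-- A matched map onto the group on 1782 points. -/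
structure Match (x n z : G) (L : Subgroup G) (ψ : ↥(Subgroup.centralizer ({x} : Set G)) →* Spor.Suz) : Prop where
  surj : Function.Surjective ψ
  ker : ∀ u, ψ u = 1 ↔ u ∈ Subgroup.zpowers (xM x)
  Lim : ∀ u : ↥(Subgroup.centralizer ({x} : Set G)), (u : G) ∈ L → ψ u ∈ H2
  Lsur : ∀ y ∈ H2, ∃ u : ↥(Subgroup.centralizer ({x} : Set G)), (u : G) ∈ L ∧ ψ u = y
  zc : ∀ u : ↥(Subgroup.centralizer ({x} : Set G)), (u : G) = z → IsConj (SuzOut.g 0) (ψ u)
  gens : ∀ i < 6, ∃ u : ↥(Subgroup.centralizer ({x} : Set G)), (u : G) * n = n * u ∧ ψ u = Suz.g i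

theorem Match.ker_coe {ψ : ↥(Subgroup.centralizer ({x} : Set G)) →* Spor.Suz} (M : Match x n z L ψ)
    {u : ↥(Subgroup.centralizer ({x} : Set G))} (hu : ψ u = 1) : (u : G) ∈ Subgroup.zpowers x := by
  obtain ⟨i, rfl⟩ := (M.ker u).1 hu
  exact ⟨i, rfl⟩

/-- A product with a power of the element of order three equal to an involution lies where its first factor does. -/
theorem Loc.invol_mem (h : Loc x n s q z L) {S : Subgroup G} {w u : G} (hu : u ∈ S) (hw : w * w = 1)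
    (hux : u * x = x * u) (hk : u⁻¹ * w ∈ Subgroup.zpowers x) : w ∈ S := by
  set k := u⁻¹ * w with hkdef
  have hw' : w = u * k := by rw [hkdef]; group
  have hc : k * u = u * k := by
    obtain ⟨i, hi⟩ := hk
    rw [← hi]
    exact (Commute.zpow_right (show Commute u x from hux) i).eq.symm
  have h2 : k * k ∈ S := by
    have e : u * u * (k * k) = 1 := by
      calc u * u * (k * k) = u * (u * k) * k := by group
        _ = u * (k * u) * k := by rw [hc]
        _ = 1 := by rw [← hw, hw']; group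
    rw [eq_inv_of_mul_eq_one_right e]
    exact inv_mem (mul_mem hu hu)
  rw [hw']
  refine mul_mem hu ?_
  rw [h.cube_root hk]
  exact mul_mem h2 h2

theorem Loc.exists_match (h : Loc x n s q z L) :
    ∃ ψ : ↥(Subgroup.centralizer ({x} : Set G)) →* Spor.Suz, Match x n z L ψ := by
  obtain ⟨e⟩ := h.iso
  set C := Subgroup.centralizer ({x} : Set G) with hC
  let ψ0 : ↥C →* Spor.Suz := e.toMonoidHom.comp (mkX x)
  have hk0 : ∀ u, ψ0 u = 1 ↔ u ∈ Subgroup.zpowers (xM x) := fun u => by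
    show e (mkX x u) = 1 ↔ _
    rw [MulEquiv.map_eq_one_iff]
    exact QuotientGroup.eq_one_iff u
  have hs0 : Function.Surjective ψ0 := e.surjective.comp (mkX_surj x)
  obtain ⟨eJ⟩ := h.Liso
  obtain ⟨eH⟩ := Cfsg.Agent.Fus.GTwoJ2.isoJ2
  let eL : ↥H2 ≃* ↥L := eH.trans eJ.symm
  let inc : ↥L →* ↥C := Subgroup.inclusion fun l hl => h.L_le hl
  let f : ↥H2 →* Spor.Suz := ψ0.comp (inc.comp eL.toMonoidHom)
  have hfi : Function.Injective f := (injective_iff_map_eq_one f).2 fun a ha => by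
    obtain ⟨i, hi⟩ := (hk0 _).1 ha
    exact eL.map_eq_one_iff.1 (Subtype.ext (h.L_inter (eL a).2 ⟨i, congrArg Subtype.val hi⟩))
  have hzx : z * x = x * z := h.Lx z h.zL
  set zC : ↥C := inc ⟨z, h.zL⟩ with hzC
  obtain ⟨K, hKH, hK, hKc⟩ := exists_K128
  have hyz : ∀ s < 6, ∀ hs' : tau s ∈ H2, IsConj (ψ0 zC) (f ⟨tau s, hs'⟩) := by
    intro t ht ht'
    obtain ⟨c, hc, hce⟩ := tau_conj ht
    have h0 : tau 0 ∈ H2 := tau_mem (by norm_num)
    have e1 : IsConj (ψ0 zC) (f ⟨tau 0, h0⟩) := by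
      set y := eL ⟨tau 0, h0⟩
      have hy1 : (y : G) ≠ 1 := fun e1 => SuzOut.g_ne (s := 0) (by norm_num) (tau_zero ▸
        congrArg Subtype.val (eL.map_eq_one_iff.1 (Subtype.ext e1)))
      obtain ⟨l, hl, hle⟩ := h.cls y y.2 hy1 (((K.subgroupOf H2).map eL.toMonoidHom).map L.subtype)
        (Subgroup.map_subtype_le _)
        (by rw [Subgroup.card_map_of_injective L.subtype_injective, Subgroup.card_map_of_injective eL.injective,
          Nat.card_congr (Subgroup.subgroupOfEquivOfLe hKH).toEquiv, hK])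
        (by
          rintro _ ⟨_, ⟨k, hk, rfl⟩, rfl⟩
          show ((eL k : ↥L) : G) * (y : G) = (y : G) * (eL k : ↥L)
          rw [← Subgroup.coe_mul, ← Subgroup.coe_mul, ← map_mul, ← map_mul]
          exact congrArg _ (congrArg _ (Subtype.ext (hKc _ (Subgroup.mem_subgroupOf.1 hk)))))
      refine isConj_iff.2 ⟨ψ0 (inc ⟨l, hl⟩), ?_⟩
      rw [← map_inv, ← map_mul, ← map_mul]
      exact congrArg ψ0 (Subtype.ext hle)
    refine e1.trans (isConj_iff.2 ⟨f ⟨c, hc⟩, ?_⟩)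
    rw [← map_inv, ← map_mul, ← map_mul]
    exact congrArg f (Subtype.ext hce)
  have hzz : ψ0 zC * ψ0 zC = 1 := by
    rw [← map_mul, show zC * zC = 1 from Subtype.ext h.zz, map_one]
  have hz1 : ψ0 zC ≠ 1 := fun e1 => h.z1 (h.L_inter h.zL (by
    obtain ⟨i, hi⟩ := (hk0 _).1 e1
    exact ⟨i, congrArg Subtype.val hi⟩))
  have hzc : IsConj (SuzOut.g 0) (ψ0 zC) := by
    refine conj_g0_of_card hzz hz1 ?_
    show Nat.card (Subgroup.centralizer ({e (mkX x zC)} : Set Spor.Suz)) = _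
    rw [card_centralizer_equiv e]
    exact h.zcard hzx
  let y : ℕ → Spor.Suz := fun t => if ht : t < 6 then f ⟨tau t, tau_mem ht⟩ else 1
  have hy : ∀ t, (ht : t < 6) → y t = f ⟨tau t, tau_mem ht⟩ := fun t ht => dif_pos ht
  let t' : ℕ → ↥H2 := fun t => if ht : t < 6 then ⟨tau t, tau_mem ht⟩ else 1
  obtain ⟨c, hc⟩ := exists_conj_tau y (fun t ht => by rw [hy t ht]; exact hzc.trans (hyz t ht _)) fun R hR => by
    have e1 : ev y R = f (ev t' R) := by
      rw [ev_map f t' R]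
      exact Tree5.ev_congr R fun t ht => by rw [hy t (hR t ht)]; simp only [t', dif_pos (hR t ht)]
    have e2 : ev tau R = ((ev t' R : ↥H2) : Spor.Suz) := by
      rw [show ((ev t' R : ↥H2) : Spor.Suz) = H2.subtype (ev t' R) from rfl, ev_map H2.subtype t' R]
      exact Tree5.ev_congr R fun t ht => by simp only [t', dif_pos (hR t ht)]; rfl
    rw [e1, e2, OneMemClass.coe_eq_one, map_eq_one_iff f hfi]
  -- the first conjugation
  let ψ1 : ↥C →* Spor.Suz := (MulAut.conj c⁻¹).toMonoidHom.comp ψ0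
  have hf1 : ∀ a : ↥H2, ψ1 (inc (eL a)) = a := by
    have hle : H2 ≤ (((MulAut.conj c⁻¹).toMonoidHom.comp f).eqLocus H2.subtype).map H2.subtype := by
      refine H2_le_of_tau fun t ht => ⟨⟨tau t, tau_mem ht⟩, ?_, rfl⟩
      show c⁻¹ * f ⟨tau t, tau_mem ht⟩ * c⁻¹⁻¹ = tau t
      rw [← hy t ht, hc t ht]; group
    intro a
    obtain ⟨b, hb, e1⟩ := hle a.2
    rw [show a = b from Subtype.ext e1.symm]
    exact hb
  -- the second conjugation
  obtain ⟨l0, hl0, hl0e⟩ : ∃ d ∈ H2, d * tau 0 * d⁻¹ = ψ1 zC := by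
    have h0 : tau 0 ∈ H2 := tau_mem (by norm_num)
    obtain ⟨l, hl, hle⟩ : ∃ l ∈ L, l * z * l⁻¹ = (eL ⟨tau 0, h0⟩ : G) := by
      refine h.cls _ (eL _).2 (fun e1 => SuzOut.g_ne (s := 0) (by norm_num) (tau_zero ▸
        congrArg Subtype.val (eL.map_eq_one_iff.1 (Subtype.ext e1))))
        (((K.subgroupOf H2).map eL.toMonoidHom).map L.subtype) (Subgroup.map_subtype_le _)
        (by rw [Subgroup.card_map_of_injective L.subtype_injective, Subgroup.card_map_of_injective eL.injective,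
          Nat.card_congr (Subgroup.subgroupOfEquivOfLe hKH).toEquiv, hK]) ?_
      rintro _ ⟨_, ⟨k, hk, rfl⟩, rfl⟩
      show ((eL k : ↥L) : G) * (eL _ : ↥L) = ((eL _ : ↥L) : G) * (eL k : ↥L)
      rw [← Subgroup.coe_mul, ← Subgroup.coe_mul, ← map_mul, ← map_mul]
      exact congrArg _ (congrArg _ (Subtype.ext (hKc _ (Subgroup.mem_subgroupOf.1 hk))))
    obtain ⟨a, ha⟩ := eL.surjective ⟨l, hl⟩
    refine ⟨(a : Spor.Suz)⁻¹, inv_mem a.2, ?_⟩
    rw [inv_inv, ← hf1 a, show (tau 0 : Spor.Suz) = ψ1 (inc (eL ⟨tau 0, h0⟩)) from (hf1 ⟨tau 0, h0⟩).symm,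
      show inc (eL ⟨tau 0, h0⟩) = inc (eL a) * zC * (inc (eL a))⁻¹ from Subtype.ext (by rw [ha]; exact hle.symm),
      map_mul, map_mul, map_inv]
    group
  let ψ2 : ↥C →* Spor.Suz := (MulAut.conj l0⁻¹).toMonoidHom.comp ψ1
  have hs2 : Function.Surjective ψ2 :=
    (MulAut.conj l0⁻¹).surjective.comp ((MulAut.conj c⁻¹).surjective.comp hs0)
  have hk2 : ∀ u, ψ2 u = 1 ↔ u ∈ Subgroup.zpowers (xM x) := fun u => by
    show (MulAut.conj l0⁻¹) ((MulAut.conj c⁻¹) (ψ0 u)) = 1 ↔ _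
    rw [MulEquiv.map_eq_one_iff, MulEquiv.map_eq_one_iff, hk0]
  have hL2 : ∀ u : ↥C, (u : G) ∈ L → ψ2 u ∈ H2 := fun u hu => by
    obtain ⟨a, ha⟩ := eL.surjective ⟨u, hu⟩
    show l0⁻¹ * ψ1 u * l0⁻¹⁻¹ ∈ H2
    rw [show u = inc (eL a) from Subtype.ext (by rw [ha]; rfl), hf1 a]
    exact mul_mem (mul_mem (inv_mem hl0) a.2) (inv_mem (inv_mem hl0))
  have hLs : ∀ y ∈ H2, ∃ u : ↥C, (u : G) ∈ L ∧ ψ2 u = y := fun y hy => by
    refine ⟨inc (eL ⟨l0 * y * l0⁻¹, mul_mem (mul_mem hl0 hy) (inv_mem hl0)⟩), (eL _).2, ?_⟩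
    show l0⁻¹ * ψ1 _ * l0⁻¹⁻¹ = y
    rw [hf1]; group
  have hz2 : ψ2 zC = SuzOut.g 0 := by
    show l0⁻¹ * ψ1 zC * l0⁻¹⁻¹ = _
    rw [← hl0e, tau_zero]; group
  -- the involution outside
  set qC : ↥C := ⟨q, Subgroup.mem_centralizer_singleton_iff.2 h.qx⟩
  have hqH : ψ2 qC ∉ H2 := fun hm => h.qL (by
    obtain ⟨u, hu, e1⟩ := hLs _ hm
    refine h.invol_mem hu h.qq (h.Lx _ hu) ?_
    obtain ⟨i, hi⟩ := (hk2 (u⁻¹ * qC)).1 (by rw [map_mul, map_inv, e1, inv_mul_cancel])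
    exact ⟨i, congrArg Subtype.val hi⟩)
  have hqcls : IsConj (SuzOut.g 0) (ψ2 qC) := by
    rw [← hz2]
    exact (MulAut.conj l0⁻¹).toMonoidHom.map_isConj ((MulAut.conj c⁻¹).toMonoidHom.map_isConj
      (e.toMonoidHom.map_isConj (h.zq hzx h.qx)))
  have hqcom : ψ2 qC * SuzOut.g 0 = SuzOut.g 0 * ψ2 qC := by
    rw [← hz2, ← map_mul, ← map_mul]
    exact congrArg ψ2 (Subtype.ext h.qz)
  set Cn' : Subgroup ↥C := (Subgroup.centralizer ({n} : Set G)).subgroupOf C with hCn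
  have hLn : ∀ u : ↥C, (u : G) ∈ L → u ∈ Cn' := fun u hu =>
    Subgroup.mem_subgroupOf.2 (Subgroup.mem_centralizer_singleton_iff.2 (h.Ln hu))
  have hK2 : H2 ≤ Cn'.map ψ2 := fun y hy => by
    obtain ⟨u, hu, e1⟩ := hLs y hy
    exact ⟨u, hLn u hu, e1⟩
  rcases point_cases hK2 ⟨qC, Subgroup.mem_subgroupOf.2 (Subgroup.mem_centralizer_singleton_iff.2 h.qn), rfl⟩
    hqH hqcls hqcom with hA | hB | htop
  · refine ⟨ψ2, hs2, hk2, hL2, hLs, fun u hu => ?_, fun i hi => ?_⟩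
    · rw [show u = zC from Subtype.ext hu, hz2]
    obtain ⟨u, hu, e1⟩ := hA i hi
    exact ⟨u, Subgroup.mem_centralizer_singleton_iff.1 (Subgroup.mem_subgroupOf.1 hu), e1⟩
  · have hsi : swapS⁻¹ = swapS := inv_eq_of_mul_eq_one_right swap_sq
    refine ⟨(MulAut.conj swapS).toMonoidHom.comp ψ2, (MulAut.conj swapS).surjective.comp hs2,
      fun u => ?_, fun u hu => ?_, fun y hy => ?_, fun u hu => ?_, fun i hi => ?_⟩
    · show (MulAut.conj swapS) (ψ2 u) = 1 ↔ _
      rw [MulEquiv.map_eq_one_iff, hk2]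
    · show swapS * ψ2 u * swapS⁻¹ ∈ H2
      rw [hsi]
      exact swap_H2 (hL2 u hu)
    · obtain ⟨u, hu, e1⟩ := hLs _ (swap_H2 hy)
      refine ⟨u, hu, ?_⟩
      show swapS * ψ2 u * swapS⁻¹ = y
      rw [e1, hsi]
      calc swapS * (swapS * y * swapS) * swapS = swapS * swapS * y * (swapS * swapS) := by group
        _ = y := by rw [swap_sq, one_mul, mul_one]
    · rw [show u = zC from Subtype.ext hu]
      exact isConj_iff.2 ⟨swapS, by
        show swapS * SuzOut.g 0 * swapS⁻¹ = swapS * ψ2 zC * swapS⁻¹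
        rw [hz2]⟩
    · obtain ⟨u, hu, e1⟩ := hB i hi
      refine ⟨u, Subgroup.mem_centralizer_singleton_iff.1 (Subgroup.mem_subgroupOf.1 hu), ?_⟩
      show swapS * ψ2 u * swapS⁻¹ = _
      rw [e1, hsi]
      calc swapS * (swapS * Suz.g i * swapS) * swapS = swapS * swapS * Suz.g i * (swapS * swapS) := by group
        _ = Suz.g i := by rw [swap_sq, one_mul, mul_one]
  · exfalso
    haveI : Group.IsPerfect ↥C := h.qs.1
    have hall : (⊤ : Subgroup ↥C) ≤ Cn' := by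
      rw [← Group.IsPerfect.commutator_eq_top (G := ↥C), commutator_def]
      refine (commutator_le_of_central le_top fun p _ => ?_).trans (Subgroup.commutator_le_self Cn')
      obtain ⟨m, hm, e1⟩ := (htop ▸ Subgroup.mem_top (ψ2 p) : ψ2 p ∈ Cn'.map ψ2)
      refine ⟨m, hm, fun u _ => ?_⟩
      obtain ⟨i, hi⟩ := (hk2 (m⁻¹ * p)).1 (by rw [map_mul, map_inv, e1, inv_mul_cancel])
      rw [← hi]
      exact (Commute.zpow_left (show Commute (xM x) u from
        Subtype.ext (Subgroup.mem_centralizer_singleton_iff.1 u.2).symm) i).eq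
    exact h.xn_ne (Subgroup.mem_centralizer_singleton_iff.1
      (Subgroup.mem_subgroupOf.1 (hall (Subgroup.mem_top (xM x)))))

end Cfsg.Agent.Spor.CoUniq

end
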