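import Cfsg.Agent.Lib.Invol.Co1.Setting
import Cfsg.Agent.Lib.Invol.Co1.Five.Main
import Cfsg.Agent.Lib.Invol.Co1.Three.Glue

/-!
A rotation of first Conway type inside the alternating group of degree five centralizing a group of Hall-Janko type.
-/

set_option autoImplicit false
set_option linter.unusedSectionVars false
set_option maxRecDepth 100000

namespace Cfsg.Agent.Spor.CoUniq

open Cfsg Cfsg.Agent.Invol Cfsg.Agent.Invol.Co1 Cfsg.Agent.Classical.BinCoc Cfsg.Agent.Invol.Big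
  Cfsg.Agent.Invol.Big.Code
open Cfsg.Agent.Invol.Co1.Five (pt spn QS Y Rel pt_lt pt_spn)
open Cfsg.Agent.Invol.Co1.Three (Rot MX mkX xM)

/-- The three-cycle. -/
def xp : alternatingGroup (Fin 5) := ⟨Equiv.swap 0 1 * Equiv.swap 1 2, Equiv.Perm.mem_alternatingGroup.2 (by decide)⟩

/-- A double transposition fixing the last point. -/
def np : alternatingGroup (Fin 5) := ⟨Equiv.swap 0 1 * Equiv.swap 2 3, Equiv.Perm.mem_alternatingGroup.2 (by decide)⟩

/-- A double transposition inverting the three-cycle. -/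
def sp5 : alternatingGroup (Fin 5) := ⟨Equiv.swap 0 1 * Equiv.swap 3 4, Equiv.Perm.mem_alternatingGroup.2 (by decide)⟩

/-- A second three-cycle. -/
def up : alternatingGroup (Fin 5) := ⟨Equiv.swap 1 2 * Equiv.swap 2 3, Equiv.Perm.mem_alternatingGroup.2 (by decide)⟩

theorem perm_ok : xp ^ 3 = 1 ∧ xp ≠ 1 ∧ up ^ 3 = 1 ∧ np = xp * up ∧ (xp : Equiv.Perm (Fin 5)) 4 = 4 ∧
    (up : Equiv.Perm (Fin 5)) 4 = 4 := by decide +kernel

/-- A vector perpendicular to the plane of the three points is fixed by the cycle. -/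
theorem plane_ok : ((List.range 256).all fun v =>
    bq K8 (pt false 0 ^^^ pt false 1) v || bq K8 (pt false 1 ^^^ pt false 2) v ||
      wd K8 (Five.word false (xp : Equiv.Perm (Fin 5))) v == v) = true ∧
    K8.q (pt false 0 ^^^ pt false 1) = true ∧ K8.q (pt false 1 ^^^ pt false 2) = true ∧
    bq K8 (pt false 0 ^^^ pt false 1) (pt false 1 ^^^ pt false 2) = true ∧
    pt false 2 ^^^ pt false 0 = (pt false 0 ^^^ pt false 1) ^^^ (pt false 1 ^^^ pt false 2) ∧
    pt false 4 ≠ 0 ∧ K8.q (pt false 4) = false := by decide +kernel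

theorem five_move4 : ∀ τ : Equiv.Perm (Fin 5), τ ^ 5 = 1 → τ ≠ 1 → τ 4 ≠ 4 := fun τ h5 h1 =>
  Five.five_move τ h5 h1 4

theorem lev6 : Suz.sd.lev = 6 := by decide +kernel

/-- What is kept of the local structure. -/
structure Loc {G : Type*} [Group G] (x n s q z : G) (L : Subgroup G) : Prop where
  x3 : x ^ 3 = 1
  x1 : x ≠ 1
  qs : Cfsg.IsQuasisimple ↥(Subgroup.centralizer ({x} : Set G))
  iso : Cfsg.Spor.IsoSuz (MX x)
  Lx : ∀ l ∈ L, l * x = x * l
  Liso : Cfsg.Spor.IsoJ2 ↥L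
  zL : z ∈ L
  z1 : z ≠ 1
  zz : z * z = 1
  cls : ∀ y ∈ L, y ≠ 1 → ∀ K : Subgroup G, K ≤ L → Nat.card K = 128 → (∀ k ∈ K, k * y = y * k) →
    ∃ l ∈ L, l * z * l⁻¹ = y
  zcard : ∀ hz : z * x = x * z,
    Nat.card (Subgroup.centralizer ({mkX x ⟨z, Subgroup.mem_centralizer_singleton_iff.2 hz⟩} : Set (MX x))) = 3317760
  zq : ∀ (hz : z * x = x * z) (hq : q * x = x * q),
    IsConj (mkX x ⟨z, Subgroup.mem_centralizer_singleton_iff.2 hz⟩)
      (mkX x ⟨q, Subgroup.mem_centralizer_singleton_iff.2 hq⟩)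
  qx : q * x = x * q
  qn : q * n = n * q
  qz : q * z = z * q
  qq : q * q = 1
  qL : q ∉ L
  rigid : ∀ r, (∀ l ∈ L, l * r = r * l) → (∀ l ∈ L, l * (q * r * q) = q * r * q * l) → q * r * q = r
  moved : ∃ r, (∀ l ∈ L, l * r = r * l) ∧ q * r ≠ r * q
  alt : ∃ π : ↥(Subgroup.centralizer (L : Set G)) ≃* alternatingGroup (Fin 5),
    ((π.symm xp : ↥(Subgroup.centralizer (L : Set G))) : G) = x ∧
    ((π.symm np : ↥(Subgroup.centralizer (L : Set G))) : G) = n ∧
    ((π.symm sp5 : ↥(Subgroup.centralizer (L : Set G))) : G) = s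

theorem card_centralizer_equiv {A B : Type*} [Group A] [Group B] (e : A ≃* B) {a : A} :
    Nat.card (Subgroup.centralizer ({e a} : Set B)) = Nat.card (Subgroup.centralizer ({a} : Set A)) := by
  refine (Nat.card_congr (Equiv.subtypeEquiv e.toEquiv fun u => ?_)).symm
  simp only [Subgroup.mem_centralizer_singleton_iff, MulEquiv.toEquiv_eq_coe, EquivLike.coe_coe, ← map_mul,
    EmbeddingLike.apply_eq_iff_eq]

/-- An element central in a subgroup of order 128 is conjugate to the central involution. -/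
theorem conj_zb {H : Type*} [Group H] [Finite H] {z : H} {Q : Subgroup H} (S : HJ.Setting z Q) (K : Subgroup H)
    (hK : Nat.card K = 128) {y : H} (hy1 : y ≠ 1) (hKy : ∀ k ∈ K, k * y = y * k) :
    ∃ w : H, w * z * w⁻¹ = y := by
  haveI : Fact (Nat.Prime 2) := ⟨Nat.prime_two⟩
  have hG := HJ.order_eq_j2 S
  have hfac : (Nat.card H).factorization 2 = 7 := by
    rw [hG, show (604800 : ℕ) = 2 ^ 7 * 4725 by norm_num, Nat.factorization_mul (by norm_num) (by norm_num)]
    rw [Finsupp.add_apply, Nat.Prime.factorization_pow Nat.prime_two, Finsupp.single_eq_same,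
      Nat.factorization_eq_zero_of_not_dvd (show ¬ 2 ∣ 4725 by norm_num)]
  set C := Subgroup.centralizer ({z} : Set H)
  have hQ2 : IsPGroup 2 (Q.subgroupOf C) := S.toCore.card_two_pow.comap_of_injective _ C.subtype_injective
  obtain ⟨T, hT⟩ := hQ2.exists_le_sylow
  have hTc : Nat.card T = 128 := by
    rw [T.card_eq_multiplicity, S.toCore.card_C]
    rw [show (1920 : ℕ) = 2 ^ 7 * 15 by norm_num, Nat.factorization_mul (by norm_num) (by norm_num)]
    rw [Finsupp.add_apply, Nat.Prime.factorization_pow Nat.prime_two, Finsupp.single_eq_same,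
      Nat.factorization_eq_zero_of_not_dvd (show ¬ 2 ∣ 15 by norm_num)]
    norm_num
  set T' := (T : Subgroup C).map C.subtype
  have hT'c : Nat.card T' = 128 := by rw [Subgroup.card_map_of_injective C.subtype_injective]; exact hTc
  let PT : Sylow 2 H := Sylow.ofCard T' (by rw [hT'c, hfac]; norm_num)
  let PK : Sylow 2 H := Sylow.ofCard K (by rw [hK, hfac]; norm_num)
  obtain ⟨c, hc⟩ := MulAction.exists_smul_eq H PK PT
  have hQT : Q ≤ T' := fun u hu => ⟨⟨u, S.toCore.le_C hu⟩, hT hu, rfl⟩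
  set y' := c * y * c⁻¹ with hy'
  have hcomm : ∀ u ∈ T', y' * u = u * y' := by
    intro u hu
    have hu' : u ∈ (c • PK : Sylow 2 H) := hc ▸ hu
    obtain ⟨v, hv, rfl⟩ := hu'
    show y' * (c * v * c⁻¹) = c * v * c⁻¹ * y'
    rw [hy', conj_mul, conj_mul, hKy v hv]
  have hyC : y' ∈ C := Subgroup.mem_centralizer_singleton_iff.2 (hcomm z (hQT S.toCore.mem_z))
  have hyQ : y' ∈ Q := S.toCore.cent y' hyC fun u hu => hcomm u (hQT hu)
  rcases S.toCore.cen y' hyQ fun u hu => hcomm u (hQT hu) with e | e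
  · exact absurd (conj_eq_one_iff.1 e) hy1
  · exact ⟨c⁻¹, by rw [← e, hy']; group⟩

variable {G : Type*} [Group G] [Finite G] {z : G} {Q : Subgroup G} {cd : G → ℕ}

/-- Conjugation between the centralizers. -/
def centConj (c x : G) : ↥(Subgroup.centralizer ({x} : Set G)) ≃* ↥(Subgroup.centralizer ({c * x * c⁻¹} : Set G)) where
  toFun u := ⟨c * u * c⁻¹, Subgroup.mem_centralizer_singleton_iff.2 (by
    rw [conj_mul, conj_mul, Subgroup.mem_centralizer_singleton_iff.1 u.2])⟩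
  invFun v := ⟨c⁻¹ * v * c, Subgroup.mem_centralizer_singleton_iff.2 (by
    have := Subgroup.mem_centralizer_singleton_iff.1 v.2
    calc c⁻¹ * (v : G) * c * x = c⁻¹ * ((v : G) * (c * x * c⁻¹)) * c := by group
      _ = c⁻¹ * (c * x * c⁻¹ * v) * c := by rw [this]
      _ = _ := by group)⟩
  left_inv u := Subtype.ext (by simp [mul_assoc])
  right_inv v := Subtype.ext (by simp [mul_assoc])
  map_mul' u v := Subtype.ext (by simp only [Subgroup.coe_mul]; group)

theorem centConj_ker (c x : G) : (Subgroup.zpowers (xM x)).map (centConj c x).toMonoidHom =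
    Subgroup.zpowers (xM (c * x * c⁻¹)) := by
  rw [MonoidHom.map_zpowers]
  rfl

/-- Conjugation between the quotients. -/
noncomputable def mxConj (c x : G) : MX x ≃* MX (c * x * c⁻¹) :=
  QuotientGroup.congr _ _ (centConj c x) (centConj_ker c x)

theorem mxConj_mk (c x : G) (u : ↥(Subgroup.centralizer ({x} : Set G))) :
    mxConj c x (mkX x u) = mkX (c * x * c⁻¹) (centConj c x u) := rfl

open scoped Classical in
/-- The local structure of a group of first Conway type. -/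
theorem exists_loc (S : Std z Q cd) (hQ : Nat.card Q = 512)
    (hcard : Nat.card (Subgroup.centralizer ({z} : Set G)) = 42525 * (2 ^ 12 * Nat.card Q)) :
    ∃ (x n s q : G) (L : Subgroup G), Loc x n s q z L := by
  obtain ⟨g, P⟩ := Co1.exists_pr S
  set h := S.code with hh
  obtain ⟨b, τ, hτ, hτ1, hτ0, hb5, hb1⟩ := Five.exists_five h true (γ := Five.cyc) Five.cyc_ok.1 Five.cyc_ok.2.1
  replace hτ0 : τ false = Five.cyc := hτ0
  have F : Five.Five h b := ⟨hτ.comm, hb5, hb1, τ, hτ, hτ1, by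
    rw [show τ false = Five.cyc from hτ0]; exact Five.cyc_ok.2.1⟩
  obtain ⟨⟨eJ⟩, ⟨eR⟩⟩ := F.main P hQ hcard
  set M := Subgroup.centralizer ({b} : Set G) with hM
  set Ly := Cfsg.layer ↥M with hLy
  set L := Ly.map M.subtype with hLdef
  set R := Subgroup.centralizer (L : Set G) with hR
  have hLM : L ≤ M := Subgroup.map_subtype_le _
  have hLiso : Cfsg.Spor.IsoJ2 ↥L :=
    ⟨((Subgroup.equivMapOfInjective Ly M.subtype M.subtype_injective).symm).trans eJ⟩
  -- the layer modulo the five-element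
  have SJ := F.setting P hQ hcard
  haveI := Five.simple_of SJ
  haveI : IsSimpleGroup ↥Ly := by
    haveI := Cfsg.Agent.J2Cert.simple_J2
    exact eJ.isSimpleGroup_congr.2 inferInstance
  haveI hLn : Ly.Normal := inferInstance
  let φ : ↥Ly →* Five.MB b := (Five.mkB b).comp Ly.subtype
  have hφne : φ.ker ≠ ⊤ := fun e => by
    obtain ⟨a1, a2, ha⟩ := Cfsg.Agent.J2Cert.noncomm_J2
    have hz : ∀ u : ↥Ly, ∃ k : ℕ, ((u : ↥M) : G) = b ^ k := fun u => by
      obtain ⟨k, hk⟩ := Five.mkB_eq (u := 1) (v := (u : ↥M)) (by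
        rw [map_one]; exact (MonoidHom.mem_ker.1 (e ▸ Subgroup.mem_top u : u ∈ φ.ker)).symm)
      exact ⟨k, by rw [hk]; simp⟩
    refine ha ?_
    obtain ⟨i, hi⟩ := hz (eJ.symm a1)
    obtain ⟨j, hj⟩ := hz (eJ.symm a2)
    apply eJ.symm.injective
    rw [map_mul, map_mul]
    refine Subtype.ext (Subtype.ext ?_)
    simp only [Subgroup.coe_mul, hi, hj, ← pow_add, add_comm]
  have hφi : Function.Injective φ := (MonoidHom.ker_eq_bot_iff φ).1
    ((IsSimpleGroup.eq_bot_or_eq_top_of_normal _ φ.normal_ker).resolve_right hφne)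
  have hφs : Function.Surjective φ := by
    have hn : φ.range.Normal := by
      rw [show φ.range = Ly.map (Five.mkB b) by rw [MonoidHom.range_comp, Subgroup.range_subtype]]
      exact hLn.map _ (Five.mkB_surj b)
    refine MonoidHom.range_eq_top.1 ((IsSimpleGroup.eq_bot_or_eq_top_of_normal _ hn).resolve_left fun e => hφne ?_)
    rw [MonoidHom.range_eq_bot_iff] at e
    rw [e, MonoidHom.ker_one]
  have hLy4 : ∀ c : ↥M, (c : G) ^ 4 = 1 → (c : G) ∈ L := by
    intro c hc
    obtain ⟨u, hu⟩ := hφs (Five.mkB b c)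
    obtain ⟨k, hk⟩ := Five.mkB_eq (u := (u : ↥M)) (v := c) hu
    have hcb : Commute ((u : ↥M) : G) (b ^ k) :=
      (show Commute ((u : ↥M) : G) b from Subgroup.mem_centralizer_singleton_iff.1 (u : ↥M).2).pow_right k
    have e4 : ((u : ↥M) : G) ^ 4 * (b ^ k) ^ 4 = 1 := by rw [← hcb.mul_pow, ← hk, hc]
    have hu4 : φ (u ^ 4) = 1 := by
      have e' : ((u ^ 4 : ↥Ly) : ↥M) * Five.bM b ^ (4 * k) = 1 := Subtype.ext (by
        show ((u : ↥M) : G) ^ 4 * b ^ (4 * k) = 1
        rw [mul_comm 4 k, pow_mul, e4])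
      have e'' := congrArg (Five.mkB b) e'
      rwa [map_mul, Five.mkB_pow, mul_one, map_one] at e''
    have hu1 : u ^ 4 = 1 := hφi (hu4.trans (map_one φ).symm)
    have hb4 : (b ^ k) ^ 4 = 1 := by
      rw [show ((u : ↥M) : G) ^ 4 = 1 from congrArg (fun w : ↥Ly => ((w : ↥M) : G)) hu1, one_mul] at e4
      exact e4
    have hb5' : (b ^ k) ^ 5 = 1 := by rw [← pow_mul, mul_comm, pow_mul, hb5, one_pow]
    rw [pow_succ, hb4, one_mul] at hb5'
    rw [hk, hb5', mul_one]
    exact Subgroup.mem_map_of_mem M.subtype u.2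
  have hQSL : ∀ a ∈ QS h true, a ∈ L := fun a ha =>
    hLy4 ⟨a, Subgroup.mem_centralizer_singleton_iff.2 (F.QS_comm ha)⟩ (Five.pow_four h ha.1)
  have hzL : z ∈ L := hQSL z (Five.z_QS h true)
  have hRcomm : ∀ {r : G}, r ∈ R → ∀ l ∈ L, l * r = r * l := fun hr l hl => Subgroup.mem_centralizer_iff.1 hr l hl
  have hRY : R ≤ Y h true := fun r hr => Five.mem_Y.2 ⟨(hRcomm hr z hzL).symm,
    fun a ha has => hRcomm hr a (hQSL a ⟨ha, has⟩)⟩
  have hbR : b ∈ R := Subgroup.mem_centralizer_iff.2 fun l hl => Subgroup.mem_centralizer_singleton_iff.1 (hLM hl)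
  -- the map to the alternating group
  obtain ⟨π, -, hπk, hπv⟩ := Five.exists_alt h hQ hcard true
  let πR : ↥R →* alternatingGroup (Fin 5) := π.comp (Subgroup.inclusion hRY)
  have hπR : ∀ (r : ↥R) σ, Rel h (r : G) σ → (πR r : Equiv.Perm (Fin 5)) = σ false := fun r σ hσ =>
    hπv (Subgroup.inclusion hRY r) σ hσ
  have hπi : Function.Injective πR := by
    haveI : IsSimpleGroup ↥R := eR.isSimpleGroup_congr.2 inferInstance
    refine (MonoidHom.ker_eq_bot_iff πR).1 ((IsSimpleGroup.eq_bot_or_eq_top_of_normal _ πR.normal_ker).resolve_right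
      fun e => hτ0 ▸ Five.cyc_ok.2.1 <| ?_)
    have hb : πR ⟨b, hbR⟩ = 1 := MonoidHom.mem_ker.1 (e ▸ Subgroup.mem_top _)
    rw [← hπR ⟨b, hbR⟩ τ hτ, hb]
    rfl
  have hπb : Function.Bijective πR := hπi.bijective_of_nat_card_le (le_of_eq (Nat.card_congr eR.toEquiv).symm)
  let πe : ↥R ≃* alternatingGroup (Fin 5) := MulEquiv.ofBijective πR hπb
  have hval : ∀ p : alternatingGroup (Fin 5), πR (πe.symm p) = p := fun p => πe.apply_symm_apply p
  have hact : ∀ p : alternatingGroup (Fin 5), ∃ σ, Rel h ((πe.symm p : ↥R) : G) σ ∧ σ true = 1 ∧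
      σ false = (p : Equiv.Perm (Fin 5)) := fun p => by
    obtain ⟨σ, hσ, hσ1⟩ := Five.Y_rel (hRY (πe.symm p).2)
    exact ⟨σ, hσ, hσ1, by rw [← hπR _ σ hσ, hval]⟩
  set x : G := ((πe.symm xp : ↥R) : G) with hxdef
  set n : G := ((πe.symm np : ↥R) : G) with hndef
  have hpow3 : ∀ p : alternatingGroup (Fin 5), p ^ 3 = 1 → ((πe.symm p : ↥R) : G) ^ 3 = 1 := fun p hp => by
    rw [← SubgroupClass.coe_pow, ← map_pow, hp, map_one]; rfl
  have hx3 := hpow3 xp perm_ok.1
  have hx1 : x ≠ 1 := fun e => perm_ok.2.1 (πe.symm.injective (by rw [map_one]; exact Subtype.ext e))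
  obtain ⟨σx, hσx, hσx1, hσx0⟩ := hact xp
  -- the fixed vector
  have h4 : pt false 4 < 2 ^ K8.n := pt_lt false 4
  set q : G := h.rep (pt false 4) with hq
  have hqQ : q ∈ Q := h.rep_mem _
  have hqc : cd q = pt false 4 := h.cd_rep h4
  have hqfix : ∀ p : alternatingGroup (Fin 5), p ^ 3 = 1 → (p : Equiv.Perm (Fin 5)) 4 = 4 →
      q * ((πe.symm p : ↥R) : G) = ((πe.symm p : ↥R) : G) * q := fun p hp hp4 => by
    obtain ⟨σ, hσ, -, hσ0⟩ := hact p
    exact (Three.fix_commute (h := h) hσ.comm (hpow3 p hp) hqQ (by rw [hqc, hσ.act, hσ0, hp4])).symm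
  have hqx : q * x = x * q := hqfix xp perm_ok.1 perm_ok.2.2.2.2.1
  have hqn : q * n = n * q := by
    have e : n = x * ((πe.symm up : ↥R) : G) := by rw [hndef, perm_ok.2.2.2.1, map_mul]; rfl
    rw [e]
    exact (Commute.mul_right hqx (hqfix up perm_ok.2.2.1 perm_ok.2.2.2.2.2)).eq
  have hqb : q * b ≠ b * q := fun e => by
    have e' := h.act_cd hτ.comm hqQ
    rw [← e, mul_inv_cancel_right, hqc, hτ.act] at e'
    exact five_move4 (τ false) (by rw [hτ0]; exact Five.cyc_ok.1) (by rw [hτ0]; exact Five.cyc_ok.2.1)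
      (Five.pt_inj e')
  -- the rotation
  set a := pt false 0 ^^^ pt false 1
  set c := pt false 1 ^^^ pt false 2
  have hrot : Rot h x a c := by
    obtain ⟨hfix, hqa, hqc', hac, h20, -, -⟩ := plane_ok
    have p0 : σx false 0 = 1 ∧ σx false 1 = 2 ∧ σx false 2 = 0 := by rw [hσx0]; decide +kernel
    refine ⟨hσx.comm, hx3, Co1.xor_lt (pt_lt _ _) (pt_lt _ _), Co1.xor_lt (pt_lt _ _) (pt_lt _ _), hqa,
      hqc', hac, ?_, ?_, fun v hv ha hc => ?_⟩
    · rw [h.act_xor hσx.comm (pt_lt _ _) (pt_lt _ _), hσx.act, hσx.act, p0.1, p0.2.1]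
    · rw [h.act_xor hσx.comm (pt_lt _ _) (pt_lt _ _), hσx.act, hσx.act, p0.2.1, p0.2.2, h20]
    · have e : h.act x v = wd K8 (Five.pw σx) v := hσx.act_eq hv
      have hw : Five.word true (σx true) = [] := by rw [hσx1]; decide +kernel
      rw [e, Five.pw, hw, List.nil_append, hσx0]
      simp only [List.all_eq_true, List.mem_range, Bool.or_eq_true, beq_iff_eq] at hfix
      rcases hfix v hv with (e | e) | e
      · rw [ha] at e; exact absurd e Bool.noConfusion
      · rw [hc] at e; exact absurd e Bool.noConfusion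
      · exact e
  obtain ⟨k, hkz, R'⟩ := hrot.exists_std
  obtain ⟨hqs, hsuz⟩ := R'.main P hQ hcard fun y hy hy3 => Three.perfect_of_setting (R'.setting P hQ hcard) hy hy3
  have SS := R'.setting P hQ hcard
  have hkq : k * q * k⁻¹ ∈ Q := h.ext.norm k hkz q hqQ
  have hqq : q * q = 1 := (h.sq_iff hqQ).2 (by rw [hqc]; exact plane_ok.2.2.2.2.2.2)
  refine ⟨x, n, ((πe.symm sp5 : ↥R) : G), q, L, ⟨hx3, hx1, ?_, ?_, fun l hl => hRcomm (πe.symm xp).2 l hl, hLiso, hzL,
    h.ne, h.ext.zz, ?_, ?_, ?_, hqx, hqn, h.ext.central q hqQ, hqq, fun hqL => hqb ?_, ?_,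
    ⟨b, fun l hl => Subgroup.mem_centralizer_singleton_iff.1 (hLM hl), hqb⟩, ⟨πe, rfl, rfl, rfl⟩⟩⟩
  · haveI := hqs.1
    haveI : Nontrivial ↥(Subgroup.centralizer ({k * x * k⁻¹} : Set G)) :=
      ⟨⟨⟨_, Subgroup.mem_centralizer_singleton_iff.2 rfl⟩, 1, fun e => hx1 (conj_eq_one_iff.1 (congrArg Subtype.val e))⟩⟩
    haveI : Nontrivial ↥(Subgroup.centralizer ({x} : Set G)) := (centConj k x).toEquiv.nontrivial
    exact Cfsg.Agent.Grp.IsQuasisimple.of_surjective hqs (f := (centConj k x).symm.toMonoidHom)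
      (centConj k x).symm.surjective
  · obtain ⟨eS⟩ := hsuz
    exact ⟨(mxConj k x).trans eS⟩
  · -- conjugates of the involution
    intro y hy hy1 K hKL hK hKy
    obtain ⟨uy, huy, rfl⟩ := hy
    let e : ↥Ly ≃* Five.MB b := MulEquiv.ofBijective φ ⟨hφi, hφs⟩
    let ι : ↥Ly →* G := M.subtype.comp Ly.subtype
    have hιi : Function.Injective ⇑ι := fun u v e => Subtype.ext (Subtype.ext e)
    set K' : Subgroup (Five.MB b) := (K.comap ι).map e.toMonoidHom
    have hK' : Nat.card K' = 128 := by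
      rw [Subgroup.card_map_of_injective e.injective, ← hK,
        ← Subgroup.card_map_of_injective (f := ι) hιi, Subgroup.map_comap_eq_self]
      rintro w hw
      obtain ⟨u, hu, rfl⟩ := hKL hw
      exact ⟨⟨u, hu⟩, rfl⟩
    obtain ⟨w, hw⟩ := conj_zb SJ K' hK' (y := e ⟨uy, huy⟩)
      (fun e1 => hy1 (congrArg ι (e.map_eq_one_iff.1 e1))) (by
      rintro _ ⟨u, hu, rfl⟩
      show e u * e ⟨uy, huy⟩ = e ⟨uy, huy⟩ * e u
      rw [← map_mul, ← map_mul]
      exact congrArg e (hιi (by rw [map_mul, map_mul]; exact hKy _ hu)))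
    obtain ⟨l, rfl⟩ := e.surjective w
    refine ⟨ι l, Subgroup.mem_map_of_mem M.subtype l.2, ?_⟩
    obtain ⟨uz, huz, ez⟩ := hzL
    have hz' : e ⟨uz, huz⟩ = F.zb := congrArg (Five.mkB b) (Subtype.ext ez)
    rw [← hz', ← map_inv, ← map_mul, ← map_mul] at hw
    have := congrArg ι (e.injective hw)
    rw [map_mul, map_mul, map_inv] at this
    rw [show (z : G) = ι ⟨uz, huz⟩ from ez.symm]
    exact this
  · intro hz
    have hc := SS.card
    rw [lev6, Three.card_Qb R'] at hc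
    rw [← card_centralizer_equiv (mxConj k x), mxConj_mk,
      show (centConj k x ⟨z, Subgroup.mem_centralizer_singleton_iff.2 hz⟩ :
        ↥(Subgroup.centralizer ({k * x * k⁻¹} : Set G))) = ⟨z, Subgroup.mem_centralizer_singleton_iff.2
        R'.comm.symm⟩ from Subtype.ext (show k * z * k⁻¹ = z by rw [hkz, mul_inv_cancel_right])]
    exact hc.trans (by norm_num)
  · intro hz hq'
    suffices hm : IsConj (mxConj k x (mkX x ⟨z, Subgroup.mem_centralizer_singleton_iff.2 hz⟩))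
        (mxConj k x (mkX x ⟨q, Subgroup.mem_centralizer_singleton_iff.2 hq'⟩)) by
      have := (mxConj k x).symm.toMonoidHom.map_isConj hm
      simpa using this
    rw [mxConj_mk, mxConj_mk,
      show (centConj k x ⟨z, Subgroup.mem_centralizer_singleton_iff.2 hz⟩ :
        ↥(Subgroup.centralizer ({k * x * k⁻¹} : Set G))) = ⟨z, Subgroup.mem_centralizer_singleton_iff.2
        R'.comm.symm⟩ from Subtype.ext (show k * z * k⁻¹ = z by rw [hkz, mul_inv_cancel_right])]
    set q' := centConj k x ⟨q, Subgroup.mem_centralizer_singleton_iff.2 hq'⟩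
    have hq4 := Three.pow_four h hkq
    have hne1 : k * q * k⁻¹ ≠ 1 := fun e => by
      have : q = 1 := conj_eq_one_iff.1 e
      rw [this, h.cd_one] at hqc
      exact plane_ok.2.2.2.2.2.1 hqc.symm
    have hnez : k * q * k⁻¹ ≠ z := fun e => by
      have : q = z := by
        calc q = k⁻¹ * (k * q * k⁻¹) * k := by group
          _ = k⁻¹ * (z * k) := by rw [e]; group
          _ = z := by rw [← hkz]; group
      rw [this, h.cd_z] at hqc
      exact plane_ok.2.2.2.2.2.1 hqc.symm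
    refine SS.code.isConj_z Suz.pair_ok SS.moves ⟨Three.mk_mem_Qb (q := q') hkq, ?_, fun e => hne1 ?_, fun e => hnez ?_⟩
    · rw [← map_mul, show q' * q' = 1 from Subtype.ext (show k * q * k⁻¹ * (k * q * k⁻¹) = 1 by
        rw [conj_mul, hqq, mul_one, mul_inv_cancel]), map_one]
    · exact Three.mkX_inj4 R'.pow (u := q') (v := 1) hq4 (by simp) (by rw [map_one]; exact e)
    · exact Three.mkX_inj4 R'.pow (u := q') (v := ⟨z, Subgroup.mem_centralizer_singleton_iff.2 R'.comm.symm⟩)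
        hq4 (Three.pow_four h h.ext.mem) e
  · exact ((hRcomm hbR q hqL))
  · intro r hr hr'
    have hrR : r ∈ R := Subgroup.mem_centralizer_iff.2 hr
    have hr'R : q * r * q ∈ R := Subgroup.mem_centralizer_iff.2 hr'
    obtain ⟨σ, hσ, -⟩ := Five.Y_rel (hRY hrR)
    have hσ' : Rel h (q * r * q) σ := by
      have hQ1 : Rel h q 1 := Rel.of_mem hqQ
      simpa using (hQ1.mul hσ).mul hQ1
    exact congrArg Subtype.val (hπi (a₁ := (⟨q * r * q, hr'R⟩ : ↥R)) (a₂ := ⟨r, hrR⟩)
      (Subtype.ext (by rw [hπR _ σ hσ', hπR _ σ hσ])))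

end Cfsg.Agent.Spor.CoUniq
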