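import Cfsg.Agent.Lib.Spor.CoUniq.Point
import Cfsg.Agent.Lib.Spor.CoUniq.Model
import Cfsg.Agent.Lib.Spor.CoUniq.Setting
import Cfsg.Agent.Lib.Spor.Cos.SuzMult.TailTop
import Cfsg.Agent.Lib.Spor.Cos.SuzOut.Main

/-!
Facts about a group on 1782 points, its triple cover and the alternating group of degree five used to match a local
structure with the model.
-/

set_option autoImplicit false
set_option maxRecDepth 100000
set_option maxHeartbeats 1000000

noncomputable section

namespace Cfsg.Agent.Spor.CoUniq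

open Cfsg.Spor Cfsg.Agent.Spor.Cos
open scoped commutatorElement IsMulCommutative
open Cfsg.Agent.Fus.GTwoJ2 (H2)

/-- Conjugators from the first standard involution to the others. -/
def tauCW : List (List ℕ) := [[], [2, 0, 1, 0], [4, 0, 1, 2, 3, 0], [0, 1, 2, 3, 4, 1, 2, 3, 1, 0],
  [0, 1, 2, 3, 4, 2, 1, 0, 1, 2, 3], [4, 3, 2, 1, 0]]

/-- The last generator over the others and the exchanging involution. -/
def sixW : List ℕ := [1, 5, 6, 0, 1, 0, 1, 5, 6, 1, 0, 1, 5, 2, 1, 0, 1, 0]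

theorem tau_conj_chk : ((List.range 6).all fun s => ((tauCW.getD s []).all fun t => Nat.blt t 5) &&
    sameA (tauCW.getD s [] ++ (tauA.getD 0 [] ++ (tauCW.getD s []).reverse)) (tauA.getD s [])) = true := by
  decide +kernel

theorem tau_conj {s : ℕ} (hs : s < 6) : ∃ c ∈ H2, c * tau 0 * c⁻¹ = tau s := by
  have h := List.all_eq_true.1 tau_conj_chk s (List.mem_range.2 hs)
  simp only [Bool.and_eq_true, List.all_eq_true] at h
  refine ⟨_, word_mem_H2 _ fun t ht => Nat.le_of_ble_eq_true (h.1 t ht), ?_⟩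
  rw [tau_eq hs, tau_eq (by norm_num : (0 : ℕ) < 6), ← eq_A h.2, ev_append, ev_append,
    ev_reverse (fun s _ => Suz.g_sq s) _ (n := 5) fun t ht => Nat.le_of_ble_eq_true (h.1 t ht), ← mul_assoc]

theorem six_chk : (sameA (Triple.subW [[0], [1], [2], [3], [4], [5], swapW] sixW) [6] &&
    (sixW.all fun t => Nat.blt t 7)) = true := by decide +kernel

theorem top_of_swap {K : Subgroup Spor.Suz} (h : ∀ s < 6, Suz.g s ∈ K) (hw : swapS ∈ K) : K = ⊤ := by
  have hc := six_chk
  simp only [Bool.and_eq_true, List.all_eq_true] at hc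
  refine top_le_iff.1 ?_
  rw [← Suz.g_gen, Subgroup.closure_le]
  rintro _ ⟨s, hs, rfl⟩
  rcases Nat.lt_or_ge s 6 with h6 | h6
  · exact h s h6
  · obtain rfl : s = 6 := by omega
    rw [show Suz.g 6 = ev Suz.g [6] from (mul_one _).symm, ← eq_A hc.1, Triple.ev_subW]
    refine ev_mem _ fun t ht => ?_
    have ht7 : t < 7 := Nat.le_of_ble_eq_true (hc.2 t ht)
    interval_cases t
    iterate 6 (show Suz.g _ * 1 ∈ K; rw [mul_one]; exact h _ (by norm_num))
    exact hw

theorem commutator_suz : commutator Spor.Suz = ⊤ := by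
  obtain ⟨η, hη, -⟩ := exists_eta
  rw [commutator_def, ← Subgroup.map_top_of_surjective η hη, ← Subgroup.map_commutator, ← commutator_def, perfect_Hq,
    Subgroup.map_top_of_surjective η hη]

/-! ### Matching central extensions -/

theorem commutator_le_of_central {X : Type*} [Group X] {P M : Subgroup X} (hM : M ≤ P)
    (h : ∀ p ∈ P, ∃ m ∈ M, ∀ u ∈ P, m⁻¹ * p * u = u * (m⁻¹ * p)) : ⁅P, P⁆ ≤ ⁅M, M⁆ := by
  rw [Subgroup.commutator_le]
  intro p hp q hq
  obtain ⟨m, hm, hmc⟩ := h p hp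
  obtain ⟨k, hk, hkc⟩ := h q hq
  set a := m⁻¹ * p with ha
  set b := k⁻¹ * q with hb
  have hp' : p = m * a := by rw [ha]; group
  have hq' : q = k * b := by rw [hb]; group
  have haP : a ∈ P := mul_mem (inv_mem (hM hm)) hp
  have hbP : b ∈ P := mul_mem (inv_mem (hM hk)) hq
  have e : ⁅p, q⁆ = ⁅m, k⁆ := by
    rw [hp', hq']
    simp only [commutatorElement_def]
    have c1 : a * (k * b) * a⁻¹ = k * b := by rw [hmc _ (mul_mem (hM hk) hbP)]; group
    have c2 : b * m⁻¹ * b⁻¹ = m⁻¹ := by rw [hkc _ (inv_mem (hM hm))]; group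
    calc m * a * (k * b) * (m * a)⁻¹ * (k * b)⁻¹ = m * (a * (k * b) * a⁻¹) * m⁻¹ * (k * b)⁻¹ := by group
      _ = m * k * (b * m⁻¹ * b⁻¹) * k⁻¹ := by rw [c1]; group
      _ = _ := by rw [c2]
  rw [e]
  exact Subgroup.commutator_mem_commutator hm hk

/-- Two perfect central extensions with kernels of order three are isomorphic over the quotient. -/
theorem exists_lift {A B : Type} [Group A] [Group B] [Finite A] [Finite B] (f : A →* Spor.Suz) (g : B →* Spor.Suz)
    (hf : Function.Surjective f) (hg : Function.Surjective g) (hfc : f.ker ≤ Subgroup.center A)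
    (hgc : g.ker ≤ Subgroup.center B) (hAp : commutator A = ⊤) (hBp : commutator B = ⊤) (hfk : Nat.card f.ker = 3)
    (hgk : Nat.card g.ker = 3) : ∃ φ : A ≃* B, ∀ a, g (φ a) = f a := by
  haveI := Suz.finite
  set P := (f.comp (MonoidHom.fst A B)).eqLocus (g.comp (MonoidHom.snd A B)) with hP
  set D := ⁅P, P⁆ with hD
  have hDP : D ≤ P := (Subgroup.commutator_le_self P)
  have heq : ∀ p : ↥D, g (p : A × B).2 = f (p : A × B).1 := fun p => (hDP p.2).symm
  let σ : ↥D →* Spor.Suz := (f.comp (MonoidHom.fst A B)).comp D.subtype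
  have hσs : Function.Surjective σ := by
    have hPt : P.map (f.comp (MonoidHom.fst A B)) = ⊤ := top_le_iff.1 fun y _ => by
      obtain ⟨a, rfl⟩ := hf y
      obtain ⟨b, hb⟩ := hg (f a)
      exact ⟨(a, b), hb.symm, rfl⟩
    have hDt : D.map (f.comp (MonoidHom.fst A B)) = ⊤ := by
      rw [hD, Subgroup.map_commutator, hPt, ← commutator_def, commutator_suz]
    intro y
    obtain ⟨p, hp, e⟩ := (hDt ▸ Subgroup.mem_top y : y ∈ D.map (f.comp (MonoidHom.fst A B)))
    exact ⟨⟨p, hp⟩, e⟩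
  have hker : ∀ p : A × B, f p.1 = 1 → g p.2 = 1 → ∀ u : A × B, p * u = u * p := fun p ha hb u =>
    Prod.ext (Subgroup.mem_center_iff.1 (hfc ha) u.1).symm (Subgroup.mem_center_iff.1 (hgc hb) u.2).symm
  have hPD : P ≤ P := le_rfl
  have hPm : ∀ p ∈ P, ∃ m ∈ D, ∀ u ∈ P, m⁻¹ * p * u = u * (m⁻¹ * p) := fun p hp => by
    obtain ⟨m, hm⟩ := hσs (f p.1)
    refine ⟨m, m.2, fun u _ => hker _ ?_ ?_ u⟩
    · show f ((m : A × B).1⁻¹ * p.1) = 1
      rw [map_mul, map_inv, show f (m : A × B).1 = f p.1 from hm, inv_mul_cancel]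
    · show g ((m : A × B).2⁻¹ * p.2) = 1
      rw [map_mul, map_inv, heq m, show f (m : A × B).1 = f p.1 from hm, show g p.2 = f p.1 from hp.symm,
        inv_mul_cancel]
  have hDD : ⁅D, D⁆ = D := le_antisymm (Subgroup.commutator_le_self D) (commutator_le_of_central hDP hPm)
  have hσ : Cfsg.IsStemExtension σ := by
    refine ⟨hσs, fun p hp => Subgroup.mem_center_iff.2 fun u => Subtype.ext ?_, ?_⟩
    · exact (hker _ hp ((heq p).trans hp) u).symm
    · have e : commutator ↥D = ⊤ := by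
        refine Subgroup.map_injective D.subtype_injective ?_
        rw [commutator_def, Subgroup.map_commutator, ← MonoidHom.range_eq_map, Subgroup.range_subtype, hDD]
      rw [e]; exact le_top
  obtain ⟨c, hc, -, hle⟩ := SuzMult.exists_gen σ hσ
  have hc3 : c ^ 3 = 1 := by
    have h1 : f (c : A × B).1 = 1 := hc
    have h2 : g (c : A × B).2 = 1 := (heq c).trans h1
    refine Subtype.ext (Prod.ext ?_ ?_)
    · exact congrArg Subtype.val (hfk ▸ pow_card_eq_one' : (⟨(c : A × B).1, h1⟩ : f.ker) ^ 3 = 1)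
    · exact congrArg Subtype.val (hgk ▸ pow_card_eq_one' : (⟨(c : A × B).2, h2⟩ : g.ker) ^ 3 = 1)
  have hk3 : Nat.card σ.ker ≤ 3 := (Subgroup.card_le_of_le hle).trans (by
    rw [Nat.card_zpowers]; exact Nat.le_of_dvd (by norm_num) (orderOf_dvd_of_pow_eq_one hc3))
  have hcard : ∀ {T : Type} [Group T] [Finite T] (h : T →* Spor.Suz), Function.Surjective h →
      Nat.card T = Nat.card Spor.Suz * Nat.card h.ker := fun {T} _ _ h hs => by
    rw [Subgroup.card_eq_card_quotient_mul_card_subgroup h.ker,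
      Nat.card_congr (QuotientGroup.quotientKerEquivOfSurjective h hs).toEquiv]
  have hsur : ∀ {T : Type} [Group T] [Finite T] (h : T →* Spor.Suz) (_ : h.ker ≤ Subgroup.center T)
      (_ : commutator T = ⊤) (π : ↥D →* T) (_ : ∀ p, h (π p) = σ p), Function.Surjective π :=
    fun {T} _ _ h hc hp π hπ => by
      refine MonoidHom.range_eq_top.1 (top_le_iff.1 ?_)
      rw [← hp, commutator_def]
      refine (commutator_le_of_central (M := π.range) le_top fun a _ => ?_).trans (Subgroup.commutator_le_self _)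
      obtain ⟨m, hm⟩ := hσs (h a)
      refine ⟨π m, ⟨m, rfl⟩, fun u _ => (Subgroup.mem_center_iff.1 (hc ?_) u).symm⟩
      rw [MonoidHom.mem_ker, map_mul, map_inv, hπ, hm, inv_mul_cancel]
  let pA : ↥D →* A := (MonoidHom.fst A B).comp D.subtype
  let pB : ↥D →* B := (MonoidHom.snd A B).comp D.subtype
  have hA : Function.Bijective pA := (hsur f hfc hAp pA fun p => rfl).bijective_of_nat_card_le (by
    rw [hcard σ hσs, hcard f hf, hfk]; exact Nat.mul_le_mul_left _ hk3)
  have hB : Function.Bijective pB := (hsur g hgc hBp pB heq).bijective_of_nat_card_le (by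
    rw [hcard σ hσs, hcard g hg, hgk]; exact Nat.mul_le_mul_left _ hk3)
  refine ⟨(MulEquiv.ofBijective pA hA).symm.trans (MulEquiv.ofBijective pB hB), fun a => ?_⟩
  set p := (MulEquiv.ofBijective pA hA).symm a
  show g (pB p) = f a
  rw [show a = pA p from ((MulEquiv.ofBijective pA hA).apply_symm_apply a).symm]
  exact heq p

/-! ### The cover -/

theorem xq_ne : xq ≠ 1 := fun e => by
  have h : iq xq = 1 := by rw [e, map_one]
  rw [xq, iq_mk, ← map_one Fus.Co1Centre.mk, Fus.Co1Centre.mk_eq] at h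
  rcases h with h | h
  · exact absurd (CoSuz.rows_eq CoSuz.hasT_a (h.symm ▸ CoSuz.hasT_one)) (by decide +kernel)
  · exact absurd (CoSuz.rows_eq CoSuz.hasT_a (h.symm ▸ CoSuz.hasT_one.neg)) (by decide +kernel)

theorem finite_Hq : Finite Hq := by
  obtain ⟨η, hη, -, hk⟩ := exists_eta
  haveI := Suz.finite
  haveI : Finite η.ker := by
    have : η.ker = Subgroup.zpowers xq := Subgroup.ext hk
    rw [this]
    exact (finite_zpowers.2 (isOfFinOrder_iff_pow_eq_one.2 ⟨3, by norm_num, xq_cube⟩)).to_subtype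
  haveI : Finite (Hq ⧸ η.ker) :=
    Finite.of_equiv _ (QuotientGroup.quotientKerEquivOfSurjective η hη).symm.toEquiv
  exact Finite.of_subgroup_quotient η.ker

theorem card_zpowers_xq : Nat.card (Subgroup.zpowers xq) = 3 := by
  haveI : Fact (Nat.Prime 3) := ⟨Nat.prime_three⟩
  rw [Nat.card_zpowers]
  exact orderOf_eq_prime xq_cube xq_ne

theorem zpowers_xq_le : Subgroup.zpowers xq ≤ Subgroup.center Hq :=
  Subgroup.zpowers_le.2 (Subgroup.mem_center_iff.2 xq_central)

theorem theta_theta (u : Hq) : theta (theta u) = u := by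
  apply iq_injective
  rw [← s1_theta, ← s1_theta]
  calc s1 * (s1 * iq u * s1) * s1 = s1 * s1 * iq u * (s1 * s1) := by group
    _ = _ := by rw [s1_sq, one_mul, mul_one]

variable {η : Hq →* Spor.Suz}

theorem lift_unique (hk : ∀ u, η u = 1 ↔ u ∈ Subgroup.zpowers xq) {β β' : Hq →* Hq}
    (h : ∀ u, η (β u) = η (β' u)) : β = β' := by
  have hc : ∀ u, β u * (β' u)⁻¹ ∈ Subgroup.center Hq := fun u => zpowers_xq_le ((hk _).1 (by
    rw [map_mul, map_inv, h, mul_inv_cancel]))
  let χ : Hq →* Subgroup.center Hq :=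
    { toFun := fun u => ⟨β u * (β' u)⁻¹, hc u⟩
      map_one' := Subtype.ext (by simp)
      map_mul' := fun u v => Subtype.ext (by
        show β (u * v) * (β' (u * v))⁻¹ = β u * (β' u)⁻¹ * (β v * (β' v)⁻¹)
        rw [map_mul, map_mul, mul_inv_rev]
        calc β u * β v * ((β' v)⁻¹ * (β' u)⁻¹) = β u * ((β v * (β' v)⁻¹) * (β' u)⁻¹) := by group
          _ = β u * ((β' u)⁻¹ * (β v * (β' v)⁻¹)) := by rw [Subgroup.mem_center_iff.1 (hc v) (β' u)⁻¹]
          _ = _ := by group) }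
  refine MonoidHom.ext fun u => mul_inv_eq_one.1 ?_
  exact congrArg Subtype.val (DFunLike.congr_fun (hom_trivial χ) u)

theorem descend (hη : Function.Surjective η) (hk : ∀ u, η u = 1 ↔ u ∈ Subgroup.zpowers xq) (β : Hq →* Hq)
    (hs : Function.Surjective β) (hx : β xq ∈ Subgroup.zpowers xq) :
    ∃ b : MulAut Spor.Suz, ∀ u, b (η u) = η (β u) := by
  haveI := Suz.finite
  have hle : η.ker ≤ (η.comp β).ker := fun u hu => by
    obtain ⟨i, rfl⟩ := (hk u).1 hu
    rw [MonoidHom.mem_ker, MonoidHom.comp_apply, map_zpow, map_zpow, (hk _).2 hx, one_zpow]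
  let b0 : Spor.Suz →* Spor.Suz := (MonoidHom.liftOfSurjective η hη) ⟨η.comp β, hle⟩
  have hb : ∀ u, b0 (η u) = η (β u) := fun u =>
    MonoidHom.liftOfRightInverse_comp_apply η _ _ ⟨η.comp β, hle⟩ u
  have hbs : Function.Surjective b0 := fun y => by
    obtain ⟨v, rfl⟩ := hη y
    obtain ⟨u, rfl⟩ := hs v
    exact ⟨η u, hb u⟩
  exact ⟨MulEquiv.ofBijective b0 (hbs.bijective_of_nat_card_le le_rfl), hb⟩

/-! ### The alternating group of degree five -/

/-- The image of the double transposition. -/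
def np' : alternatingGroup (Fin 5) := ⟨Equiv.swap 0 1 * Equiv.swap 2 4, Equiv.Perm.mem_alternatingGroup.2 (by decide)⟩

theorem a5_inv : ∀ p : alternatingGroup (Fin 5), p * p = 1 → p ≠ 1 → p * xp * p = xp⁻¹ →
    p = sp5 ∨ p = sp5 * xp ∨ p = sp5 * xp * xp := by decide +kernel

theorem a5_np : ∀ p : alternatingGroup (Fin 5), p * p = 1 → p ≠ 1 → (p * sp5) ^ 3 = 1 → p * sp5 ≠ 1 →
    (p * xp) ^ 3 = 1 → p * xp ≠ 1 → (p * (sp5 * xp)) ^ 5 = 1 → p * (sp5 * xp) ≠ 1 → p = np ∨ p = np' := by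
  decide +kernel

theorem a5_facts : np * np = 1 ∧ sp5 * sp5 = 1 ∧ np ≠ 1 ∧ sp5 ≠ 1 ∧ sp5 * xp * sp5 = xp⁻¹ ∧
    (np * sp5) ^ 3 = 1 ∧ np * sp5 ≠ 1 ∧ (np * xp) ^ 3 = 1 ∧ np * xp ≠ 1 ∧ (np * (sp5 * xp)) ^ 5 = 1 ∧
    np * (sp5 * xp) ≠ 1 ∧ np * xp ≠ xp * np ∧ sp5 * xp * xp ≠ sp5 ∧ sp5 * xp ≠ sp5 ∧
    np * np' * np = sp5 ∧ sp5 * np' * sp5 = np := by decide +kernel

theorem a5_xn : xp * np * (xp * np) * (xp * np) = 1 := by decide +kernel

theorem a5_cent_xp : ∀ p : alternatingGroup (Fin 5), p * xp = xp * p → p = 1 ∨ p = xp ∨ p = xp * xp := by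
  decide +kernel

end Cfsg.Agent.Spor.CoUniq

end
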