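import Cfsg.Agent.Lib.Spor.CoUniq.TupData
import Cfsg.Agent.Lib.Spor.Cos.SuzOut.ActData

/-! Checks for the tuples of six involutions. -/

set_option autoImplicit false
set_option maxRecDepth 100000
set_option maxHeartbeats 4000000

namespace Cfsg.Agent.Spor.CoUniq

open Cfsg.Agent.Spor.Cos

theorem tup_b8 : allBlock (chkTup tupData SuzOut.actN SuzOut.ptsN) 5810 256 8 = true := by decide +kernel

theorem tup_b9 : allBlock (chkTup tupData SuzOut.actN SuzOut.ptsN) 5810 256 9 = true := by decide +kernel

theorem tup_b10 : allBlock (chkTup tupData SuzOut.actN SuzOut.ptsN) 5810 256 10 = true := by decide +kernel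

theorem tup_b11 : allBlock (chkTup tupData SuzOut.actN SuzOut.ptsN) 5810 256 11 = true := by decide +kernel

theorem tup_b12 : allBlock (chkTup tupData SuzOut.actN SuzOut.ptsN) 5810 256 12 = true := by decide +kernel

theorem tup_b13 : allBlock (chkTup tupData SuzOut.actN SuzOut.ptsN) 5810 256 13 = true := by decide +kernel

theorem tup_b14 : allBlock (chkTup tupData SuzOut.actN SuzOut.ptsN) 5810 256 14 = true := by decide +kernel

theorem tup_b15 : allBlock (chkTup tupData SuzOut.actN SuzOut.ptsN) 5810 256 15 = true := by decide +kernel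

end Cfsg.Agent.Spor.CoUniq
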