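import Cfsg.Agent.Lib.Spor.CoUniq.TupChk0
import Cfsg.Agent.Lib.Spor.CoUniq.TupChk1
import Cfsg.Agent.Lib.Spor.CoUniq.TupChk2
import Cfsg.Agent.Lib.Spor.Cos.SuzOut.Cent

/-!
Subgroups of Hall-Janko type of a group on 1782 points: tuples with the relations of six standard involutions are
conjugate to them.
-/

set_option autoImplicit false
set_option maxRecDepth 100000
set_option maxHeartbeats 1000000

namespace Cfsg.Agent.Spor.CoUniq

open Cfsg.Spor Cfsg.Agent.Spor.Cos

theorem tup_ok : ∀ e < 5810, chkTup tupData SuzOut.actN SuzOut.ptsN e = true := by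
  refine of_blocks (size := 256) (b := 23) (by decide) (by decide) fun j hj => ?_
  interval_cases j
  exacts [tup_b0, tup_b1, tup_b2, tup_b3, tup_b4, tup_b5, tup_b6, tup_b7, tup_b8, tup_b9, tup_b10, tup_b11, tup_b12,
    tup_b13, tup_b14, tup_b15, tup_b16, tup_b17, tup_b18, tup_b19, tup_b20, tup_b21, tup_b22]

theorem tup_nodes : tupW.length = 15 ∧ tauW.length = 6 ∧ tupW.getD 14 [] = tauW ∧
    ∀ i < tupW.length, ((tupW.getD i []).length < 6 → i < 14) ∧ ((tupW.getD i []).length = 6 → i = 14) := by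
  decide +kernel

theorem tau_lt : ∀ w ∈ tauW, ∀ t ∈ w, t < 5 := by decide +kernel

/-- The standard tuple. -/
noncomputable def tau (s : ℕ) : Spor.Suz := ev SuzOut.g (tauW.getD s [])

theorem tau_comm_chk : ((List.range 5).all fun s => Triple.sameW SuzOut.actN SuzOut.ptsN
    (tauW.getD (s + 1) [] ++ tauW.getD s []) (tauW.getD s [] ++ tauW.getD (s + 1) [])) = true := by decide +kernel

theorem tau_comm {s : ℕ} (hs : s < 5) : tau (s + 1) * tau s = tau s * tau (s + 1) := by
  have e := SuzOut.eq_of_same (List.all_eq_true.1 tau_comm_chk s (List.mem_range.2 hs))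
  rwa [ev_append, ev_append] at e

/-- A tuple in the class of the first, with the relations of the standard one, is conjugate to it. -/
theorem exists_conj_tau (y : ℕ → Spor.Suz) (hcls : ∀ s < 6, IsConj (SuzOut.g 0) (y s))
    (hrel : ∀ R : List ℕ, (∀ s ∈ R, s < 6) → (ev tau R = 1 ↔ ev y R = 1)) :
    ∃ c : Spor.Suz, ∀ s < 6, y s = c * tau s * c⁻¹ := by
  have hsub : ∀ R : List ℕ, ev SuzOut.g (Triple.subW tauW R) = ev tau R := fun R =>
    ev_sub_congr SuzOut.g tauW tau R fun s _ => rfl
  have hn : tupData.inv.length = 415 := SuzOut.inv_len.1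
  have hy : ∀ s < 6, y s * y s = 1 := fun s hs => by
    obtain ⟨a, ha⟩ := isConj_iff.1 (hcls s hs)
    rw [← ha, conj_mul, SuzOut.g_sq, mul_one, mul_inv_cancel]
  have ht : ∀ s < 6, tau s * tau s = 1 := fun s hs => by
    have := (hrel [s, s] (by simp [hs])).2 (by simpa [ev] using hy s hs)
    simpa [ev] using this
  have hcomm : ∀ s, s + 1 < 6 → y (s + 1) * y s = y s * y (s + 1) := by
    intro s hs
    have h1 : ev tau [s + 1, s, s + 1, s] = 1 := by
      simp only [ev, mul_one]
      rw [← mul_assoc (tau s), ← tau_comm (show s < 5 by omega), mul_assoc (tau (s + 1)) (tau s) (tau s),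
        ht s (by omega), mul_one, ht (s + 1) hs]
    have h2 := (hrel [s + 1, s, s + 1, s] (by simp; omega)).1 h1
    simp only [ev, mul_one] at h2
    calc y (s + 1) * y s = y (s + 1) * y s * ((y (s + 1) * y (s + 1)) * 1) := by rw [hy _ hs]; group
      _ = y (s + 1) * (y s * (y (s + 1) * (y s * y s))) * y (s + 1) := by rw [hy s (by omega)]; group
      _ = y (s + 1) * (y s * (y (s + 1) * y s)) * (y s * y (s + 1)) := by group
      _ = _ := by rw [h2, one_mul]
  obtain ⟨c, i, hi, hlen, h⟩ := exists_tup SuzOut.homA SuzOut.pts_lt SuzOut.det SuzOut.g_sq (D := tupData)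
    tau_lt rfl (by rw [show tupData.nodes = tupW from rfl, tup_nodes.1]; norm_num) SuzOut.invol
    (fun i hi hlt j hj => by
      have h1 := (tup_nodes.2.2.2 i hi).1 hlt
      rw [hn] at hj ⊢
      exact tup_ok (i * 415 + j) (by omega))
    y hcls (SuzOut.g_ne (by norm_num)) hcomm
    (fun R hR => (hsub R).symm ▸ hrel R hR) 6 (by norm_num) le_rfl
  obtain rfl := (tup_nodes.2.2.2 i hi).2 hlen
  refine ⟨c, fun s hs => ?_⟩
  rw [h s hs, show tupData.nodes.getD 14 [] = tauW from tup_nodes.2.2.1]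
  rfl

end Cfsg.Agent.Spor.CoUniq
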