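import Cfsg.Agent.Lib.Spor.CoUniq.LocData
import Cfsg.Agent.Lib.Spor.CoUniq.TupCls
import Cfsg.Agent.Lib.Fus.GTwoFourJ2

/-!
The group of Hall-Janko type, its two fixed points and the involutions commuting with its first involution, in the
presented group on 1782 points.
-/

set_option autoImplicit false
set_option maxRecDepth 100000
set_option maxHeartbeats 2000000

namespace Cfsg.Agent.Spor.CoUniq

open Cfsg.Spor Cfsg.Agent.Spor.Cos
open Cfsg.Agent.Fus.GTwoJ2 (H2)

/-- Points forcing the identity. -/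
def ptsA : List ℕ := [0, 1781, 135, 1461, 46, 1]

/-- The check of two words. -/
noncomputable def sameA (v w : List ℕ) : Bool := Triple.sameW Suz.actA ptsA v w

theorem eq_A {v w : List ℕ} (h : sameA v w = true) : ev Suz.g v = ev Suz.g w :=
  Triple.eq_of_sameW Suz.homA Suz.det h

theorem eq_g (w : List ℕ) : ev SuzOut.g w = ev Suz.g (Triple.subW SuzOut.genWords w) :=
  (Triple.ev_subW (g := Suz.g) SuzOut.genWords w).symm

theorem chk_tauA : ((List.range 6).all fun s =>
    sameA (Triple.subW SuzOut.genWords (tauW.getD s [])) (tauA.getD s [])) = true := by decide +kernel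

theorem tau_eq {s : ℕ} (hs : s < 6) : tau s = ev Suz.g (tauA.getD s []) :=
  (eq_g _).trans (eq_A (List.all_eq_true.1 chk_tauA s (List.mem_range.2 hs)))

theorem tauA_lt : (tauA.all fun w => w.all fun t => Nat.blt t 5) = true ∧
    (tauGen.all fun w => w.all fun t => Nat.blt t 6) = true ∧ tauA.length = 6 ∧
    tauW.getD 0 [] = [0] := by decide +kernel

theorem tau_zero : tau 0 = SuzOut.g 0 := by rw [tau, tauA_lt.2.2.2, SuzOut.ev_zero]

theorem gen_mem_H2 {s : ℕ} (hs : s < 5) : Suz.g s ∈ H2 := by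
  have h : [s] ∈ Suz.lv2W := by interval_cases s <;> decide
  simpa [ev] using mem_val (g := Suz.g) h

theorem word_mem_H2 (w : List ℕ) (h : ∀ t ∈ w, t < 5) : ev Suz.g w ∈ H2 :=
  ev_mem w fun t ht => gen_mem_H2 (h t ht)

theorem tau_mem {s : ℕ} (hs : s < 6) : tau s ∈ H2 := by
  rw [tau_eq hs]
  refine word_mem_H2 _ fun t ht => ?_
  have hs' : s < tauA.length := tauA_lt.2.2.1.symm ▸ hs
  rw [List.getD_eq_getElem _ _ hs'] at ht
  exact Nat.le_of_ble_eq_true (List.all_eq_true.1 (List.all_eq_true.1 tauA_lt.1 _ (List.getElem_mem hs')) t ht)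

theorem chk_gen : ((List.range 5).all fun s => sameA (Triple.subW tauA (tauGen.getD s [])) [s]) = true := by
  decide +kernel

theorem H2_le_of_tau {K : Subgroup Spor.Suz} (h : ∀ s < 6, tau s ∈ K) : H2 ≤ K := by
  refine (Subgroup.closure_le _).2 ?_
  rintro _ ⟨w, hw, rfl⟩
  obtain ⟨s, hs, rfl⟩ : ∃ s, s < 5 ∧ w = [s] := by
    fin_cases hw <;> exact ⟨_, by norm_num, rfl⟩
  rw [← eq_A (List.all_eq_true.1 chk_gen s (List.mem_range.2 hs)), Triple.ev_subW]
  refine ev_mem _ fun t ht => ?_
  have h6 : t < 6 := by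
    have hl : (tauGen.all fun w => w.all fun t => Nat.blt t 6) = true := tauA_lt.2.1
    have hg : tauGen.getD s [] ∈ tauGen := by
      have : tauGen.length = 5 := by decide +kernel
      rw [List.getD_eq_getElem _ _ (this ▸ hs)]
      exact List.getElem_mem _
    exact Nat.le_of_ble_eq_true (List.all_eq_true.1 (List.all_eq_true.1 hl _ hg) t ht)
  rw [← tau_eq h6]
  exact h t h6

/-! ### A subgroup of order 128 centralizing the first involution -/

/-- A listed element. -/
noncomputable def sylE (i : Fin 128) : Spor.Suz := ev Suz.g (sylJW.getD i.val [])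

theorem syl_chk : ((List.range 128).all fun i => ((List.range sylJG.length).all fun t =>
      Nat.blt ((sylJS.getD i []).getD t 999) 128 &&
        sameA (sylJG.getD t [] ++ sylJW.getD i []) (sylJW.getD ((sylJS.getD i []).getD t 999) [])) &&
      (Nat.beq i 0 || (List.range i).any fun k => (List.range sylJG.length).any fun t =>
        Nat.beq ((sylJS.getD k []).getD t 999) i) &&
      ((sylJW.getD i []).all fun t => Nat.blt t 5) &&
      (List.range i).all fun k => !(agree Suz.actA ptsA (sylJW.getD i []) (sylJW.getD k []))) = true ∧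
    (sylJG.all fun w => (w.all fun t => Nat.blt t 5) && sameA (w ++ [1, 2, 1]) ([1, 2, 1] ++ w)) = true ∧
    sylJW.getD 0 [] = [] ∧ SuzOut.genWords.getD 0 [] = [1, 2, 1] := by decide +kernel

theorem exists_K128 : ∃ K : Subgroup Spor.Suz, K ≤ H2 ∧ Nat.card K = 128 ∧ ∀ k ∈ K, k * tau 0 = tau 0 * k := by
  obtain ⟨hall, hgen, hz, hgw⟩ := syl_chk
  simp only [List.all_eq_true, List.mem_range, Bool.and_eq_true, Bool.or_eq_true, List.any_eq_true,
    Bool.not_eq_true'] at hall hgen
  have h0 : sylE 0 = 1 := by rw [sylE, show ((0 : Fin 128) : ℕ) = 0 from rfl, hz]; rfl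
  set K := val Suz.g sylJG
  have hstep : ∀ i : Fin 128, ∀ t < sylJG.length, ∃ j : Fin 128,
      (j : ℕ) = (sylJS.getD i []).getD t 999 ∧ ev Suz.g (sylJG.getD t []) * sylE i = sylE j := fun i t ht => by
    obtain ⟨hlt, he⟩ := (hall i i.2).1.1.1 t ht
    refine ⟨⟨_, Nat.le_of_ble_eq_true hlt⟩, rfl, ?_⟩
    rw [sylE, ← ev_append]
    exact eq_A he
  have hKle : (K : Set Spor.Suz) ⊆ Set.range sylE := by
    intro y hy
    suffices ∀ i, ∃ j, y * sylE i = sylE j by
      obtain ⟨j, hj⟩ := this 0
      exact ⟨j, by rw [← hj, h0, mul_one]⟩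
    rw [SetLike.mem_coe, show K = Subgroup.closure {y | ∃ w ∈ sylJG, ev Suz.g w = y} from rfl,
      ← Subgroup.mem_toSubmonoid, Subgroup.closure_toSubmonoid_of_finite] at hy
    induction hy using Submonoid.closure_induction with
    | mem y hy =>
      obtain ⟨w, hw, rfl⟩ := hy
      obtain ⟨t, ht, rfl⟩ := List.mem_iff_getElem.1 hw
      intro i
      obtain ⟨j, -, hj⟩ := hstep i t ht
      rw [List.getD_eq_getElem _ _ ht] at hj
      exact ⟨j, hj⟩
    | one => exact fun i => ⟨i, one_mul _⟩
    | mul a b _ _ ha hb =>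
      intro i
      obtain ⟨j, hj⟩ := hb i
      obtain ⟨k, hk⟩ := ha j
      exact ⟨k, by rw [mul_assoc, hj, hk]⟩
  have hmem : ∀ n, ∀ i : Fin 128, (i : ℕ) = n → sylE i ∈ K := by
    intro n
    induction n using Nat.strong_induction_on with
    | _ n ih =>
      intro i hi
      rcases (hall i i.2).1.1.2 with e | ⟨k, hk, t, ht, e⟩
      · rw [show i = 0 from Fin.ext (Nat.eq_of_beq_eq_true e), h0]
        exact one_mem _
      · obtain ⟨j, hj, he⟩ := hstep ⟨k, by omega⟩ t ht
        have : j = i := Fin.ext (hj.trans (Nat.eq_of_beq_eq_true e))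
        rw [← this, ← he]
        refine mul_mem (mem_val ?_) (ih k (hi ▸ hk) ⟨k, by omega⟩ rfl)
        rw [List.getD_eq_getElem _ _ ht]
        exact List.getElem_mem _
  have hinj : Function.Injective sylE := by
    intro i j e
    by_contra hne
    have key : ∀ a b : Fin 128, (b : ℕ) < a → sylE a ≠ sylE b := fun a b hba e' => by
      refine Bool.eq_false_iff.1 ((hall a a.2).2 b hba) (Triple.agree_of_eq (pts := ptsA) Suz.homA (by decide)
        (fun t ht => ?_) (fun t ht => ?_) e')
      · have := Nat.le_of_ble_eq_true ((hall a a.2).1.2 t ht)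
        show t < 7
        omega
      · have := Nat.le_of_ble_eq_true ((hall b b.2).1.2 t ht)
        show t < 7
        omega
    rcases lt_trichotomy (i : ℕ) j with h | h | h
    · exact key j i h e.symm
    · exact hne (Fin.ext h)
    · exact key i j h e
  refine ⟨K, (Subgroup.closure_le _).2 ?_, ?_, fun k hk => ?_⟩
  · rintro _ ⟨w, hw, rfl⟩
    exact word_mem_H2 w fun t ht => Nat.le_of_ble_eq_true ((hgen w hw).1 t ht)
  · rw [← Nat.card_fin 128]
    refine (Nat.card_eq_of_bijective (fun i => (⟨sylE i, hmem _ i rfl⟩ : K))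
      ⟨fun i j e => hinj (congrArg Subtype.val e), fun y => ?_⟩).symm
    obtain ⟨i, hi⟩ := hKle y.2
    exact ⟨i, Subtype.ext hi⟩
  · have h121 : tau 0 = ev Suz.g [1, 2, 1] := by
      rw [tau, tauA_lt.2.2.2, eq_g, show Triple.subW SuzOut.genWords [0] = SuzOut.genWords.getD 0 [] ++ [] from rfl,
        List.append_nil, hgw]
    rw [h121]
    refine (Subgroup.mem_centralizer_singleton_iff.1 ((Subgroup.closure_le _).2 ?_ hk :
      k ∈ Subgroup.centralizer ({ev Suz.g [1, 2, 1]} : Set Spor.Suz)))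
    rintro _ ⟨w, hw, rfl⟩
    rw [SetLike.mem_coe, Subgroup.mem_centralizer_singleton_iff, ← ev_append, ← ev_append]
    exact eq_A (hgen w hw).2

/-! ### Involutions with a centralizer of maximal order -/

theorem conj_g0_of_card {y : Spor.Suz} (hy : y * y = 1) (hy1 : y ≠ 1)
    (hc : Nat.card (Subgroup.centralizer ({y} : Set Spor.Suz)) = 3317760) : IsConj (SuzOut.g 0) y := by
  haveI : Fact (Nat.Prime 2) := ⟨Nat.prime_two⟩
  obtain ⟨mem, hcard, hl, h1⟩ := SubList.listed (g := SuzOut.g) SuzOut.homA SuzOut.row_parts.1 SuzOut.pts_lt SuzOut.det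
    SuzOut.syl_parts.1 SuzOut.syl_one.1 SuzOut.syl_one.2
  set S0 := val SuzOut.g SuzOut.sylD.gens
  have hfac : (Nat.card Spor.Suz).factorization 2 = 13 := by
    rw [SuzOut.card_H, show (448345497600 : ℕ) = 2 ^ 13 * 54729675 by norm_num]
    exact SuzOut.fact_two (by norm_num)
  have hS0 : Nat.card S0 = 2 ^ (Nat.card Spor.Suz).factorization 2 := by
    rw [hcard, hfac]
    rfl
  set C := Subgroup.centralizer ({y} : Set Spor.Suz)
  obtain ⟨T⟩ := (inferInstance : Nonempty (Sylow 2 C))
  have hTc : Nat.card T = 2 ^ 13 := by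
    rw [T.card_eq_multiplicity, hc, show (3317760 : ℕ) = 2 ^ 13 * 405 by norm_num, SuzOut.fact_two (by norm_num)]
  let PT : Sylow 2 Spor.Suz := Sylow.ofCard ((T : Subgroup C).map C.subtype)
    (by rw [Subgroup.card_map_of_injective C.subtype_injective, hTc, hfac])
  let PS : Sylow 2 Spor.Suz := Sylow.ofCard S0 hS0
  obtain ⟨c, hcT⟩ := MulAction.exists_smul_eq Spor.Suz PT PS
  have hyC : y ∈ C := Subgroup.mem_centralizer_singleton_iff.2 rfl
  have hyT : (⟨y, hyC⟩ : C) ∈ (T : Subgroup C) := by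
    have hp : IsPGroup 2 (Subgroup.zpowers (⟨y, hyC⟩ : C)) := IsPGroup.of_card (n := 1) (by
      rw [Nat.card_zpowers, pow_one]
      exact orderOf_eq_prime (by rw [pow_two]; exact Subtype.ext hy) fun e => hy1 (congrArg Subtype.val e))
    have hle : Subgroup.zpowers (⟨y, hyC⟩ : C) ≤ Subgroup.normalizer ((T : Subgroup C) : Set C) := by
      rw [Subgroup.zpowers_le, Subgroup.mem_normalizer_iff]
      intro u
      have e : (⟨y, hyC⟩ : C) * u * (⟨y, hyC⟩ : C)⁻¹ = u := by
        rw [show (⟨y, hyC⟩ : C) * u = u * ⟨y, hyC⟩ from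
          Subtype.ext (Subgroup.mem_centralizer_singleton_iff.1 u.2).symm, mul_inv_cancel_right]
      rw [e]
    have hsup := hp.to_sup_of_normal_right' T.isPGroup' hle
    exact (T.is_maximal' hsup le_sup_right).le (Subgroup.mem_sup_left (Subgroup.mem_zpowers _))
  set y' := c * y * c⁻¹ with hy'
  have hmem : y' ∈ S0 := by
    have : y' ∈ (c • PT : Sylow 2 Spor.Suz) := ⟨y, ⟨⟨y, hyC⟩, hyT, rfl⟩, rfl⟩
    rwa [hcT] at this
  have hcen : ∀ u ∈ S0, y' * u = u * y' := fun u hu => by
    have hu' : u ∈ (c • PT : Sylow 2 Spor.Suz) := hcT.symm ▸ hu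
    obtain ⟨_, ⟨v, -, rfl⟩, rfl⟩ := hu'
    show y' * (c * (v : Spor.Suz) * c⁻¹) = c * (v : Spor.Suz) * c⁻¹ * y'
    rw [hy', conj_mul, conj_mul, Subgroup.mem_centralizer_singleton_iff.1 v.2]
  obtain ⟨i, hi, e⟩ := mem y' hmem
  have hh := SuzOut.syl_parts.2.1 i hi
  simp only [SubList.chkCentral, Bool.or_eq_true, List.any_eq_true, List.mem_range, Bool.not_eq_true'] at hh
  rcases hh with (hh | ⟨t, ht, hh⟩) | hh
  · exfalso
    rw [Nat.eq_of_beq_eq_true hh, h1] at e
    exact hy1 (conj_eq_one_iff.1 e.symm)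
  · exfalso
    refine SubList.ne_of_agree' (SubList.hom SuzOut.homA SuzOut.row_parts.1) SuzOut.pts_lt (fun s hs => ?_)
      (fun s hs => ?_) hh ?_
    · exact (List.mem_append.1 hs).elim (hl i hi s) (fun h' => by rw [List.mem_singleton] at h'; omega)
    · exact (List.mem_append.1 hs).elim (fun h' => by rw [List.mem_singleton] at h'; omega) (hl i hi s)
    rw [ev_append, ev_append, e, show ev (SuzOut.sylD.gen SuzOut.g) [t] = SuzOut.sylD.gen SuzOut.g t from mul_one _]
    refine hcen _ (mem_val ?_)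
    rw [List.getD_eq_getElem _ _ ht]
    exact List.getElem_mem _
  · have e' := SuzOut.eq_of_same hh
    rw [SubList.long_eq, e, SuzOut.ev_zero] at e'
    exact isConj_iff.2 ⟨c⁻¹, by rw [← e', hy']; group⟩

/-! ### The involution exchanging the two points -/

/-- The involution exchanging the two points. -/
noncomputable def swapS : Spor.Suz := ev Suz.g swapW

theorem swap_chk : sameA (swapW ++ swapW) [] = true ∧
    ((List.range 5).all fun s => ((swapJ.getD s []).all fun t => Nat.blt t 5) &&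
      sameA (swapW ++ ([s] ++ swapW)) (swapJ.getD s [])) = true ∧
    (swapW.all fun t => Nat.blt t 7) = true := by decide +kernel

theorem swap_sq : swapS * swapS = 1 := by
  rw [swapS, ← ev_append]
  exact eq_A swap_chk.1

theorem swap_H2 {u : Spor.Suz} (hu : u ∈ H2) : swapS * u * swapS ∈ H2 := by
  have hs : swapS⁻¹ = swapS := inv_eq_of_mul_eq_one_right swap_sq
  have hle : H2 ≤ H2.comap (MulAut.conj swapS).toMonoidHom := by
    refine (Subgroup.closure_le _).2 ?_
    rintro _ ⟨w, hw, rfl⟩
    obtain ⟨s, hs5, rfl⟩ : ∃ s, s < 5 ∧ w = [s] := by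
      fin_cases hw <;> exact ⟨_, by norm_num, rfl⟩
    have h := List.all_eq_true.1 swap_chk.2.1 s (List.mem_range.2 hs5)
    simp only [Bool.and_eq_true, List.all_eq_true] at h
    show swapS * ev Suz.g [s] * swapS⁻¹ ∈ H2
    rw [hs, swapS, mul_assoc, ← ev_append, ← ev_append, eq_A h.2]
    exact word_mem_H2 _ fun t ht => Nat.le_of_ble_eq_true (h.1 t ht)
  have := hle hu
  change swapS * u * swapS⁻¹ ∈ H2 at this
  rwa [hs] at this

/-! ### The involutions commuting with the first involution -/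

/-- The check of a representative. -/
noncomputable def chkKind (r : ℕ) : Bool :=
  (fun (x : List ℕ) (kd : ℕ × List (List ℕ)) =>
    (fun tgt : List (List ℕ) => Nat.beq kd.2.length tgt.length && (List.range tgt.length).all fun i =>
      (fun w : List ℕ => (w.all fun t => Nat.blt t 6) &&
        sameA (Triple.subW [[0], [1], [2], [3], [4], x] w) (tgt.getD i [])) (kd.2.getD i []))
      (match kd.1 with
        | 0 => [x]
        | 1 => [[5]]
        | 2 => [swapW ++ ([5] ++ swapW)]
        | _ => [[5], [6]]) &&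
    (Nat.blt 0 kd.1 || (kd.2.getD 0 []).all fun t => Nat.blt t 5))
    (Triple.subW SuzOut.genWords (SuzOut.invW.getD (repJ.getD r 0) [])) (kindW.getD r (0, []))

/-- The check of a listed involution. -/
noncomputable def chkListed (j : ℕ) : Bool :=
  (fun p : ℕ × List ℕ => Nat.blt p.1 20 && (p.2.all fun t => Nat.blt t 5) &&
    sameA (p.2 ++ (Triple.subW SuzOut.genWords (SuzOut.invW.getD (repJ.getD p.1 0) []) ++ p.2.reverse))
      (Triple.subW SuzOut.genWords (SuzOut.invW.getD j []))) (conjJ.getD j (0, []))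

theorem kind_ok : ((List.range 20).all chkKind) = true := by decide +kernel

theorem listed_ok0 : ((List.range 210).all chkListed) = true := by decide +kernel

theorem listed_ok1 : ((List.range 205).all fun j => chkListed (210 + j)) = true := by decide +kernel

theorem listed_ok {j : ℕ} (hj : j < 415) : chkListed j = true := by
  rcases Nat.lt_or_ge j 210 with h | h
  · exact List.all_eq_true.1 listed_ok0 j (List.mem_range.2 h)
  · have := List.all_eq_true.1 listed_ok1 (j - 210) (List.mem_range.2 (by omega))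
    rwa [show 210 + (j - 210) = j by omega] at this

/-- A subgroup over the group of Hall-Janko type with an outside member commuting with the first involution holds
one of the two point stabilizers. -/
theorem point_cases {K : Subgroup Spor.Suz} (hK : H2 ≤ K) {y : Spor.Suz} (hyK : y ∈ K) (hyH : y ∉ H2)
    (hcls : IsConj (SuzOut.g 0) y) (hcom : y * SuzOut.g 0 = SuzOut.g 0 * y) :
    (∀ s < 6, Suz.g s ∈ K) ∨ (∀ s < 6, swapS * Suz.g s * swapS ∈ K) ∨ K = ⊤ := by
  obtain ⟨a, ha⟩ := isConj_iff.1 hcls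
  have hy2 : y * y = 1 := by rw [← ha, conj_mul, SuzOut.g_sq, mul_one, mul_inv_cancel]
  have hy1 : y ≠ 1 := fun e => SuzOut.g_ne (s := 0) (by norm_num) (conj_eq_one_iff.1 (ha.trans e))
  obtain ⟨j, hj, hyj⟩ := SuzOut.invol y hcls hy2 hy1 hcom
  have hj' : j < 415 := SuzOut.inv_len.1 ▸ hj
  have h := listed_ok hj'
  set p := conjJ.getD j (0, []) with hp
  set r := p.1
  simp only [chkListed, Bool.and_eq_true, List.all_eq_true] at h
  obtain ⟨⟨hr, hcw⟩, he⟩ := h
  set x := Triple.subW SuzOut.genWords (SuzOut.invW.getD (repJ.getD r 0) [])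
  have hce := eq_A he
  rw [ev_append, ev_append, ev_reverse (fun s _ => Suz.g_sq s) _ (n := 5)
    (fun t ht => Nat.le_of_ble_eq_true (hcw t ht)), ← eq_g (SuzOut.invW.getD j []), ← mul_assoc] at hce
  set c := ev Suz.g p.2
  have hcH : c ∈ H2 := word_mem_H2 _ fun t ht => Nat.le_of_ble_eq_true (hcw t ht)
  have hx : ev Suz.g x = c⁻¹ * y * c := by rw [hyj, ← hce]; group
  have hxK : ev Suz.g x ∈ K := by
    rw [hx]; exact mul_mem (mul_mem (inv_mem (hK hcH)) hyK) (hK hcH)
  have hxH : ev Suz.g x ∉ H2 := fun hm => hyH (by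
    rw [show y = c * (c⁻¹ * y * c) * c⁻¹ by group, ← hx]
    exact mul_mem (mul_mem hcH hm) (inv_mem hcH))
  have hk := List.all_eq_true.1 kind_ok r (List.mem_range.2 (Nat.le_of_ble_eq_true hr))
  have hlet : ∀ t < 6, ev Suz.g ([[0], [1], [2], [3], [4], x].getD t []) ∈ K := fun t ht => by
    interval_cases t
    iterate 5 exact hK (word_mem_H2 _ (by simp))
    exact hxK
  have hin : ∀ w : List ℕ, (∀ t ∈ w, t < 6) → ev Suz.g (Triple.subW [[0], [1], [2], [3], [4], x] w) ∈ K :=
    fun w hw => by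
      rw [Triple.ev_subW]
      exact ev_mem w fun t ht => hlet t (hw t ht)
  set kd := kindW.getD r (0, []) with hkd
  simp only [chkKind, Bool.and_eq_true, List.all_eq_true, List.mem_range, Bool.or_eq_true] at hk
  obtain ⟨⟨hlen, hall⟩, hsmall⟩ := hk
  have h5 : ∀ {s}, s < 5 → Suz.g s ∈ K := fun hs => hK (gen_mem_H2 hs)
  rcases hk1 : kd.1 with _ | _ | _ | k
  · exfalso
    rw [← hkd, hk1] at hall hsmall
    obtain ⟨hw, e⟩ := hall 0 (by simp)
    have hw5 := hsmall.resolve_left (by simp)
    refine hxH ?_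
    have e' := eq_A e
    simp only [List.getD_cons_zero] at e'
    rw [← e', Triple.ev_subW]
    refine ev_mem _ fun t ht => ?_
    have ht5 : t < 5 := Nat.le_of_ble_eq_true (hw5 t ht)
    interval_cases t <;> exact word_mem_H2 _ (by simp)
  · left
    rw [← hkd, hk1] at hall
    obtain ⟨hw, e⟩ := hall 0 (by simp)
    have e' := eq_A e
    simp only [List.getD_cons_zero] at e'
    intro s hs
    interval_cases s
    iterate 5 exact h5 (by norm_num)
    rw [show Suz.g 5 = ev Suz.g [5] from (mul_one _).symm, ← e']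
    exact hin _ fun t ht => Nat.le_of_ble_eq_true (hw t ht)
  · refine Or.inr (Or.inl ?_)
    rw [← hkd, hk1] at hall
    obtain ⟨hw, e⟩ := hall 0 (by simp)
    have e' := eq_A e
    simp only [List.getD_cons_zero] at e'
    intro s hs
    interval_cases s
    iterate 5 exact hK (swap_H2 (gen_mem_H2 (by norm_num)))
    rw [show swapS * Suz.g 5 * swapS = ev Suz.g (swapW ++ ([5] ++ swapW)) by
      rw [ev_append, ev_append, swapS, show ev Suz.g [5] = Suz.g 5 from mul_one _]; group, ← e']
    exact hin _ fun t ht => Nat.le_of_ble_eq_true (hw t ht)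
  · refine Or.inr (Or.inr (top_le_iff.1 ?_))
    rw [← hkd, hk1] at hall
    obtain ⟨hw, e⟩ := hall 0 (by simp)
    obtain ⟨hw', e'⟩ := hall 1 (by simp)
    have e1 := eq_A e
    have e2 := eq_A e'
    simp only [List.getD_cons_zero, List.getD_cons_succ] at e1 e2
    rw [← Suz.g_gen, Subgroup.closure_le]
    rintro _ ⟨s, hs, rfl⟩
    interval_cases s
    iterate 5 exact h5 (by norm_num)
    · rw [show Suz.g 5 = ev Suz.g [5] from (mul_one _).symm, ← e1]
      exact hin _ fun t ht => Nat.le_of_ble_eq_true (hw t ht)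
    · rw [show Suz.g 6 = ev Suz.g [6] from (mul_one _).symm, ← e2]
      exact hin _ fun t ht => Nat.le_of_ble_eq_true (hw' t ht)

end Cfsg.Agent.Spor.CoUniq
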