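import Cfsg.Agent.Lib.Spor.Cos.OutTree

/-!
Classification of tuples of involutions satisfying exactly the relations of a given tuple, each entry commuting with
the one before.
-/

set_option autoImplicit false

namespace Cfsg.Agent.Spor.CoUniq

open Cfsg.Agent.Spor.Cos
open Cfsg.Agent.Spor.Cos.Triple

/-- The data: tuples, conjugators from the first involution to their last entries, involutions commuting with the
first involution, conjugating words, relations by length, the edges and the given tuple. -/
structure TupData where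
  /-- the tuples -/
  nodes : List (List (List ℕ))
  /-- conjugators -/
  ds : List (List ℕ)
  /-- involutions commuting with the first -/
  inv : List (List ℕ)
  /-- conjugating words -/
  conj : List (List ℕ)
  /-- relations -/
  rels : List (List (List ℕ × ℕ))
  /-- the edges -/
  edge : Tab
  /-- the given tuple -/
  tgt : List (List ℕ)

/-- The candidate following a tuple. -/
def TupData.next (D : TupData) (i j : ℕ) : List ℕ :=
  D.ds.getD i [] ++ (D.inv.getD j [] ++ (D.ds.getD i []).reverse)

/-- The check of an edge. -/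
noncomputable def chkTup (D : TupData) (A : Act) (pts : List ℕ) (e : ℕ) : Bool :=
  (fun (i : ℕ) (j : ℕ) => (fun (T : List (List ℕ)) =>
    Nat.ble 1 T.length && sameW A pts (D.ds.getD i [] ++ ([0] ++ (D.ds.getD i []).reverse)) (T.getD (T.length - 1) []) &&
    (fun Y : List (List ℕ) => (Y.all fun w => w.all fun s => Nat.blt s A.n) &&
      force (D.edge.at e) fun E => bif Nat.beq E 0 then
          (D.rels.getD Y.length []).any fun r => (fun R : List ℕ =>
            (R.all fun s => Nat.blt s Y.length) &&
              ((sameW A pts (subW D.tgt R) [] && !(agree A pts (subW Y R) [])) ||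
                (sameW A pts (subW Y R) [] && !(agree A pts (subW D.tgt R) []))))
              (List.replicate r.2 r.1).flatten
        else force (E - 1) fun E' => (fun (c : List ℕ) (U : List (List ℕ)) =>
          (c.all fun s => Nat.blt s A.n) && Nat.beq U.length Y.length &&
            (List.range Y.length).all fun s => sameW A pts (c ++ (U.getD s [] ++ c.reverse)) (Y.getD s []))
          (D.conj.getD (E' / D.nodes.length) []) (D.nodes.getD (E' % D.nodes.length) []))
      (T ++ [D.next i j]))
    (D.nodes.getD i [])) (e / D.inv.length) (e % D.inv.length)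

theorem ev_sub_congr {G : Type*} [Group G] (g : ℕ → G) (T : List (List ℕ)) (y : ℕ → G) (R : List ℕ)
    (h : ∀ s ∈ R, ev g (T.getD s []) = y s) : ev g (subW T R) = ev y R := by
  rw [ev_subW]
  exact Tree5.ev_congr R h

theorem sub_lt {T : List (List ℕ)} {n : ℕ} (hT : ∀ w ∈ T, ∀ t ∈ w, t < n) (R : List ℕ) :
    ∀ t ∈ subW T R, t < n := by
  intro t ht
  obtain ⟨_, hl, hs⟩ := List.mem_flatten.1 ht
  obtain ⟨a, -, rfl⟩ := List.mem_map.1 hl
  rcases Nat.lt_or_ge a T.length with ha | ha
  · rw [List.getD_eq_getElem _ _ ha] at hs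
    exact hT _ (List.getElem_mem _) t hs
  · rw [List.getD_eq_default _ _ ha] at hs
    simp at hs

/-- A tuple with exactly the relations of the given one is conjugate to a node of every length. -/
theorem exists_tup {G : Type*} [Group G] [Finite G] {g : ℕ → G} {A : Act} {π : G →* Equiv.Perm (Fin A.N)}
    (hπ : A.Hom g π) {pts : List ℕ} (hpts : ∀ p ∈ pts, p < A.N)
    (hdet : ∀ y : G, (∀ q : Fin A.N, (q : ℕ) ∈ pts → π y q = q) → y = 1) (hsq : ∀ s, g s * g s = 1)
    {D : TupData} {n : ℕ} (htgt : ∀ w ∈ D.tgt, ∀ t ∈ w, t < A.n)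
    (hstart : D.nodes.getD 0 [] = [[0]]) (hlen : 0 < D.nodes.length)
    (hinv : ∀ x : G, IsConj (g 0) x → x * x = 1 → x ≠ 1 → x * g 0 = g 0 * x →
      ∃ j < D.inv.length, x = ev g (D.inv.getD j []))
    (hchk : ∀ i < D.nodes.length, (D.nodes.getD i []).length < n →
      ∀ j < D.inv.length, chkTup D A pts (i * D.inv.length + j) = true)
    (y : ℕ → G) (hcls : ∀ s < n, IsConj (g 0) (y s)) (hne : g 0 ≠ 1)
    (hcomm : ∀ s, s + 1 < n → y (s + 1) * y s = y s * y (s + 1))
    (hrel : ∀ R : List ℕ, (∀ s ∈ R, s < n) → (ev g (subW D.tgt R) = 1 ↔ ev y R = 1)) :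
    ∀ k, 1 ≤ k → k ≤ n → ∃ (c : G) (i : ℕ), i < D.nodes.length ∧ (D.nodes.getD i []).length = k ∧
      ∀ s < k, y s = c * ev g ((D.nodes.getD i []).getD s []) * c⁻¹ := by
  have hconj : ∀ (c : G) (s : ℕ), s < n → c⁻¹ * y s * c * (c⁻¹ * y s * c) = 1 ∧ c⁻¹ * y s * c ≠ 1 ∧
      IsConj (g 0) (c⁻¹ * y s * c) := by
    intro c s hs
    obtain ⟨a, ha⟩ := isConj_iff.1 (hcls s hs)
    have e : c⁻¹ * y s * c = (c⁻¹ * a) * g 0 * (c⁻¹ * a)⁻¹ := by rw [← ha]; group
    refine ⟨?_, fun h1 => hne ?_, isConj_iff.2 ⟨_, e.symm⟩⟩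
    · rw [e, conj_mul, hsq, mul_one, mul_inv_cancel]
    · rw [e] at h1
      exact conj_eq_one_iff.1 h1
  intro k hk
  induction k, hk using Nat.le_induction with
  | base =>
    intro hn
    obtain ⟨c, hc⟩ := isConj_iff.1 (hcls 0 (by omega))
    refine ⟨c, 0, hlen, by rw [hstart]; rfl, fun s hs => ?_⟩
    obtain rfl : s = 0 := by omega
    rw [hstart]
    show y 0 = c * (g 0 * 1) * c⁻¹
    rw [mul_one, hc]
  | succ k hk ih =>
    intro hkn
    obtain ⟨c, i, hi, hik, hT⟩ := ih (by omega)
    set y' : ℕ → G := fun s => c⁻¹ * y s * c with hy'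
    have hT' : ∀ s < k, y' s = ev g ((D.nodes.getD i []).getD s []) := fun s hs => by
      simp only [hy', hT s hs]
      group
    have key : ∀ j < D.inv.length, _ := fun j hj => hchk i hi (by omega) j hj
    set d := ev g (D.ds.getD i []) with hd
    obtain ⟨j0, hj0, -⟩ := hinv (g 0) (IsConj.refl _) (hsq 0) hne rfl
    have parts : ∀ j < D.inv.length, (∀ s ∈ D.ds.getD i [], s < A.n) ∧
        d * g 0 * d⁻¹ = ev g ((D.nodes.getD i []).getD (k - 1) []) := fun j hj => by
      have h := key j hj
      rw [chkTup, show (i * D.inv.length + j) / D.inv.length = i by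
          rw [Nat.mul_comm, Nat.mul_add_div (by omega), Nat.div_eq_of_lt hj, Nat.add_zero],
        show (i * D.inv.length + j) % D.inv.length = j by
          rw [Nat.mul_comm, Nat.mul_add_mod, Nat.mod_eq_of_lt hj]] at h
      simp only [Bool.and_eq_true] at h
      have h2 := h.1.2
      have hl : ∀ s ∈ D.ds.getD i [], s < A.n := fun s hs => by
        simp only [sameW, Bool.and_eq_true, List.all_append, List.all_eq_true] at h2
        exact Nat.le_of_ble_eq_true (h2.1.1.1 s hs)
      have e := eq_of_sameW hπ hdet h2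
      rw [ev_append, ev_append, ev_reverse (fun s _ => hsq s) _ hl, ← mul_assoc, hik,
        show ev g [0] = g 0 by simp [ev]] at e
      exact ⟨hl, e⟩
    obtain ⟨hl, he⟩ := parts j0 hj0
    obtain ⟨j, hj, hx⟩ : ∃ j < D.inv.length, d⁻¹ * y' k * d = ev g (D.inv.getD j []) := by
      have e : d⁻¹ * y' k * d = (c * d)⁻¹ * y k * (c * d) := by simp only [hy']; group
      obtain ⟨h1, h2, h3⟩ := hconj (c * d) k (by omega)
      rw [← e] at h1 h2 h3
      refine hinv _ h3 h1 h2 ?_
      have hk1 : k - 1 + 1 = k := by omega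
      have hc1 := hcomm (k - 1) (by omega)
      rw [hk1] at hc1
      have h0 : g 0 = d⁻¹ * y' (k - 1) * d := by rw [hT' (k - 1) (by omega), ← he]; group
      rw [h0]
      simp only [hy']
      calc d⁻¹ * (c⁻¹ * y k * c) * d * (d⁻¹ * (c⁻¹ * y (k - 1) * c) * d)
          = (c * d)⁻¹ * (y k * y (k - 1)) * (c * d) := by group
        _ = (c * d)⁻¹ * (y (k - 1) * y k) * (c * d) := by rw [hc1]
        _ = _ := by group
    have hnext : y' k = ev g (D.next i j) := by
      rw [TupData.next, ev_append, ev_append, ev_reverse (fun s _ => hsq s) _ hl, ← hx, ← hd]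
      group
    have h := key j hj
    rw [chkTup, show (i * D.inv.length + j) / D.inv.length = i by
        rw [Nat.mul_comm, Nat.mul_add_div (by omega), Nat.div_eq_of_lt hj, Nat.add_zero],
      show (i * D.inv.length + j) % D.inv.length = j by
        rw [Nat.mul_comm, Nat.mul_add_mod, Nat.mod_eq_of_lt hj]] at h
    simp only [Bool.and_eq_true, force_eq] at h
    obtain ⟨hYl, hE⟩ := h.2
    set Y := D.nodes.getD i [] ++ [D.next i j] with hY
    have hYlen : Y.length = k + 1 := by rw [hY, List.length_append, hik]; rfl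
    have hYv : ∀ s < k + 1, ev g (Y.getD s []) = y' s := fun s hs => by
      rcases Nat.lt_or_ge s k with hs' | hs'
      · rw [hY, List.getD_append _ _ _ _ (hik.symm ▸ hs'), hT' s hs']
      · obtain rfl : s = k := by omega
        rw [hY, List.getD_append_right _ _ _ _ hik.le, hik, Nat.sub_self]
        exact hnext.symm
    cases hz : Nat.beq (D.edge.at (i * D.inv.length + j)) 0
    · rw [hz, Bool.cond_false] at hE
      simp only [Bool.and_eq_true, force_eq] at hE
      obtain ⟨⟨hcl, hU⟩, hall⟩ := hE
      set E' := D.edge.at (i * D.inv.length + j) - 1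
      set w := D.conj.getD (E' / D.nodes.length) []
      refine ⟨c * ev g w, E' % D.nodes.length, Nat.mod_lt _ hlen, (Nat.eq_of_beq_eq_true hU).trans hYlen,
        fun s hs => ?_⟩
      have e := eq_of_sameW hπ hdet (List.all_eq_true.1 hall s (List.mem_range.2 (hYlen.symm ▸ hs)))
      rw [ev_append, ev_append,
        ev_reverse (fun s _ => hsq s) _ (fun t ht => Nat.le_of_ble_eq_true (List.all_eq_true.1 hcl t ht)),
        ← mul_assoc, hYv s hs] at e
      calc y s = c * y' s * c⁻¹ := by simp only [hy']; group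
        _ = _ := by rw [← e]; group
    · rw [hz, Bool.cond_true] at hE
      exfalso
      obtain ⟨r, -, hr⟩ := List.any_eq_true.1 hE
      simp only [Bool.and_eq_true, Bool.or_eq_true, Bool.not_eq_true', List.all_eq_true] at hr
      obtain ⟨hlt, hr⟩ := hr
      set R := (List.replicate r.2 r.1).flatten
      have hltk : ∀ s ∈ R, s < k + 1 := fun s hs => hYlen ▸ Nat.le_of_ble_eq_true (hlt s hs)
      have eY : ev g (subW Y R) = c⁻¹ * ev y R * c := by
        rw [ev_sub_congr g Y y' R fun s hs => hYv s (hltk s hs)]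
        have hm := ev_map (MulAut.conj c⁻¹).toMonoidHom y R
        simp only [MulEquiv.coe_toMonoidHom, MulAut.conj_apply, inv_inv] at hm
        exact hm.symm
      have hYn : ∀ w ∈ Y, ∀ t ∈ w, t < A.n := fun w hw t ht =>
        Nat.le_of_ble_eq_true (List.all_eq_true.1 (List.all_eq_true.1 hYl w hw) t ht)
      have hR := hrel R fun s hs => lt_of_lt_of_le (hltk s hs) hkn
      rcases hr with ⟨hR1, hbad⟩ | ⟨hR1, hbad⟩
      · have h1 : ev y R = 1 := hR.1 (eq_of_sameW hπ hdet (w := []) hR1)
        refine Bool.eq_false_iff.1 hbad (agree_of_eq hπ hpts (sub_lt hYn R) (by simp) ?_)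
        rw [eY, h1, mul_one, inv_mul_cancel]; rfl
      · have h1 : ev g (subW Y R) = 1 := eq_of_sameW hπ hdet (w := []) hR1
        refine Bool.eq_false_iff.1 hbad (agree_of_eq hπ hpts (sub_lt htgt R) (by simp) ?_)
        refine hR.2 ?_
        rw [eY] at h1
        calc ev y R = c * (c⁻¹ * ev y R * c) * c⁻¹ := by group
          _ = 1 := by rw [h1]; group

end Cfsg.Agent.Spor.CoUniq
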