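import Cfsg.Agent.Lib.Spor.Cos.SuzOut.CenData
import Cfsg.Agent.Lib.Spor.CoUniq.Tup

/-! Data: tuples of six involutions in a group on 1782 points. -/

set_option autoImplicit false
set_option maxRecDepth 100000
set_option maxHeartbeats 4000000

namespace Cfsg.Agent.Spor.CoUniq

open Cfsg.Agent.Spor.Cos

def tupTB0 : Bst := (.node 20 (.node 10 (.node 5 (.node 2 (.node 1 (.leaf 0xa8009900980089007b006b005d004d003e003f002f00210011000300020000) (.leaf 0x13e013d012e011f0110010100b600f200a700e300e4008a00d400c5005c00b7)) (.node 3 (.leaf 0x1e30198020101f201e201d401c501b501a601a701970188017a016a015b014c) (.node 4 (.leaf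 0x2960287027802690020022d025a020001f1024b01d3023c020f022e021f0210) (.leaf 0x387037703680359034a033b032c031d030e02ff02f002e102d202c302b402a5)))) (.node 7 (.node 6 (.leaf 0x47704680459044a043b042c041d040e03ff03f003e103d203c303b403a50396) (.leaf 0x56605580549053a052b051c050d04fe04ef04e004d104c204b304a404950486)) (.node 8 (.leaf 0x656064706380629061a060b05fc05ed05de05cf05c005b105a2059305840575) (.node 9 (.leaf 0x73707280719070a06fb06ec06dd06ce06bf06b0041c06a10692068306740665) (.leaf 0x818080907fa07eb07dc07cd07be07af07a00791078207730764039507550746))))) (.node 15 (.node 12 (.node 11 (.leaf 0x8f908ea08db08cc08bd08ae089f08900881087208630854084503c208360827)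 (.leaf 0x9e909da09cb09bc09ad099e098f098009710962095309440935092609170908)) (.node 13 (.leaf 0xaca0abb0aac0a9d0a8e0a7f0a700a610a520a430a340a250a160a0703d109f8) (.node 14 (.leaf 0xbba0bab0b9c0b8d0b7e0b6f0b600b510b420b330b240b150b060af70ae80ad9) (.leaf 0xc5f0c5004fd0c410c3204850c230c1404670c050bf604760be70bd804580bc9)))) (.node 17 (.node 16 (.leaf 0xd0404b20cf5052a0ce60cd70cc80cb90caa0c9b0c8c03ef0c7d043a04940c6e) (.leaf 0xde50dd605570dc70db80da90d9a0d8b0d7c0d6d0d5e0d4f0d400d310d220d13)) (.node 18 (.leaf 0x3860e990e8a0e7b0e6c050c0e5d0e4e0e3f0e300e210e120e0304df021e0df4) (.node 19 (.leaf 0xf6b0f5c0f4d0f3e0f2f0f200f110f020ef30ee40ed5051b0ec604ee0eb70ea8)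 (.leaf 0x103d102e101f101010010ff20fe30fd40fc50fb60fa70f9804a3040d0f890f7a)))))) (.node 30 (.node 25 (.node 22 (.node 21 (.leaf 0x3b3111e110f110010f110e210d310c410b510a6109710881079106a105b104c) (.leaf 0x11e104c111d2042b11c311b411a51196118711781169115a114b113c112d0179)) (.node 23 (.leaf 0x12d112c212b312a412951286127712681259124a123b122c121d120e11ff11f0) (.node 24 (.leaf 0x13c113b213a3139413851376136713581349133a132b131c130d12fe12ef12e0) (.leaf 0x1484147514660449145703e01448143901c4142a141b140c13fd13ee13df13d0)))) (.node 27 (.node 26 (.leaf 0x1556154715381529151a0539150b14fc14ed14de14cf14c014b114a21493) (.leaf 0x4000000000000000000000000000000000000))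 (.node 28 (.leaf 0x15c10000000015b215a315941585000015760000000000000000156700000000) (.node 29 (.leaf 0x15df15d0) (.leaf 0x1639162a161b160c000015fd000000000000000015ee000000000000))))) (.node 35 (.node 32 (.node 31 (.leaf 0x0) (.leaf 0x0)) (.node 33 (.leaf 0x1657164800000000000000000000000000000000000000000000000000000000) (.node 34 (.leaf 0x1729171a170b16fc16ed16de16cf16c016b116a21693168416751666) (.leaf 0x1747173800000000000000000000000000000000000000000000000000000000)))) (.node 37 (.node 36 (.leaf 0x1819180a17fb17ec17dd17ce17bf17b017a117921783177417651756) (.leaf 0x0)) (.node 38 (.leaf 0x0) (.node 39 (.leaf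 0x0) (.leaf 0x0)))))))

def tupTB1 : Bst := (.node 60 (.node 50 (.node 45 (.node 42 (.node 41 (.leaf 0x0) (.leaf 0x0)) (.node 43 (.leaf 0x0) (.node 44 (.leaf 0x0) (.leaf 0x0)))) (.node 47 (.node 46 (.leaf 0x0) (.leaf 0x0)) (.node 48 (.leaf 0x0) (.node 49 (.leaf 0x0) (.leaf 0x0))))) (.node 55 (.node 52 (.node 51 (.leaf 0x0) (.leaf 0x0)) (.node 53 (.leaf 0x156818290005000000000000000000000000000000000000000000000000) (.node 54 (.leaf 0x18470000000000000000000000000000000000001838000000000000) (.leaf 0x18b0157715b318a1189218830000187418650000000018560000000015a40000)))) (.node 57 (.node 56 (.leaf 0x18bf) (.leaf 0x18ec18dd18ce0000000000000000000000000000000000000000000000000000))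 (.node 58 (.leaf 0x19640000195519461937000019281919190a00000000000000000000000018fb) (.node 59 (.leaf 0x19af0000000019a00000000000000000199119821973) (.leaf 0x0)))))) (.node 70 (.node 65 (.node 62 (.node 61 (.leaf 0x0) (.leaf 0x0)) (.node 63 (.leaf 0x0) (.node 64 (.leaf 0x0) (.leaf 0x0)))) (.node 67 (.node 66 (.leaf 0x0) (.leaf 0x0)) (.node 68 (.leaf 0x0) (.node 69 (.leaf 0x0) (.leaf 0x0))))) (.node 75 (.node 72 (.node 71 (.leaf 0x0) (.leaf 0x0)) (.node 73 (.leaf 0x0) (.node 74 (.leaf 0x0) (.leaf 0x0)))) (.node 77 (.node 76 (.leaf 0x0) (.leaf 0x0)) (.node 78 (.leaf 0x0) (.node 79 (.leaf 0x0) (.leaf 0x0)))))))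

def tupTB2 : Bst := (.node 100 (.node 90 (.node 85 (.node 82 (.node 81 (.leaf 0x0) (.leaf 0x19dd00000000000019ce19bf000600000000000000000000)) (.node 83 (.leaf 0x19cf000000000000000000070000000000000000) (.node 84 (.leaf 0x0) (.leaf 0x19d00008000000000000000000000000000000000000000000000000)))) (.node 87 (.node 86 (.leaf 0x0) (.leaf 0x19fc19ed00000000000000000000)) (.node 88 (.leaf 0x1a1a00001a0b00000000) (.node 89 (.leaf 0x1a3800000000000000001a29000000000000000000000000) (.leaf 0x1a5700001a480000000000000000000000000000000000000000000000000000))))) (.node 95 (.node 92 (.node 91 (.leaf 0x0) (.leaf 0x0)) (.node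 93 (.leaf 0x1a66000000000000000000000000000000000000000000001a2a000018a40000) (.node 94 (.leaf 0x1a750000) (.leaf 0x0)))) (.node 97 (.node 96 (.leaf 0x1a911a821a4619ec000000000000000000000000000000000000000000000000) (.leaf 0x1adc1acd1a731a1900001abe000000001aaf00001aa01a28)) (.node 98 (.leaf 0x0) (.node 99 (.leaf 0x1aec0000000018a3) (.leaf 0x1a920000000000000000000000000000000019c000000000)))))) (.node 110 (.node 105 (.node 102 (.node 101 (.leaf 0x1aa11a650000000000000000000000000000000000000000) (.leaf 0x0)) (.node 103 (.leaf 0x0) (.node 104 (.leaf 0x1b0a000000001afb0000000000000000) (.leaf 0x0)))) (.node 107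 (.node 106 (.leaf 0x0) (.leaf 0x0)) (.node 108 (.leaf 0x0) (.node 109 (.leaf 0x1b481b391b2a1b1b000900000000000000000000000000000000000000000000) (.leaf 0x1c0b1bfc1bed1bde1bcf1bc01a3a1bb11ba21b931b841b7516021b661b571611))))) (.node 115 (.node 112 (.node 111 (.leaf 0x1cb01ca11c921c831c741c651c561c471c381c291c1a) (.leaf 0x0)) (.node 113 (.leaf 0x0) (.node 114 (.leaf 0x0) (.leaf 0x0)))) (.node 117 (.node 116 (.leaf 0x0) (.leaf 0x0)) (.node 118 (.leaf 0x0) (.node 119 (.leaf 0x0) (.leaf 0x0)))))))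

def tupTB3 : Bst := (.node 140 (.node 130 (.node 125 (.node 122 (.node 121 (.leaf 0x0) (.leaf 0x0)) (.node 123 (.leaf 0x0) (.node 124 (.leaf 0x0) (.leaf 0x0)))) (.node 127 (.node 126 (.leaf 0x0) (.leaf 0x0)) (.node 128 (.leaf 0x0) (.node 129 (.leaf 0x0) (.leaf 0x0))))) (.node 135 (.node 132 (.node 131 (.leaf 0xa0000000000000000000000000000000000000000000000000000) (.leaf 0x0)) (.node 133 (.leaf 0x0) (.node 134 (.leaf 0x0) (.leaf 0x0)))) (.node 137 (.node 136 (.leaf 0x0) (.leaf 0x0)) (.node 138 (.leaf 0x0) (.node 139 (.leaf 0x18a60000000000000000000000000000000000000000000000000000) (.leaf 0x1a590000000000000000000000001cc00000))))))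 (.node 150 (.node 145 (.node 142 (.node 141 (.leaf 0x0) (.leaf 0x0)) (.node 143 (.leaf 0x0) (.node 144 (.leaf 0x0) (.leaf 0x0)))) (.node 147 (.node 146 (.leaf 0x0) (.leaf 0x0)) (.node 148 (.leaf 0x0) (.node 149 (.leaf 0x0) (.leaf 0x0))))) (.node 155 (.node 152 (.node 151 (.leaf 0x0) (.leaf 0x0)) (.node 153 (.leaf 0x0) (.node 154 (.leaf 0x0) (.leaf 0x0)))) (.node 157 (.node 156 (.leaf 0xb00000000000000000000) (.leaf 0xc000000000000000000000000000000000000000000000000)) (.node 158 (.leaf 0x0) (.node 159 (.leaf 0x0) (.leaf 0x0)))))))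

def tupTB4 : Bst := (.node 180 (.node 170 (.node 165 (.node 162 (.node 161 (.leaf 0x0) (.leaf 0x0)) (.node 163 (.leaf 0x0) (.node 164 (.leaf 0x0) (.leaf 0x1cd10000000000000000000000000000000000000000)))) (.node 167 (.node 166 (.leaf 0x1cef000000001ce00000000000000000) (.leaf 0x0)) (.node 168 (.leaf 0x0) (.node 169 (.leaf 0x0) (.leaf 0x0))))) (.node 175 (.node 172 (.node 171 (.leaf 0xd00000000000000000000) (.leaf 0x0)) (.node 173 (.leaf 0x0) (.node 174 (.leaf 0x0) (.leaf 0x0)))) (.node 177 (.node 176 (.leaf 0x0) (.leaf 0x0)) (.node 178 (.leaf 0x0) (.node 179 (.leaf 0x0) (.leaf 0x0)))))) (.node 190 (.node 185 (.node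 182 (.node 181 (.leaf 0x0) (.leaf 0x0)) (.node 183 (.leaf 0x0) (.node 184 (.leaf 0x0) (.leaf 0x0)))) (.node 187 (.node 186 (.leaf 0x0) (.leaf 0x0)) (.node 188 (.leaf 0x0) (.node 189 (.leaf 0x0) (.leaf 0x0))))) (.node 195 (.node 192 (.node 191 (.leaf 0x0) (.leaf 0x0)) (.node 193 (.leaf 0x0) (.node 194 (.leaf 0x0) (.leaf 0x0)))) (.node 197 (.node 196 (.leaf 0x0) (.leaf 0x0)) (.node 198 (.leaf 0x0) (.node 199 (.leaf 0x0) (.leaf 0x0)))))))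

def tupTB5 : Bst := (.node 220 (.node 210 (.node 205 (.node 202 (.node 201 (.leaf 0x0) (.leaf 0x0)) (.node 203 (.leaf 0x0) (.node 204 (.leaf 0x0) (.leaf 0x0)))) (.node 207 (.node 206 (.leaf 0x0) (.leaf 0x0)) (.node 208 (.leaf 0x0) (.node 209 (.leaf 0x0) (.leaf 0x0))))) (.node 215 (.node 212 (.node 211 (.leaf 0xe0000000000000000) (.leaf 0x0)) (.node 213 (.leaf 0x1d0f000000001d00000000000000000000000000000000000000) (.node 214 (.leaf 0x1d1e000000000000000000000000000000000000) (.leaf 0x1d2d00000000000000000000)))) (.node 217 (.node 216 (.leaf 0x0) (.leaf 0x0)) (.node 218 (.leaf 0x0) (.node 219 (.leaf 0x0) (.leaf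 0x0)))))) (.node 230 (.node 225 (.node 222 (.node 221 (.leaf 0x0) (.leaf 0x0)) (.node 223 (.leaf 0x0) (.node 224 (.leaf 0x0) (.leaf 0x0)))) (.node 227 (.node 226 (.leaf 0x0) (.leaf 0x0)) (.node 228 (.leaf 0x0) (.node 229 (.leaf 0x0) (.leaf 0x0))))) (.node 235 (.node 232 (.node 231 (.leaf 0x0) (.leaf 0x0)) (.node 233 (.leaf 0x0) (.node 234 (.leaf 0x0) (.leaf 0x0)))) (.node 237 (.node 236 (.leaf 0x0) (.leaf 0x0)) (.node 238 (.leaf 0x0) (.node 239 (.leaf 0x0) (.leaf 0x0)))))))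

def tupTB6 : Bst := (.node 260 (.node 250 (.node 245 (.node 242 (.node 241 (.leaf 0x0) (.leaf 0x0)) (.node 243 (.leaf 0x0) (.node 244 (.leaf 0x0) (.leaf 0x0)))) (.node 247 (.node 246 (.leaf 0x0) (.leaf 0x0)) (.node 248 (.leaf 0x0) (.node 249 (.leaf 0x0) (.leaf 0x0))))) (.node 255 (.node 252 (.node 251 (.leaf 0x0) (.leaf 0x0)) (.node 253 (.leaf 0x0) (.node 254 (.leaf 0x0) (.leaf 0x0)))) (.node 257 (.node 256 (.leaf 0x0) (.leaf 0x0)) (.node 258 (.leaf 0x0) (.node 259 (.leaf 0x0) (.leaf 0x0)))))) (.node 270 (.node 265 (.node 262 (.node 261 (.leaf 0x0) (.leaf 0x0)) (.node 263 (.leaf 0x0) (.node 264 (.leaf 0x0) (.leaf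 0x0)))) (.node 267 (.node 266 (.leaf 0x0) (.leaf 0x0)) (.node 268 (.leaf 0x0) (.node 269 (.leaf 0x0) (.leaf 0x0))))) (.node 275 (.node 272 (.node 271 (.leaf 0x0) (.leaf 0x0)) (.node 273 (.leaf 0x0) (.node 274 (.leaf 0x0) (.leaf 0x0)))) (.node 277 (.node 276 (.leaf 0x0) (.leaf 0x0)) (.node 278 (.leaf 0x0) (.node 279 (.leaf 0x0) (.leaf 0x0)))))))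

def tupTB7 : Bst := (.node 300 (.node 290 (.node 285 (.node 282 (.node 281 (.leaf 0x0) (.leaf 0x0)) (.node 283 (.leaf 0x0) (.node 284 (.leaf 0x0) (.leaf 0x0)))) (.node 287 (.node 286 (.leaf 0x0) (.leaf 0x0)) (.node 288 (.leaf 0x0) (.node 289 (.leaf 0x0) (.leaf 0x0))))) (.node 295 (.node 292 (.node 291 (.leaf 0x0) (.leaf 0x0)) (.node 293 (.leaf 0x0) (.node 294 (.leaf 0x0) (.leaf 0x0)))) (.node 297 (.node 296 (.leaf 0x0) (.leaf 0x0)) (.node 298 (.leaf 0x0) (.node 299 (.leaf 0x0) (.leaf 0x0)))))) (.node 310 (.node 305 (.node 302 (.node 301 (.leaf 0x0) (.leaf 0x0)) (.node 303 (.leaf 0x0) (.node 304 (.leaf 0x0) (.leaf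 0x0)))) (.node 307 (.node 306 (.leaf 0x0) (.leaf 0x0)) (.node 308 (.leaf 0x0) (.node 309 (.leaf 0x0) (.leaf 0x0))))) (.node 315 (.node 312 (.node 311 (.leaf 0x0) (.leaf 0x0)) (.node 313 (.leaf 0x0) (.node 314 (.leaf 0x0) (.leaf 0x0)))) (.node 317 (.node 316 (.leaf 0x0) (.leaf 0x0)) (.node 318 (.leaf 0x0) (.node 319 (.leaf 0x0) (.leaf 0x0)))))))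

def tupTB8 : Bst := (.node 340 (.node 330 (.node 325 (.node 322 (.node 321 (.leaf 0x0) (.leaf 0x0)) (.node 323 (.leaf 0x0) (.node 324 (.leaf 0x0) (.leaf 0x0)))) (.node 327 (.node 326 (.leaf 0x0) (.leaf 0x0)) (.node 328 (.leaf 0x0) (.node 329 (.leaf 0x0) (.leaf 0x0))))) (.node 335 (.node 332 (.node 331 (.leaf 0x0) (.leaf 0x0)) (.node 333 (.leaf 0x0) (.node 334 (.leaf 0x0) (.leaf 0x0)))) (.node 337 (.node 336 (.leaf 0x0) (.leaf 0x0)) (.node 338 (.leaf 0x0) (.node 339 (.leaf 0x1d4c1d3d0000) (.leaf 0x1d5b000000000000000000000000000000000000000000000000)))))) (.node 350 (.node 345 (.node 342 (.node 341 (.leaf 0x1d88000000001d791d6a)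 (.leaf 0x0)) (.node 343 (.leaf 0x1db500001da600001d970000000000000000000000000000) (.node 344 (.leaf 0x1de200001dd300000000000000000000000000001dc4000000000000) (.leaf 0x0)))) (.node 347 (.node 346 (.leaf 0x0) (.leaf 0x0)) (.node 348 (.leaf 0x0) (.node 349 (.leaf 0x0) (.leaf 0x0))))) (.node 355 (.node 352 (.node 351 (.leaf 0x0) (.leaf 0x0)) (.node 353 (.leaf 0x0) (.node 354 (.leaf 0x0) (.leaf 0x0)))) (.node 357 (.node 356 (.leaf 0x0) (.leaf 0x0)) (.node 358 (.leaf 0x0) (.node 359 (.leaf 0x0) (.leaf 0x0)))))))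

def tupTB9 : Bst := (.node 362 (.node 361 (.leaf 0x0) (.leaf 0x0)) (.node 363 (.leaf 0x0) (.leaf 0x0)))

/-- The table of edges. -/
def tupT : Tab := ⟨(.node 200 (.node 80 (.node 40 (tupTB0) (tupTB1)) (.node 120 (tupTB2) (.node 160 (tupTB3) (tupTB4)))) (.node 280 (.node 240 (tupTB5) (tupTB6)) (.node 320 (tupTB7) (.node 360 (tupTB8) (tupTB9))))), 16, 4⟩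

/-- The tuples. -/
def tupW : List (List (List ℕ)) := [[[0]], [[0], [0, 1]], [[0], [1, 4, 1, 0, 4, 1, 4, 1, 0, 4]], [[0], [0, 1], [3, 2, 3, 3, 1, 4, 2, 0, 3, 0, 4, 1, 4, 3, 0, 3, 2, 0, 4, 3, 1, 4, 0, 3, 0, 2, 4, 1, 3, 3, 2, 3]], [[0], [1, 4, 1, 0, 4, 1, 4, 1, 0, 4], [3, 2, 3, 4, 0, 2, 1, 3, 4, 2, 3, 1, 4, 2, 4, 2, 4, 2, 0, 4, 3, 0, 4, 2, 4, 3, 0, 4, 1, 0, 4, 2, 1, 4, 3, 0, 4, 3, 0, 4, 3, 4, 2, 4, 1, 3, 2, 4, 3, 1, 2, 0, 4, 3, 2, 3]], [[0], [0, 1], [3, 2, 3, 3, 1, 4, 2, 0, 3, 0, 4, 1, 4, 3, 0, 3, 2, 0, 4, 3, 1, 4, 0, 3, 0, 2, 4, 1, 3, 3, 2, 3], [3, 2, 3, 4, 0, 4, 3, 0, 2, 1, 2, 4, 1, 4, 1, 3, 4, 1, 0, 1, 4, 1, 4,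 2, 0, 4, 0, 2, 4, 2, 1, 0, 3, 4, 1, 3, 2, 0, 4, 1, 0, 4, 3, 0, 4, 3, 1, 0, 4, 0, 3, 2, 1, 4, 3, 0, 1, 2, 4, 2, 0, 4, 0, 2, 4, 1, 4, 1, 0, 1, 4, 3, 1, 4, 1, 4, 2, 1, 2, 0, 3, 4, 0, 4, 3, 2, 3]], [[0], [0, 1], [3, 2, 3, 3, 1, 4, 2, 0, 3, 0, 4, 1, 4, 3, 0, 3, 2, 0, 4, 3, 1, 4, 0, 3, 0, 2, 4, 1, 3, 3, 2, 3], [3, 1, 4, 3, 1, 4, 0, 4, 1, 2, 0, 2, 3, 0, 4, 0, 4, 1, 4, 2, 1, 0, 2, 4, 1, 4, 0, 3, 2, 0, 3, 4, 2, 1, 4, 0, 4, 1, 4, 2, 3, 0, 4, 1, 3, 0, 2, 3, 4, 0, 3, 0, 2, 4, 2, 0, 4, 0, 3, 0, 4, 3, 2, 1, 3, 4, 0, 2, 3, 0, 2, 4, 0, 4, 2, 1, 2, 3, 2, 1, 0, 3, 1, 3]], [[0], [0, 1], [3, 2, 3, 3, 1, 4, 2, 0, 3, 0, 4, 1, 4, 3, 0,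 3, 2, 0, 4, 3, 1, 4, 0, 3, 0, 2, 4, 1, 3, 3, 2, 3], [3, 2, 3, 4, 0, 4, 3, 0, 2, 1, 2, 4, 1, 4, 1, 3, 4, 1, 0, 1, 4, 1, 4, 2, 0, 4, 0, 2, 4, 2, 1, 0, 3, 4, 3, 1, 0, 3, 0, 3, 2, 4, 3, 0, 1, 2, 4, 2, 0, 4, 0, 2, 4, 1, 4, 1, 0, 1, 4, 3, 1, 4, 1, 4, 2, 1, 2, 0, 3, 4, 0, 4, 3, 2, 3]], [[0], [1, 4, 1, 0, 4, 1, 4, 1, 0, 4], [3, 2, 3, 4, 0, 2, 1, 3, 4, 2, 3, 1, 4, 2, 4, 2, 4, 2, 0, 4, 3, 0, 4, 2, 4, 3, 0, 4, 1, 0, 4, 2, 1, 4, 3, 0, 4, 3, 0, 4, 3, 4, 2, 4, 1, 3, 2, 4, 3, 1, 2, 0, 4, 3, 2, 3], [3, 2, 3, 4, 0, 2, 1, 3, 4, 2, 3, 1, 4, 2, 4, 3, 4, 0, 4, 3, 0, 3, 0, 4, 1, 2, 4, 1, 2, 4, 1, 4, 1, 4, 2, 4, 3, 1, 0, 4, 3, 0, 2, 4,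 0, 4, 2, 0, 4, 3, 1, 0, 4, 2, 4, 3, 1, 0, 4, 1, 4, 2, 1, 4, 2, 1, 4, 0, 3, 0, 3, 4, 0, 4, 3, 4, 2, 4, 1, 3, 2, 4, 3, 1, 2, 0, 4, 3, 2, 3]], [[0], [0, 1], [3, 2, 3, 3, 1, 4, 2, 0, 3, 0, 4, 1, 4, 3, 0, 3, 2, 0, 4, 3, 1, 4, 0, 3, 0, 2, 4, 1, 3, 3, 2, 3], [3, 2, 3, 4, 0, 4, 3, 0, 2, 1, 2, 4, 1, 4, 1, 3, 4, 1, 0, 1, 4, 1, 4, 2, 0, 4, 0, 2, 4, 2, 1, 0, 3, 4, 1, 3, 2, 0, 4, 1, 0, 4, 3, 0, 4, 3, 1, 0, 4, 0, 3, 2, 1, 4, 3, 0, 1, 2, 4, 2, 0, 4, 0, 2, 4, 1, 4, 1, 0, 1, 4, 3, 1, 4, 1, 4, 2, 1, 2, 0, 3, 4, 0, 4, 3, 2, 3], [4, 0, 4, 1, 4, 1, 0, 4, 0, 3, 4, 1, 0, 4, 2, 4, 1, 0, 1, 3, 4, 0, 2, 1, 4, 3, 1, 4, 1, 3, 0, 3, 4, 0, 3,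 1, 4, 0, 3, 2, 4, 0, 2, 0, 3, 0, 3, 1, 4, 1, 3, 0, 4, 0, 2, 0, 4, 1, 3, 0, 4, 1, 3, 0, 4, 0, 3, 1, 4, 1, 4, 3, 0, 3, 1, 2, 4, 0, 3, 1, 3, 4, 2, 3, 1]], [[0], [0, 1], [3, 2, 3, 3, 1, 4, 2, 0, 3, 0, 4, 1, 4, 3, 0, 3, 2, 0, 4, 3, 1, 4, 0, 3, 0, 2, 4, 1, 3, 3, 2, 3], [3, 2, 3, 4, 0, 4, 3, 0, 2, 1, 2, 4, 1, 4, 1, 3, 4, 1, 0, 1, 4, 1, 4, 2, 0, 4, 0, 2, 4, 2, 1, 0, 3, 4, 1, 3, 2, 0, 4, 1, 0, 4, 3, 0, 4, 3, 1, 0, 4, 0, 3, 2, 1, 4, 3, 0, 1, 2, 4, 2, 0, 4, 0, 2, 4, 1, 4, 1, 0, 1, 4, 3, 1, 4, 1, 4, 2, 1, 2, 0, 3, 4, 0, 4, 3, 2, 3], [3, 2, 3, 4, 0, 4, 3, 0, 2, 1, 2, 4, 1, 4, 1, 3, 4, 1, 0, 1, 4, 1, 4, 2, 0, 4, 0, 2, 4, 2, 1,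 0, 3, 4, 3, 1, 2, 3, 4, 2, 1, 2, 0, 3, 4, 3, 0, 1, 3, 4, 1, 4, 0, 4, 3, 1, 4, 3, 0, 1, 4, 2, 4, 1, 0, 4, 3, 1, 4, 3, 0, 4, 1, 4, 3, 1, 0, 3, 4, 3, 0, 2, 1, 2, 4, 3, 2, 1, 3, 4, 3, 0, 1, 2, 4, 2, 0, 4, 0, 2, 4, 1, 4, 1, 0, 1, 4, 3, 1, 4, 1, 4, 2, 1, 2, 0, 3, 4, 0, 4, 3, 2, 3]], [[0], [0, 1], [3, 2, 3, 3, 1, 4, 2, 0, 3, 0, 4, 1, 4, 3, 0, 3, 2, 0, 4, 3, 1, 4, 0, 3, 0, 2, 4, 1, 3, 3, 2, 3], [3, 1, 4, 3, 1, 4, 0, 4, 1, 2, 0, 2, 3, 0, 4, 0, 4, 1, 4, 2, 1, 0, 2, 4, 1, 4, 0, 3, 2, 0, 3, 4, 2, 1, 4, 0, 4, 1, 4, 2, 3, 0, 4, 1, 3, 0, 2, 3, 4, 0, 3, 0, 2, 4, 2, 0, 4, 0, 3, 0, 4, 3, 2, 1, 3, 4, 0, 2, 3, 0, 2, 4, 0, 4, 2, 1,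 2, 3, 2, 1, 0, 3, 1, 3], [3, 2, 3, 4, 0, 4, 3, 0, 2, 1, 2, 4, 1, 4, 1, 3, 4, 1, 0, 1, 4, 1, 4, 2, 0, 4, 0, 2, 4, 2, 1, 0, 3, 4, 4, 0, 2, 1, 2, 3, 1, 0, 4, 3, 0, 1, 3, 0, 4, 2, 4, 1, 4, 2, 4, 0, 3, 1, 4, 2, 4, 1, 3, 3, 1, 0, 3, 4, 0, 1, 3, 2, 1, 2, 0, 4, 4, 3, 0, 1, 2, 4, 2, 0, 4, 0, 2, 4, 1, 4, 1, 0, 1, 4, 3, 1, 4, 1, 4, 2, 1, 2, 0, 3, 4, 0, 4, 3, 2, 3]], [[0], [0, 1], [3, 2, 3, 3, 1, 4, 2, 0, 3, 0, 4, 1, 4, 3, 0, 3, 2, 0, 4, 3, 1, 4, 0, 3, 0, 2, 4, 1, 3, 3, 2, 3], [3, 1, 4, 3, 1, 4, 0, 4, 1, 2, 0, 2, 3, 0, 4, 0, 4, 1, 4, 2, 1, 0, 2, 4, 1, 4, 0, 3, 2, 0, 3, 4, 2, 1, 4, 0, 4, 1, 4, 2, 3, 0, 4, 1, 3, 0, 2, 3, 4, 0,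 3, 0, 2, 4, 2, 0, 4, 0, 3, 0, 4, 3, 2, 1, 3, 4, 0, 2, 3, 0, 2, 4, 0, 4, 2, 1, 2, 3, 2, 1, 0, 3, 1, 3], [3, 2, 3, 4, 0, 4, 3, 0, 2, 1, 2, 4, 1, 4, 1, 3, 4, 1, 0, 1, 4, 1, 4, 2, 0, 4, 0, 2, 4, 2, 1, 0, 3, 4, 4, 0, 2, 1, 2, 3, 1, 0, 4, 3, 0, 1, 3, 3, 0, 2, 4, 0, 3, 1, 4, 1, 0, 4, 0, 3, 0, 4, 2, 0, 3, 3, 1, 0, 3, 4, 0, 1, 3, 2, 1, 2, 0, 4, 4, 3, 0, 1, 2, 4, 2, 0, 4, 0, 2, 4, 1, 4, 1, 0, 1, 4, 3, 1, 4, 1, 4, 2, 1, 2, 0, 3, 4, 0, 4, 3, 2, 3]], [[0], [1, 4, 1, 0, 4, 1, 4, 1, 0, 4], [3, 2, 3, 4, 0, 2, 1, 3, 4, 2, 3, 1, 4, 2, 4, 2, 4, 2, 0, 4, 3, 0, 4, 2, 4, 3, 0, 4, 1, 0, 4, 2, 1, 4, 3, 0, 4, 3, 0, 4, 3, 4, 2, 4, 1, 3,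 2, 4, 3, 1, 2, 0, 4, 3, 2, 3], [3, 2, 3, 4, 0, 2, 1, 3, 4, 2, 3, 1, 4, 2, 4, 3, 4, 0, 4, 3, 0, 3, 0, 4, 1, 2, 4, 1, 2, 4, 1, 4, 1, 4, 2, 4, 3, 1, 0, 4, 3, 0, 2, 4, 0, 4, 2, 0, 4, 3, 1, 0, 4, 2, 4, 3, 1, 0, 4, 1, 4, 2, 1, 4, 2, 1, 4, 0, 3, 0, 3, 4, 0, 4, 3, 4, 2, 4, 1, 3, 2, 4, 3, 1, 2, 0, 4, 3, 2, 3], [3, 1, 2, 4, 0, 3, 4, 1, 2, 4, 1, 4, 0, 4, 1, 4, 0, 3, 4, 0, 3, 0, 3, 0, 2, 4, 1, 4, 3, 0, 4, 2, 3, 4, 0, 4, 1, 3, 0, 4, 0, 2, 3, 4, 2, 0, 4, 1, 3, 4, 1, 4, 2, 0, 3, 4, 0, 2, 4, 1, 0, 2, 4, 1, 4, 2, 1, 4, 2, 0, 2, 3, 0, 3, 1, 4, 1, 4, 2, 4, 2, 4, 0, 3, 0, 2, 4, 3, 0, 1, 4, 0, 4, 1, 4, 2, 0, 4, 0, 3, 0, 1, 4, 3, 2,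 0, 4, 1, 2]], [[0], [0, 1, 4, 1, 0, 4, 1, 4, 1, 0, 4], [0, 4, 2, 4, 0, 4, 3, 2, 0, 4, 0, 3, 1, 0, 2, 4, 3, 0, 4, 1, 2, 4, 2, 4, 2, 0, 3, 0, 4, 1, 4, 0, 3, 0, 4, 3, 0, 2, 4, 2, 1, 4, 3, 0, 3, 0, 4, 0, 2, 3, 4, 0, 3, 0, 2, 4, 2, 0, 4, 0, 3, 2, 4, 2, 4, 0, 3, 1, 4, 0, 2, 4, 0, 4, 0, 2, 1, 3, 2, 4, 0, 2, 3, 2, 1, 4, 1, 2, 0, 3, 4, 1, 2, 4, 0, 3, 1, 4, 1, 4, 1, 2, 4, 1, 4, 0, 4, 0, 2, 0, 4, 1, 4, 3, 2, 0, 3, 0, 1, 3, 4, 2, 0, 4, 0, 4, 1, 3, 0, 1, 4, 0, 4, 0, 1, 2, 1], [2, 3, 4, 2, 0, 4, 3, 1, 3, 0, 1, 3, 4, 0, 1, 4, 0, 3, 2, 0, 4, 0, 3, 0, 3, 2, 3, 4, 1, 4, 0, 4, 2, 3, 1, 4, 3, 1, 4, 3, 2, 4, 0, 4, 2, 4, 3, 2, 3, 1,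 0, 4, 1, 3, 0, 3, 1, 4, 0, 2, 1, 4, 1, 4, 2, 4, 1, 3, 0, 4, 3, 0, 2, 3, 0, 3, 1, 2, 3, 0, 3, 2, 1, 4, 0, 2, 3, 0, 2, 4, 2, 4, 1, 3, 1, 0, 3, 0, 4, 0, 4, 0, 2, 4, 1, 0, 4, 1, 2, 4, 0, 3, 1, 4, 1, 4, 1, 2, 4, 1, 4, 0, 4, 0, 2, 0, 4, 1, 4, 3, 2, 0, 3, 0, 1, 3, 4, 2, 0, 4, 0, 4, 1, 3, 0, 1, 4, 0, 4, 0, 1, 2, 1], [0, 2, 4, 0, 4, 2, 0, 4, 2, 0, 3, 4, 0, 4, 0, 3, 2, 4, 1, 4, 2, 0, 3, 4, 0, 2, 4, 1, 4, 2, 4, 1, 4, 0, 3, 4, 0, 1, 4, 0, 4, 0, 4, 0, 3, 0, 4, 1, 4, 2, 1, 0, 3, 4, 1, 3, 0, 4, 0, 4, 2, 3, 4, 0, 3, 1, 3, 4, 2, 3, 2, 1, 3, 0, 3, 0, 3, 1, 3, 1, 2, 4, 1, 0, 4, 2, 4, 1, 4, 3, 1], [2, 4, 2, 4, 0, 2, 3, 2, 4, 3, 0,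 1, 4, 2, 0, 1, 4, 2, 4]]]

/-- Conjugators to the last entries. -/
def tupD : List (List ℕ) := [[], [2], [3, 2, 3, 4, 0, 2, 1, 3, 4, 2, 3, 1, 4, 2, 4], [3, 2, 3, 4, 0, 4, 3, 0, 2, 1, 2, 4, 1, 4, 1, 3, 4, 1, 0, 1, 4, 1, 4, 2, 0, 4, 0, 2, 4, 2, 1, 0, 3, 4], [3, 2, 3, 4, 0, 2, 1, 3, 4, 2, 3, 1, 4, 2, 4, 3, 4, 0, 4, 3, 0, 3, 0, 4, 1, 2, 4, 1, 2, 4, 1, 4], [3, 2, 3, 4, 0, 4, 3, 0, 2, 1, 2, 4, 1, 4, 1, 3, 4, 1, 0, 1, 4, 1, 4, 2, 0, 4, 0, 2, 4, 2, 1, 0, 3, 4, 3, 1, 2, 3, 4, 2, 1, 2, 0, 3, 4, 3, 0, 1, 3], [3, 2, 3, 4, 0, 4, 3, 0, 2, 1, 2, 4, 1, 4, 1, 3, 4, 1, 0, 1, 4, 1, 4, 2, 0, 4, 0, 2, 4, 2, 1, 0, 3, 4, 4, 0, 2, 1, 2,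 3, 1, 0, 4, 3, 0, 1, 3], [3, 2, 3, 4, 0, 4, 3, 0, 2, 1, 2, 4, 1, 4, 1, 3, 4, 1, 0, 1, 4, 1, 4, 2, 0, 4, 0, 2, 4, 2, 1, 0, 3, 4, 3, 2, 0, 1, 4, 2, 3, 1, 2, 0, 1, 4, 1, 2, 4], [3, 2, 3, 4, 0, 2, 1, 3, 4, 2, 3, 1, 4, 2, 4, 3, 4, 0, 4, 3, 0, 3, 0, 4, 1, 2, 4, 1, 2, 4, 1, 4, 4, 1, 3, 1, 0, 1, 4, 2, 0, 3, 1, 2, 3, 0, 2, 1, 4, 0, 4, 3, 0, 1, 3], [3, 2, 3, 4, 0, 4, 3, 0, 2, 1, 2, 4, 1, 4, 1, 3, 4, 1, 0, 1, 4, 1, 4, 2, 0, 4, 0, 2, 4, 2, 1, 0, 3, 4, 3, 1, 2, 3, 4, 2, 1, 2, 0, 3, 4, 3, 0, 1, 3, 3, 4, 3, 0, 2, 1, 4, 2, 1, 4, 1, 2, 0, 4, 2], [3, 2, 3, 4, 0, 4, 3, 0, 2, 1, 2, 4, 1, 4, 1, 3, 4, 1, 0, 1, 4, 1, 4, 2, 0, 4, 0, 2,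 4, 2, 1, 0, 3, 4, 3, 1, 2, 3, 4, 2, 1, 2, 0, 3, 4, 3, 0, 1, 3, 4, 0, 2, 1, 4, 3, 2, 0, 4, 0, 3, 0, 4, 2, 0, 4], [3, 2, 3, 4, 0, 4, 3, 0, 2, 1, 2, 4, 1, 4, 1, 3, 4, 1, 0, 1, 4, 1, 4, 2, 0, 4, 0, 2, 4, 2, 1, 0, 3, 4, 4, 0, 2, 1, 2, 3, 1, 0, 4, 3, 0, 1, 3, 3, 4, 3, 0, 2, 1, 4, 2, 1, 4, 1, 2, 0, 4, 2], [3, 2, 3, 4, 0, 4, 3, 0, 2, 1, 2, 4, 1, 4, 1, 3, 4, 1, 0, 1, 4, 1, 4, 2, 0, 4, 0, 2, 4, 2, 1, 0, 3, 4, 4, 0, 2, 1, 2, 3, 1, 0, 4, 3, 0, 1, 3, 3, 1, 2, 3, 4, 3, 1, 3, 0, 3, 4, 1, 4], [3, 2, 3, 4, 0, 2, 1, 3, 4, 2, 3, 1, 4, 2, 4, 3, 4, 0, 4, 3, 0, 3, 0, 4, 1, 2, 4, 1, 2, 4, 1, 4, 4, 1, 3, 1, 0, 1, 4, 2, 0, 3, 1, 2, 3, 0,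 2, 1, 4, 0, 4, 3, 0, 1, 3, 3, 1, 2, 3, 0, 4, 0, 2, 1, 4, 2, 4, 0, 4, 1, 3, 0, 4], [1, 3, 0, 3, 0, 3, 0, 2, 4, 1, 0, 3, 0, 4, 1, 0, 4, 2, 4, 3, 0, 2, 4, 0, 4, 0, 2, 4, 0, 4, 0, 1, 4, 0, 3, 0, 2, 3, 4, 1, 3, 2, 3, 0, 1, 3, 1, 0, 3, 1, 4, 0, 4, 2, 3, 1, 4, 2, 0, 4, 0, 3, 1, 4, 3, 0, 3, 4, 0, 4, 0, 1, 4, 2, 4, 1, 4, 2, 0, 3, 0, 1, 4, 0, 2, 0, 4, 3, 0, 1, 4, 2, 3, 0, 3, 0, 3, 4, 3, 1, 2, 4, 1, 4, 1, 2, 0, 3, 0, 3, 2, 0, 4, 0, 2, 4, 1, 3, 0, 3, 2, 4, 2, 4, 1, 3, 0, 4, 0, 3, 4, 0, 3, 1, 0, 3, 1, 4, 0, 1, 3, 2, 4, 0, 4, 2, 1, 3, 4, 0, 3]]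

def tupC0 : List (List ℕ) := [[], [4, 0, 3, 0, 3, 4, 0, 3, 1, 4, 0, 3, 1, 3, 4, 0, 4, 3, 0, 4, 0, 2, 4, 0, 3, 4, 1, 4, 2, 4, 1, 3, 4, 1, 3, 0, 4, 1, 4, 0, 2, 1, 3, 0, 4, 1, 3, 1, 0, 4, 3, 0, 1, 4, 0, 2, 4, 0, 4, 0, 2, 0, 3, 4, 0, 2, 0, 4, 0, 4, 3, 0, 3, 0, 2, 0, 1, 4, 1, 2, 0, 3, 0, 3, 2, 0, 4, 0, 2, 4, 1, 3, 0, 3, 2, 4, 2, 4, 1, 3, 0, 4, 0, 3, 4, 0, 3, 1, 0, 3, 1, 4, 0, 1, 3, 2, 4, 0, 4, 2, 1, 3, 4, 0, 3], [0, 3, 0, 3, 4, 1, 4, 1, 4, 3, 0, 4, 0, 3, 4, 0, 3, 2, 3, 4, 2, 3, 0, 3, 2, 4, 3, 0, 4, 2, 3, 0, 1, 3, 0, 4, 3, 2, 0, 4, 3, 1, 4, 0, 3, 1, 3, 2, 0, 4, 3, 4, 0, 4, 0, 3, 2, 4, 1, 4, 0, 2, 0, 4, 0, 3, 0, 2, 3,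 4, 1, 0, 3, 0, 3, 0, 2, 1, 4, 0, 2, 0, 4, 1, 3, 0, 3, 2, 0, 4, 1, 2, 3, 4, 1, 4, 0, 4, 2, 4, 3], [4, 3, 0, 4, 0, 4, 1, 3, 1, 4, 3, 0, 4, 3, 1, 0, 2, 4, 3, 0, 4, 0, 4, 3, 1, 4, 3, 2, 0, 4, 2, 4, 0, 1, 3, 0, 3, 1, 4, 2, 0, 1, 4, 0, 3, 1, 4, 3, 2, 3, 1, 2, 0, 2, 4, 2, 0, 2, 3, 2, 1, 4, 1, 4, 2, 4, 1, 3, 0, 4, 3, 0, 2, 3, 0, 3, 1, 2, 3, 4, 3, 1, 0, 4, 0, 4, 1, 0, 2, 3, 0, 4, 2, 0, 3, 0, 4, 1, 2, 3, 0, 4, 1, 4, 0, 1, 2, 4, 3, 4, 1, 2, 4, 0, 3, 1, 4, 1, 4, 1, 2, 4, 1, 4, 0, 4, 0, 2, 0, 4, 1, 4, 3, 2, 0, 3, 0, 1, 3, 4, 2, 0, 4, 0, 4, 1, 3, 0, 1, 4, 0, 4, 0, 1, 2, 1], [1, 2, 4, 1, 3, 0, 1, 4, 1, 3, 1, 0, 4, 1, 2, 3, 0,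 3, 4, 1, 4, 1, 2, 4, 0, 3, 4, 1, 3, 1, 0, 4, 0, 4, 2, 4, 2, 0, 3, 1, 0, 3, 4, 3, 0, 2, 3, 0, 3, 4, 0, 4, 0, 1, 3, 0, 4, 3, 1, 3, 4, 1, 3, 0, 4, 0, 4, 2, 0, 4, 3, 2, 4, 0, 3, 1, 3, 1, 0, 4, 3, 0, 1, 3, 1, 0, 4, 0, 1, 3, 0, 4, 2, 1, 3, 4, 0, 1, 4, 3, 1, 3, 0, 4, 1, 2, 4, 0, 3, 1, 4, 1, 4, 1, 2, 4, 1, 4, 0, 4, 0, 2, 0, 4, 1, 4, 3, 2, 0, 3, 0, 1, 3, 4, 2, 0, 4, 0, 4, 1, 3, 0, 1, 4, 0, 4, 0, 1, 2, 1], [2, 3, 4, 1, 4, 0, 4, 1, 0, 4, 0, 2, 4, 3, 1, 0, 3, 4, 0, 4, 3, 1, 4, 3, 1, 4, 2, 1, 4, 1, 0, 4, 1, 3, 0, 1, 3, 4, 2, 0, 4, 0, 3, 2, 0, 2, 4, 3, 0, 3, 0, 4, 3, 2, 4, 2, 3, 0, 4, 1, 3, 1, 0, 3, 0, 1, 4, 3, 0, 2, 3, 1, 0,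 3, 0, 4, 3, 2, 0, 4, 3, 2, 1, 4, 1, 2, 3, 4, 1, 2, 4, 0, 3, 1, 4, 1, 4, 1, 2, 4, 1, 4, 0, 4, 0, 2, 0, 4, 1, 4, 3, 2, 0, 3, 0, 1, 3, 4, 2, 0, 4, 0, 4, 1, 3, 0, 1, 4, 0, 4, 0, 1, 2, 1], [2, 0, 3, 1, 4, 0, 4, 1, 4, 2, 4, 3, 0, 4, 3, 4, 1, 0, 2, 3, 4, 2, 1, 4, 0, 1, 3, 2, 0, 3, 1, 0, 4, 1, 4, 0, 3, 4, 3, 1, 0, 4, 2, 3, 0, 4, 0, 3, 1, 0, 2, 4, 2, 1, 0, 1, 3, 1, 3, 1, 0, 4, 1, 0, 3, 0, 3, 4, 1, 4, 1, 4, 0, 4, 0, 4, 0, 3, 0, 4, 3, 1, 2, 4, 1, 2, 4, 3, 0, 4, 3, 0, 3, 0, 1, 2, 0, 4, 0, 4, 1, 4, 0, 3, 1, 4, 2, 0, 4, 1, 4, 1, 2, 0, 3, 0, 3, 2, 0, 4, 0, 2, 4, 1, 3, 0, 3, 2, 4, 2, 4, 1, 3, 0, 4, 0, 3, 4, 0, 3, 1, 0, 3, 1, 4,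 0, 1, 3, 2, 4, 0, 4, 2, 1, 3, 4, 0, 3], [0, 3, 4, 2, 1, 3, 0, 1, 3, 1, 2, 4, 0, 2, 3, 0, 4, 1, 3, 0, 3, 0, 4, 2, 4, 1, 2, 4, 0, 2, 4, 2, 4, 1, 4, 3, 1, 4, 0, 4, 0, 2, 0, 1, 4, 1, 2, 4, 0, 4, 3, 2, 4, 0, 2, 3, 2, 0, 3, 4, 3, 4, 2, 0, 3, 4, 0, 1, 4, 3, 0, 4, 0, 2, 3, 0, 3, 1, 4, 3, 1, 4, 0, 3, 1, 0, 1, 4, 0, 3, 0, 1, 4, 1, 0, 3, 2, 0, 1, 0, 4, 2, 3, 0, 4, 2, 3, 4, 3, 4, 1, 2, 4, 0, 3, 1, 4, 1, 4, 1, 2, 4, 1, 4, 0, 4, 0, 2, 0, 4, 1, 4, 3, 2, 0, 3, 0, 1, 3, 4, 2, 0, 4, 0, 4, 1, 3, 0, 1, 4, 0, 4, 0, 1, 2, 1], [1, 4, 1, 4, 0, 4, 1, 3, 0, 2, 4, 1, 0, 4, 0, 1, 3, 0, 4, 0, 3, 0, 3, 2, 1, 2, 3, 0, 4, 2, 3, 4, 0, 4, 1, 3,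 0, 4, 0, 2, 3, 4, 2, 0, 3, 1, 4, 1, 3, 0, 1, 4, 1, 4, 3, 1, 0, 4, 3, 0, 4, 0, 3, 2, 4, 1, 4, 1, 3, 0, 4, 2, 1, 0, 4, 0, 4, 0, 4, 1, 4, 0, 3, 0, 3, 0, 2, 4, 0, 4, 0, 1, 3, 0, 2, 4, 2, 1, 3, 4, 1, 4, 0, 3, 4, 0, 2, 4, 2, 1, 4, 1, 2, 0, 3, 0, 3, 2, 0, 4, 0, 2, 4, 1, 3, 0, 3, 2, 4, 2, 4, 1, 3, 0, 4, 0, 3, 4, 0, 3, 1, 0, 3, 1, 4, 0, 1, 3, 2, 4, 0, 4, 2, 1, 3, 4, 0, 3], [4, 2, 0, 3, 0, 3, 1, 4, 0, 4, 2, 0, 4, 2, 0, 4, 1, 4, 2, 1, 3, 0, 4, 1, 3, 4, 1, 0, 2, 3, 4, 1, 3, 1, 0, 4, 0, 1, 3, 0, 1, 4, 3, 2, 0, 4, 0, 3, 4, 0, 3, 2, 3, 0, 4, 1, 4, 1, 4, 0, 4, 0, 3, 0, 1, 3, 2, 4, 1, 3, 0, 4, 3, 0, 1, 0, 4, 0, 3, 0, 2, 4, 1, 2,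 4, 1, 3, 0, 3, 0, 2, 1, 2, 4, 1, 2, 4, 1, 4, 2, 0], [1, 2, 4, 2, 1, 4, 3, 1, 4, 2, 0, 4, 0, 4, 2, 4, 1, 0, 4, 2, 4, 2, 4, 3, 1, 2, 0, 3, 0, 4, 1, 2, 3, 0, 3, 0, 2, 3, 4, 1, 4, 2, 4, 1, 4, 1, 2, 3, 0, 3, 0, 3, 0, 2, 4, 0, 4, 1, 4, 3, 1, 0, 3, 4, 0, 2, 3, 1, 0, 4, 1, 3, 2, 0, 4, 0, 4, 1, 4, 3, 0, 4, 3, 0, 4, 1, 0, 4, 1, 3, 0, 2, 1, 2, 0, 3, 0, 3, 2, 0, 4, 0, 2, 4, 1, 3, 0, 3, 2, 4, 2, 4, 1, 3, 0, 4, 0, 3, 4, 0, 3, 1, 0, 3, 1, 4, 0, 1, 3, 2, 4, 0, 4, 2, 1, 3, 4, 0, 3], [2, 1, 4, 1, 4, 0, 4, 1, 0, 4, 0, 1, 3, 1, 4, 0, 3, 4, 0, 3, 2, 1, 4, 1, 2, 1, 3, 0, 4, 0, 3, 1, 3, 4, 2, 3, 0, 2, 4, 2, 0, 3, 0, 4, 0, 3, 1, 3, 0,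 4, 0, 3, 0, 4, 2, 1, 4, 2, 0, 2, 3, 0, 3, 1, 4, 1, 4, 2, 4, 2, 4, 0, 3, 0, 2, 4, 3, 0, 1, 4, 0, 4, 1, 4, 2, 0, 4, 0, 3, 0, 1, 4, 3, 2, 0, 4, 1, 2, 1, 4, 1, 2, 0, 3, 0, 3, 2, 0, 4, 0, 2, 4, 1, 3, 0, 3, 2, 4, 2, 4, 1, 3, 0, 4, 0, 3, 4, 0, 3, 1, 0, 3, 1, 4, 0, 1, 3, 2, 4, 0, 4, 2, 1, 3, 4, 0, 3], [4, 0, 3, 4, 0, 2, 4, 1, 4, 0, 4, 0, 3, 0, 4, 2, 1, 4, 3, 1, 3, 0, 3, 4, 0, 1, 4, 3, 0, 1, 4, 2, 0, 3, 4, 0, 4, 0, 4, 3, 0, 3, 1, 0, 4, 2, 4, 1, 3, 4, 0, 4, 0, 3, 2, 4, 1, 4, 0, 2, 0, 4, 0, 3, 0, 2, 3, 4, 1, 0, 3, 0, 3, 0, 2, 1, 4, 0, 2, 0, 4, 1, 3, 0, 3, 2, 0, 4, 1, 2, 3, 4, 1, 4, 0, 4, 2, 1, 2, 4, 0, 3, 1, 4, 1, 4, 1, 2,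 4, 1, 4, 0, 4, 0, 2, 0, 4, 1, 4, 3, 2, 0, 3, 0, 1, 3, 4, 2, 0, 4, 0, 4, 1, 3, 0, 1, 4, 0, 4, 0, 1, 2, 1], [0, 1, 4, 1, 3, 0, 4, 0, 4, 1, 3, 0, 4, 1, 0, 2, 4, 0, 3, 1, 3, 0, 4, 1, 0, 3, 4, 2, 4, 0, 4, 3, 0, 4, 2, 4, 0, 1, 4, 2, 0, 4, 0, 3, 1, 2, 3, 0, 3, 4, 0, 3, 2, 1, 3, 4, 2, 0, 3, 4, 0, 3, 4, 0, 4, 0, 2, 3, 0, 4, 1, 4, 3, 1, 2, 0, 2, 4, 3, 0, 2, 3, 0, 4, 2, 0, 2, 3, 2, 0], [2, 4, 0, 3, 0, 4, 3, 1, 0, 3, 0, 4, 1, 4, 1, 2, 4, 0, 1, 3, 1, 4, 2, 0, 2, 3, 4, 2, 4, 1, 0, 2, 4, 2, 4, 0, 1, 4, 3, 0, 2, 0, 3, 0, 4, 0, 3, 4, 0, 3, 2, 1, 3, 0, 4, 0, 4, 2, 3, 4, 0, 2, 3, 4, 1, 2, 3, 1, 0, 3, 0, 3, 4, 0, 4, 0, 4, 2, 0, 4,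 1, 2, 3, 0, 3, 1, 0, 3, 1, 2, 0, 4, 0, 4, 1, 3, 0, 4], [0, 3, 0, 1, 3, 1, 0, 4, 0, 3, 0, 4, 0, 2, 4, 1, 4, 0, 2, 1, 4, 1, 3, 4, 1, 0, 4, 0, 4, 1, 3, 0, 2, 4, 0, 4, 1, 0, 3, 0, 4, 0, 3, 1, 4, 1, 0, 4, 0, 4, 2, 3, 4, 0, 2, 3, 4, 1, 2, 3, 1, 0, 3, 0, 3, 4, 0, 4, 0, 4, 2, 0, 4, 1, 2, 3, 0, 3, 1, 0, 3, 1, 2, 0, 4, 0, 4, 1, 3, 0, 4], [1, 4, 1, 0, 4, 0, 3, 1, 0, 3, 4, 2, 1, 4, 2, 1, 4, 1, 0, 3, 0, 3, 1, 4, 1, 4, 2, 4, 0, 4, 2, 4, 1, 4, 1, 3, 1, 4], [1, 0, 2, 3, 1, 4, 0, 2, 3, 0, 4, 0, 2, 1, 3, 4, 0, 4, 0, 1, 3, 1, 0, 3, 0, 1, 3, 4, 0, 2, 1, 4, 3, 1, 4, 1, 3, 0, 3, 4, 0, 3, 1, 4, 0, 3, 2, 4, 0, 3, 0, 4, 1, 3, 0, 4, 0, 4,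 0, 3, 1, 4, 0, 1, 0, 3, 4, 3, 0, 4, 3, 0, 4, 1, 2, 0, 2, 4, 2, 0, 3, 1, 4, 0, 4, 2, 1, 3, 4], [1, 3, 4, 0, 1, 4, 1, 2, 0, 2, 4, 2, 0, 3, 1, 4, 2, 4, 3, 1, 0, 4, 0, 2, 3, 1, 3, 4, 3, 1, 4, 3, 1, 4, 1, 0, 3, 2, 0, 4, 0, 1, 4, 1, 0, 4, 3, 1, 4, 0, 2, 4, 1, 3, 0, 3, 1, 2, 3, 0, 3, 4, 0, 3, 2, 1, 2, 0, 4, 0, 1, 3, 1, 4, 2, 0, 3, 4, 0, 4, 3, 0, 4, 0, 2, 0, 3, 0, 2, 3, 2, 0, 1, 4, 1, 2, 4, 2, 0, 2, 4, 3], [0, 3, 4, 1, 4, 0, 1, 4, 2, 0, 4, 0, 4, 2, 4, 0, 4, 0, 3, 1, 4, 0, 4, 3, 0, 4, 3, 0, 1, 3, 4, 3, 0, 2, 4, 0, 4, 2, 4, 1, 3, 0, 1, 4, 1, 4, 2, 4, 1, 4, 0, 2, 4, 1, 2, 3, 4, 2, 4, 2, 0, 3, 0, 4, 1, 4, 0, 4, 1, 4, 3, 1,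 4, 2, 0, 4, 2, 1, 2, 4, 2, 1, 4, 1, 4, 1, 2, 0, 3, 0, 3, 2, 0, 4, 0, 2, 4, 1, 3, 0, 3, 2, 4, 2, 4, 1, 3, 0, 4, 0, 3, 4, 0, 3, 1, 0, 3, 1, 4, 0, 1, 3, 2, 4, 0, 4, 2, 1, 3, 4, 0, 3], [0, 4, 1, 4, 1, 3, 0, 3, 0, 3, 1, 4, 3, 1, 4, 0, 3, 1, 0, 3, 0, 4, 0, 3, 2, 4, 1, 4, 0, 4, 1, 0, 4, 0, 2, 4, 0, 3, 1, 2, 4, 3, 1, 0, 4, 1, 3, 4, 1, 0, 4, 3, 2, 4, 0, 2, 0, 4, 1, 3, 0, 4, 3, 0, 1, 4, 0, 4, 1, 4, 3, 0, 3, 0, 1, 4, 0, 4, 2, 0, 2, 4, 0, 3, 0, 4, 2, 0, 4, 3, 0, 3, 1, 3, 4, 3, 0, 3, 4, 0, 4, 1, 4, 1, 2, 3, 4, 1, 2, 4, 0, 3, 1, 4, 1, 4, 1, 2, 4, 1, 4, 0, 4, 0, 2, 0, 4, 1, 4, 3, 2, 0, 3, 0, 1, 3, 4, 2, 0, 4, 0, 4, 1, 3, 0, 1,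 4, 0, 4, 0, 1, 2, 1], [1, 0, 2, 3, 0, 3, 0, 2, 4, 0, 4, 2, 1, 4, 0, 2, 4, 3, 0, 2, 1, 3, 2, 1, 4, 1, 2, 4, 0, 3, 2, 0, 4, 3, 0, 1, 3, 0, 3, 1, 4, 0, 2, 1, 4, 1, 4, 0, 3, 1, 0, 4, 0, 4, 1, 4, 0, 4, 1, 3, 0, 1, 4, 3, 2, 1, 3, 0, 4, 3, 0, 4, 1, 0, 4, 2, 1, 4, 1, 3, 0, 2, 3, 0, 4, 3, 2, 1, 4, 2, 0, 4, 0, 4, 0, 3, 0, 4, 0, 1, 4, 1, 2, 0, 3, 0, 3, 2, 0, 4, 0, 2, 4, 1, 3, 0, 3, 2, 4, 2, 4, 1, 3, 0, 4, 0, 3, 4, 0, 3, 1, 0, 3, 1, 4, 0, 1, 3, 2, 4, 0, 4, 2, 1, 3, 4, 0, 3], [4, 2, 0, 4, 0, 1, 4, 1, 4, 0, 2, 3, 4, 0, 3, 1, 4, 0, 2, 4, 0, 2, 4, 3, 4, 2, 1, 4, 1, 0, 4, 0, 2, 3, 4, 1, 4, 0, 2, 4, 1, 3, 0, 4, 2, 4, 1, 2, 4, 3,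 2, 4, 3, 0, 2, 1, 3, 2, 0, 4, 1, 0, 3, 0, 3, 4, 1, 4, 1, 0, 3, 0, 3, 4, 0, 4, 1, 2, 4, 1, 0, 3, 0, 3, 1, 4, 1, 4, 0, 1, 4, 2, 1, 4, 3, 0, 2, 3, 4, 3, 0, 4, 0, 2, 4, 1, 3, 1, 3, 4, 3, 4, 1, 2, 4, 0, 3, 1, 4, 1, 4, 1, 2, 4, 1, 4, 0, 4, 0, 2, 0, 4, 1, 4, 3, 2, 0, 3, 0, 1, 3, 4, 2, 0, 4, 0, 4, 1, 3, 0, 1, 4, 0, 4, 0, 1, 2, 1], [2, 3, 0, 4, 1, 3, 1, 4, 0, 4, 1, 3, 0, 4, 3, 0, 4, 2, 3, 0, 4, 1, 4, 2, 4, 0, 3, 4, 2, 0, 3, 1, 0, 3, 0, 1, 4, 0, 3, 4, 1, 2, 0, 1, 4, 1, 4, 0, 4, 0, 3, 0, 1, 3, 2, 4, 1, 3, 0, 4, 3, 0, 1, 0, 4, 0, 3, 0, 2, 4, 1, 2, 4, 1, 3, 0, 3, 0, 2, 1, 2, 4, 1, 2, 4, 1, 4, 2, 0, 3, 4, 1, 2, 4, 0, 3, 1, 4,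 1, 4, 1, 2, 4, 1, 4, 0, 4, 0, 2, 0, 4, 1, 4, 3, 2, 0, 3, 0, 1, 3, 4, 2, 0, 4, 0, 4, 1, 3, 0, 1, 4, 0, 4, 0, 1, 2, 1], [0, 4, 0, 3, 1, 4, 0, 2, 0, 4, 3, 2, 1, 4, 0, 1, 4, 1, 4, 0, 3, 0, 2, 4, 0, 4, 2, 1, 4, 1, 0, 4, 0, 2, 3, 4, 1, 4, 0, 2, 4, 1, 3, 0, 4, 2, 4, 1, 2, 4, 3, 2, 4, 3, 0, 2, 1, 3, 1, 2, 4, 0, 3, 2, 1, 4, 0, 1, 3, 1, 4, 1, 0, 4, 0, 4, 2, 1, 4, 2, 3, 1, 4, 2, 3, 2, 0, 3, 2, 4, 0, 2, 4], [0, 1, 4, 0, 1, 4, 0, 4, 0, 2, 4, 3, 0, 3, 0, 4, 0, 1, 3, 0, 3, 0, 1, 3, 4, 0, 2, 1, 4, 3, 1, 4, 1, 3, 0, 3, 4, 0, 3, 1, 4, 0, 3, 2, 4, 0, 4, 1, 2, 4, 0, 3, 1, 4, 1, 4, 1, 2, 4, 1, 4, 0, 3, 2, 4, 2, 0, 4, 2, 4, 1, 4, 0,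 4, 1, 0, 3, 1, 4, 2, 0, 4, 3, 2, 0, 3, 4, 0, 4, 1, 4, 1, 0], [3, 0, 1, 4, 2, 4, 0, 4, 3, 4, 1, 4, 2, 1, 2, 3, 0, 4, 2, 1, 4, 2, 1, 4, 2, 4, 3, 0, 2, 3, 0, 3, 4, 0, 1, 4, 1, 4, 0, 1, 4, 1, 2, 3, 0, 1, 3, 4, 0, 3, 2, 4, 2, 4, 3, 0, 4, 1, 4, 1, 4, 0, 4, 0, 3, 0, 1, 3, 2, 4, 1, 3, 0, 4, 3, 0, 1, 0, 4, 0, 3, 0, 2, 4, 1, 2, 4, 1, 3, 0, 3, 0, 2, 1, 2, 4, 1, 2, 4, 1, 4, 2, 0, 1, 4, 1, 2, 0, 3, 0, 3, 2, 0, 4, 0, 2, 4, 1, 3, 0, 3, 2, 4, 2, 4, 1, 3, 0, 4, 0, 3, 4, 0, 3, 1, 0, 3, 1, 4, 0, 1, 3, 2, 4, 0, 4, 2, 1, 3, 4, 0, 3], [4, 1, 2, 3, 0, 4, 3, 2, 1, 4, 1, 0, 3, 0, 4, 2, 0, 1, 2, 3, 4, 1, 0, 2, 3, 1, 0, 1, 0, 4, 0, 4, 1,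 2, 4, 0, 1, 3, 1, 4, 1, 2, 4, 0, 3, 4, 0, 4, 1, 4, 1, 0, 4, 1, 3, 0, 4, 0, 3, 0, 2, 4, 0, 4, 1, 4, 3, 1, 0, 3, 4, 0, 2, 4, 0, 4, 0, 2, 4, 1, 4, 2, 4, 1, 2, 3, 2, 0, 4, 1, 3, 0, 3, 0, 4, 3, 1, 0, 4, 0, 4, 0, 3, 1, 0], [0, 1, 3, 0, 3, 0, 4, 0, 4, 1, 4, 0, 3, 0, 2, 1, 3, 0, 4, 3, 0, 1, 4, 3, 0, 3, 4, 0, 3, 0, 3, 0, 2, 4, 1, 2, 4, 1, 3, 0, 1, 4, 2, 4, 1, 3, 0, 4, 3, 0, 1, 2, 0, 1, 4, 1, 3, 1, 0, 1, 4, 0, 2, 4, 1, 0, 4, 1, 3, 4, 0, 2, 3, 2, 0, 2, 4, 1, 4, 1, 2, 0, 3, 0, 3, 2, 0, 4, 0, 2, 4, 1, 3, 0, 3, 2, 4, 2, 4, 1, 3, 0, 4, 0, 3, 4, 0, 3, 1, 0, 3, 1, 4, 0, 1, 3, 2, 4, 0, 4, 2, 1, 3, 4, 0, 3], [4, 3, 0, 4, 0, 2, 4,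 1, 4, 3, 1, 2, 4, 3, 0, 4, 1, 4, 0, 4, 1, 4, 3, 0, 2, 4, 1, 3, 0, 4, 1, 3, 4, 0, 3, 4, 3, 2, 1, 4, 0, 3, 2, 0, 4, 2, 4, 3, 0, 3, 4, 0, 1, 2, 4, 3, 1, 4, 1, 4, 2, 4, 1, 4, 0, 2, 4, 1, 2, 3, 4, 2, 4, 2, 0, 3, 0, 4, 1, 4, 0, 4, 1, 4, 3, 1, 4, 2, 0, 4, 2, 1, 2, 4, 2, 1, 4], [4, 2, 1, 4, 3, 1, 3, 2, 4, 0, 2, 3, 2, 0, 4, 1, 3, 2, 4, 0, 1, 3, 0, 3, 4, 3, 1, 0, 4, 3, 0, 2, 4, 0, 3, 1, 4, 2, 1, 4, 3, 0, 4, 2, 3, 4, 1, 4, 3, 0, 3, 0, 4, 2, 1, 4, 0, 3, 0, 4, 0, 4, 2, 3, 4, 0, 2, 3, 4, 1, 2, 3, 4, 2, 0, 3, 2, 0, 3, 4, 2, 0, 3, 4, 1, 3, 4, 1, 4, 3, 1, 0, 4, 2, 3, 0, 4, 3, 0, 2, 3, 0, 4, 0, 3, 1, 4, 1, 2, 0, 3, 0, 3, 2, 0, 4,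 0, 2, 4, 1, 3, 0, 3, 2, 4, 2, 4, 1, 3, 0, 4, 0, 3, 4, 0, 3, 1, 0, 3, 1, 4, 0, 1, 3, 2, 4, 0, 4, 2, 1, 3, 4, 0, 3], [3, 1, 4, 0, 1, 3, 2, 0, 4, 0, 1, 3, 1, 4, 3, 0, 2, 4, 2, 0, 3, 1, 0, 4, 1, 4, 0, 3, 4, 3, 0, 4, 2, 3, 1, 3, 0, 4, 3, 2, 1, 3, 4, 0, 3, 4, 3, 1, 3, 1, 0, 3, 1, 4, 0, 4, 2, 3, 1, 4, 2, 0, 4, 0, 3, 1, 4, 3, 0, 3, 4, 0, 4, 0, 1, 4, 2, 4, 1, 4, 2, 0, 3, 0, 1, 4, 0, 2, 0, 4, 3, 0, 1, 4, 2, 3, 0, 3, 0, 3, 4, 3, 1, 2, 4, 3, 4, 1, 2, 4, 0, 3, 1, 4, 1, 4, 1, 2, 4, 1, 4, 0, 4, 0, 2, 0, 4, 1, 4, 3, 2, 0, 3, 0, 1, 3, 4, 2, 0, 4, 0, 4, 1, 3, 0, 1, 4, 0, 4, 0, 1, 2, 1], [1, 2, 4, 2, 4, 0, 4, 0, 3, 2, 0, 4, 2, 3,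 0, 3, 1, 4, 1, 4, 3, 1, 3, 0, 2, 3, 1, 2, 4, 0, 2, 4, 0, 3, 4, 0, 4, 0, 4, 2, 0, 4, 0, 1, 4, 1, 4, 3, 0, 3, 2, 4, 0, 2, 4, 0, 3, 2, 0, 3, 4, 1, 2, 4, 2, 4, 0, 3, 0, 4, 1, 4, 0, 1, 3, 0, 1, 3, 1, 4, 3, 1, 4, 2, 0, 3, 4, 2, 4, 1, 4, 1, 2, 0, 3, 0, 4, 0, 2, 4, 1, 2, 4, 0, 3, 4, 1, 2, 0, 3, 0, 3, 2, 0, 4, 0, 2, 4, 1, 3, 0, 3, 2, 4, 2, 4, 1, 3, 0, 4, 0, 3, 4, 0, 3, 1, 0, 3, 1, 4, 0, 1, 3, 2, 4, 0, 4, 2, 1, 3, 4, 0, 3], [0, 4, 0, 1, 2, 4, 1, 0, 4, 1, 4, 0, 3, 0, 3, 2, 4, 1, 3, 1, 0, 4, 3, 0, 1, 0, 4, 0, 2, 4, 2, 3, 1, 0, 2, 4, 1, 4, 0, 1, 3, 1, 3, 4, 2, 3, 0, 4, 2, 4, 0, 3, 2, 0, 3, 4, 0, 4, 1, 2, 4, 0, 2, 4, 2, 0, 3,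 0, 4, 1, 2, 4, 2, 1, 3], [1, 2, 3, 1, 4, 0, 4, 1, 0, 3, 4, 0, 3, 1, 3, 4, 2, 1, 4, 3, 1, 3, 4, 1, 3, 4, 0, 4, 3, 0, 1, 3, 4, 2, 0, 4, 0, 3, 1, 4, 0, 2, 4, 3, 0, 4, 2, 3, 2, 3, 2, 1, 2, 3, 1, 0, 4, 3, 0, 1, 4, 0, 2, 4, 0, 4, 0, 2, 0, 3, 4, 0, 2, 0, 4, 0, 4, 3, 0, 3, 0, 2, 0, 1, 4, 1, 2, 0, 3, 0, 3, 2, 0, 4, 0, 2, 4, 1, 3, 0, 3, 2, 4, 2, 4, 1, 3, 0, 4, 0, 3, 4, 0, 3, 1, 0, 3, 1, 4, 0, 1, 3, 2, 4, 0, 4, 2, 1, 3, 4, 0, 3], [0, 2, 1, 4, 1, 4, 0, 1, 4, 1, 0, 3, 4, 3, 1, 0, 3, 1, 4, 0, 3, 2, 0, 4, 3, 4, 2, 3, 4, 1, 4, 1, 3, 0, 2, 4, 2, 0, 4, 0, 2, 4, 3, 0, 4, 2, 4, 1, 4, 0, 3, 0, 3, 2, 4, 0, 3, 2, 0, 3, 4, 0, 4, 1, 2,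 4, 0, 2, 4, 2, 0, 3, 0, 4, 1, 2, 4, 2, 1, 4, 1, 2, 4, 0, 3, 1, 4, 1, 4, 1, 2, 4, 1, 4, 0, 4, 0, 2, 0, 4, 1, 4, 3, 2, 0, 3, 0, 1, 3, 4, 2, 0, 4, 0, 4, 1, 3, 0, 1, 4, 0, 4, 0, 1, 2, 1], [1, 3, 0, 3, 1, 4, 3, 0, 4, 2, 4, 3, 1, 4, 3, 2, 0, 4, 1, 4, 1, 2, 0, 4, 2, 4, 2, 4, 1, 2, 3, 0, 4, 3, 2, 1, 4, 3, 0, 3, 1, 4, 1, 2, 1, 3, 4, 3, 1, 2, 4, 0, 3, 2, 1, 4, 0, 1, 3, 1, 4, 1, 0, 4, 0, 4, 2, 1, 4, 2, 3, 1, 4, 2, 3, 2, 0, 3, 2, 4, 0, 2, 4, 1, 4, 1, 2, 0, 3, 0, 3, 2, 0, 4, 0, 2, 4, 1, 3, 0, 3, 2, 4, 2, 4, 1, 3, 0, 4, 0, 3, 4, 0, 3, 1, 0, 3, 1, 4, 0, 1, 3, 2, 4, 0, 4, 2, 1, 3, 4, 0, 3], [2, 0, 3, 4, 0, 3, 2, 3, 4, 0, 2, 3,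 4, 2, 0, 4, 3, 2, 3, 1, 4, 0, 4, 1, 0, 1, 2, 4, 1, 4, 0, 3, 4, 0, 3, 2, 4, 1, 2, 3, 4, 1, 0, 4, 1, 4, 1, 4, 0, 4, 0, 3, 2, 4, 1, 4, 0, 2, 0, 4, 0, 3, 0, 2, 3, 4, 1, 0, 4, 0, 3, 0, 2, 3, 4, 1, 0, 2, 4, 2, 0, 1, 3, 1, 4, 2, 1, 0, 4, 2, 0, 4], [1, 4, 2, 3, 0, 3, 4, 3, 0, 3, 0, 3, 2, 4, 1, 4, 1, 2, 3, 4, 0, 1, 0, 2, 3, 1, 0, 4, 1, 2, 3, 0, 4, 1, 0, 3, 0, 2, 0, 4, 3, 1, 3, 2, 4, 1, 3, 0, 3, 1, 4, 0, 4, 3, 0, 2, 4, 2, 1, 4, 2, 0, 3, 4, 1, 0, 3, 0, 4, 1, 0, 1, 3, 0, 2, 4, 2, 1, 4, 1, 0, 1, 3, 4, 1, 4], [0, 1, 4, 3, 1, 2, 0, 3, 1, 4, 0, 4, 2, 4, 1, 4, 0, 2, 4, 2, 0, 2, 4, 3, 1, 0, 3, 0, 4, 0, 1, 4, 0, 2, 4, 3, 2, 0, 3,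 2, 0, 3, 2, 4, 1, 4, 1, 3, 0, 2, 1, 4, 3, 1, 4, 2, 0, 4, 1, 4, 1, 2, 4, 0, 2, 4, 0, 3, 0, 4, 2, 0, 4, 3, 1, 4, 0, 4, 0, 3, 4, 2, 0, 4, 0, 3, 2, 1, 4, 0, 4, 3, 1, 4, 1, 4, 3, 0, 1, 3], [2, 0, 3, 4, 0, 2, 0, 2, 4, 1, 4, 2, 1, 4, 2, 0, 3, 0, 2, 3, 1, 3, 4, 3, 4, 0, 2, 4, 3, 1, 0, 4, 1, 3, 0, 4, 1, 0, 4, 2, 1, 4, 0, 4, 3, 1, 0, 3, 0, 4, 2, 0, 3, 0, 2, 4, 0, 4, 1, 4, 3, 1, 0, 3, 4, 0, 2, 4, 0, 4, 0, 2, 4, 1, 4, 2, 4, 1, 2, 3, 2, 0, 4, 1, 3, 0, 3, 0, 4, 3, 1, 0, 4, 0, 4, 0, 3, 1, 0, 1, 4, 1, 2, 0, 3, 0, 3, 2, 0, 4, 0, 2, 4, 1, 3, 0, 3, 2, 4, 2, 4, 1, 3, 0, 4, 0, 3, 4, 0, 3, 1, 0, 3, 1, 4, 0, 1, 3, 2, 4, 0, 4, 2, 1, 3,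 4, 0, 3], [2, 4, 1, 2, 4, 0, 3, 0, 4, 0, 3, 1, 4, 2, 4, 1, 3, 2, 4, 0, 3, 4, 2, 4, 2, 0, 4, 0, 4, 3, 0, 3, 4, 0, 2, 3, 4, 3, 0, 4, 1, 4, 3, 0, 4, 2, 3, 2, 0, 4, 1, 2, 4, 3, 2, 0, 3, 0, 3, 1, 4, 1, 3, 0, 4, 0, 2, 0, 4, 1, 3, 0, 4, 1, 3, 0, 4, 0, 3, 1, 4, 1, 4, 3, 0, 3, 1, 2, 4, 0, 3, 1, 3, 4, 2, 3, 1], [1, 3, 0, 1, 4, 3, 2, 1, 2, 0, 4, 0, 3, 1, 0, 3, 1, 4, 0, 4, 3, 2, 0, 3, 2, 1, 4, 0, 3, 0, 3, 4, 1, 3, 0, 4, 3, 1, 0, 4, 2, 3, 1, 3, 0, 1, 4, 2, 0, 3, 0, 3, 4, 2, 4, 0, 1, 3, 0, 4, 3, 1, 3, 4, 1, 3, 0, 4, 0, 4, 2, 0, 4, 3, 2, 4, 0, 3, 1, 3, 1, 0, 4, 3, 0, 1, 3, 1, 0, 4, 0, 1, 3, 0, 4, 2, 1, 3, 4, 0, 1, 4, 3, 1, 3,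 0, 3], [2, 3, 0, 4, 1, 3, 0, 4, 0, 2, 4, 1, 3, 1, 4, 0, 4, 2, 4, 0, 4, 3, 1, 3, 4, 0, 2, 0, 4, 0, 4, 1, 0, 3, 1, 4, 0, 4, 0, 2, 0, 4, 2, 0, 4, 3, 1, 2, 4, 1, 4, 0, 4, 0, 2, 3, 1, 3, 4, 0, 4, 2, 4, 2, 3, 0, 4, 3, 2, 0, 4, 3, 1, 4, 0, 3, 4, 0, 2, 3, 1, 0, 3, 0, 2, 3, 4, 0, 4, 1, 2, 4, 2, 4, 1, 0, 3, 4, 1, 3, 1, 0, 4, 2, 0], [3, 0, 3, 1, 4, 2, 4, 0, 3, 0, 2, 4, 3, 1, 0, 3, 4, 0, 3, 1, 3, 4, 1, 3, 0, 4, 3, 0, 1, 3, 2, 0, 4, 0, 3, 1, 3, 1, 0, 4, 3, 0, 4, 1, 2, 4, 0, 3, 0, 4, 0, 4, 2, 3, 4, 0, 2, 3, 4, 1, 2, 3, 4, 2, 3, 1, 4, 1, 3, 4, 0, 3, 0, 3, 0, 4, 2, 0, 4, 1, 2, 3, 4, 1, 0, 4, 1, 2, 4, 2, 4, 1, 2, 0, 3, 0, 3, 2,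 0, 4, 0, 2, 4, 1, 3, 0, 3, 2, 4, 2, 4, 1, 3, 0, 4, 0, 3, 4, 0, 3, 1, 0, 3, 1, 4, 0, 1, 3, 2, 4, 0, 4, 2, 1, 3, 4, 0, 3], [3, 1, 4, 1, 3, 0, 4, 3, 2, 0, 4, 0, 4, 0, 2, 4, 0, 2, 1, 4, 0, 2, 3, 4, 1, 4, 0, 2, 4, 0, 1, 3, 2, 4, 0, 1, 3, 0, 4, 0, 1, 4, 1, 2, 1, 4, 1, 0, 4, 2, 1, 4, 1, 3, 1, 0, 2, 1, 4, 1, 4, 2, 4, 1, 3, 0, 4, 3, 0, 2, 3, 0, 3, 1, 2, 3, 2, 4, 3, 1, 3, 0, 4, 3, 2, 3, 4, 3, 0, 4, 1, 0, 3, 1, 4, 1, 0, 3, 4, 1, 2, 4, 0, 3, 1, 4, 1, 4, 1, 2, 4, 1, 4, 0, 4, 0, 2, 0, 4, 1, 4, 3, 2, 0, 3, 0, 1, 3, 4, 2, 0, 4, 0, 4, 1, 3, 0, 1, 4, 0, 4, 0, 1, 2, 1], [1, 0, 3, 0, 4, 0, 4, 3, 2, 4, 0, 2, 3, 4, 0, 3, 2, 0, 2, 4,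 2, 0, 3, 2, 0, 4, 1, 2, 4, 0, 3, 1, 4, 1, 2, 0, 4, 1, 4, 2, 0, 2, 3, 4, 1, 3, 4, 0, 4, 2, 4, 1, 3, 0, 4, 3, 0, 1, 2, 0, 1, 4, 1, 3, 1, 0, 1, 4, 0, 2, 4, 1, 0, 4, 1, 3, 4, 0, 2, 3, 2, 0, 2, 4, 3, 4, 1, 2, 4, 0, 3, 1, 4, 1, 4, 1, 2, 4, 1, 4, 0, 4, 0, 2, 0, 4, 1, 4, 3, 2, 0, 3, 0, 1, 3, 4, 2, 0, 4, 0, 4, 1, 3, 0, 1, 4, 0, 4, 0, 1, 2, 1], [0, 3, 1, 3, 4, 2, 0, 2, 1, 4, 2, 0, 4, 2, 4, 1, 3, 1, 0, 4, 3, 0, 2, 1, 3, 0, 1, 3, 0, 4, 2, 4, 0, 4, 3, 1, 2, 4, 0, 2, 1, 4, 1, 4, 3, 1, 4, 3, 4, 0, 4, 3, 2, 3, 4, 1, 4, 0, 4, 3, 0, 3, 2, 1, 3, 4, 1, 4, 0, 3, 0, 1, 3, 4, 3, 1, 0, 4, 0, 4, 2, 0, 3, 4, 2, 4, 1, 4, 0, 4, 3, 1, 2, 3,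 0, 3, 0, 2, 0, 2, 4, 1, 0, 3, 4, 1, 4, 3, 2, 0, 2, 4, 2, 0], [1, 0, 3, 1, 4, 1, 4, 3, 2, 0, 3, 0, 4, 3, 1, 4, 1, 4, 2, 4, 2, 0, 4, 2, 0, 3, 4, 0, 4, 3, 0, 3, 0, 2, 4, 1, 2, 3, 0, 3, 1, 0, 4, 2, 0, 3, 0, 4, 0, 2, 4, 3, 1, 3, 4, 2, 0, 3, 4, 0, 1, 4, 3, 0, 4, 0, 2, 3, 0, 3, 1, 4, 3, 1, 4, 0, 3, 1, 0, 1, 4, 0, 3, 0, 1, 4, 1, 0, 3, 2, 0, 1, 0, 4, 2, 3, 0, 4, 2, 3, 4, 3, 4, 1, 2, 4, 0, 3, 1, 4, 1, 4, 1, 2, 4, 1, 4, 0, 4, 0, 2, 0, 4, 1, 4, 3, 2, 0, 3, 0, 1, 3, 4, 2, 0, 4, 0, 4, 1, 3, 0, 1, 4, 0, 4, 0, 1, 2, 1], [0, 4, 0, 4, 3, 0, 4, 2, 1, 4, 0, 4, 3, 0, 4, 0, 4, 2, 1, 4, 0, 1, 4, 1, 3, 0, 3, 4, 3, 0, 2, 3, 1, 4, 0, 1,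 0, 4, 3, 2, 3, 0, 4, 1, 0, 3, 1, 3, 4, 1, 2, 3, 0, 3, 4, 0, 3, 2, 1, 3, 4, 2, 0, 3, 4, 0, 3, 4, 0, 4, 0, 2, 3, 0, 4, 1, 4, 3, 1, 2, 0, 2, 4, 3, 0, 2, 3, 0, 4, 2, 0, 2, 3, 2, 0], [1, 4, 0, 2, 3, 4, 0, 4, 0, 2, 4, 3, 0, 4, 2, 4, 1, 4, 0, 3, 2, 0, 3, 1, 0, 4, 0, 2, 4, 1, 4, 2, 0, 3, 1, 2, 0, 3, 0, 4, 0, 2, 1, 3, 1, 4, 2, 0, 4, 1, 4, 1, 2, 4, 0, 2, 4, 0, 3, 0, 4, 2, 0, 4, 3, 1, 4, 0, 4, 0, 3, 4, 2, 0, 4, 0, 3, 2, 1, 4, 0, 4, 3, 1, 4, 1, 4, 3, 0, 1, 4, 1, 2, 4, 0, 3, 1, 4, 1, 4, 1, 2, 4, 1, 4, 0, 4, 0, 2, 0, 4, 1, 4, 3, 2, 0, 3, 0, 1, 3, 4, 2, 0, 4, 0, 4, 1, 3, 0, 1, 4, 0, 4, 0, 1, 2, 1], [4, 2, 4, 1, 0, 4, 0, 3, 1,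 0, 4, 3, 0, 4, 2, 4, 3, 0, 3, 4, 1, 0, 4, 3, 1, 3, 0, 3, 1, 4, 2, 1, 4, 1, 0, 4, 1, 3, 0, 1, 3, 4, 2, 0, 4, 0, 3, 2, 3, 2, 0, 3, 0, 3, 1, 4, 1, 3, 0, 4, 0, 2, 0, 4, 1, 3, 0, 4, 1, 3, 0, 4, 0, 3, 1, 4, 1, 4, 3, 0, 3, 1, 2, 4, 0, 3, 1, 3, 4, 2, 3, 1, 3, 4, 1, 2, 4, 0, 3, 1, 4, 1, 4, 1, 2, 4, 1, 4, 0, 4, 0, 2, 0, 4, 1, 4, 3, 2, 0, 3, 0, 1, 3, 4, 2, 0, 4, 0, 4, 1, 3, 0, 1, 4, 0, 4, 0, 1, 2, 1], [1, 4, 0, 4, 1, 3, 4, 1, 4, 3, 0, 3, 4, 0, 3, 4, 1, 0, 4, 1, 2, 4, 1, 2, 4, 1, 4, 2, 0, 3, 0, 4, 0, 2, 0, 3, 1, 4, 0, 3, 0, 4, 0, 1, 3, 2, 0, 4, 2, 1, 4, 0, 1, 0, 3, 0, 2, 4, 0, 4, 1, 4, 3, 1, 0, 3, 4, 0, 2, 4, 0, 4, 0, 2, 4,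 1, 4, 2, 4, 1, 2, 3, 2, 0, 4, 1, 3, 0, 3, 0, 4, 3, 1, 0, 4, 0, 4, 0, 3, 1, 0, 1, 4, 1, 2, 0, 3, 0, 3, 2, 0, 4, 0, 2, 4, 1, 3, 0, 3, 2, 4, 2, 4, 1, 3, 0, 4, 0, 3, 4, 0, 3, 1, 0, 3, 1, 4, 0, 1, 3, 2, 4, 0, 4, 2, 1, 3, 4, 0, 3], [3, 1, 3, 2, 0, 4, 1, 3, 2, 0, 4, 1, 4, 2, 1, 4, 0, 2, 4, 3, 4, 3, 1, 2, 4, 1, 4, 3, 0, 2, 4, 2, 0, 3, 1, 0, 3, 0, 4, 0, 1, 4, 1, 2, 4, 0, 3, 2, 3, 2, 0, 3, 0, 3, 1, 4, 1, 3, 0, 4, 0, 2, 0, 4, 1, 3, 0, 4, 1, 3, 0, 4, 0, 3, 1, 4, 1, 4, 3, 0, 3, 1, 2, 4, 0, 3, 1, 3, 4, 2, 3, 4, 1, 2, 0, 3, 0, 3, 2, 0, 4, 0, 2, 4, 1, 3, 0, 3, 2, 4, 2, 4, 1, 3, 0, 4, 0, 3, 4, 0, 3, 1, 0, 3, 1, 4, 0, 1, 3, 2, 4,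 0, 4, 2, 1, 3, 4, 0, 3], [0, 1, 0, 4, 2, 0, 3, 0, 4, 2, 0, 1, 4, 1, 4, 2, 0, 4, 1, 4, 3, 1, 3, 4, 1, 2, 4, 0, 4, 2, 0, 3, 1, 0, 3, 0, 4, 1, 4, 1, 3, 2, 0, 4, 3, 2, 4, 0, 2, 4, 3, 0, 1, 2, 4, 0, 2, 1, 4, 1, 2, 1, 0, 3, 4, 0, 2, 4, 2, 0, 2, 0, 4, 2, 4, 2, 0, 2, 4, 0], [0, 2, 1, 4, 1, 4, 0, 4, 1, 4, 3, 1, 4, 0, 4, 0, 3, 4, 1, 0, 4, 3, 0, 3, 1, 2, 1, 4, 2, 4, 0, 3, 1, 4, 2, 4, 3, 1, 0, 4, 0, 4, 0, 4, 2, 3, 1, 0, 1, 4, 0, 2, 4, 3, 0, 4, 1, 2, 4, 0, 3, 0, 4, 0, 4, 2, 0, 4, 2, 3, 4, 0, 2, 4, 2, 0, 4, 0, 2, 4, 2, 4, 3, 0, 4, 1, 3, 4, 1, 4, 0, 4, 0, 1, 4, 1, 2, 0, 3, 0, 3, 2, 0, 4, 0, 2, 4, 1, 3, 0, 3, 2, 4, 2, 4, 1, 3,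 0, 4, 0, 3, 4, 0, 3, 1, 0, 3, 1, 4, 0, 1, 3, 2, 4, 0, 4, 2, 1, 3, 4, 0, 3], [1, 2, 4, 0, 2, 4, 0, 2, 3, 4, 2, 0, 1, 3, 2, 4, 3, 4, 2, 1, 4, 1, 3, 4, 3, 2, 0, 4, 0, 2, 3, 0, 1, 2, 4, 2, 4, 1, 2, 4, 3, 0, 1, 4, 0, 1, 3, 4, 0, 3, 2, 4, 0, 1, 3, 1, 0, 3, 4, 2, 0, 4, 1, 4, 1, 2, 4, 2, 0, 4, 0, 3, 4, 2, 3, 4, 0, 3, 4, 3, 0, 1, 3, 0, 3, 1, 2, 4, 0, 1, 2, 4, 0, 3, 0, 4, 3], [2, 4, 1, 2, 4, 0, 4, 0, 1, 2, 4, 0, 2, 4, 0, 3, 1, 3, 4, 0, 3, 2, 1, 0, 3, 0, 3, 0, 3, 4, 1, 3, 1, 0, 3, 2, 4, 0, 3, 4, 1, 0, 4, 1, 0, 3, 1, 0], [4, 2, 4, 2, 1, 0, 4, 0, 3, 0, 4, 2, 4, 1, 4, 0, 3, 1, 4, 3, 2, 4, 1, 2, 4, 3, 0, 2, 4, 1, 3, 0, 4, 1, 3,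 0, 2, 0, 4, 1, 2, 3, 4, 0, 2, 4, 1, 4, 3, 4, 0, 3, 0, 3, 4, 0, 3, 2, 4, 0, 3, 2, 0, 3, 4, 0, 4, 1, 2, 4, 0, 2, 4, 2, 0, 3, 0, 4, 1, 2, 4, 2, 1, 3, 1, 4, 1, 2, 0, 3, 0, 3, 2, 0, 4, 0, 2, 4, 1, 3, 0, 3, 2, 4, 2, 4, 1, 3, 0, 4, 0, 3, 4, 0, 3, 1, 0, 3, 1, 4, 0, 1, 3, 2, 4, 0, 4, 2, 1, 3, 4, 0, 3], [3, 0, 4, 0, 1, 2, 4, 0, 3, 0, 4, 2, 1, 4, 0, 2, 3, 0, 2, 4, 2, 0, 4, 2, 0, 1, 4, 3, 0, 4, 3, 1, 4, 2, 0, 3, 4, 2, 0, 4, 1, 0, 3, 0, 2, 4, 1, 4, 2, 4, 1, 2, 4, 0, 3, 2, 1, 4, 0, 1, 3, 1, 4, 1, 0, 4, 0, 4, 2, 1, 4, 2, 3, 1, 4, 2, 3, 2, 0, 3, 2, 4, 0, 2, 4, 1, 4, 1, 2, 0, 3, 0, 3, 2, 0, 4, 0, 2, 4, 1, 3, 0, 3, 2, 4, 2, 4, 1,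 3, 0, 4, 0, 3, 4, 0, 3, 1, 0, 3, 1, 4, 0, 1, 3, 2, 4, 0, 4, 2, 1, 3, 4, 0, 3]]

def tupC1 : List (List ℕ) := [[4, 1, 0, 4, 2, 4, 1, 0, 3, 4, 1, 4, 0, 3, 2, 0, 4, 0, 2, 4, 1, 3, 1, 2, 4, 0, 4, 3, 2, 0, 4, 1, 2, 3, 0, 1, 0, 4, 2, 4, 0, 4, 0, 3, 2, 4, 1, 4, 0, 2, 0, 4, 0, 3, 0, 2, 3, 4, 1, 0, 3, 0, 3, 0, 2, 1, 4, 0, 2, 0, 4, 1, 3, 0, 3, 2, 0, 4, 1, 2, 3, 4, 1, 4, 0, 4, 2, 1, 2, 4, 0, 3, 1, 4, 1, 4, 1, 2, 4, 1, 4, 0, 4, 0, 2, 0, 4, 1, 4, 3, 2, 0, 3, 0, 1, 3, 4, 2, 0, 4, 0, 4, 1, 3, 0, 1, 4, 0, 4, 0, 1, 2, 1], [0, 2, 4, 2, 0, 3, 0, 4, 2, 0, 3, 2, 4, 2, 4, 0, 1, 4, 0, 1, 4, 0, 4, 3, 0, 1, 3, 4, 1, 4, 1, 0, 3, 1, 4, 2,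 0, 4, 0, 4, 0, 1, 4, 2, 3, 2, 1, 2, 4, 0, 1, 4, 0, 2, 4, 3, 0, 4, 1, 2, 4, 0, 3, 0, 4, 0, 4, 2, 0, 4, 2, 3, 4, 0, 2, 4, 2, 0, 4, 0, 2, 4, 2, 4, 3, 0, 4, 1, 3, 4, 1, 4, 0, 4, 0, 1, 4, 1, 2, 0, 3, 0, 3, 2, 0, 4, 0, 2, 4, 1, 3, 0, 3, 2, 4, 2, 4, 1, 3, 0, 4, 0, 3, 4, 0, 3, 1, 0, 3, 1, 4, 0, 1, 3, 2, 4, 0, 4, 2, 1, 3, 4, 0, 3], [1, 4, 1, 4, 3, 2, 0, 3, 0, 4, 1, 0, 4, 0, 4, 2, 0, 4, 0, 3, 2, 0, 1, 4, 0, 2, 4, 0, 4, 0, 2, 3, 0, 4, 1, 4, 2, 4, 0, 4, 3, 1, 4, 0, 2, 4, 1, 2, 0, 4, 0, 2, 3, 4, 0, 3, 0, 2, 4, 2, 0, 4, 0, 3, 2, 4, 2, 0, 4, 3, 1, 0, 3, 0, 4, 1, 3, 2, 4, 0, 4, 1, 0, 2, 4, 2, 0, 3, 1], [0, 2, 4, 1, 4, 2, 3, 0,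 4, 1, 3, 0, 4, 0, 1, 3, 0, 4, 3, 0, 3, 4, 0, 4, 1, 4, 3, 0, 1, 4, 2, 0, 3, 4, 0, 4, 0, 4, 3, 0, 3, 1, 0, 4, 2, 4, 1, 3, 0, 1, 0, 3, 4, 1, 3, 0, 4, 0, 4, 2, 3, 4, 0, 3, 1, 3, 4, 2, 3, 2, 1, 3, 0, 3, 0, 3, 1, 3, 1, 2, 4, 1, 0, 4, 2, 4, 1, 4, 3, 4, 1, 2, 0, 3, 0, 3, 2, 0, 4, 0, 2, 4, 1, 3, 0, 3, 2, 4, 2, 4, 1, 3, 0, 4, 0, 3, 4, 0, 3, 1, 0, 3, 1, 4, 0, 1, 3, 2, 4, 0, 4, 2, 1, 3, 4, 0, 3], [1, 0, 4, 0, 3, 0, 4, 2, 0, 2, 3, 4, 2, 0, 4, 1, 4, 2, 4, 0, 4, 1, 4, 1, 0, 3, 0, 4, 1, 4, 0, 3, 0, 3, 0, 2, 3, 4, 2, 1, 3, 4, 3, 1, 0, 4, 3, 0, 3, 1, 3, 4, 1, 4, 1, 2, 0, 3, 0, 3, 2, 0, 4, 0, 2, 4, 1, 3, 0, 3, 2, 4, 2, 4, 1, 3, 0,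 4, 0, 3, 4, 0, 3, 1, 0, 3, 1, 4, 0, 1, 3, 2, 4, 0, 4, 2, 1, 3, 4, 0, 3], [1, 4, 1, 3, 0, 4, 2, 0, 4, 1, 0, 3, 0, 3, 4, 1, 2, 0, 4, 1, 4, 0, 4, 1, 0, 3, 2, 0, 4, 2, 1, 3, 4, 2, 0, 2, 4, 0, 4, 1, 4, 3, 2, 4, 1, 4, 1, 3, 0, 4, 2, 1, 0, 4, 0, 4, 0, 4, 1, 4, 0, 3, 0, 3, 0, 2, 4, 0, 4, 0, 1, 3, 0, 2, 4, 2, 1, 3, 4, 1, 4, 0, 3, 4, 0, 2, 4, 2], [4, 1, 2, 3, 0, 4, 0, 1, 0, 3, 1, 0, 3, 4, 0, 4, 3, 1, 4, 1, 3, 1, 4, 0, 4, 3, 0, 2, 4, 0, 1, 3, 4, 1, 0, 2, 4, 1, 3, 0, 3, 0, 4, 1, 3, 4, 3, 2, 0, 4, 3, 1, 4, 0, 2, 4, 3, 0, 1, 3, 1, 4, 2, 1, 4, 3, 1, 4, 3, 0, 4, 2, 0, 4], [3, 0, 4, 1, 4, 3, 2, 0, 4, 2, 4, 2, 1, 4, 2, 4, 0, 4, 1,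 2, 3, 4, 2, 4, 1, 4, 0, 4, 3, 1, 3, 1, 0, 4, 0, 1, 4, 2, 1, 3, 1, 4, 1, 0, 1, 4, 2, 1, 3, 1, 4, 0, 2, 4, 1, 0, 2, 4, 3, 1, 4, 1, 4, 2, 4, 1, 4, 0, 2, 4, 1, 2, 3, 4, 2, 4, 2, 0, 3, 0, 4, 1, 4, 0, 4, 1, 4, 3, 1, 4, 2, 0, 4, 2, 1, 2, 4, 2, 1, 4, 3, 4, 1, 2, 4, 0, 3, 1, 4, 1, 4, 1, 2, 4, 1, 4, 0, 4, 0, 2, 0, 4, 1, 4, 3, 2, 0, 3, 0, 1, 3, 4, 2, 0, 4, 0, 4, 1, 3, 0, 1, 4, 0, 4, 0, 1, 2, 1], [1, 0, 2, 4, 3, 1, 3, 0, 4, 0, 3, 1, 4, 0, 3, 4, 0, 2, 3, 2, 4, 3, 0, 3, 2, 4, 0, 2, 3, 4, 1, 2, 3, 0, 4, 3, 2, 0, 3, 1, 4, 3, 1, 0, 4, 2, 4, 2, 1, 3, 4, 1, 2, 3, 0, 3, 4, 0, 3, 2, 1, 3, 4, 2, 0, 3, 4, 0, 3, 4, 0, 4, 0, 2, 3, 0, 4,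 1, 4, 3, 1, 2, 0, 2, 4, 3, 0, 2, 3, 0, 4, 2, 0, 2, 3, 2, 0, 1, 4, 1, 2, 0, 3, 0, 3, 2, 0, 4, 0, 2, 4, 1, 3, 0, 3, 2, 4, 2, 4, 1, 3, 0, 4, 0, 3, 4, 0, 3, 1, 0, 3, 1, 4, 0, 1, 3, 2, 4, 0, 4, 2, 1, 3, 4, 0, 3], [1, 4, 1, 2, 4, 1, 4, 1, 4, 2, 4, 0, 1, 3, 0, 4, 3, 1, 3, 0, 4, 2, 4, 0, 2, 3, 1, 4, 0, 3, 2, 1, 4, 2, 1, 3, 0, 4, 1, 4, 2, 0, 4, 0, 2, 4, 1, 3, 4, 1, 4, 0, 2, 4, 0, 4, 0, 3, 2, 4, 1, 4, 1, 3, 0, 4, 2, 1, 0, 4, 0, 4, 0, 4, 1, 4, 0, 3, 0, 3, 0, 2, 4, 0, 4, 0, 1, 3, 0, 2, 4, 2, 1, 3, 4, 1, 4, 0, 3, 4, 0, 2, 4, 2, 3, 4, 1, 2, 4, 0, 3, 1, 4, 1, 4, 1, 2, 4, 1, 4, 0, 4, 0, 2, 0, 4, 1, 4, 3, 2, 0, 3, 0, 1, 3, 4, 2,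 0, 4, 0, 4, 1, 3, 0, 1, 4, 0, 4, 0, 1, 2, 1], [2, 0, 3, 4, 1, 4, 3, 0, 3, 0, 3, 2, 4, 1, 2, 4, 3, 1, 3, 4, 2, 1, 0, 3, 0, 4, 0, 1, 4, 1, 4, 1, 0, 4, 0, 2, 0, 3, 0, 4, 2, 4, 0, 4, 1, 4, 1, 2, 4, 3, 0, 2, 4, 1, 4, 2, 1, 4, 2, 0, 2, 3, 0, 3, 1, 4, 1, 4, 2, 4, 2, 4, 0, 3, 0, 2, 4, 3, 0, 1, 4, 0, 4, 1, 4, 2, 0, 4, 0, 3, 0, 1, 4, 3, 2, 0, 4, 1, 2, 3, 4, 1, 2, 4, 0, 3, 1, 4, 1, 4, 1, 2, 4, 1, 4, 0, 4, 0, 2, 0, 4, 1, 4, 3, 2, 0, 3, 0, 1, 3, 4, 2, 0, 4, 0, 4, 1, 3, 0, 1, 4, 0, 4, 0, 1, 2, 1], [0, 3, 1, 0, 4, 3, 0, 2, 3, 0, 3, 0, 4, 1, 4, 3, 0, 2, 3, 4, 1, 3, 1, 2, 0, 3, 0, 2, 4, 3, 0, 4, 1, 4, 1, 0, 1, 4, 1, 2, 3, 1, 4,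 2, 3, 1, 3, 4, 2, 4, 2, 3, 0, 4, 0, 1, 4, 2, 0, 2, 4, 1, 4, 2, 1, 4, 2, 0, 2, 3, 0, 3, 1, 4, 1, 4, 2, 4, 2, 4, 0, 3, 0, 2, 4, 3, 0, 1, 4, 0, 4, 1, 4, 2, 0, 4, 0, 3, 0, 1, 4, 3, 2, 0, 4, 1, 2], [1, 3, 0, 1, 0, 4, 1, 4, 2, 4, 0, 2, 4, 2, 3, 0, 3, 0, 4, 0, 3, 0, 4, 2, 4, 2, 4, 1, 0, 4, 3, 0, 1, 4, 2, 4, 0, 1, 0, 3, 1, 2, 0, 4, 0, 4, 0, 2, 3, 4, 0, 3, 0, 2, 4, 2, 0, 4, 0, 3, 2, 4, 2, 0, 4, 3, 1, 0, 3, 0, 4, 1, 3, 2, 4, 0, 4, 1, 0, 2, 4, 2, 0, 3, 4, 1, 2, 0, 3, 0, 3, 2, 0, 4, 0, 2, 4, 1, 3, 0, 3, 2, 4, 2, 4, 1, 3, 0, 4, 0, 3, 4, 0, 3, 1, 0, 3, 1, 4, 0, 1, 3, 2, 4, 0, 4, 2, 1, 3, 4, 0, 3], [0, 3, 0, 1, 3, 1, 0, 4, 0,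 1, 4, 2, 4, 1, 3, 4, 0, 2, 4, 0, 3, 4, 3, 1, 4, 2, 3, 4, 3, 0, 2, 1, 3, 4, 0, 1, 2, 4, 1, 2, 3, 0, 4, 3, 2, 1, 3, 4, 1, 4, 3, 1, 4, 2, 0, 4, 1, 4, 1, 2, 4, 0, 2, 4, 0, 3, 0, 4, 2, 0, 4, 3, 1, 4, 0, 4, 0, 3, 4, 2, 0, 4, 0, 3, 2, 1, 4, 0, 4, 3, 1, 4, 1, 4, 3, 0, 1, 4, 1, 2, 4, 0, 3, 1, 4, 1, 4, 1, 2, 4, 1, 4, 0, 4, 0, 2, 0, 4, 1, 4, 3, 2, 0, 3, 0, 1, 3, 4, 2, 0, 4, 0, 4, 1, 3, 0, 1, 4, 0, 4, 0, 1, 2, 1], [4, 0, 2, 4, 0, 1, 0, 4, 0, 3, 0, 4, 0, 4, 1, 3, 0, 3, 0, 2, 4, 3, 0, 4, 2, 3, 0, 1, 3, 1, 4, 0, 2, 4, 3, 0, 2, 4, 1, 4, 1, 4, 2, 4, 0, 3, 2, 4, 0, 4, 3, 1, 3, 4, 0, 3, 2, 4, 0, 1, 3, 1, 0, 3, 4, 2, 0, 4, 1, 4, 1,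 2, 4, 2, 0, 4, 0, 3, 4, 2, 3, 4, 0, 3, 4, 3, 0, 1, 3, 0, 3, 1, 2, 4, 0, 1, 2, 4, 0, 3, 0, 4, 3], [2, 3, 4, 0, 4, 0, 4, 0, 4, 2, 4, 0, 1, 4, 2, 0, 4, 0, 2, 4, 1, 0, 4, 2, 4, 3, 0, 2, 4, 0, 3, 1, 4, 0, 3, 0, 3, 2, 4, 1, 2, 3, 4, 3, 2, 0, 3, 4, 1, 2, 4, 2, 4, 0, 3, 0, 4, 1, 4, 0, 1, 3, 0, 1, 3, 1, 4, 3, 1, 4, 2, 0, 3, 4, 2, 4, 1, 4, 1, 2, 0, 3, 0, 4, 0, 2, 4, 1, 2, 4, 0, 3, 4, 1, 2, 0, 3, 0, 3, 2, 0, 4, 0, 2, 4, 1, 3, 0, 3, 2, 4, 2, 4, 1, 3, 0, 4, 0, 3, 4, 0, 3, 1, 0, 3, 1, 4, 0, 1, 3, 2, 4, 0, 4, 2, 1, 3, 4, 0, 3], [3, 4, 2, 0, 4, 0, 4, 1, 4, 1, 3, 1, 0, 4, 1, 2, 3, 0, 3, 4, 2, 4, 1, 2, 4, 3, 0, 1, 3, 0, 4, 3, 1,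 4, 1, 0, 3, 2, 4, 0, 3, 0, 3, 1, 0, 4, 2, 3, 4, 0, 2, 1, 2, 3, 0, 3, 4, 0, 3, 2, 1, 2, 0, 4, 0, 1, 3, 1, 4, 2, 0, 3, 4, 0, 4, 3, 0, 4, 0, 2, 0, 3, 0, 2, 3, 2, 0, 1, 4, 1, 2, 4, 2, 0, 2, 4, 3, 1, 4, 1, 2, 0, 3, 0, 3, 2, 0, 4, 0, 2, 4, 1, 3, 0, 3, 2, 4, 2, 4, 1, 3, 0, 4, 0, 3, 4, 0, 3, 1, 0, 3, 1, 4, 0, 1, 3, 2, 4, 0, 4, 2, 1, 3, 4, 0, 3], [3, 0, 4, 0, 1, 2, 4, 0, 1, 0, 3, 4, 2, 0, 4, 0, 3, 0, 4, 3, 0, 3, 4, 0, 2, 4, 1, 4, 1, 4, 2, 0, 1, 4, 1, 0, 3, 4, 2, 4, 2, 0, 3, 1, 4, 3, 1, 3, 2, 0, 3, 0, 3, 1, 4, 1, 3, 0, 4, 0, 2, 0, 4, 1, 3, 0, 4, 1, 3, 0, 4, 0, 3, 1, 4, 1, 4, 3, 0, 3, 1, 2, 4, 0, 3, 1, 3, 4, 2, 3, 1, 3, 4,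 1, 2, 4, 0, 3, 1, 4, 1, 4, 1, 2, 4, 1, 4, 0, 4, 0, 2, 0, 4, 1, 4, 3, 2, 0, 3, 0, 1, 3, 4, 2, 0, 4, 0, 4, 1, 3, 0, 1, 4, 0, 4, 0, 1, 2, 1], [0, 3, 4, 0, 4, 0, 3, 2, 0, 1, 4, 2, 4, 0, 2, 1, 2, 0, 4, 3, 2, 0, 4, 0, 4, 2, 1, 3, 2, 4, 0, 2, 4, 3, 0, 2, 4, 0, 4, 0, 1, 4, 1, 2, 3, 0, 4, 1, 2, 3, 0, 3, 0, 2, 1, 3, 1, 4, 0, 4, 1, 3, 0, 1, 4, 3, 2, 1, 3, 0, 4, 3, 0, 4, 1, 0, 4, 2, 1, 4, 1, 3, 0, 2, 3, 0, 4, 3, 2, 1, 4, 2, 0, 4, 0, 4, 0, 3, 0, 4, 0, 3, 4, 1, 2, 4, 0, 3, 1, 4, 1, 4, 1, 2, 4, 1, 4, 0, 4, 0, 2, 0, 4, 1, 4, 3, 2, 0, 3, 0, 1, 3, 4, 2, 0, 4, 0, 4, 1, 3, 0, 1, 4, 0, 4, 0, 1, 2, 1], [4, 2, 3, 4, 0, 4, 0, 3, 4, 0,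 1, 0, 3, 0, 2, 4, 0, 2, 4, 0, 2, 4, 0, 1, 4, 1, 0, 1, 2, 4, 2, 3, 0, 1, 3, 4, 1, 4, 0, 2, 4, 1, 4, 0, 2, 4, 0, 1, 3, 2, 4, 1, 4, 2, 1, 4, 2, 0, 2, 3, 0, 3, 1, 4, 1, 4, 2, 4, 2, 4, 0, 3, 0, 2, 4, 3, 0, 1, 4, 0, 4, 1, 4, 2, 0, 4, 0, 3, 0, 1, 4, 3, 2, 0, 4, 1, 2], [1, 4, 2, 0, 4, 0, 2, 1, 4, 1, 3, 0, 4, 1, 3, 4, 0, 4, 0, 1, 3, 2, 1, 0, 4, 1, 3, 1, 2, 4, 2, 0, 4, 3, 0, 3, 1, 4, 0, 3, 2, 4, 0, 4, 0, 2, 0, 4, 3, 2, 0, 4, 1, 4, 1, 2, 0, 3, 0, 3, 2, 0, 4, 0, 2, 4, 1, 3, 0, 3, 2, 4, 2, 4, 1, 3, 0, 4, 0, 3, 4, 0, 3, 1, 0, 3, 1, 4, 0, 1, 3, 2, 4, 0, 4, 2, 1, 3, 4, 0, 3], [1, 4, 2, 1, 3, 0, 3, 4, 0, 3, 2, 0, 3, 0, 4, 2, 0,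 2, 4, 0, 1, 2, 4, 0, 4, 1, 0, 4, 0, 1, 4, 2, 1, 4, 0, 4, 3, 0, 1, 3, 2, 0, 4, 1, 3, 0, 4, 0, 3, 4, 2, 0, 4, 3, 2, 0, 1, 3, 0, 3, 2, 4, 1, 4, 1, 3, 0, 4, 2, 1, 0, 4, 0, 4, 0, 4, 1, 4, 0, 3, 0, 3, 0, 2, 4, 0, 4, 0, 1, 3, 0, 2, 4, 2, 1, 3, 4, 1, 4, 0, 3, 4, 0, 2, 4, 2], [0, 2, 3, 1, 0, 3, 4, 0, 2, 4, 2, 0, 2, 0, 4, 3, 0, 1, 3, 0, 2, 4, 1, 4, 3, 2, 0, 4, 0, 2, 0, 4, 3, 1, 3, 4, 3, 0, 2, 3, 2, 1, 3, 4, 1, 3, 0, 4, 3, 1, 4, 1, 2, 0, 1, 2, 4, 1, 2, 3, 0, 4, 2, 4, 3, 0, 3, 1, 4, 2, 4, 0, 4, 2, 0, 3, 1, 2, 3, 0, 3, 1, 0, 4, 1, 4, 0, 2, 3, 4, 1], [1, 4, 1, 3, 2, 0, 3, 0, 4, 1, 4, 0, 2, 4, 2, 0, 4, 2, 1, 4, 0, 4, 3, 1, 4,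 0, 4, 1, 4, 0, 3, 0, 4, 1, 4, 2, 0, 4, 0, 3, 2, 4, 0, 4, 2, 4, 0, 4, 3, 4, 2, 0, 3, 4, 0, 1, 4, 3, 0, 4, 0, 2, 3, 0, 3, 1, 4, 3, 1, 4, 0, 3, 1, 0, 1, 4, 0, 3, 0, 1, 4, 1, 0, 3, 2, 0, 1, 0, 4, 2, 3, 0, 4, 2, 3, 4, 1, 4, 1, 2, 0, 3, 0, 3, 2, 0, 4, 0, 2, 4, 1, 3, 0, 3, 2, 4, 2, 4, 1, 3, 0, 4, 0, 3, 4, 0, 3, 1, 0, 3, 1, 4, 0, 1, 3, 2, 4, 0, 4, 2, 1, 3, 4, 0, 3], [1, 3, 0, 2, 3, 4, 3, 2, 1, 4, 2, 1, 4, 3, 0, 4, 0, 2, 4, 3, 1, 2, 1, 4, 0, 4, 0, 3, 0, 2, 3, 4, 1, 2, 4, 0, 1, 0, 4, 0, 2, 3, 4, 1, 4, 0, 3, 0, 2, 4, 0, 3, 0, 4, 0, 4, 2, 3, 4, 0, 2, 3, 4, 1, 2, 3, 0, 2, 4, 3, 0, 1, 2, 0, 4, 1, 0, 4, 2, 4, 0, 4, 2, 0, 2, 3,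 1, 3, 0, 3, 2, 0, 4, 0, 2, 4, 1, 3, 0, 3, 2, 4, 2, 4, 1, 3, 0, 4, 0, 3, 4, 0, 3, 1, 0, 3, 1, 4, 0, 1, 3, 2, 4, 0, 4, 2, 1, 3, 4, 0, 3], [3, 0, 1, 4, 2, 4, 2, 0, 3, 0, 4, 1, 2, 0, 4, 2, 1, 4, 0, 2, 3, 4, 2, 0, 3, 4, 0, 4, 3, 0, 3, 0, 2, 0, 2, 4, 1, 4, 0, 4, 2, 0, 3, 4, 1, 0, 2, 4, 0, 2, 4, 2, 0, 3, 0, 2, 4, 1, 4, 0, 4, 1, 2, 3, 0, 1, 0, 3, 0, 3, 4, 0, 4, 1, 4, 2, 1, 4, 0, 4, 3, 0, 1, 3, 0, 4, 1, 3, 4, 2, 4, 1, 0, 3, 0, 3, 0, 4, 0, 2, 3, 1, 4, 1, 4, 1, 2, 0, 3, 0, 3, 2, 0, 4, 0, 2, 4, 1, 3, 0, 3, 2, 4, 2, 4, 1, 3, 0, 4, 0, 3, 4, 0, 3, 1, 0, 3, 1, 4, 0, 1, 3, 2, 4, 0, 4, 2, 1, 3, 4, 0, 3], [2, 0, 3, 1, 4, 3, 1, 0,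 3, 1, 4, 1, 4, 0, 2, 4, 1, 0, 2, 3, 4, 2, 0, 3, 2, 0, 4, 3, 0, 4, 0, 4, 2, 0, 1, 4, 1, 4, 0, 3, 2, 0, 4, 3, 0, 3, 1, 0, 4, 1, 0, 3, 2, 1, 2, 0, 3, 0, 2, 4, 1, 4, 0, 4, 1, 2, 3, 0, 1, 0, 3, 0, 3, 4, 0, 4, 1, 4, 2, 1, 4, 0, 4, 3, 0, 1, 3, 0, 4, 1, 3, 4, 2, 4, 1, 0, 3, 0, 3, 0, 4, 0, 2, 3, 1, 4], [4, 1, 2, 1, 4, 0, 3, 0, 3, 1, 2, 3, 4, 0, 3, 1, 4, 1, 4, 1, 3, 0, 4, 1, 0, 3, 0, 4, 1, 2, 4, 0, 3, 2, 1, 4, 1, 0, 3, 0, 4, 2, 0, 2, 3, 0, 4, 0, 4, 0, 2, 1, 4, 2, 1, 3, 1, 3, 4, 0, 3, 2, 4, 0, 1, 3, 1, 0, 3, 4, 2, 0, 4, 1, 4, 1, 2, 4, 2, 0, 4, 0, 3, 4, 2, 3, 4, 0, 3, 4, 3, 0, 1, 3, 0, 3, 1, 2, 4, 0, 1, 2, 4, 0, 3, 0, 4, 3],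 [2, 0, 3, 4, 0, 2, 4, 3, 2, 0, 4, 0, 3, 1, 4, 0, 4, 3, 2, 4, 2, 4, 1, 0, 4, 2, 4, 3, 0, 2, 4, 0, 3, 1, 4, 0, 3, 0, 3, 2, 4, 1, 2, 3, 4, 0, 4, 2, 0, 4, 0, 4, 2, 4, 0, 4, 0, 3, 1, 4, 0, 2, 3, 0, 4, 1, 4, 2, 0, 4, 0, 2, 3, 2, 1, 4, 0, 4, 1, 4, 0, 4, 1, 2, 0, 4, 3, 2, 1, 0, 4, 0, 3, 4, 1, 4, 3, 1, 2], [4, 3, 1, 4, 0, 2, 1, 0, 4, 1, 4, 2, 3, 1, 0, 3, 0, 4, 2, 4, 3, 0, 4, 1, 2, 0, 3, 4, 0, 4, 2, 4, 1, 4, 0, 3, 0, 3, 4, 0, 4, 2, 1, 2, 4, 0, 2, 3, 4, 2, 4, 3, 0, 2, 4, 0, 4, 2, 0, 3, 0, 2, 4, 1, 4, 0, 4, 1, 2, 3, 0, 1, 0, 3, 0, 3, 4, 0, 4, 1, 4, 2, 1, 4, 0, 4, 3, 0, 1, 3, 0, 4, 1, 3, 4, 2, 4, 1, 0, 3, 0, 3, 0, 4, 0, 2, 3,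 1, 4, 1, 4, 1, 2, 0, 3, 0, 3, 2, 0, 4, 0, 2, 4, 1, 3, 0, 3, 2, 4, 2, 4, 1, 3, 0, 4, 0, 3, 4, 0, 3, 1, 0, 3, 1, 4, 0, 1, 3, 2, 4, 0, 4, 2, 1, 3, 4, 0, 3], [4, 3, 0, 2, 0, 4, 1, 3, 0, 4, 3, 1, 3, 4, 0, 4, 3, 2, 0, 4, 3, 1, 4, 3, 0, 3, 2, 4, 3, 0, 2, 1, 3, 1, 4, 0, 3, 1, 4, 2, 1, 4, 3, 0, 3, 0, 4, 0, 3, 1, 4, 3, 0, 4, 3, 1, 4, 3, 1, 0, 4, 3, 2, 4, 3, 1, 4, 1, 4, 2, 4, 1, 4, 0, 2, 4, 1, 2, 3, 4, 2, 4, 2, 0, 3, 0, 4, 1, 4, 0, 4, 1, 4, 3, 1, 4, 2, 0, 4, 2, 1, 2, 4, 2, 1, 4, 3, 4, 1, 2, 4, 0, 3, 1, 4, 1, 4, 1, 2, 4, 1, 4, 0, 4, 0, 2, 0, 4, 1, 4, 3, 2, 0, 3, 0, 1, 3, 4, 2, 0, 4, 0, 4, 1, 3, 0, 1, 4, 0, 4, 0, 1, 2, 1], [4,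 0, 3, 0, 3, 4, 0, 2, 3, 4, 0, 2, 0, 3, 4, 0, 4, 0, 3, 0, 4, 1, 4, 0, 4, 0, 2, 4, 0, 3, 0, 4, 1, 0, 1, 3, 0, 3, 4, 1, 0, 4, 0, 3, 1, 0, 3, 4, 2, 4, 2, 0, 3, 4, 0, 1, 3, 0, 4, 1, 3, 0, 2, 4, 1, 3, 4, 0, 4, 0, 2, 4, 1, 3, 4, 0, 3, 4, 1, 4, 2, 3, 0, 2, 1, 4, 3, 0, 4, 0, 4, 1, 0, 4, 2, 1, 4, 1, 2, 0, 3, 0, 3, 2, 0, 4, 0, 2, 4, 1, 3, 0, 3, 2, 4, 2, 4, 1, 3, 0, 4, 0, 3, 4, 0, 3, 1, 0, 3, 1, 4, 0, 1, 3, 2, 4, 0, 4, 2, 1, 3, 4, 0, 3], [0, 2, 4, 0, 2, 4, 3, 2, 0, 4, 3, 1, 4, 3, 0, 4, 2, 4, 2, 1, 0, 1, 4, 3, 0, 2, 3, 0, 4, 0, 2, 4, 0, 4, 3, 2, 0, 4, 3, 1, 4, 1, 4, 0, 1, 3, 1, 3, 4, 1, 2, 4, 1, 3, 0, 2, 4, 2, 0, 4, 1, 0, 3,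 4, 0, 1, 2, 3, 4, 0, 1, 3, 0, 3, 0, 3, 4, 1, 4, 0, 4, 0, 4, 2, 3, 1, 4, 3, 2, 0, 3, 4, 0, 4, 1, 4, 1, 0, 2], [4, 0, 2, 4, 0, 4, 0, 2, 3, 1, 0, 2, 4, 0, 1, 4, 1, 4, 0, 4, 0, 4, 0, 2, 4, 1, 4, 2, 4, 1, 2, 3, 1, 4, 1, 0, 3, 1, 4, 2, 0, 4, 3, 0, 1, 4, 1, 3, 0, 3, 4, 0, 4, 2, 4, 2, 3, 0, 4, 3, 2, 0, 4, 3, 1, 4, 0, 3, 4, 0, 2, 3, 1, 0, 3, 0, 2, 3, 4, 0, 4, 1, 2, 4, 2, 4, 1, 0, 3, 4, 1, 3, 1, 0, 4, 2, 0, 1, 4, 1, 2, 0, 3, 0, 3, 2, 0, 4, 0, 2, 4, 1, 3, 0, 3, 2, 4, 2, 4, 1, 3, 0, 4, 0, 3, 4, 0, 3, 1, 0, 3, 1, 4, 0, 1, 3, 2, 4, 0, 4, 2, 1, 3, 4, 0, 3], [0, 1, 4, 1, 2, 4, 0, 4, 3, 1, 0, 4, 2, 3, 0, 3, 4, 2, 0, 3, 1, 0, 2,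 4, 0, 2, 0, 4, 2, 4, 0, 1, 3, 0, 4, 0, 4, 1, 3, 1, 0, 1, 4, 1, 4, 2, 3, 0, 4, 3, 4, 1, 2, 4, 0, 3, 1, 4, 1, 4, 1, 2, 4, 1, 4, 0, 3, 2, 4, 2, 0, 4, 2, 4, 1, 4, 0, 4, 1, 0, 3, 1, 4, 2, 0, 4, 3, 2, 0, 3, 4, 0, 4, 1, 4, 1, 0], [4, 2, 0, 4, 1, 4, 0, 3, 0, 3, 1, 4, 3, 0, 4, 1, 4, 0, 1, 3, 1, 4, 1, 4, 2, 4, 3, 0, 2, 4, 1, 3, 4, 1, 4, 3, 0, 2, 3, 1, 2, 4, 1, 4, 0, 2, 3, 4, 2, 0, 4, 3, 0, 3, 2, 1, 3, 4, 1, 4, 0, 3, 0, 1, 3, 4, 3, 1, 0, 4, 0, 4, 2, 0, 3, 4, 2, 4, 1, 4, 0, 4, 3, 1, 2, 3, 0, 3, 0, 2, 0, 2, 4, 1, 0, 3, 4, 1, 4, 3, 2, 0, 2, 4, 2, 0, 1, 4, 1, 2, 0, 3, 0, 3, 2, 0, 4, 0, 2, 4, 1, 3, 0, 3, 2, 4, 2, 4, 1, 3, 0, 4,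 0, 3, 4, 0, 3, 1, 0, 3, 1, 4, 0, 1, 3, 2, 4, 0, 4, 2, 1, 3, 4, 0, 3], [4, 0, 3, 2, 0, 4, 2, 4, 0, 4, 0, 2, 4, 1, 3, 4, 1, 4, 2, 0, 1, 4, 2, 3, 1, 4, 0, 2, 4, 3, 2, 4, 1, 2, 4, 3, 0, 4, 3, 1, 0, 1, 0, 4, 3, 0, 1, 4, 0, 2, 4, 0, 4, 0, 2, 0, 3, 4, 0, 2, 0, 4, 0, 4, 3, 0, 3, 0, 2, 0, 1, 4, 1, 2, 0, 3, 0, 3, 2, 0, 4, 0, 2, 4, 1, 3, 0, 3, 2, 4, 2, 4, 1, 3, 0, 4, 0, 3, 4, 0, 3, 1, 0, 3, 1, 4, 0, 1, 3, 2, 4, 0, 4, 2, 1, 3, 4, 0, 3], [1, 3, 0, 1, 4, 1, 3, 0, 4, 3, 2, 4, 3, 0, 4, 0, 2, 4, 2, 1, 4, 3, 1, 3, 0, 4, 0, 3, 0, 4, 2, 4, 2, 4, 1, 0, 4, 3, 0, 1, 4, 2, 4, 0, 1, 0, 3, 1, 2, 0, 4, 0, 2, 0, 3, 0, 2, 4, 1, 4, 0, 4, 1,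 2, 3, 0, 1, 0, 3, 0, 3, 4, 0, 4, 1, 4, 2, 1, 4, 0, 4, 3, 0, 1, 3, 0, 4, 1, 3, 4, 2, 4, 1, 0, 3, 0, 3, 0, 4, 0, 2, 3, 1, 4, 1, 4, 1, 2, 0, 3, 0, 3, 2, 0, 4, 0, 2, 4, 1, 3, 0, 3, 2, 4, 2, 4, 1, 3, 0, 4, 0, 3, 4, 0, 3, 1, 0, 3, 1, 4, 0, 1, 3, 2, 4, 0, 4, 2, 1, 3, 4, 0, 3], [0, 2, 4, 0, 2, 1, 4, 3, 0, 3, 0, 1, 4, 0, 3, 1, 2, 4, 2, 0, 1, 0, 4, 1, 2, 4, 0, 3, 2, 4, 0, 3, 0, 3, 0, 2, 4, 0, 3, 4, 0, 1, 2, 4, 2, 0, 4, 3, 1, 3, 4, 3, 0, 4, 2, 4, 2, 0, 1, 3, 0, 4, 2, 4, 0, 4, 1, 3, 0, 3, 1, 3, 0, 2, 3, 4, 2, 1, 3, 4, 1, 4, 3, 4, 1, 2, 4, 0, 3, 1, 4, 1, 4, 1, 2, 4, 1, 4, 0, 4, 0, 2, 0, 4, 1, 4, 3, 2, 0, 3, 0, 1, 3, 4, 2, 0,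 4, 0, 4, 1, 3, 0, 1, 4, 0, 4, 0, 1, 2, 1], [2, 4, 2, 0, 3, 1, 0, 4, 2, 4, 0, 1, 3, 0, 1, 3, 1, 4, 1, 0, 1, 3, 0, 4, 1, 2, 3, 0, 4, 2, 0, 3, 0, 4, 1, 4, 1, 2, 3, 1, 0, 4, 0, 3, 1, 4, 0, 4, 0, 3, 2, 4, 1, 4, 0, 2, 0, 4, 0, 3, 0, 2, 3, 4, 1, 0, 4, 0, 3, 0, 2, 3, 4, 1, 0, 2, 4, 2, 0, 1, 3, 1, 4, 2, 1, 0, 4, 2, 0, 4], [3, 0, 4, 3, 0, 3, 1, 4, 0, 3, 0, 4, 2, 1, 3, 0, 4, 1, 4, 1, 0, 4, 1, 3, 4, 1, 0, 2, 3, 4, 1, 3, 1, 0, 4, 0, 1, 2, 0, 4, 3, 0, 2, 3, 0, 4, 2, 4, 1, 3, 0, 3, 0, 4, 1, 4, 0, 4, 1, 3, 0, 1, 4, 3, 2, 1, 3, 0, 4, 3, 0, 4, 1, 0, 4, 2, 1, 4, 1, 3, 0, 2, 3, 0, 4, 3, 2, 1, 4, 2, 0, 4, 0, 4, 0, 3, 0, 4, 0], [0, 3,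 4, 2, 1, 4, 1, 4, 0, 4, 3, 1, 0, 4, 0, 4, 1, 2, 4, 0, 1, 2, 3, 4, 1, 2, 0, 4, 0, 4, 1, 0, 3, 1, 4, 0, 4, 0, 2, 0, 4, 2, 0, 4, 3, 1, 2, 4, 1, 4, 0, 4, 0, 2, 3, 1, 0, 3, 0, 4, 0, 4, 2, 3, 4, 0, 2, 3, 4, 1, 2, 3, 0, 2, 4, 3, 0, 1, 2, 0, 4, 1, 0, 4, 2, 4, 0, 4, 2, 0, 2, 3, 1, 0, 2, 1, 4, 1], [2, 1, 4, 1, 0, 4, 3, 4, 2, 4, 3, 0, 1, 4, 2, 0, 1, 4, 2, 4, 2, 0, 4, 0, 3, 4, 1, 3, 2, 4, 0, 4, 0, 3, 1, 4, 0, 2, 0, 3, 4, 0, 4, 2, 3, 4, 0, 1, 3, 1, 4, 1, 3, 1, 4, 0, 4, 1, 3, 0, 1, 4, 3, 2, 1, 3, 0, 4, 3, 0, 4, 1, 0, 4, 2, 1, 4, 1, 3, 0, 2, 3, 0, 4, 3, 2, 1, 4, 2, 0, 4, 0, 4, 0, 3, 0, 4, 0], [4, 0, 2, 4, 0, 4, 2, 3, 1, 2, 4,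 2, 3, 0, 4, 2, 0, 4, 2, 3, 0, 1, 4, 3, 4, 0, 4, 3, 0, 1, 4, 1, 4, 3, 0, 4, 2, 0, 3, 4, 0, 4, 1, 2, 4, 2, 1, 4, 3, 0, 4, 1, 4, 1, 4, 3, 0, 2, 4, 0, 4, 3, 1, 0, 4, 1, 0, 3, 0, 3, 4, 1, 4, 1, 4, 0, 4, 0, 4, 0, 3, 0, 4, 3, 1, 2, 4, 1, 2, 4, 3, 0, 4, 3, 0, 3, 0, 1, 2, 0, 4, 0, 4, 1, 4, 0, 3, 1, 4, 2, 0, 4, 1, 4, 1, 2, 0, 3, 0, 3, 2, 0, 4, 0, 2, 4, 1, 3, 0, 3, 2, 4, 2, 4, 1, 3, 0, 4, 0, 3, 4, 0, 3, 1, 0, 3, 1, 4, 0, 1, 3, 2, 4, 0, 4, 2, 1, 3, 4, 0, 3], [0, 1, 3, 4, 2, 0, 3, 0, 4, 2, 4, 0, 1, 4, 0, 2, 0, 4, 1, 4, 3, 1, 3, 0, 4, 3, 2, 0, 4, 1, 4, 0, 2, 3, 4, 2, 0, 4, 1, 2, 3, 0, 3, 1, 0, 4, 1, 3, 4, 0, 4, 0, 4, 0, 2, 3,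 4, 0, 3, 0, 2, 4, 2, 0, 4, 0, 3, 2, 4, 2, 0, 4, 3, 1, 0, 3, 0, 4, 1, 3, 2, 4, 0, 4, 1, 0, 2, 4, 2, 0, 3, 1], [4, 0, 3, 0, 4, 3, 1, 0, 3, 4, 0, 4, 1, 3, 4, 0, 3, 1, 0, 3, 4, 0, 4, 1, 2, 0, 3, 0, 3, 0, 4, 3, 2, 4, 0, 3, 1, 2, 0, 4, 2, 0, 3, 2, 0, 3, 0, 3, 1, 4, 1, 3, 0, 4, 0, 2, 0, 4, 1, 3, 0, 4, 1, 3, 0, 4, 0, 3, 1, 4, 1, 4, 3, 0, 3, 1, 2, 4, 0, 3, 1, 3, 4, 2, 3, 4, 1, 2, 0, 3, 0, 3, 2, 0, 4, 0, 2, 4, 1, 3, 0, 3, 2, 4, 2, 4, 1, 3, 0, 4, 0, 3, 4, 0, 3, 1, 0, 3, 1, 4, 0, 1, 3, 2, 4, 0, 4, 2, 1, 3, 4, 0, 3], [2, 4, 0, 3, 4, 0, 3, 1, 4, 0, 3, 2, 4, 2, 0, 4, 3, 2, 3, 0, 1, 4, 2, 4, 0, 4, 1, 3, 4, 2, 0, 4, 0, 1, 3, 2,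 0, 3, 4, 1, 4, 2, 0, 3, 0, 4, 0, 2, 1, 4, 0, 4, 1, 4, 2, 0, 4, 1, 4, 1, 2, 4, 0, 2, 4, 0, 3, 0, 4, 2, 0, 3, 1, 0, 4, 1, 4, 0, 3, 4, 1, 3, 0, 3, 1, 4, 2, 1, 4, 2, 3, 4, 0, 4, 1, 4, 2, 4, 1, 2, 0, 3, 0, 3, 2, 0, 4, 0, 2, 4, 1, 3, 0, 3, 2, 4, 2, 4, 1, 3, 0, 4, 0, 3, 4, 0, 3, 1, 0, 3, 1, 4, 0, 1, 3, 2, 4, 0, 4, 2, 1, 3, 4, 0, 3], [4, 2, 0, 3, 0, 3, 4, 1, 3, 2, 0, 4, 2, 0, 3, 4, 0, 3, 4, 0, 4, 1, 2, 4, 3, 4, 0, 2, 4, 1, 4, 2, 4, 1, 4, 0, 3, 4, 0, 4, 3, 2, 0, 4, 1, 3, 0, 4, 2, 0, 1, 3, 4, 1, 0, 3, 4, 1, 3, 0, 4, 0, 4, 2, 3, 4, 0, 3, 1, 3, 4, 2, 3, 2, 1, 3, 0, 3, 0, 3, 1, 3, 1, 2, 4, 1, 0, 4, 2, 4, 1, 4, 3, 1, 3, 4, 1,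 2, 4, 0, 3, 1, 4, 1, 4, 1, 2, 4, 1, 4, 0, 4, 0, 2, 0, 4, 1, 4, 3, 2, 0, 3, 0, 1, 3, 4, 2, 0, 4, 0, 4, 1, 3, 0, 1, 4, 0, 4, 0, 1, 2, 1], [4, 2, 0, 3, 2, 4, 1, 0, 4, 3, 2, 0, 2, 0, 3, 2, 0, 4, 1, 3, 0, 2, 4, 0, 3, 2, 1, 3, 0, 4, 3, 1, 2, 4, 3, 0, 4, 3, 1, 2, 3, 2, 4, 0, 3, 1, 0, 3, 0, 4, 0, 4, 2, 3, 4, 0, 2, 3, 4, 1, 2, 3, 4, 2, 3, 1, 4, 1, 3, 4, 0, 3, 0, 3, 0, 4, 2, 0, 4, 1, 2, 3, 4, 1, 0, 4, 1, 2, 4, 2, 4, 1, 2, 0, 3, 0, 3, 2, 0, 4, 0, 2, 4, 1, 3, 0, 3, 2, 4, 2, 4, 1, 3, 0, 4, 0, 3, 4, 0, 3, 1, 0, 3, 1, 4, 0, 1, 3, 2, 4, 0, 4, 2, 1, 3, 4, 0, 3], [4, 1, 2, 4, 0, 3, 4, 1, 4, 0, 4, 1, 3, 0, 4, 3, 0, 4, 0, 3, 1, 4,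 2, 4, 2, 4, 1, 2, 3, 0, 4, 3, 2, 1, 4, 3, 0, 3, 1, 4, 1, 2, 1, 3, 4, 1, 3, 4, 3, 0, 4, 2, 4, 2, 0, 1, 3, 0, 4, 2, 4, 0, 4, 1, 3, 0, 3, 1, 3, 0, 2, 3, 4, 2, 1, 3, 4, 1, 4, 3, 4, 1, 2, 4, 0, 3, 1, 4, 1, 4, 1, 2, 4, 1, 4, 0, 4, 0, 2, 0, 4, 1, 4, 3, 2, 0, 3, 0, 1, 3, 4, 2, 0, 4, 0, 4, 1, 3, 0, 1, 4, 0, 4, 0, 1, 2, 1], [2, 4, 3, 0, 3, 0, 1, 4, 1, 4, 0, 4, 2, 4, 0, 3, 1, 4, 1, 4, 0, 4, 2, 4, 1, 3, 0, 1, 3, 0, 2, 4, 0, 4, 0, 1, 4, 0, 3, 0, 3, 0, 1, 3, 1, 4, 3, 2, 4, 1, 4, 2, 0, 4, 0, 1, 3, 4, 0, 3, 4, 1, 2, 4, 1, 3, 0, 2, 4, 2, 0, 4, 1, 0, 3, 4, 0, 1, 2, 3, 4, 0, 1, 3, 0, 3, 0, 3, 4, 1, 4, 0, 4, 0, 4, 2, 3, 1, 4, 3, 2,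 0, 3, 4, 0, 4, 1, 4, 1, 0, 2], [0, 3, 4, 0, 3, 4, 0, 2, 4, 2, 0, 3, 0, 4, 1, 2, 4, 3, 2, 4, 1, 3, 0, 4, 3, 0, 1, 4, 3, 0, 3, 4, 0, 3, 0, 3, 0, 2, 4, 1, 2, 4, 1, 3, 0, 1, 0, 2, 3, 4, 0, 3, 0, 2, 4, 2, 0, 4, 0, 3, 2, 4, 2, 4, 3, 0, 1, 4, 2, 1, 3, 0, 1, 4, 0, 3, 4, 3, 0, 3, 0, 2, 3, 4, 1, 3, 1, 0, 3, 0, 4, 1, 4, 2], [4, 2, 4, 0, 2, 4, 0, 4, 0, 2, 0, 2, 4, 2, 3, 0, 3, 4, 2, 1, 4, 2, 0, 1, 4, 1, 4, 0, 4, 2, 3, 0, 3, 0, 4, 3, 1, 2, 4, 0, 4, 1, 0, 3, 4, 2, 1, 2, 0, 4, 1, 3, 4, 2, 1, 4, 0, 3, 4, 1, 4, 1, 4, 0, 4, 0, 3, 0, 1, 3, 2, 4, 1, 3, 0, 4, 3, 0, 1, 0, 4, 0, 3, 0, 2, 4, 1, 2, 4, 1, 3, 0, 3, 0, 2, 1, 2, 4, 1, 2, 4,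 1, 4, 2, 0, 3, 4, 1, 2, 4, 0, 3, 1, 4, 1, 4, 1, 2, 4, 1, 4, 0, 4, 0, 2, 0, 4, 1, 4, 3, 2, 0, 3, 0, 1, 3, 4, 2, 0, 4, 0, 4, 1, 3, 0, 1, 4, 0, 4, 0, 1, 2, 1], [3, 4, 1, 0, 3, 1, 0, 3, 0, 4, 3, 2, 4, 0, 4, 3, 0, 4, 2, 4, 1, 4, 3, 1, 4, 2, 1, 4, 1, 3, 0, 2, 4, 2, 0, 3, 0, 4, 2, 1, 4, 0, 2, 1, 2, 0, 3, 0, 1, 3, 1, 2, 3, 0, 3, 4, 0, 3, 2, 1, 3, 4, 2, 0, 3, 4, 0, 3, 4, 0, 4, 0, 2, 3, 0, 4, 1, 4, 3, 1, 2, 0, 2, 4, 3, 0, 2, 3, 0, 4, 2, 0, 2, 3, 2, 0, 3, 4, 1, 2, 4, 0, 3, 1, 4, 1, 4, 1, 2, 4, 1, 4, 0, 4, 0, 2, 0, 4, 1, 4, 3, 2, 0, 3, 0, 1, 3, 4, 2, 0, 4, 0, 4, 1, 3, 0, 1, 4, 0, 4, 0, 1, 2, 1], [1, 2, 4, 3, 0, 3, 0, 3, 0,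 1, 4, 1, 4, 0, 1, 4, 0, 3, 2, 0, 3, 1, 3, 0, 4, 0, 4, 3, 0, 3, 4, 1, 0, 4, 0, 3, 1, 4, 1, 0, 3, 1, 4, 0, 3, 1, 2, 0, 3, 1, 3, 4, 3, 0, 4, 2, 4, 2, 0, 1, 3, 0, 4, 2, 4, 0, 4, 1, 3, 0, 3, 1, 3, 0, 2, 3, 4, 2, 1, 3, 4, 1, 4, 1, 4, 1, 2, 0, 3, 0, 3, 2, 0, 4, 0, 2, 4, 1, 3, 0, 3, 2, 4, 2, 4, 1, 3, 0, 4, 0, 3, 4, 0, 3, 1, 0, 3, 1, 4, 0, 1, 3, 2, 4, 0, 4, 2, 1, 3, 4, 0, 3], [0, 4, 2, 0, 4, 3, 0, 1, 4, 1, 4, 0, 2, 4, 2, 0, 4, 0, 2, 1, 3, 0, 3, 1, 0, 3, 1, 0, 2, 4, 1, 4, 0, 3, 4, 1, 3, 0, 3, 4, 3, 2, 0, 3, 1, 4, 3, 2, 0, 1, 4, 1, 4, 3, 1, 2, 4, 1, 0, 3, 4, 1, 3, 0, 4, 0, 4, 2, 3, 4, 0, 3, 1, 3, 4, 2, 3, 2, 1, 3, 0, 3, 0,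 3, 1, 3, 1, 2, 4, 1, 0, 4, 2, 4, 1, 4, 3, 1], [1, 2, 1, 4, 3, 0, 3, 0, 2, 4, 3, 0, 4, 3, 1, 0, 3, 0, 2, 4, 3, 0, 3, 2, 0, 4, 3, 0, 4, 3, 0, 3, 4, 0, 2, 3, 0, 4, 3, 1, 3, 2, 4, 0, 4, 1, 3, 0, 1, 4, 2, 3, 2, 1, 2, 4, 0, 3, 2, 1, 4, 0, 1, 3, 1, 4, 1, 0, 4, 0, 4, 2, 1, 4, 2, 3, 1, 4, 2, 3, 2, 0, 3, 2, 4, 0, 2, 4, 1, 4, 1, 2, 0, 3, 0, 3, 2, 0, 4, 0, 2, 4, 1, 3, 0, 3, 2, 4, 2, 4, 1, 3, 0, 4, 0, 3, 4, 0, 3, 1, 0, 3, 1, 4, 0, 1, 3, 2, 4, 0, 4, 2, 1, 3, 4, 0, 3], [1, 3, 0, 3, 0, 4, 1, 3, 0, 2, 4, 2, 4, 3, 0, 1, 0, 4, 0, 4, 3, 2, 4, 0, 4, 1, 4, 3, 2, 4, 2, 1, 0, 3, 4, 0, 4, 1, 3, 4, 0, 4, 1, 4, 1, 2, 3, 0, 4, 0, 4, 2, 1,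 3, 4, 1, 2, 4, 1, 3, 0, 2, 4, 2, 0, 4, 1, 0, 3, 4, 0, 1, 2, 3, 4, 0, 1, 3, 0, 3, 0, 3, 4, 1, 4, 0, 4, 0, 4, 2, 3, 1, 4, 3, 2, 0, 3, 4, 0, 4, 1, 4, 1, 0, 2, 1, 4, 1, 2, 0, 3, 0, 3, 2, 0, 4, 0, 2, 4, 1, 3, 0, 3, 2, 4, 2, 4, 1, 3, 0, 4, 0, 3, 4, 0, 3, 1, 0, 3, 1, 4, 0, 1, 3, 2, 4, 0, 4, 2, 1, 3, 4, 0, 3], [2, 1, 4, 1, 3, 0, 2, 0, 2, 4, 3, 0, 4, 0, 3, 4, 1, 4, 1, 3, 4, 0, 2, 4, 2, 1, 3, 2, 0, 4, 3, 2, 0, 3, 4, 2, 3, 0, 3, 2, 4, 0, 2, 3, 0, 4, 2, 0, 4, 0, 3, 4, 1, 3, 0, 3, 0, 3, 2, 1, 3, 4, 1, 4, 0, 3, 0, 1, 3, 4, 3, 1, 0, 4, 0, 4, 2, 0, 3, 4, 2, 4, 1, 4, 0, 4, 3, 1, 2, 3, 0, 3, 0, 2, 0, 2, 4, 1, 0, 3, 4, 1, 4, 3, 2,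 0, 2, 4, 2, 0, 3, 4, 1, 2, 4, 0, 3, 1, 4, 1, 4, 1, 2, 4, 1, 4, 0, 4, 0, 2, 0, 4, 1, 4, 3, 2, 0, 3, 0, 1, 3, 4, 2, 0, 4, 0, 4, 1, 3, 0, 1, 4, 0, 4, 0, 1, 2, 1], [2, 1, 3, 2, 0, 4, 2, 0, 4, 0, 2, 0, 3, 4, 0, 1, 4, 3, 0, 3, 0, 4, 0, 2, 3, 2, 0, 1, 4, 2, 0, 4, 0, 2, 4, 0, 3, 1, 0, 4, 0, 1, 3, 0, 4, 1, 3, 0, 1, 4, 1, 0, 3, 4, 0, 3, 1, 0, 3, 4, 2, 4, 2, 0, 3, 4, 0, 1, 3, 0, 4, 1, 3, 0, 2, 4, 1, 3, 4, 0, 4, 0, 2, 4, 1, 3, 4, 0, 3, 4, 1, 4, 2, 3, 0, 2, 1, 4, 3, 0, 4, 0, 4, 1, 0, 4, 2, 3, 4, 1, 2, 4, 0, 3, 1, 4, 1, 4, 1, 2, 4, 1, 4, 0, 4, 0, 2, 0, 4, 1, 4, 3, 2, 0, 3, 0, 1, 3, 4, 2, 0, 4, 0, 4, 1, 3, 0, 1, 4, 0, 4, 0, 1,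 2, 1]]

def tupC2 : List (List ℕ) := [[2, 0, 4, 1, 3, 0, 3, 0, 4, 0, 2, 4, 1, 4, 0, 2, 4, 1, 4, 3, 1, 3, 4, 1, 4, 0, 4, 3, 0, 4, 1, 3, 0, 3, 4, 0, 3, 1, 4, 0, 3, 4, 2, 0, 3, 4, 0, 3, 0, 2, 4, 2, 0, 3, 4, 0, 4, 2, 4, 2, 3, 0, 4, 3, 2, 0, 4, 3, 1, 4, 0, 3, 4, 0, 2, 3, 1, 0, 3, 0, 2, 3, 4, 0, 4, 1, 2, 4, 2, 4, 1, 0, 3, 4, 1, 3, 1, 0, 4, 2, 0, 3, 4, 1, 2, 4, 0, 3, 1, 4, 1, 4, 1, 2, 4, 1, 4, 0, 4, 0, 2, 0, 4, 1, 4, 3, 2, 0, 3, 0, 1, 3, 4, 2, 0, 4, 0, 4, 1, 3, 0, 1, 4, 0, 4, 0, 1, 2, 1], [4, 0, 1, 3, 0, 3, 4, 1, 2, 0, 4, 1, 4, 2, 4, 0, 2, 1, 4, 1, 4, 2, 1, 4, 1, 4, 3, 0, 3, 1, 4, 2, 0, 4, 0, 3, 1, 0, 3, 0, 4, 1, 4, 1,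 4, 0, 1, 3, 1, 2, 4, 1, 3, 4, 0, 3, 0, 4, 0, 4, 2, 4, 2, 3, 0, 4, 3, 2, 0, 4, 3, 1, 4, 0, 3, 4, 0, 2, 3, 1, 0, 3, 0, 2, 3, 4, 0, 4, 1, 2, 4, 2, 4, 1, 0, 3, 4, 1, 3, 1, 0, 4, 2, 0, 3, 4, 1, 2, 4, 0, 3, 1, 4, 1, 4, 1, 2, 4, 1, 4, 0, 4, 0, 2, 0, 4, 1, 4, 3, 2, 0, 3, 0, 1, 3, 4, 2, 0, 4, 0, 4, 1, 3, 0, 1, 4, 0, 4, 0, 1, 2, 1], [4, 1, 2, 4, 2, 0, 4, 3, 1, 0, 3, 0, 2, 4, 1, 4, 2, 0, 3, 0, 3, 0, 2, 1, 4, 1, 2, 3, 4, 0, 3, 0, 3, 0, 3, 1, 4, 3, 1, 2, 4, 1, 2, 0, 4, 1, 3, 0, 4, 3, 0, 1, 4, 0, 4, 1, 4, 3, 0, 3, 0, 1, 4, 0, 4, 2, 0, 2, 4, 0, 3, 0, 4, 2, 0, 4, 3, 0, 3, 1, 3, 4, 3, 0, 3, 4, 0, 4, 1, 4, 1, 2], [1, 2, 4, 0, 3,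 0, 4, 3, 1, 0, 3, 4, 0, 2, 1, 3, 0, 4, 3, 0, 2, 3, 0, 2, 4, 1, 3, 4, 0, 3, 4, 1, 4, 2, 0, 1, 4, 3, 0, 2, 4, 1, 0, 1, 4, 0, 3, 1, 4, 3, 1, 0, 3, 0, 2, 0, 3, 0, 4, 0, 4, 2, 3, 4, 0, 2, 3, 4, 1, 2, 3, 0, 2, 4, 3, 0, 1, 2, 0, 4, 1, 0, 4, 2, 4, 0, 4, 2, 0, 2, 3, 1, 0, 2, 1, 4, 1], [0, 1, 3, 1, 4, 1, 3, 0, 4, 0, 2, 1, 2, 4, 2, 4, 3, 2, 3, 1, 4, 1, 0, 3, 4, 3, 1, 0, 4, 3, 0, 2, 1, 4, 1, 0, 4, 1, 4, 1, 0, 4, 3, 2, 4, 0, 3, 2, 0, 3, 0, 4, 0, 4, 2, 3, 4, 0, 2, 3, 4, 1, 2, 3, 4, 2, 3, 1, 4, 1, 3, 4, 0, 3, 0, 3, 0, 4, 2, 0, 4, 1, 2, 3, 4, 1, 0, 4, 1, 2, 4, 2, 1, 3, 4, 1, 2, 4, 0, 3, 1, 4, 1, 4, 1, 2, 4, 1, 4, 0, 4, 0, 2, 0,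 4, 1, 4, 3, 2, 0, 3, 0, 1, 3, 4, 2, 0, 4, 0, 4, 1, 3, 0, 1, 4, 0, 4, 0, 1, 2, 1], [4, 2, 0, 4, 0, 4, 2, 0, 4, 1, 0, 4, 2, 0, 1, 3, 4, 1, 4, 2, 0, 2, 3, 1, 2, 0, 1, 3, 0, 4, 1, 4, 0, 3, 1, 4, 3, 1, 0, 3, 2, 1, 4, 1, 4, 0, 4, 2, 0, 4, 1, 3, 0, 2, 4, 3, 0, 3, 0, 4, 3, 2, 4, 2, 3, 0, 4, 1, 3, 1, 0, 3, 0, 1, 4, 3, 0, 2, 3, 1, 0, 3, 0, 4, 3, 2, 0, 4, 3, 2, 1, 4, 1, 2, 1, 4, 1, 2, 0, 3, 0, 3, 2, 0, 4, 0, 2, 4, 1, 3, 0, 3, 2, 4, 2, 4, 1, 3, 0, 4, 0, 3, 4, 0, 3, 1, 0, 3, 1, 4, 0, 1, 3, 2, 4, 0, 4, 2, 1, 3, 4, 0, 3], [4, 1, 3, 4, 2, 0, 4, 0, 4, 2, 0, 4, 0, 3, 4, 2, 1, 4, 1, 3, 4, 2, 0, 4, 1, 0, 4, 3, 1, 3, 2, 4, 0, 4, 1,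 4, 1, 3, 0, 3, 2, 0, 4, 0, 3, 0, 3, 0, 2, 4, 1, 0, 4, 0, 3, 2, 4, 1, 4, 1, 3, 0, 4, 2, 1, 0, 4, 0, 4, 0, 4, 1, 4, 0, 3, 0, 3, 0, 2, 4, 0, 4, 0, 1, 3, 0, 2, 4, 2, 1, 3, 4, 1, 4, 0, 3, 4, 0, 2, 4, 2, 1, 4, 1, 2, 0, 3, 0, 3, 2, 0, 4, 0, 2, 4, 1, 3, 0, 3, 2, 4, 2, 4, 1, 3, 0, 4, 0, 3, 4, 0, 3, 1, 0, 3, 1, 4, 0, 1, 3, 2, 4, 0, 4, 2, 1, 3, 4, 0, 3], [0, 1, 4, 1, 2, 4, 0, 1, 4, 1, 2, 4, 2, 3, 4, 0, 4, 1, 4, 3, 1, 4, 3, 1, 2, 4, 1, 4, 3, 0, 2, 4, 2, 0, 4, 0, 4, 0, 3, 1, 0, 4, 3, 2, 3, 4, 3, 0, 3, 1, 4, 2, 0, 1, 4, 0, 3, 2, 4, 1, 4, 1, 3, 0, 4, 2, 1, 0, 4, 0, 4, 0, 4, 1, 4, 0, 3, 0, 3, 0, 2, 4, 0, 4, 0, 1, 3, 0, 2, 4, 2,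 1, 3, 4, 1, 4, 0, 3, 4, 0, 2, 4, 2], [3, 0, 4, 3, 1, 0, 2, 1, 4, 3, 0, 3, 0, 3, 4, 0, 3, 2, 0, 4, 3, 2, 0, 3, 0, 2, 4, 0, 4, 0, 1, 3, 4, 1, 4, 0, 2, 4, 1, 0, 1, 4, 3, 1, 4, 0, 3, 2, 1, 4, 3, 0, 1, 4, 0, 4, 1, 3, 0, 4, 3, 0, 1, 2, 0, 1, 4, 1, 3, 1, 0, 1, 4, 0, 2, 4, 1, 0, 4, 1, 3, 4, 0, 2, 3, 2, 0, 2, 4, 1, 4, 1, 2, 0, 3, 0, 3, 2, 0, 4, 0, 2, 4, 1, 3, 0, 3, 2, 4, 2, 4, 1, 3, 0, 4, 0, 3, 4, 0, 3, 1, 0, 3, 1, 4, 0, 1, 3, 2, 4, 0, 4, 2, 1, 3, 4, 0, 3], [0, 4, 1, 2, 3, 4, 3, 0, 4, 1, 3, 4, 0, 4, 1, 3, 2, 0, 4, 0, 2, 1, 0, 3, 0, 2, 4, 1, 4, 0, 3, 4, 1, 0, 3, 1, 0, 2, 4, 1, 3, 0, 4, 1, 0, 4, 0, 4, 0, 4, 2, 4, 1, 4, 0,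 4, 1, 3, 0, 1, 4, 3, 2, 1, 3, 0, 4, 3, 0, 4, 1, 0, 4, 2, 1, 4, 1, 3, 0, 2, 3, 0, 4, 3, 2, 1, 4, 2, 0, 4, 0, 4, 0, 3, 0, 4, 0], [4, 2, 3, 4, 0, 4, 0, 3, 1, 4, 3, 0, 3, 1, 4, 0, 3, 4, 1, 0, 3, 1, 3, 4, 0, 3, 2, 1, 4, 0, 3, 0, 3, 4, 1, 3, 2, 0, 4, 2, 4, 2, 0, 4, 2, 0, 4, 1, 0, 4, 0, 4, 0, 3, 2, 4, 1, 4, 0, 2, 0, 4, 0, 3, 0, 2, 3, 4, 1, 0, 4, 0, 3, 0, 2, 3, 4, 1, 0, 2, 4, 2, 0, 1, 3, 1, 4, 2, 1, 0, 4, 2, 0, 4], [1, 4, 1, 4, 1, 2, 3, 1, 0, 4, 3, 4, 1, 4, 0, 2, 3, 4, 0, 4, 3, 2, 1, 3, 0, 4, 0, 3, 0, 4, 2, 0, 4, 1, 4, 3, 1, 2, 4, 0, 2, 4, 1, 4, 3, 1, 2, 4, 0, 3, 2, 0, 3, 4, 0, 4, 1, 2, 4, 0, 2, 4, 2, 0, 3, 0, 4, 1, 2,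 4, 2, 1, 3], [1, 2, 0, 3, 1, 4, 0, 3, 0, 1, 2, 0, 4, 1, 4, 2, 0, 2, 4, 3, 1, 4, 3, 2, 0, 4, 0, 4, 2, 0, 4, 1, 3, 0, 4, 0, 1, 2, 3, 1, 4, 3, 1, 4, 0, 3, 0, 4, 0, 4, 2, 3, 4, 0, 2, 3, 4, 1, 2, 3, 4, 2, 3, 1, 4, 1, 3, 4, 0, 3, 0, 3, 0, 4, 2, 0, 4, 1, 2, 3, 4, 1, 0, 4, 1, 2, 4, 2, 1], [4, 1, 3, 0, 3, 4, 3, 0, 2, 4, 1, 4, 3, 4, 0, 2, 4, 3, 1, 3, 0, 1, 4, 1, 0, 2, 4, 1, 3, 4, 0, 3, 4, 1, 4, 2, 3, 1, 4, 0, 2, 1, 2, 3, 0, 2, 4, 1, 2, 4, 0, 4, 0, 2, 0, 4, 1, 3, 0, 4, 3, 0, 1, 4, 0, 4, 1, 4, 3, 0, 3, 0, 1, 4, 0, 4, 2, 0, 2, 4, 0, 3, 0, 4, 2, 0, 4, 3, 0, 3, 1, 3, 4, 3, 0, 3, 4, 0, 4, 1, 4, 1, 2], [4, 1, 4, 0, 2, 0, 3, 0, 4,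 3, 0, 4, 0, 3, 2, 4, 1, 0, 4, 0, 3, 2, 4, 0, 4, 2, 4, 2, 4, 0, 4, 1, 0, 3, 0, 3, 4, 1, 4, 0, 3, 1, 4, 0, 4, 1, 0, 4, 1, 4, 2, 3, 0, 4, 0, 2, 3, 4, 0, 3, 0, 2, 4, 2, 0, 4, 0, 3, 2, 4, 2, 4, 3, 0, 1, 4, 2, 1, 3, 0, 1, 4, 0, 3, 4, 3, 0, 3, 0, 2, 3, 4, 1, 3, 1, 0, 3, 0, 4, 1, 4, 2, 3, 4, 1, 2, 4, 0, 3, 1, 4, 1, 4, 1, 2, 4, 1, 4, 0, 4, 0, 2, 0, 4, 1, 4, 3, 2, 0, 3, 0, 1, 3, 4, 2, 0, 4, 0, 4, 1, 3, 0, 1, 4, 0, 4, 0, 1, 2, 1], [1, 4, 1, 0, 4, 3, 1, 2, 3, 4, 0, 1, 4, 2, 0, 4, 2, 0, 3, 0, 4, 2, 0, 1, 4, 1, 4, 2, 0, 1, 0, 3, 0, 3, 1, 4, 1, 4, 0, 2, 0, 3, 0, 3, 0, 1, 4, 1, 3, 0, 2, 4, 3, 0, 3, 1, 4, 1, 3, 0, 4, 0, 2, 0, 4,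 1, 3, 0, 4, 1, 3, 0, 4, 0, 3, 1, 4, 1, 4, 3, 0, 3, 1, 2, 4, 0, 3, 1, 3, 4, 2, 3, 1, 3, 4, 1, 2, 4, 0, 3, 1, 4, 1, 4, 1, 2, 4, 1, 4, 0, 4, 0, 2, 0, 4, 1, 4, 3, 2, 0, 3, 0, 1, 3, 4, 2, 0, 4, 0, 4, 1, 3, 0, 1, 4, 0, 4, 0, 1, 2, 1], [2, 3, 0, 4, 2, 1, 4, 2, 0, 1, 4, 0, 2, 4, 0, 3, 1, 0, 4, 3, 0, 3, 4, 1, 4, 0, 2, 3, 2, 1, 3, 1, 4, 3, 1, 4, 2, 4, 1, 3, 0, 4, 0, 3, 0, 3, 1, 0, 1, 4, 3, 1, 4, 2, 0, 4, 1, 4, 1, 2, 4, 0, 2, 4, 0, 3, 0, 4, 2, 0, 4, 3, 1, 4, 0, 4, 0, 3, 4, 2, 0, 4, 0, 3, 2, 1, 4, 0, 4, 3, 1, 4, 1, 4, 3, 0, 1, 3], [4, 2, 0, 3, 0, 3, 4, 1, 3, 2, 4, 3, 0, 4, 2, 1, 4, 1, 4, 2, 1, 4, 0, 1, 4, 2, 3, 1, 0, 4, 0,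 4, 3, 0, 3, 4, 1, 0, 3, 0, 4, 3, 2, 4, 0, 4, 3, 0, 3, 2, 0, 3, 1, 2, 3, 0, 3, 4, 0, 3, 2, 1, 3, 4, 2, 0, 3, 4, 0, 3, 4, 0, 4, 0, 2, 3, 0, 4, 1, 4, 3, 1, 2, 0, 2, 4, 3, 0, 2, 3, 0, 4, 2, 0, 2, 3, 2, 0], [4, 1, 3, 0, 4, 1, 0, 3, 4, 0, 2, 4, 2, 0, 3, 4, 0, 1, 3, 0, 4, 1, 3, 1, 4, 1, 3, 0, 1, 4, 2, 0, 4, 0, 4, 3, 1, 2, 4, 3, 0, 4, 3, 1, 0, 2, 3, 4, 0, 3, 0, 2, 4, 2, 0, 4, 0, 3, 0, 4, 3, 2, 1, 3, 4, 0, 2, 3, 0, 2, 4, 0, 4, 2, 1, 2, 3, 2, 1, 0, 3, 1, 4, 1, 2, 4, 0, 3, 1, 4, 1, 4, 1, 2, 4, 1, 4, 0, 4, 0, 2, 0, 4, 1, 4, 3, 2, 0, 3, 0, 1, 3, 4, 2, 0, 4, 0, 4, 1, 3, 0, 1, 4, 0, 4, 0, 1, 2, 1], [2, 0, 4, 0, 3, 1, 4, 0, 3,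 1, 2, 4, 2, 3, 0, 4, 2, 0, 4, 2, 3, 0, 1, 4, 3, 4, 0, 4, 3, 2, 4, 0, 3, 0, 4, 2, 0, 4, 0, 4, 1, 4, 1, 2, 0, 3, 0, 3, 2, 4, 0, 3, 2, 1, 4, 0, 1, 3, 1, 4, 1, 0, 4, 0, 4, 2, 1, 4, 2, 3, 1, 4, 2, 3, 2, 0, 3, 2, 4, 0, 2, 4, 1, 4, 1, 2, 0, 3, 0, 3, 2, 0, 4, 0, 2, 4, 1, 3, 0, 3, 2, 4, 2, 4, 1, 3, 0, 4, 0, 3, 4, 0, 3, 1, 0, 3, 1, 4, 0, 1, 3, 2, 4, 0, 4, 2, 1, 3, 4, 0, 3], [3, 4, 0, 3, 0, 4, 3, 4, 3, 0, 3, 1, 4, 0, 3, 4, 0, 4, 1, 4, 3, 1, 4, 0, 4, 2, 4, 1, 0, 4, 2, 0, 4, 1, 4, 2, 0, 2, 3, 1, 3, 4, 0, 4, 1, 2, 3, 4, 3, 1, 3, 1, 0, 3, 0, 2, 4, 1, 4, 0, 4, 1, 2, 3, 0, 1, 0, 3, 0, 3, 4, 0, 4, 1, 4, 2, 1, 4, 0, 4, 3, 0, 1, 3,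 0, 4, 1, 3, 4, 2, 4, 1, 0, 3, 0, 3, 0, 4, 0, 2, 3, 1, 4, 3, 4, 1, 2, 4, 0, 3, 1, 4, 1, 4, 1, 2, 4, 1, 4, 0, 4, 0, 2, 0, 4, 1, 4, 3, 2, 0, 3, 0, 1, 3, 4, 2, 0, 4, 0, 4, 1, 3, 0, 1, 4, 0, 4, 0, 1, 2, 1], [1, 4, 2, 3, 0, 4, 1, 0, 4, 0, 2, 3, 0, 1, 4, 1, 3, 4, 1, 3, 2, 4, 2, 3, 0, 3, 1, 4, 2, 0, 4, 0, 2, 3, 0, 3, 0, 2, 1, 4, 1, 2, 1, 4, 1, 4, 2, 4, 1, 3, 0, 4, 3, 0, 2, 3, 0, 3, 1, 2, 3, 0, 3, 2, 1, 4, 0, 2, 3, 0, 2, 4, 2, 4, 1, 3, 1, 0, 3, 0, 4, 0, 4, 0, 2, 4, 1, 0, 3, 1, 4, 1, 2, 0, 3, 0, 3, 2, 0, 4, 0, 2, 4, 1, 3, 0, 3, 2, 4, 2, 4, 1, 3, 0, 4, 0, 3, 4, 0, 3, 1, 0, 3, 1, 4, 0, 1, 3, 2, 4, 0, 4, 2, 1, 3, 4, 0, 3], [1,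 3, 0, 4, 1, 4, 1, 0, 3, 0, 3, 4, 0, 4, 1, 4, 2, 4, 2, 4, 3, 0, 1, 4, 1, 2, 4, 2, 0, 3, 4, 2, 1, 4, 2, 0, 4, 2, 4, 3, 0, 3, 1, 2, 4, 3, 2, 4, 3, 2, 1, 0, 3, 4, 2, 0, 3, 4, 0, 1, 4, 3, 0, 4, 0, 2, 3, 0, 3, 1, 4, 3, 1, 4, 0, 3, 1, 0, 1, 4, 0, 3, 0, 1, 4, 1, 0, 3, 2, 0, 1, 0, 4, 2, 3, 0, 4, 2, 3, 4], [3, 2, 4, 2, 1, 4, 1, 0, 4, 0, 4, 1, 0, 3, 4, 0, 3, 4, 1, 2, 0, 4, 0, 2, 3, 0, 2, 4, 2, 4, 0, 2, 3, 4, 0, 3, 2, 0, 4, 0, 2, 1, 4, 1, 4, 0, 3, 2, 1, 3, 4, 1, 4, 0, 3, 0, 1, 3, 4, 3, 1, 0, 4, 0, 4, 2, 0, 3, 4, 2, 4, 1, 4, 0, 4, 3, 1, 2, 3, 0, 3, 0, 2, 0, 2, 4, 1, 0, 3, 4, 1, 4, 3, 2, 0, 2, 4, 2, 0, 3, 4, 1, 2, 4, 0, 3, 1,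 4, 1, 4, 1, 2, 4, 1, 4, 0, 4, 0, 2, 0, 4, 1, 4, 3, 2, 0, 3, 0, 1, 3, 4, 2, 0, 4, 0, 4, 1, 3, 0, 1, 4, 0, 4, 0, 1, 2, 1], [1, 3, 4, 1, 3, 0, 4, 0, 3, 0, 4, 2, 1, 4, 2, 3, 0, 3, 4, 1, 4, 2, 0, 3, 1, 4, 1, 0, 1, 2, 4, 2, 3, 0, 1, 3, 4, 1, 4, 0, 2, 4, 1, 4, 0, 2, 4, 0, 1, 3, 0, 1, 2, 4, 0, 3, 2, 1, 4, 0, 1, 3, 1, 4, 1, 0, 4, 0, 4, 2, 1, 4, 2, 3, 1, 4, 2, 3, 2, 0, 3, 2, 4, 0, 2, 4, 1, 4, 1, 2, 0, 3, 0, 3, 2, 0, 4, 0, 2, 4, 1, 3, 0, 3, 2, 4, 2, 4, 1, 3, 0, 4, 0, 3, 4, 0, 3, 1, 0, 3, 1, 4, 0, 1, 3, 2, 4, 0, 4, 2, 1, 3, 4, 0, 3], [2, 4, 0, 3, 0, 3, 4, 1, 0, 3, 0, 4, 0, 2, 1, 2, 3, 1, 4, 1, 4, 1, 0, 3, 4, 0, 2, 4, 3, 1,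 0, 4, 1, 3, 0, 3, 1, 4, 0, 1, 4, 3, 1, 4, 0, 2, 0, 4, 1, 4, 2, 4, 2, 0, 3, 0, 4, 1, 4, 0, 4, 0, 3, 0, 2, 4, 0, 2, 4, 2, 0, 4, 0, 2, 4, 2, 0, 1, 4, 3, 0, 4, 0, 3, 0, 2, 3, 0, 1, 4, 0, 2, 4, 1, 4, 2, 0, 4, 1, 4, 2, 1, 4, 2, 0, 4], [2, 3, 4, 1, 0, 4, 0, 3, 0, 2, 4, 2, 0, 3, 4, 1, 4, 3, 0, 4, 3, 1, 4, 0, 3, 1, 4, 0, 4, 1, 0, 4, 2, 4, 0, 1, 4, 1, 3, 0, 3, 1, 4, 0, 2, 4, 3, 0, 3, 0, 4, 3, 2, 4, 2, 3, 0, 4, 1, 3, 1, 0, 3, 0, 1, 4, 3, 0, 2, 3, 1, 0, 3, 0, 4, 3, 2, 0, 4, 3, 2, 1, 4, 1, 2], [1, 4, 1, 0, 4, 3, 1, 2, 3, 4, 0, 1, 4, 2, 4, 0, 2, 4, 2, 0, 3, 1, 4, 1, 4, 3, 2, 4, 2, 4, 3, 0, 4, 2, 3, 0, 1, 3, 0, 4, 3, 2, 0, 4,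 3, 1, 4, 0, 3, 1, 3, 2, 0, 4, 0, 4, 0, 4, 2, 3, 4, 0, 2, 3, 4, 1, 2, 3, 1, 0, 3, 0, 3, 4, 0, 4, 0, 4, 2, 0, 4, 1, 2, 3, 0, 3, 1, 0, 3, 1, 2, 0, 4, 0, 4, 1, 3, 0, 4, 3, 4, 1, 2, 4, 0, 3, 1, 4, 1, 4, 1, 2, 4, 1, 4, 0, 4, 0, 2, 0, 4, 1, 4, 3, 2, 0, 3, 0, 1, 3, 4, 2, 0, 4, 0, 4, 1, 3, 0, 1, 4, 0, 4, 0, 1, 2, 1], [3, 4, 2, 0, 3, 4, 1, 0, 3, 2, 0, 4, 2, 3, 0, 3, 1, 4, 1, 4, 3, 1, 2, 4, 3, 0, 3, 2, 4, 0, 2, 3, 4, 0, 4, 1, 3, 2, 4, 2, 1, 0, 3, 4, 1, 3, 4, 1, 0, 4, 3, 4, 1, 4, 1, 3, 2, 4, 2, 4, 0, 1, 4, 3, 0, 4, 0, 1, 4, 3, 0, 4, 2, 0, 4, 0, 2, 4, 1, 4, 2, 4, 0, 4, 3, 2, 0, 3, 4, 1, 2, 4, 1, 3, 0, 4, 1, 3, 0, 4, 1, 2, 4,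 0, 3, 1, 4, 1, 4, 1, 2, 4, 1, 4, 0, 4, 0, 2, 0, 4, 1, 4, 3, 2, 0, 3, 0, 1, 3, 4, 2, 0, 4, 0, 4, 1, 3, 0, 1, 4, 0, 4, 0, 1, 2, 1], [3, 0, 4, 3, 0, 3, 1, 4, 3, 1, 4, 0, 3, 2, 0, 4, 1, 0, 3, 0, 3, 4, 1, 3, 4, 0, 3, 0, 1, 4, 0, 2, 4, 0, 4, 0, 2, 3, 0, 4, 1, 4, 2, 4, 0, 4, 3, 1, 4, 0, 2, 4, 1, 2, 0, 1, 3, 4, 1, 4, 2, 0, 4, 1, 4, 1, 2, 4, 0, 2, 4, 0, 3, 0, 4, 2, 0, 3, 1, 0, 4, 1, 4, 0, 3, 4, 1, 3, 0, 3, 1, 4, 2, 1, 4, 2, 3, 4, 0, 4, 1, 4, 2, 4, 1, 2, 0, 3, 0, 3, 2, 0, 4, 0, 2, 4, 1, 3, 0, 3, 2, 4, 2, 4, 1, 3, 0, 4, 0, 3, 4, 0, 3, 1, 0, 3, 1, 4, 0, 1, 3, 2, 4, 0, 4, 2, 1, 3, 4, 0, 3], [4, 0, 1, 3, 1, 0, 2, 3, 0, 4, 0,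 4, 2, 4, 1, 3, 0, 2, 4, 0, 3, 2, 1, 3, 4, 0, 2, 3, 2, 4, 1, 4, 0, 3, 1, 2, 3, 4, 0, 4, 2, 0, 3, 1, 4, 0, 2, 3, 0, 4, 2, 1, 3, 1, 4, 2, 3, 4, 0, 4, 2, 4, 2, 3, 0, 4, 3, 2, 0, 4, 3, 1, 4, 0, 3, 4, 0, 2, 3, 1, 0, 3, 0, 2, 3, 4, 0, 4, 1, 2, 4, 2, 4, 1, 0, 3, 4, 1, 3, 1, 0, 4, 2, 0, 1, 4, 1, 2, 0, 3, 0, 3, 2, 0, 4, 0, 2, 4, 1, 3, 0, 3, 2, 4, 2, 4, 1, 3, 0, 4, 0, 3, 4, 0, 3, 1, 0, 3, 1, 4, 0, 1, 3, 2, 4, 0, 4, 2, 1, 3, 4, 0, 3], [0, 3, 0, 4, 3, 0, 3, 0, 4, 0, 4, 0, 3, 4, 2, 4, 1, 4, 0, 4, 2, 4, 0, 1, 4, 3, 1, 4, 3, 2, 4, 0, 3, 0, 3, 1, 4, 1, 4, 3, 0, 3, 2, 0, 4, 2, 3, 4, 1, 4, 3, 2, 0, 3, 0, 2, 3, 4, 1, 2, 4, 1, 3, 0,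 2, 4, 2, 0, 4, 1, 0, 3, 4, 0, 1, 2, 3, 4, 0, 1, 3, 0, 3, 0, 3, 4, 1, 4, 0, 4, 0, 4, 2, 3, 1, 4, 3, 2, 0, 3, 4, 0, 4, 1, 4, 1, 0, 2, 3, 4, 1, 2, 4, 0, 3, 1, 4, 1, 4, 1, 2, 4, 1, 4, 0, 4, 0, 2, 0, 4, 1, 4, 3, 2, 0, 3, 0, 1, 3, 4, 2, 0, 4, 0, 4, 1, 3, 0, 1, 4, 0, 4, 0, 1, 2, 1], [4, 0, 4, 0, 1, 4, 0, 2, 4, 2, 0, 4, 3, 1, 0, 3, 0, 2, 4, 3, 2, 1, 4, 3, 2, 0, 4, 3, 2, 4, 0, 4, 0, 3, 1, 4, 0, 2, 4, 3, 0, 4, 1, 2, 4, 0, 3, 0, 4, 0, 4, 2, 0, 4, 2, 3, 4, 0, 2, 4, 2, 0, 4, 0, 2, 4, 2, 4, 3, 0, 4, 1, 3, 4, 1, 4, 0, 4, 0], [1, 4, 0, 1, 4, 2, 0, 4, 3, 1, 4, 2, 0, 3, 4, 1, 2, 1, 4, 1, 4, 2, 4, 3, 0, 2, 4, 1, 3, 4, 2, 0, 3, 0,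 4, 0, 4, 1, 3, 2, 4, 2, 0, 4, 1, 4, 3, 0, 2, 4, 3, 1, 4, 1, 4, 2, 4, 1, 4, 0, 2, 4, 1, 2, 3, 4, 0, 3, 1, 2, 4, 1, 4, 0, 2, 4, 0, 2, 4, 1, 4, 1, 3, 2, 0, 4, 1, 3, 2, 3, 2, 3, 0, 4, 2, 4, 1, 3, 4, 1, 4, 1, 2, 4, 0, 3, 1, 4, 1, 4, 1, 2, 4, 1, 4, 0, 4, 0, 2, 0, 4, 1, 4, 3, 2, 0, 3, 0, 1, 3, 4, 2, 0, 4, 0, 4, 1, 3, 0, 1, 4, 0, 4, 0, 1, 2, 1], [1, 3, 4, 0, 1, 4, 1, 3, 4, 1, 3, 4, 0, 3, 0, 1, 4, 1, 3, 4, 2, 1, 4, 3, 1, 4, 0, 1, 0, 3, 0, 4, 3, 0, 3, 4, 1, 4, 2, 1, 4, 1, 4, 1, 0, 3, 1, 4, 0, 4, 1, 0, 4, 2, 0, 4, 0, 4, 0, 3, 2, 4, 1, 4, 0, 2, 0, 4, 0, 3, 0, 2, 3, 4, 1, 0, 4, 0, 3, 0, 2, 3, 4, 1, 0, 2, 4, 2, 0, 1, 3, 1, 4,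 2, 1, 0, 4, 2, 0, 4, 1, 4, 1, 2, 0, 3, 0, 3, 2, 0, 4, 0, 2, 4, 1, 3, 0, 3, 2, 4, 2, 4, 1, 3, 0, 4, 0, 3, 4, 0, 3, 1, 0, 3, 1, 4, 0, 1, 3, 2, 4, 0, 4, 2, 1, 3, 4, 0, 3], [0, 4, 0, 3, 4, 0, 2, 4, 0, 4, 1, 0, 2, 4, 2, 0, 3, 4, 3, 1, 4, 2, 1, 4, 0, 4, 1, 4, 2, 4, 0, 3, 0, 4, 3, 2, 1, 4, 3, 0, 4, 3, 0, 1, 0, 4, 3, 2, 0, 4, 0, 2, 3, 4, 0, 3, 0, 2, 4, 2, 0, 4, 0, 3, 0, 4, 3, 2, 1, 3, 4, 0, 2, 3, 0, 2, 4, 0, 4, 2, 1, 2, 3, 2, 1, 0, 3, 1, 3], [4, 2, 0, 4, 0, 3, 0, 2, 4, 1, 4, 2, 4, 2, 0, 2, 4, 3, 0, 4, 2, 0, 2, 4, 2, 0, 2, 4, 0, 4, 3, 0, 3, 4, 1, 4, 0, 3, 0, 4, 0, 2, 3, 0, 3, 4, 1, 2, 0, 3, 0, 4, 1, 4, 0, 3, 0, 2, 4, 0,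 4, 1, 4, 3, 1, 0, 3, 4, 0, 2, 3, 1, 0, 4, 1, 3, 2, 0, 4, 0, 4, 1, 4, 3, 0, 4, 3, 0, 4, 1, 0, 4, 1, 3, 0, 2, 1, 2, 0, 3, 0, 3, 2, 0, 4, 0, 2, 4, 1, 3, 0, 3, 2, 4, 2, 4, 1, 3, 0, 4, 0, 3, 4, 0, 3, 1, 0, 3, 1, 4, 0, 1, 3, 2, 4, 0, 4, 2, 1, 3, 4, 0, 3], [3, 4, 2, 0, 4, 1, 4, 1, 0, 4, 2, 1, 0, 4, 0, 2, 3, 4, 2, 0, 3, 0, 2, 0, 3, 1, 4, 0, 3, 0, 2, 3, 1, 4, 2, 4, 0, 3, 1, 4, 0, 3, 2, 1, 0, 4, 2, 3, 1, 4, 0, 3, 4, 1, 4, 0, 4, 1, 3, 0, 4, 0, 4, 0, 3, 1, 4, 0, 1, 0, 3, 4, 3, 0, 4, 3, 0, 4, 1, 2, 0, 2, 4, 2, 0, 3, 1, 4, 0, 4, 2, 1, 3, 4, 3, 4, 1, 2, 4, 0, 3, 1, 4, 1, 4, 1, 2, 4, 1, 4, 0, 4, 0, 2, 0, 4, 1, 4, 3, 2, 0, 3, 0,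 1, 3, 4, 2, 0, 4, 0, 4, 1, 3, 0, 1, 4, 0, 4, 0, 1, 2, 1], [3, 4, 1, 3, 4, 0, 4, 0, 3, 1, 4, 1, 2, 4, 1, 3, 0, 3, 0, 4, 1, 4, 0, 4, 2, 0, 4, 1, 4, 1, 3, 0, 4, 0, 3, 1, 0, 3, 4, 3, 0, 4, 1, 4, 0, 2, 4, 3, 0, 4, 1, 2, 4, 0, 3, 0, 4, 0, 4, 2, 0, 4, 2, 3, 4, 0, 2, 4, 2, 0, 4, 0, 2, 4, 2, 4, 3, 0, 4, 1, 3, 4, 1, 4, 0, 4, 0, 3, 4, 1, 2, 4, 0, 3, 1, 4, 1, 4, 1, 2, 4, 1, 4, 0, 4, 0, 2, 0, 4, 1, 4, 3, 2, 0, 3, 0, 1, 3, 4, 2, 0, 4, 0, 4, 1, 3, 0, 1, 4, 0, 4, 0, 1, 2, 1], [3, 0, 1, 4, 2, 4, 3, 1, 4, 1, 4, 0, 3, 4, 2, 4, 3, 1, 4, 0, 3, 1, 4, 0, 4, 0, 3, 4, 2, 4, 0, 4, 1, 0, 3, 0, 3, 4, 1, 0, 3, 2, 4, 1, 4, 1, 3, 0, 4, 2, 1,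 0, 4, 0, 4, 0, 4, 1, 4, 0, 3, 0, 3, 0, 2, 4, 0, 4, 0, 1, 3, 0, 2, 4, 2, 1, 3, 4, 1, 4, 0, 3, 4, 0, 2, 4, 2, 3, 4, 1, 2, 4, 0, 3, 1, 4, 1, 4, 1, 2, 4, 1, 4, 0, 4, 0, 2, 0, 4, 1, 4, 3, 2, 0, 3, 0, 1, 3, 4, 2, 0, 4, 0, 4, 1, 3, 0, 1, 4, 0, 4, 0, 1, 2, 1], [4, 2, 0, 3, 1, 3, 4, 0, 1, 0, 2, 4, 1, 4, 3, 0, 4, 2, 1, 3, 4, 2, 1, 4, 0, 4, 1, 3, 0, 3, 0, 1, 4, 1, 0, 4, 3, 0, 4, 0, 4, 2, 4, 0, 2, 3, 1, 0, 3, 1, 4, 3, 0, 4, 3, 4, 1, 2, 4, 0, 3, 1, 4, 1, 4, 1, 2, 4, 1, 4, 0, 3, 2, 4, 2, 0, 4, 2, 4, 1, 4, 0, 4, 1, 0, 3, 1, 4, 2, 0, 4, 3, 2, 0, 3, 4, 0, 4, 1, 4, 1, 0, 3, 4, 1, 2, 4, 0, 3, 1, 4, 1, 4, 1, 2, 4, 1, 4, 0, 4, 0, 2,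 0, 4, 1, 4, 3, 2, 0, 3, 0, 1, 3, 4, 2, 0, 4, 0, 4, 1, 3, 0, 1, 4, 0, 4, 0, 1, 2, 1], [1, 4, 0, 2, 3, 0, 4, 0, 4, 0, 2, 4, 2, 0, 3, 2, 0, 4, 0, 3, 2, 4, 0, 3, 0, 4, 2, 4, 3, 0, 3, 2, 0, 4, 2, 3, 0, 2, 4, 2, 3, 0, 4, 3, 2, 0, 4, 1, 0, 3, 0, 3, 4, 1, 4, 1, 0, 3, 0, 3, 4, 0, 4, 1, 2, 4, 1, 0, 3, 0, 3, 1, 4, 1, 4, 0, 1, 4, 2, 1, 4, 3, 0, 2, 3, 4, 3, 0, 4, 0, 2, 4, 1, 3, 1, 3, 4, 1, 4, 1, 2, 0, 3, 0, 3, 2, 0, 4, 0, 2, 4, 1, 3, 0, 3, 2, 4, 2, 4, 1, 3, 0, 4, 0, 3, 4, 0, 3, 1, 0, 3, 1, 4, 0, 1, 3, 2, 4, 0, 4, 2, 1, 3, 4, 0, 3], [2, 0, 4, 1, 4, 2, 3, 0, 4, 3, 0, 2, 4, 1, 0, 2, 3, 0, 3, 1, 4, 2, 4, 1, 3, 2, 0, 4, 3, 0, 4,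 3, 2, 1, 4, 0, 4, 0, 2, 4, 2, 1, 2, 4, 3, 0, 3, 1, 4, 1, 0, 2, 4, 3, 0, 3, 0, 4, 3, 2, 4, 2, 3, 0, 4, 1, 3, 1, 0, 3, 0, 1, 4, 3, 0, 2, 3, 1, 0, 3, 0, 4, 3, 2, 0, 4, 3, 2, 1, 4, 1, 2, 1, 4, 1, 2, 0, 3, 0, 3, 2, 0, 4, 0, 2, 4, 1, 3, 0, 3, 2, 4, 2, 4, 1, 3, 0, 4, 0, 3, 4, 0, 3, 1, 0, 3, 1, 4, 0, 1, 3, 2, 4, 0, 4, 2, 1, 3, 4, 0, 3], [1, 2, 4, 0, 2, 3, 0, 4, 3, 1, 4, 1, 2, 3, 4, 0, 4, 3, 2, 4, 0, 3, 2, 0, 3, 4, 0, 2, 0, 4, 2, 4, 3, 0, 3, 1, 3, 4, 0, 2, 0, 2, 4, 1, 4, 2, 1, 4, 2, 0, 2, 3, 0, 3, 1, 4, 1, 4, 2, 4, 2, 4, 0, 3, 0, 2, 4, 3, 0, 1, 4, 0, 4, 1, 4, 2, 0, 4, 0, 3, 0, 1, 4, 3, 2, 0, 4, 1, 2], [0, 4, 0, 1, 3, 0,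 3, 0, 3, 0, 3, 0, 4, 1, 2, 3, 0, 4, 3, 1, 3, 0, 3, 0, 4, 1, 4, 2, 0, 3, 0, 1, 3, 4, 0, 4, 2, 4, 1, 4, 3, 0, 2, 0, 4, 2, 3, 0, 3, 0, 3, 1, 4, 1, 2, 0, 4, 1, 0, 3, 0, 3, 4, 1, 4, 1, 0, 3, 0, 3, 4, 0, 4, 1, 2, 4, 1, 0, 3, 0, 3, 1, 4, 1, 4, 0, 1, 4, 2, 1, 4, 3, 0, 2, 3, 4, 3, 0, 4, 0, 2, 4, 1, 3, 1, 3, 4], [2, 3, 0, 3, 2, 0, 4, 0, 1, 4, 0, 4, 1, 4, 2, 3, 0, 4, 0, 3, 1, 4, 0, 2, 4, 3, 0, 1, 3, 1, 0, 4, 2, 3, 0, 4, 3, 1, 3, 1, 3, 2, 4, 2, 4, 0, 1, 4, 3, 0, 4, 0, 1, 4, 3, 0, 4, 2, 0, 4, 0, 2, 4, 1, 4, 2, 4, 0, 4, 3, 2, 0, 3, 4, 1, 2, 4, 1, 3, 0, 4, 1, 3, 0, 3], [3, 2, 4, 0, 2, 1, 4, 2, 1, 2, 4, 2, 0, 4, 1, 4, 0, 1, 3,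 0, 1, 3, 4, 0, 4, 1, 4, 1, 0, 4, 3, 1, 0, 3, 1, 2, 0, 3, 1, 4, 3, 1, 3, 0, 4, 0, 3, 2, 0, 4, 0, 4, 0, 3, 2, 4, 1, 4, 0, 2, 0, 4, 0, 3, 0, 2, 3, 4, 1, 0, 3, 0, 3, 0, 2, 1, 4, 0, 2, 0, 4, 1, 3, 0, 3, 2, 0, 4, 1, 2, 3, 4, 1, 4, 0, 4, 2, 1, 2, 4, 0, 3, 1, 4, 1, 4, 1, 2, 4, 1, 4, 0, 4, 0, 2, 0, 4, 1, 4, 3, 2, 0, 3, 0, 1, 3, 4, 2, 0, 4, 0, 4, 1, 3, 0, 1, 4, 0, 4, 0, 1, 2, 1], [3, 0, 2, 4, 0, 3, 0, 2, 0, 1, 4, 1, 3, 1, 2, 4, 1, 4, 0, 4, 3, 0, 2, 1, 3, 2, 4, 2, 1, 0, 3, 4, 0, 4, 1, 3, 1, 3, 2, 0, 1, 4, 0, 3, 0, 2, 4, 2, 3, 2, 4, 2, 4, 0, 1, 4, 3, 0, 4, 0, 1, 4, 3, 0, 4, 2, 0, 4, 0, 2, 4, 1, 4, 2, 4, 0, 4, 3, 2, 0, 3, 4,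 1, 2, 4, 1, 3, 0, 4, 1, 3, 0, 3, 1, 4, 1, 2, 0, 3, 0, 3, 2, 0, 4, 0, 2, 4, 1, 3, 0, 3, 2, 4, 2, 4, 1, 3, 0, 4, 0, 3, 4, 0, 3, 1, 0, 3, 1, 4, 0, 1, 3, 2, 4, 0, 4, 2, 1, 3, 4, 0, 3], [0, 1, 4, 1, 2, 1, 3, 0, 4, 1, 3, 0, 4, 0, 2, 1, 4, 1, 4, 2, 0, 1, 3, 0, 4, 0, 3, 1, 3, 4, 2, 3, 0, 2, 4, 2, 0, 3, 0, 4, 0, 3, 1, 3, 0, 4, 0, 3, 0, 1, 4, 2, 0, 3, 0, 3, 2, 1, 3, 4, 1, 4, 0, 3, 0, 1, 3, 4, 3, 1, 0, 4, 0, 4, 2, 0, 3, 4, 2, 4, 1, 4, 0, 4, 3, 1, 2, 3, 0, 3, 0, 2, 0, 2, 4, 1, 0, 3, 4, 1, 4, 3, 2, 0, 2, 4, 2, 0, 3, 4, 1, 2, 4, 0, 3, 1, 4, 1, 4, 1, 2, 4, 1, 4, 0, 4, 0, 2, 0, 4, 1, 4, 3, 2, 0, 3, 0, 1, 3, 4, 2, 0, 4, 0, 4, 1,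 3, 0, 1, 4, 0, 4, 0, 1, 2, 1], [3, 0, 3, 4, 0, 2, 4, 0, 3, 0, 3, 1, 4, 3, 0, 4, 1, 4, 2, 0, 1, 3, 1, 4, 0, 4, 2, 4, 1, 3, 0, 1, 2, 1, 4, 0, 3, 0, 4, 2, 0, 4, 1, 0, 4, 2, 4, 0, 3, 2, 1, 4, 1, 4, 2, 4, 1, 3, 0, 4, 3, 0, 2, 3, 0, 3, 1, 2, 3, 4, 3, 1, 0, 4, 0, 4, 1, 0, 2, 3, 0, 4, 2, 0, 3, 0, 4, 1, 2, 3, 0, 4, 1, 4, 0, 1, 2, 4, 3, 4, 1, 2, 4, 0, 3, 1, 4, 1, 4, 1, 2, 4, 1, 4, 0, 4, 0, 2, 0, 4, 1, 4, 3, 2, 0, 3, 0, 1, 3, 4, 2, 0, 4, 0, 4, 1, 3, 0, 1, 4, 0, 4, 0, 1, 2, 1], [4, 2, 4, 0, 1, 4, 3, 0, 3, 0, 4, 2, 1, 3, 0, 4, 1, 4, 1, 0, 2, 4, 1, 3, 0, 4, 3, 0, 1, 2, 1, 4, 0, 3, 1, 0, 3, 2, 0, 4, 2, 4, 2, 1, 4, 0, 2, 4, 2,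 1, 4, 1, 4, 2, 4, 1, 3, 0, 4, 3, 0, 2, 3, 0, 3, 1, 2, 3, 0, 3, 2, 1, 4, 0, 2, 3, 0, 2, 4, 2, 4, 1, 3, 1, 0, 3, 0, 4, 0, 4, 0, 2, 4, 1, 0, 3], [3, 4, 1, 4, 0, 2, 1, 4, 0, 3, 4, 0, 3, 0, 1, 2, 4, 3, 0, 4, 2, 3, 0, 1, 3, 2, 1, 2, 4, 2, 0, 4, 0, 4, 0, 3, 0, 4, 1, 0, 3, 0, 2, 0, 3, 0, 2, 4, 1, 4, 0, 4, 1, 2, 3, 0, 1, 0, 3, 0, 3, 4, 0, 4, 1, 4, 2, 1, 4, 0, 4, 3, 0, 1, 3, 0, 4, 1, 3, 4, 2, 4, 1, 0, 3, 0, 3, 0, 4, 0, 2, 3, 1, 4], [1, 4, 1, 2, 3, 0, 1, 4, 0, 3, 0, 2, 3, 4, 2, 1, 4, 0, 2, 4, 1, 2, 4, 3, 2, 4, 0, 3, 2, 4, 0, 2, 3, 0, 3, 1, 4, 2, 4, 1, 4, 3, 1, 0, 4, 0, 3, 0, 3, 4, 3, 1, 3, 4, 0, 3, 2, 4, 0, 1, 3, 1, 0, 3,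 4, 2, 0, 4, 1, 4, 1, 2, 4, 2, 0, 4, 0, 3, 4, 2, 3, 4, 0, 3, 4, 3, 0, 1, 3, 0, 3, 1, 2, 4, 0, 1, 2, 4, 0, 3, 0, 4, 3, 1, 4, 1, 2, 0, 3, 0, 3, 2, 0, 4, 0, 2, 4, 1, 3, 0, 3, 2, 4, 2, 4, 1, 3, 0, 4, 0, 3, 4, 0, 3, 1, 0, 3, 1, 4, 0, 1, 3, 2, 4, 0, 4, 2, 1, 3, 4, 0, 3], [0, 4, 2, 4, 0, 4, 3, 0, 2, 0, 3, 1, 0, 4, 1, 3, 0, 3, 4, 2, 1, 0, 4, 3, 2, 1, 4, 1, 2, 3, 4, 0, 3, 0, 3, 0, 3, 1, 4, 3, 1, 2, 4, 1, 0, 2, 4, 0, 3, 2, 0, 3, 4, 0, 4, 1, 2, 4, 0, 2, 4, 2, 0, 3, 0, 4, 1, 2, 4, 2, 1, 3], [4, 0, 1, 3, 0, 3, 4, 1, 0, 3, 4, 1, 4, 3, 1, 0, 4, 2, 1, 4, 0, 4, 0, 3, 0, 1, 4, 2, 1, 3, 0, 1, 4, 0, 3, 4, 2, 1, 4, 3, 0, 4, 0, 4, 0,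 1, 3, 0, 3, 1, 4, 0, 1, 3, 4, 0, 2, 3, 2, 4, 0, 3, 2, 0, 3, 4, 0, 4, 1, 2, 4, 0, 2, 4, 2, 0, 3, 0, 4, 1, 2, 4, 2, 1, 3, 1, 4, 1, 2, 0, 3, 0, 3, 2, 0, 4, 0, 2, 4, 1, 3, 0, 3, 2, 4, 2, 4, 1, 3, 0, 4, 0, 3, 4, 0, 3, 1, 0, 3, 1, 4, 0, 1, 3, 2, 4, 0, 4, 2, 1, 3, 4, 0, 3], [4, 1, 3, 0, 3, 0, 4, 3, 1, 4, 0, 3, 0, 3, 4, 0, 3, 0, 4, 1, 3, 0, 1, 3, 0, 4, 1, 3, 4, 1, 3, 0, 3, 2, 0, 4, 0, 3, 4, 1, 0, 4, 3, 0, 2, 4, 3, 1, 0, 4, 3, 0, 1, 4, 0, 2, 4, 0, 4, 0, 2, 0, 3, 4, 0, 2, 0, 4, 0, 4, 3, 0, 3, 0, 2, 0], [1, 4, 1, 0, 4, 3, 1, 2, 3, 4, 0, 1, 4, 2, 0, 2, 4, 1, 0, 3, 0, 4, 2, 1, 4, 0, 3, 2, 4, 3, 2, 1, 4, 0, 4, 3, 0, 1, 0, 4,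 1, 0, 2, 4, 3, 0, 1, 4, 2, 0, 3, 1, 3, 1, 0, 3, 1, 4, 0, 4, 2, 3, 1, 4, 2, 0, 4, 0, 3, 1, 4, 3, 0, 3, 4, 0, 4, 0, 1, 4, 2, 4, 1, 4, 2, 0, 3, 0, 1, 4, 0, 2, 0, 4, 3, 0, 1, 4, 2, 3, 0, 3, 0, 3, 4, 3, 1, 2, 4], [0, 1, 4, 3, 1, 2, 4, 0, 4, 1, 4, 2, 1, 4, 0, 4, 2, 0, 2, 3, 4, 1, 0, 4, 2, 4, 2, 1, 4, 2, 0, 3, 0, 4, 0, 1, 4, 2, 4, 0, 4, 1, 0, 3, 2, 0, 3, 0, 4, 2, 0, 3, 4, 1, 2, 4, 1, 3, 0, 4, 3, 0, 1, 2, 0, 1, 4, 1, 3, 1, 0, 1, 4, 0, 2, 4, 1, 0, 4, 1, 3, 4, 0, 2, 3, 2, 0, 2, 4], [3, 0, 4, 0, 1, 4, 0, 2, 3, 0, 4, 1, 0, 4, 0, 3, 1, 0, 3, 1, 4, 0, 1, 4, 2, 3, 2, 1, 4, 0, 4, 3, 0, 3, 0, 4, 1, 2, 3, 0, 4, 0, 2, 4, 1, 4, 2,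 1, 4, 0, 3, 1, 4, 2, 0, 4, 0, 2, 0, 3, 1, 4, 0, 4, 1, 3, 1, 3, 0, 4, 0, 2, 3, 0, 1, 4, 1, 0, 3, 4, 1, 2, 4, 0, 3, 1, 4, 1, 4, 1, 2, 4, 1, 4, 0, 4, 0, 2, 0, 4, 1, 4, 3, 2, 0, 3, 0, 1, 3, 4, 2, 0, 4, 0, 4, 1, 3, 0, 1, 4, 0, 4, 0, 1, 2, 1], [0, 4, 1, 0, 1, 3, 2, 1, 4, 0, 4, 0, 3, 0, 2, 4, 1, 2, 4, 3, 1, 4, 1, 2, 0, 4, 1, 4, 2, 0, 4, 0, 3, 4, 3, 2, 0, 4, 2, 4, 0, 3, 0, 3, 4, 0, 2, 1, 4, 0, 2, 3, 4, 2, 1, 4, 0, 3, 1, 4, 2, 0, 4, 0, 2, 0, 3, 1, 4, 0, 4, 1, 3, 1, 3, 0, 4, 0, 2, 3, 0, 1, 4, 1, 0, 1, 4, 1, 2, 0, 3, 0, 3, 2, 0, 4, 0, 2, 4, 1, 3, 0, 3, 2, 4, 2, 4, 1, 3, 0, 4, 0, 3, 4, 0, 3, 1, 0, 3, 1, 4, 0, 1, 3, 2, 4, 0,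 4, 2, 1, 3, 4, 0, 3]]

def tupC3 : List (List ℕ) := [[2, 3, 0, 3, 1, 4, 0, 1, 3, 4, 2, 1, 4, 3, 0, 4, 2, 0, 3, 1, 4, 0, 2, 3, 0, 2, 4, 0, 3, 1, 4, 2, 0, 3, 0, 3, 1, 4, 0, 3, 4, 1, 4, 1, 3, 1, 4, 0, 3, 0, 4, 0, 4, 2, 3, 4, 0, 2, 3, 4, 1, 2, 3, 4, 2, 0, 3, 2, 0, 3, 4, 2, 0, 3, 4, 1, 3, 4, 1, 4, 3, 1, 0, 4, 2, 3, 0, 4, 3, 0, 2, 3, 0, 4, 0, 3], [0, 3, 4, 2, 1, 4, 1, 4, 1, 2, 4, 0, 3, 0, 2, 4, 3, 1, 0, 3, 0, 3, 0, 2, 3, 4, 1, 3, 4, 0, 2, 1, 4, 2, 4, 3, 0, 2, 4, 0, 2, 4, 3, 0, 2, 4, 3, 1, 4, 0, 2, 4, 3, 0, 1, 3, 1, 4, 2, 1, 4, 3, 1, 4, 3, 0, 4, 2, 0, 4, 3, 4, 1, 2, 4, 0, 3, 1, 4, 1, 4, 1, 2, 4, 1, 4, 0, 4, 0, 2, 0, 4,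 1, 4, 3, 2, 0, 3, 0, 1, 3, 4, 2, 0, 4, 0, 4, 1, 3, 0, 1, 4, 0, 4, 0, 1, 2, 1], [0, 4, 1, 3, 0, 3, 1, 0, 3, 1, 0, 4, 1, 4, 0, 1, 4, 3, 2, 3, 2, 0, 4, 2, 4, 0, 1, 3, 0, 4, 0, 4, 1, 3, 1, 0, 1, 4, 1, 4, 2, 3, 0, 4, 3, 2, 0, 3, 0, 3, 1, 4, 1, 3, 0, 4, 0, 2, 0, 4, 1, 3, 0, 4, 1, 3, 0, 4, 0, 3, 1, 4, 1, 4, 3, 0, 3, 1, 2, 4, 0, 3, 1, 3, 4, 2, 3, 4, 1, 2, 0, 3, 0, 3, 2, 0, 4, 0, 2, 4, 1, 3, 0, 3, 2, 4, 2, 4, 1, 3, 0, 4, 0, 3, 4, 0, 3, 1, 0, 3, 1, 4, 0, 1, 3, 2, 4, 0, 4, 2, 1, 3, 4, 0, 3], [0, 3, 2, 0, 4, 2, 4, 1, 3, 4, 0, 2, 4, 1, 3, 2, 0, 4, 1, 3, 1, 2, 4, 0, 2, 3, 1, 4, 2, 0, 4, 0, 1, 4, 1, 3, 0, 4, 2, 0, 3, 0, 3, 0,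 3, 0, 4, 0, 4, 2, 3, 4, 0, 2, 3, 4, 1, 2, 3, 1, 0, 3, 0, 3, 4, 0, 4, 0, 4, 2, 0, 4, 1, 2, 3, 0, 3, 1, 0, 3, 1, 2, 0, 4, 0, 4, 1, 3, 0, 4], [0, 3, 0, 4, 0, 1, 2, 4, 0, 2, 3, 4, 2, 0, 4, 1, 4, 2, 4, 0, 4, 1, 4, 1, 2, 4, 1, 4, 0, 4, 3, 0, 3, 0, 1, 0, 3, 2, 1, 4, 0, 4, 1, 4, 2, 0, 3, 0, 2, 1, 0, 3, 4, 1, 3, 0, 4, 0, 4, 2, 3, 4, 0, 3, 1, 3, 4, 2, 3, 2, 1, 3, 0, 3, 0, 3, 1, 3, 1, 2, 4, 1, 0, 4, 2, 4, 1, 4, 3, 4, 1, 2, 0, 3, 0, 3, 2, 0, 4, 0, 2, 4, 1, 3, 0, 3, 2, 4, 2, 4, 1, 3, 0, 4, 0, 3, 4, 0, 3, 1, 0, 3, 1, 4, 0, 1, 3, 2, 4, 0, 4, 2, 1, 3, 4, 0, 3], [1, 4, 2, 0, 4, 0, 4, 0, 4, 3, 0, 4, 2, 0, 3, 4, 1, 4, 2, 0, 4, 1,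 3, 0, 4, 0, 3, 0, 2, 3, 4, 1, 3, 4, 0, 2, 1, 4, 2, 4, 3, 0, 2, 4, 0, 2, 4, 3, 0, 2, 4, 1, 3, 1, 0, 3, 1, 4, 0, 4, 2, 3, 1, 4, 2, 0, 4, 0, 3, 1, 4, 3, 0, 3, 4, 0, 4, 0, 1, 4, 2, 4, 1, 4, 2, 0, 3, 0, 1, 4, 0, 2, 0, 4, 3, 0, 1, 4, 2, 3, 0, 3, 0, 3, 4, 3, 1, 2, 4], [2, 3, 4, 0, 3, 0, 2, 4, 2, 0, 4, 0, 2, 4, 1, 0, 4, 2, 1, 3, 0, 3, 4, 1, 4, 3, 0, 4, 3, 2, 1, 3, 4, 0, 3, 1, 3, 2, 3, 0, 3, 2, 1, 3, 4, 1, 4, 0, 3, 0, 1, 3, 4, 3, 1, 0, 4, 0, 4, 2, 0, 3, 4, 2, 4, 1, 4, 0, 4, 3, 1, 2, 3, 0, 3, 0, 2, 0, 2, 4, 1, 0, 3, 4, 1, 4, 3, 2, 0, 2, 4, 2, 0], [4, 0, 1, 3, 4, 1, 2, 4, 0, 4, 3, 0, 2, 4, 1, 4, 0, 4, 2, 4, 0, 3, 2, 4, 1,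 2, 4, 0, 3, 2, 1, 4, 0, 1, 3, 1, 4, 1, 4, 0, 4, 0, 2, 0, 4, 1, 0, 2, 1, 4, 0, 4, 3, 0, 3, 0, 2, 4, 2, 1, 4, 2, 0, 3, 4, 1, 0, 3, 0, 4, 1, 0, 1, 3, 0, 2, 4, 2, 1, 4, 1, 0, 1, 3, 4, 1, 4, 3, 4, 1, 2, 4, 0, 3, 1, 4, 1, 4, 1, 2, 4, 1, 4, 0, 4, 0, 2, 0, 4, 1, 4, 3, 2, 0, 3, 0, 1, 3, 4, 2, 0, 4, 0, 4, 1, 3, 0, 1, 4, 0, 4, 0, 1, 2, 1], [0, 4, 1, 3, 4, 0, 2, 4, 1, 4, 0, 2, 4, 2, 0, 4, 2, 1, 4, 0, 4, 3, 0, 4, 3, 0, 4, 3, 1, 4, 3, 2, 4, 0, 4, 2, 1, 3, 4, 1, 4, 0, 4, 0, 4, 0, 3, 2, 4, 1, 4, 0, 2, 0, 4, 0, 3, 0, 2, 3, 4, 1, 0, 3, 0, 3, 0, 2, 1, 4, 0, 2, 0, 4, 1, 3, 0, 3, 2, 0, 4, 1, 2, 3, 4, 1, 4, 0, 4, 2, 1, 2, 4, 0, 3, 1,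 4, 1, 4, 1, 2, 4, 1, 4, 0, 4, 0, 2, 0, 4, 1, 4, 3, 2, 0, 3, 0, 1, 3, 4, 2, 0, 4, 0, 4, 1, 3, 0, 1, 4, 0, 4, 0, 1, 2, 1], [0, 4, 0, 1, 3, 0, 3, 2, 4, 2, 3, 4, 0, 3, 4, 0, 1, 3, 4, 0, 3, 4, 0, 3, 0, 4, 1, 0, 4, 3, 0, 1, 3, 1, 4, 1, 4, 0, 4, 2, 3, 1, 4, 0, 2, 4, 3, 0, 1, 3, 1, 4, 2, 1, 4, 3, 1, 4, 3, 0, 4, 2, 0, 4, 3, 4, 1, 2, 4, 0, 3, 1, 4, 1, 4, 1, 2, 4, 1, 4, 0, 4, 0, 2, 0, 4, 1, 4, 3, 2, 0, 3, 0, 1, 3, 4, 2, 0, 4, 0, 4, 1, 3, 0, 1, 4, 0, 4, 0, 1, 2, 1], [2, 4, 2, 4, 0, 4, 3, 0, 4, 1, 4, 0, 3, 1, 4, 0, 4, 2, 0, 2, 0, 3, 1, 0, 4, 1, 3, 0, 2, 4, 2, 0, 4, 3, 1, 4, 2, 0, 4, 1, 4, 1, 2, 4, 0, 2, 4, 0, 3, 0, 4, 2, 0,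 4, 3, 1, 4, 0, 4, 0, 3, 4, 2, 0, 4, 0, 3, 2, 1, 4, 0, 4, 3, 1, 4, 1, 4, 3, 0, 1, 4, 1, 2, 4, 0, 3, 1, 4, 1, 4, 1, 2, 4, 1, 4, 0, 4, 0, 2, 0, 4, 1, 4, 3, 2, 0, 3, 0, 1, 3, 4, 2, 0, 4, 0, 4, 1, 3, 0, 1, 4, 0, 4, 0, 1, 2, 1], [1, 3, 0, 4, 1, 4, 3, 0, 4, 2, 4, 3, 0, 3, 4, 1, 0, 4, 3, 1, 3, 0, 3, 0, 4, 1, 0, 3, 4, 0, 2, 4, 0, 3, 4, 0, 3, 2, 0, 4, 1, 3, 0, 2, 1, 4, 0, 4, 2, 0, 3, 2, 4, 2, 0, 3, 1, 4, 1, 4, 2, 4, 1, 4, 0, 2, 4, 1, 2, 3, 4, 2, 4, 2, 0, 3, 0, 4, 1, 4, 0, 4, 1, 4, 3, 1, 4, 2, 0, 4, 2, 1, 2, 4, 2, 1, 4, 3, 4, 1, 2, 4, 0, 3, 1, 4, 1, 4, 1, 2, 4, 1, 4, 0, 4, 0, 2, 0, 4, 1, 4, 3, 2, 0, 3, 0, 1, 3, 4, 2, 0, 4,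 0, 4, 1, 3, 0, 1, 4, 0, 4, 0, 1, 2, 1], [2, 3, 4, 1, 3, 4, 0, 1, 4, 1, 2, 0, 4, 2, 1, 0, 1, 3, 0, 1, 4, 0, 3, 0, 3, 0, 4, 3, 0, 4, 2, 0, 4, 1, 3, 0, 4, 2, 1, 4, 1, 4, 0, 2, 4, 1, 4, 1, 2, 0, 3, 0, 2, 4, 0, 4, 1, 4, 3, 1, 0, 3, 4, 0, 2, 3, 1, 0, 4, 1, 3, 2, 0, 4, 0, 4, 1, 4, 3, 0, 4, 3, 0, 4, 1, 0, 4, 1, 3, 0, 2, 4, 1, 3, 4, 1, 2, 4, 0, 3, 1, 4, 1, 4, 1, 2, 4, 1, 4, 0, 4, 0, 2, 0, 4, 1, 4, 3, 2, 0, 3, 0, 1, 3, 4, 2, 0, 4, 0, 4, 1, 3, 0, 1, 4, 0, 4, 0, 1, 2, 1], [1, 0, 4, 0, 3, 0, 4, 2, 0, 2, 4, 0, 4, 3, 4, 1, 4, 2, 1, 2, 3, 0, 4, 2, 0, 2, 4, 2, 4, 0, 4, 1, 4, 0, 3, 4, 1, 4, 0, 4, 0, 1, 3, 1, 4, 2, 4, 0, 1, 3, 0,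 4, 0, 2, 3, 4, 0, 3, 0, 2, 4, 2, 0, 4, 0, 3, 0, 4, 3, 2, 1, 3, 4, 0, 2, 3, 0, 2, 4, 0, 4, 2, 1, 2, 3, 2, 1, 0, 3, 1, 3], [2, 0, 1, 4, 2, 3, 0, 4, 0, 1, 4, 3, 1, 0, 3, 1, 0, 4, 1, 4, 0, 3, 2, 4, 1, 4, 0, 4, 3, 0, 3, 0, 1, 0, 4, 1, 4, 0, 2, 3, 4, 0, 4, 3, 2, 1, 4, 2, 1, 3, 2, 0, 2, 4, 1, 3, 0, 4, 3, 0, 1, 2, 0, 1, 4, 1, 3, 1, 0, 1, 4, 0, 2, 4, 1, 0, 4, 1, 3, 4, 0, 2, 3, 2, 0, 2, 4, 3, 4, 1, 2, 4, 0, 3, 1, 4, 1, 4, 1, 2, 4, 1, 4, 0, 4, 0, 2, 0, 4, 1, 4, 3, 2, 0, 3, 0, 1, 3, 4, 2, 0, 4, 0, 4, 1, 3, 0, 1, 4, 0, 4, 0, 1, 2, 1], [4, 0, 1, 4, 1, 4, 3, 2, 0, 4, 0, 3, 0, 4, 0, 4, 2, 3, 4, 2, 1, 4, 2, 3, 4, 1, 3, 0, 4, 1,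 4, 2, 4, 0, 3, 0, 2, 4, 1, 0, 3, 0, 4, 1, 2, 4, 2, 0, 1, 3, 4, 3, 0, 4, 2, 4, 2, 0, 1, 3, 0, 4, 2, 4, 0, 4, 1, 3, 0, 3, 1, 3, 0, 2, 3, 4, 2, 1, 3, 4, 1, 4, 1, 4, 1, 2, 0, 3, 0, 3, 2, 0, 4, 0, 2, 4, 1, 3, 0, 3, 2, 4, 2, 4, 1, 3, 0, 4, 0, 3, 4, 0, 3, 1, 0, 3, 1, 4, 0, 1, 3, 2, 4, 0, 4, 2, 1, 3, 4, 0, 3], [3, 4, 1, 3, 4, 0, 4, 0, 4, 3, 0, 2, 4, 3, 1, 4, 1, 4, 0, 3, 4, 2, 0, 3, 2, 4, 0, 2, 4, 0, 4, 0, 3, 4, 2, 1, 4, 0, 4, 1, 3, 0, 4, 1, 0, 2, 4, 3, 1, 4, 1, 4, 2, 4, 1, 4, 0, 2, 4, 1, 2, 3, 4, 0, 3, 1, 2, 4, 1, 4, 0, 2, 4, 0, 2, 4, 1, 4, 1, 3, 2, 0, 4, 1, 3, 2, 3, 2, 3, 0, 4, 2, 4, 1, 3, 4, 1, 3, 1, 4, 1, 2, 0, 3, 0,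 3, 2, 0, 4, 0, 2, 4, 1, 3, 0, 3, 2, 4, 2, 4, 1, 3, 0, 4, 0, 3, 4, 0, 3, 1, 0, 3, 1, 4, 0, 1, 3, 2, 4, 0, 4, 2, 1, 3, 4, 0, 3], [4, 2, 0, 3, 1, 0, 4, 3, 4, 1, 3, 2, 0, 4, 2, 1, 3, 1, 4, 0, 2, 3, 1, 4, 3, 2, 1, 4, 3, 0, 1, 4, 1, 4, 1, 4, 0, 1, 3, 0, 3, 0, 4, 1, 3, 0, 3, 1, 4, 3, 1, 0, 4, 3, 2, 4, 0, 4, 2, 4, 0, 4, 2, 3, 0, 4, 0, 2, 4, 1, 4, 0, 3, 0, 4, 1, 4, 0, 4, 0, 1, 4, 1, 2, 4, 0, 3, 1, 4, 2, 0, 3, 1, 3, 0, 3, 4, 1, 4, 2, 1, 4, 1, 0, 2, 4], [3, 0, 4, 0, 4, 0, 4, 3, 0, 2, 4, 1, 3, 1, 0, 4, 0, 2, 4, 0, 4, 2, 4, 1, 0, 4, 2, 0, 4, 1, 4, 2, 0, 2, 3, 1, 3, 4, 0, 4, 1, 2, 3, 4, 3, 1, 3, 1, 2, 0, 2, 4, 3, 0, 3, 0, 4,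 3, 2, 4, 2, 3, 0, 4, 1, 3, 1, 0, 3, 0, 1, 4, 3, 0, 2, 3, 1, 0, 3, 0, 4, 3, 2, 0, 4, 3, 2, 1, 4, 1, 2, 1, 4, 1, 2, 0, 3, 0, 3, 2, 0, 4, 0, 2, 4, 1, 3, 0, 3, 2, 4, 2, 4, 1, 3, 0, 4, 0, 3, 4, 0, 3, 1, 0, 3, 1, 4, 0, 1, 3, 2, 4, 0, 4, 2, 1, 3, 4, 0, 3], [2, 0, 4, 0, 3, 1, 4, 1, 3, 0, 2, 3, 0, 4, 1, 4, 2, 0, 1, 2, 4, 1, 0, 4, 0, 4, 3, 0, 3, 4, 1, 0, 3, 0, 4, 3, 2, 4, 0, 4, 3, 0, 3, 2, 0, 3, 4, 0, 3, 1, 0, 3, 4, 2, 4, 2, 0, 3, 4, 0, 1, 3, 0, 4, 1, 3, 0, 2, 4, 1, 3, 4, 0, 4, 0, 2, 4, 1, 3, 4, 0, 3, 4, 1, 4, 2, 3, 0, 2, 1, 4, 3, 0, 4, 0, 4, 1, 0, 4, 2, 3, 4, 1, 2, 4, 0, 3, 1, 4, 1, 4, 1, 2, 4, 1, 4, 0, 4, 0, 2, 0, 4, 1,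 4, 3, 2, 0, 3, 0, 1, 3, 4, 2, 0, 4, 0, 4, 1, 3, 0, 1, 4, 0, 4, 0, 1, 2, 1], [1, 4, 0, 4, 1, 0, 4, 3, 4, 1, 3, 4, 0, 2, 4, 2, 3, 0, 4, 1, 3, 1, 0, 4, 0, 3, 0, 4, 1, 4, 0, 4, 1, 4, 2, 1, 3, 0, 1, 4, 2, 1, 3, 0, 4, 1, 4, 3, 2, 0, 1, 2, 1, 4, 1, 4, 2, 4, 1, 3, 0, 4, 3, 0, 2, 3, 0, 3, 1, 2, 3, 2, 4, 3, 1, 3, 0, 4, 3, 2, 3, 4, 3, 0, 4, 1, 0, 3, 1, 4, 1, 0, 3, 4, 1, 2, 4, 0, 3, 1, 4, 1, 4, 1, 2, 4, 1, 4, 0, 4, 0, 2, 0, 4, 1, 4, 3, 2, 0, 3, 0, 1, 3, 4, 2, 0, 4, 0, 4, 1, 3, 0, 1, 4, 0, 4, 0, 1, 2, 1], [4, 2, 4, 0, 1, 0, 3, 0, 4, 3, 0, 4, 1, 0, 4, 0, 3, 1, 0, 3, 1, 4, 0, 1, 4, 2, 3, 1, 0, 4, 1, 3, 2, 0, 4, 0, 4, 1, 4, 3,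 1, 0, 3, 4, 0, 1, 2, 4, 1, 2, 4, 1, 3, 0, 4, 0, 4, 0, 3, 2, 4, 1, 4, 0, 2, 0, 4, 0, 3, 0, 2, 3, 4, 1, 0, 4, 0, 3, 0, 2, 3, 4, 1, 0, 2, 4, 2, 0, 1, 3, 1, 4, 2, 1, 0, 4, 2, 0, 4, 3, 4, 1, 2, 4, 0, 3, 1, 4, 1, 4, 1, 2, 4, 1, 4, 0, 4, 0, 2, 0, 4, 1, 4, 3, 2, 0, 3, 0, 1, 3, 4, 2, 0, 4, 0, 4, 1, 3, 0, 1, 4, 0, 4, 0, 1, 2, 1], [4, 3, 1, 3, 0, 4, 2, 1, 3, 1, 3, 0, 4, 2, 0, 3, 0, 3, 4, 0, 1, 4, 0, 3, 2, 4, 2, 1, 4, 0, 1, 0, 3, 0, 4, 3, 0, 3, 4, 1, 3, 1, 0, 3, 0, 1, 4, 1, 3, 0, 4, 2, 0, 4, 1, 3, 0, 2, 1, 4, 1, 4, 2, 4, 1, 3, 0, 4, 3, 0, 2, 3, 0, 3, 1, 2, 3, 4, 3, 1, 0, 4, 0, 4, 1, 0, 2, 3, 0, 4, 2, 0, 3, 0, 4, 1, 2, 3, 0,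 4, 1, 4, 0, 1, 2, 4], [2, 3, 2, 4, 0, 4, 2, 1, 0, 4, 2, 0, 4, 2, 1, 3, 0, 3, 1, 0, 4, 1, 4, 0, 3, 0, 3, 0, 1, 4, 2, 4, 2, 1, 3, 0, 2, 3, 2, 0, 3, 4, 1, 2, 4, 0, 4, 2, 3, 0, 4, 0, 2, 4, 1, 4, 0, 3, 0, 4, 1, 4, 0, 4, 0, 1, 4, 1, 2, 4, 0, 3, 1, 4, 2, 0, 3, 1, 3, 0, 3, 4, 1, 4, 2, 1, 4, 1, 0, 2, 4, 3, 4, 1, 2, 4, 0, 3, 1, 4, 1, 4, 1, 2, 4, 1, 4, 0, 4, 0, 2, 0, 4, 1, 4, 3, 2, 0, 3, 0, 1, 3, 4, 2, 0, 4, 0, 4, 1, 3, 0, 1, 4, 0, 4, 0, 1, 2, 1], [3, 4, 1, 4, 1, 3, 4, 2, 0, 4, 3, 0, 1, 4, 0, 3, 0, 1, 3, 4, 0, 2, 1, 4, 3, 1, 3, 4, 1, 3, 0, 3, 1, 0, 1, 4, 1, 2, 3, 4, 2, 0, 3, 4, 1, 2, 0, 1, 2, 4, 0, 3, 2, 1, 4, 0, 1, 3, 1,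 4, 1, 0, 4, 0, 4, 2, 1, 4, 2, 3, 1, 4, 2, 3, 2, 0, 3, 2, 4, 0, 2, 4, 3, 4, 1, 2, 4, 0, 3, 1, 4, 1, 4, 1, 2, 4, 1, 4, 0, 4, 0, 2, 0, 4, 1, 4, 3, 2, 0, 3, 0, 1, 3, 4, 2, 0, 4, 0, 4, 1, 3, 0, 1, 4, 0, 4, 0, 1, 2, 1], [2, 3, 2, 4, 0, 4, 2, 1, 4, 3, 0, 1, 0, 3, 0, 3, 1, 4, 0, 3, 2, 4, 0, 3, 0, 3, 1, 4, 1, 4, 2, 4, 0, 4, 2, 4, 1, 4, 1, 3, 1, 4, 1, 0, 3, 4, 1, 3, 0, 4, 0, 4, 2, 3, 4, 0, 3, 1, 3, 4, 2, 3, 2, 1, 3, 0, 3, 0, 3, 1, 3, 1, 2, 4, 1, 0, 4, 2, 4, 1, 4, 3, 4, 1, 2, 0, 3, 0, 3, 2, 0, 4, 0, 2, 4, 1, 3, 0, 3, 2, 4, 2, 4, 1, 3, 0, 4, 0, 3, 4, 0, 3, 1, 0, 3, 1, 4, 0, 1, 3, 2, 4, 0, 4, 2, 1, 3, 4, 0, 3], [3, 1, 4, 0,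 1, 0, 2, 3, 4, 0, 2, 4, 1, 4, 1, 3, 4, 0, 4, 3, 4, 2, 4, 1, 4, 0, 4, 3, 1, 3, 1, 0, 4, 0, 1, 4, 0, 4, 3, 0, 4, 0, 3, 1, 2, 4, 0, 3, 0, 1, 4, 2, 3, 2, 3, 4, 2, 1, 4, 0, 3, 1, 4, 2, 0, 4, 0, 2, 0, 3, 1, 4, 0, 4, 1, 3, 1, 3, 0, 4, 0, 2, 3, 0, 1, 4, 1, 0], [3, 2, 1, 4, 2, 3, 4, 3, 1, 0, 3, 0, 3, 4, 2, 1, 4, 0, 4, 3, 1, 2, 0, 1, 4, 3, 4, 1, 4, 0, 4, 2, 4, 0, 1, 3, 2, 0, 4, 0, 4, 3, 0, 4, 3, 0, 4, 3, 2, 4, 2, 3, 1, 2, 0, 3, 0, 3, 1, 4, 1, 3, 0, 4, 0, 2, 0, 4, 1, 3, 0, 4, 1, 3, 0, 4, 0, 3, 1, 4, 1, 4, 3, 0, 3, 1, 2, 4, 0, 3, 1, 3, 4, 2, 3, 1, 3, 4, 1, 2, 4, 0, 3, 1, 4, 1, 4, 1, 2, 4, 1, 4, 0, 4, 0, 2, 0, 4, 1, 4, 3, 2,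 0, 3, 0, 1, 3, 4, 2, 0, 4, 0, 4, 1, 3, 0, 1, 4, 0, 4, 0, 1, 2, 1], [4, 3, 1, 3, 0, 3, 4, 1, 4, 1, 4, 1, 2, 0, 3, 4, 1, 4, 1, 3, 1, 0, 4, 1, 4, 3, 0, 3, 4, 2, 0, 3, 0, 1, 3, 4, 0, 4, 1, 2, 4, 0, 2, 1, 4, 0, 4, 2, 1, 4, 0, 1, 3, 0, 3, 2, 4, 0, 2, 3, 4, 0, 3, 0, 2, 4, 2, 0, 4, 0, 3, 2, 4, 2, 4, 0, 3, 1, 4, 0, 2, 4, 0, 4, 0, 2, 1, 3, 2, 4, 0, 2, 3, 2, 1, 4, 1, 2, 0], [4, 1, 2, 0, 4, 3, 0, 3, 1, 3, 4, 1, 3, 2, 0, 4, 0, 3, 0, 1, 3, 2, 1, 2, 4, 0, 2, 4, 2, 4, 3, 0, 4, 2, 3, 0, 1, 3, 4, 1, 3, 0, 3, 1, 2, 4, 0, 2, 4, 3, 0, 3, 0, 2, 4, 1, 2, 1, 4, 1, 4, 2, 4, 1, 3, 0, 4, 3, 0, 2, 3, 0, 3, 1, 2, 3, 4, 3, 1, 0, 4, 0, 4, 1,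 0, 2, 3, 0, 4, 2, 0, 3, 0, 4, 1, 2, 3, 0, 4, 1, 4, 0, 1, 2, 4, 3, 4, 1, 2, 4, 0, 3, 1, 4, 1, 4, 1, 2, 4, 1, 4, 0, 4, 0, 2, 0, 4, 1, 4, 3, 2, 0, 3, 0, 1, 3, 4, 2, 0, 4, 0, 4, 1, 3, 0, 1, 4, 0, 4, 0, 1, 2, 1], [2, 3, 2, 4, 0, 4, 2, 1, 4, 3, 0, 2, 1, 4, 0, 3, 0, 3, 2, 0, 4, 0, 1, 4, 2, 4, 1, 4, 3, 0, 2, 4, 3, 0, 1, 3, 2, 0, 4, 0, 4, 2, 1, 4, 2, 0, 2, 3, 0, 3, 1, 2, 3, 4, 0, 2, 4, 1, 3, 4, 3, 4, 1, 2, 4, 0, 3, 1, 4, 1, 4, 1, 2, 4, 1, 4, 0, 3, 2, 4, 2, 0, 4, 2, 4, 1, 4, 0, 4, 1, 0, 3, 1, 4, 2, 0, 4, 3, 2, 0, 3, 4, 0, 4, 1, 4, 1, 0], [2, 3, 0, 4, 2, 1, 4, 2, 0, 1, 3, 4, 1, 2, 4, 0, 2, 1, 2, 3, 4, 0, 4, 1, 0, 2, 4, 0,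 1, 3, 4, 1, 0, 2, 4, 1, 3, 0, 3, 0, 4, 1, 3, 4, 3, 2, 0, 4, 3, 1, 3, 4, 3, 0, 4, 2, 4, 2, 0, 1, 3, 0, 4, 2, 4, 0, 4, 1, 3, 0, 3, 1, 3, 0, 2, 3, 4, 2, 1, 3, 4, 1, 4], [4, 3, 1, 2, 4, 0, 3, 1, 0, 4, 0, 3, 0, 3, 2, 0, 3, 2, 4, 1, 4, 0, 3, 1, 0, 4, 2, 1, 4, 0, 1, 4, 0, 3, 0, 1, 3, 2, 0, 4, 2, 1, 4, 0, 4, 3, 0, 2, 3, 0, 3, 0, 4, 3, 1, 3, 1, 0, 3, 1, 4, 0, 4, 2, 3, 1, 4, 2, 0, 4, 0, 3, 1, 4, 3, 0, 3, 4, 0, 4, 0, 1, 4, 2, 4, 1, 4, 2, 0, 3, 0, 1, 4, 0, 2, 0, 4, 3, 0, 1, 4, 2, 3, 0, 3, 0, 3, 4, 3, 1, 2, 4, 3, 4, 1, 2, 4, 0, 3, 1, 4, 1, 4, 1, 2, 4, 1, 4, 0, 4, 0, 2, 0, 4, 1, 4, 3, 2, 0, 3, 0, 1, 3, 4, 2, 0, 4, 0, 4, 1, 3,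 0, 1, 4, 0, 4, 0, 1, 2, 1], [2, 0, 4, 0, 3, 1, 4, 0, 4, 0, 1, 3, 1, 4, 0, 4, 3, 2, 0, 3, 1, 4, 1, 2, 4, 3, 2, 1, 4, 3, 2, 4, 2, 0, 1, 3, 0, 3, 0, 4, 2, 0, 4, 2, 0, 4, 3, 0, 2, 0, 2, 3, 4, 2, 1, 4, 0, 3, 1, 4, 2, 0, 4, 0, 2, 0, 3, 1, 4, 0, 4, 1, 3, 1, 3, 0, 4, 0, 2, 3, 0, 1, 4, 1, 0, 1, 4, 1, 2, 0, 3, 0, 3, 2, 0, 4, 0, 2, 4, 1, 3, 0, 3, 2, 4, 2, 4, 1, 3, 0, 4, 0, 3, 4, 0, 3, 1, 0, 3, 1, 4, 0, 1, 3, 2, 4, 0, 4, 2, 1, 3, 4, 0, 3], [0, 3, 0, 3, 1, 3, 4, 0, 1, 2, 0, 3, 0, 1, 4, 0, 3, 2, 0, 3, 1, 4, 0, 3, 4, 1, 4, 2, 0, 4, 0, 4, 1, 0, 3, 1, 4, 0, 4, 0, 2, 3, 4, 0, 1, 3, 0, 2, 4, 3, 1, 4, 2, 1, 4, 0, 1, 0, 1, 4, 0, 2,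 4, 3, 0, 4, 1, 2, 4, 0, 3, 0, 4, 0, 4, 2, 0, 4, 2, 3, 4, 0, 2, 4, 2, 0, 4, 0, 2, 4, 2, 4, 3, 0, 4, 1, 3, 4, 1, 4, 0, 4, 0], [3, 4, 0, 1, 4, 3, 1, 0, 3, 0, 4, 1, 0, 4, 1, 2, 4, 0, 1, 3, 2, 0, 4, 0, 3, 4, 1, 3, 2, 4, 0, 4, 0, 3, 1, 4, 0, 2, 0, 3, 4, 0, 4, 2, 3, 4, 0, 1, 3, 1, 4, 1, 3, 4, 3, 4, 1, 2, 4, 0, 3, 1, 4, 1, 4, 1, 2, 4, 1, 4, 0, 3, 2, 4, 2, 0, 4, 2, 4, 1, 4, 0, 4, 1, 0, 3, 1, 4, 2, 0, 4, 3, 2, 0, 3, 4, 0, 4, 1, 4, 1, 0, 1, 4, 1, 2, 0, 3, 0, 3, 2, 0, 4, 0, 2, 4, 1, 3, 0, 3, 2, 4, 2, 4, 1, 3, 0, 4, 0, 3, 4, 0, 3, 1, 0, 3, 1, 4, 0, 1, 3, 2, 4, 0, 4, 2, 1, 3, 4, 0, 3], [4, 3, 1, 3, 0, 3, 0, 3, 4, 2, 0, 3, 4,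 0, 2, 4, 3, 0, 1, 0, 2, 4, 0, 3, 0, 3, 1, 0, 2, 4, 1, 4, 3, 1, 4, 2, 0, 4, 0, 2, 4, 1, 0, 3, 0, 4, 2, 4, 0, 1, 4, 2, 0, 1, 3, 0, 4, 0, 4, 0, 3, 2, 4, 1, 4, 0, 2, 0, 4, 0, 3, 0, 2, 3, 4, 1, 0, 3, 0, 3, 0, 2, 1, 4, 0, 2, 0, 4, 1, 3, 0, 3, 2, 0, 4, 1, 2, 3, 4, 1, 4, 0, 4, 2, 4, 3, 1, 4, 1, 2, 0, 3, 0, 3, 2, 0, 4, 0, 2, 4, 1, 3, 0, 3, 2, 4, 2, 4, 1, 3, 0, 4, 0, 3, 4, 0, 3, 1, 0, 3, 1, 4, 0, 1, 3, 2, 4, 0, 4, 2, 1, 3, 4, 0, 3], [0, 3, 0, 2, 3, 4, 0, 3, 0, 4, 1, 4, 0, 4, 2, 4, 0, 3, 4, 2, 3, 0, 3, 4, 2, 1, 4, 0, 4, 0, 3, 0, 2, 3, 0, 4, 1, 0, 4, 3, 0, 4, 3, 0, 4, 2, 4, 1, 3, 4, 0, 4, 2, 4, 0, 2, 4, 1, 4, 2, 1, 4, 2, 0,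 2, 3, 0, 3, 1, 4, 1, 4, 2, 4, 2, 4, 0, 3, 0, 2, 4, 3, 0, 1, 4, 0, 4, 1, 4, 2, 0, 4, 0, 3, 0, 1, 4, 3, 2, 0, 4, 1, 2], [2, 4, 2, 0, 4, 3, 2, 0, 4, 0, 3, 1, 0, 3, 1, 4, 0, 4, 3, 2, 1, 4, 0, 4, 2, 4, 2, 1, 2, 4, 0, 4, 0, 4, 1, 3, 0, 1, 3, 2, 0, 4, 1, 0, 4, 0, 2, 4, 2, 4, 0, 3, 1, 0, 3, 4, 2, 4, 2, 0, 3, 4, 0, 1, 3, 0, 4, 1, 3, 0, 2, 4, 1, 3, 4, 0, 4, 0, 2, 4, 1, 3, 4, 0, 3, 4, 1, 4, 2, 3, 0, 2, 1, 4, 3, 0, 4, 0, 4, 1, 0, 4, 2], [4, 0, 3, 2, 0, 4, 2, 4, 0, 3, 1, 0, 4, 1, 4, 0, 4, 1, 3, 2, 1, 0, 3, 0, 2, 4, 1, 0, 2, 4, 3, 0, 4, 1, 2, 3, 4, 1, 4, 1, 3, 0, 2, 0, 4, 0, 2, 0, 4, 2, 0, 4, 3, 1, 0, 4, 1, 4, 0, 4, 1, 3, 0,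 1, 4, 3, 2, 1, 3, 0, 4, 3, 0, 4, 1, 0, 4, 2, 1, 4, 1, 3, 0, 2, 3, 0, 4, 3, 2, 1, 4, 2, 0, 4, 0, 4, 0, 3, 0, 4, 0, 3, 4, 1, 2, 4, 0, 3, 1, 4, 1, 4, 1, 2, 4, 1, 4, 0, 4, 0, 2, 0, 4, 1, 4, 3, 2, 0, 3, 0, 1, 3, 4, 2, 0, 4, 0, 4, 1, 3, 0, 1, 4, 0, 4, 0, 1, 2, 1], [0, 2, 3, 0, 3, 1, 0, 4, 2, 1, 4, 0, 1, 4, 1, 4, 3, 0, 4, 1, 3, 4, 2, 3, 1, 0, 2, 4, 3, 2, 0, 4, 2, 3, 0, 2, 4, 3, 2, 3, 0, 3, 2, 0, 4, 0, 2, 4, 1, 0, 3, 0, 3, 2, 4, 1, 4, 1, 3, 0, 4, 2, 1, 0, 4, 0, 4, 0, 4, 1, 4, 0, 3, 0, 3, 0, 2, 4, 0, 4, 0, 1, 3, 0, 2, 4, 2, 1, 3, 4, 1, 4, 0, 3, 4, 0, 2, 4, 2, 1, 4, 1, 2, 0, 3, 0, 3, 2, 0, 4, 0, 2, 4, 1, 3, 0, 3, 2, 4, 2,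 4, 1, 3, 0, 4, 0, 3, 4, 0, 3, 1, 0, 3, 1, 4, 0, 1, 3, 2, 4, 0, 4, 2, 1, 3, 4, 0, 3], [0, 3, 0, 3, 1, 3, 4, 0, 1, 2, 0, 3, 1, 4, 0, 2, 4, 0, 4, 3, 2, 0, 3, 0, 1, 4, 1, 3, 1, 0, 4, 1, 4, 0, 3, 1, 4, 1, 0, 4, 0, 2, 4, 3, 2, 4, 3, 4, 1, 3, 0, 4, 3, 1, 4, 1, 2, 0, 1, 2, 4, 1, 2, 3, 0, 4, 2, 4, 3, 0, 3, 1, 4, 2, 4, 0, 4, 2, 0, 3, 1, 2, 3, 0, 3, 1, 0, 4, 1, 4, 0, 2, 3, 4, 1, 3, 4, 1, 2, 4, 0, 3, 1, 4, 1, 4, 1, 2, 4, 1, 4, 0, 4, 0, 2, 0, 4, 1, 4, 3, 2, 0, 3, 0, 1, 3, 4, 2, 0, 4, 0, 4, 1, 3, 0, 1, 4, 0, 4, 0, 1, 2, 1], [4, 3, 0, 4, 2, 4, 1, 3, 2, 4, 2, 0, 1, 4, 0, 4, 2, 3, 0, 3, 1, 0, 4, 2, 4, 2, 4, 1, 0, 3, 2, 0, 4, 1,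 4, 0, 4, 3, 0, 1, 0, 4, 0, 4, 1, 2, 1, 4, 0, 3, 2, 3, 2, 0, 3, 0, 3, 1, 4, 1, 3, 0, 4, 0, 2, 0, 4, 1, 3, 0, 4, 1, 3, 0, 4, 0, 3, 1, 4, 1, 4, 3, 0, 3, 1, 2, 4, 0, 3, 1, 3, 4, 2, 3, 1, 3, 4, 1, 2, 4, 0, 3, 1, 4, 1, 4, 1, 2, 4, 1, 4, 0, 4, 0, 2, 0, 4, 1, 4, 3, 2, 0, 3, 0, 1, 3, 4, 2, 0, 4, 0, 4, 1, 3, 0, 1, 4, 0, 4, 0, 1, 2, 1], [4, 0, 4, 1, 2, 4, 3, 0, 3, 0, 4, 1, 4, 1, 0, 3, 2, 0, 4, 0, 3, 4, 0, 3, 2, 0, 4, 0, 3, 0, 2, 3, 4, 1, 3, 4, 0, 2, 1, 4, 2, 4, 3, 0, 2, 4, 0, 2, 4, 3, 0, 2, 4, 0, 3, 0, 4, 0, 4, 2, 3, 4, 0, 2, 3, 4, 1, 2, 3, 1, 0, 3, 0, 3, 4, 0, 4, 0, 4, 2, 0, 4, 1, 2, 3, 0, 3, 1, 0, 3, 1, 2, 0, 4, 0, 4, 1,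 3, 0, 4], [0, 3, 4, 1, 3, 4, 3, 1, 4, 0, 3, 2, 4, 2, 0, 4, 3, 4, 0, 4, 1, 3, 0, 1, 4, 2, 4, 0, 4, 0, 1, 3, 2, 4, 1, 2, 4, 1, 2, 0, 3, 4, 1, 2, 3, 4, 2, 4, 0, 3, 2, 4, 0, 3, 0, 4, 0, 4, 2, 3, 4, 0, 2, 3, 4, 1, 2, 3, 1, 0, 3, 0, 3, 4, 0, 4, 0, 4, 2, 0, 4, 1, 2, 3, 0, 3, 1, 0, 3, 1, 2, 0, 4, 0, 4, 1, 3, 0, 4, 3, 4, 1, 2, 4, 0, 3, 1, 4, 1, 4, 1, 2, 4, 1, 4, 0, 4, 0, 2, 0, 4, 1, 4, 3, 2, 0, 3, 0, 1, 3, 4, 2, 0, 4, 0, 4, 1, 3, 0, 1, 4, 0, 4, 0, 1, 2, 1], [3, 2, 1, 4, 0, 4, 3, 0, 4, 2, 0, 4, 3, 2, 0, 4, 0, 1, 4, 2, 3, 1, 4, 2, 0, 3, 0, 2, 4, 2, 1, 4, 2, 0, 3, 4, 0, 3, 2, 1, 4, 0, 3, 1, 0, 4, 2, 4, 1, 3, 4, 0, 4, 2, 4,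 2, 3, 0, 4, 3, 2, 0, 4, 3, 1, 4, 0, 3, 4, 0, 2, 3, 1, 0, 3, 0, 2, 3, 4, 0, 4, 1, 2, 4, 2, 4, 1, 0, 3, 4, 1, 3, 1, 0, 4, 2, 0, 3, 4, 1, 2, 4, 0, 3, 1, 4, 1, 4, 1, 2, 4, 1, 4, 0, 4, 0, 2, 0, 4, 1, 4, 3, 2, 0, 3, 0, 1, 3, 4, 2, 0, 4, 0, 4, 1, 3, 0, 1, 4, 0, 4, 0, 1, 2, 1], [2, 3, 0, 3, 4, 0, 4, 2, 0, 4, 2, 1, 4, 1, 0, 4, 1, 4, 1, 0, 3, 1, 4, 0, 4, 0, 3, 1, 0, 4, 2, 1, 3, 0, 2, 4, 2, 4, 2, 1, 4, 3, 0, 4, 0, 2, 4, 3, 0, 1, 2, 4, 0, 2, 1, 4, 1, 2, 1, 0, 3, 4, 0, 2, 4, 2, 0, 2, 0, 4, 2, 4, 2, 0, 2, 4, 0, 3, 4, 1, 2, 4, 0, 3, 1, 4, 1, 4, 1, 2, 4, 1, 4, 0, 4, 0, 2, 0, 4, 1, 4, 3, 2, 0, 3, 0, 1, 3, 4, 2, 0, 4, 0, 4, 1, 3,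 0, 1, 4, 0, 4, 0, 1, 2, 1], [0, 3, 4, 0, 4, 0, 3, 2, 0, 3, 2, 0, 4, 0, 3, 1, 3, 0, 3, 0, 1, 4, 1, 0, 3, 0, 4, 2, 3, 4, 2, 0, 4, 2, 3, 0, 1, 3, 1, 4, 3, 0, 3, 4, 1, 4, 3, 1, 0, 3, 0, 4, 1, 0, 3, 0, 3, 4, 0, 2, 0, 4, 1, 3, 0, 4, 3, 0, 1, 4, 0, 4, 1, 4, 3, 0, 3, 0, 1, 4, 0, 4, 2, 0, 2, 4, 0, 3, 0, 4, 2, 0, 4, 3, 0, 3, 1, 3, 4, 3, 0, 3, 4, 0, 4, 1, 4, 1, 2, 3, 4, 1, 2, 4, 0, 3, 1, 4, 1, 4, 1, 2, 4, 1, 4, 0, 4, 0, 2, 0, 4, 1, 4, 3, 2, 0, 3, 0, 1, 3, 4, 2, 0, 4, 0, 4, 1, 3, 0, 1, 4, 0, 4, 0, 1, 2, 1], [3, 4, 2, 0, 3, 1, 3, 0, 3, 0, 2, 4, 1, 4, 2, 0, 1, 2, 0, 1, 3, 0, 4, 1, 3, 1, 0, 4, 3, 2, 4, 0, 1, 3, 4, 0, 4, 1, 3,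 2, 4, 2, 4, 0, 1, 4, 3, 0, 4, 0, 1, 4, 3, 0, 4, 2, 0, 4, 0, 2, 4, 1, 4, 2, 4, 0, 4, 3, 2, 0, 3, 4, 1, 2, 4, 1, 3, 0, 4, 1, 3, 0, 3], [0, 2, 3, 4, 1, 3, 0, 4, 2, 0, 3, 4, 2, 4, 0, 3, 1, 3, 4, 3, 2, 3, 0, 4, 0, 4, 1, 2, 0, 2, 1, 3, 0, 3, 2, 0, 3, 4, 0, 3, 1, 4, 2, 4, 1, 4, 1, 2, 1, 0, 3, 4, 1, 3, 0, 4, 0, 4, 2, 3, 4, 0, 3, 1, 3, 4, 2, 3, 2, 1, 3, 0, 3, 0, 3, 1, 3, 1, 2, 4, 1, 0, 4, 2, 4, 1, 4, 3, 1, 3, 4, 1, 2, 4, 0, 3, 1, 4, 1, 4, 1, 2, 4, 1, 4, 0, 4, 0, 2, 0, 4, 1, 4, 3, 2, 0, 3, 0, 1, 3, 4, 2, 0, 4, 0, 4, 1, 3, 0, 1, 4, 0, 4, 0, 1, 2, 1], [4, 0, 1, 3, 4, 2, 0, 3, 0, 2, 0, 4, 3, 2, 0, 3, 0, 4, 1, 4, 3, 0, 3, 2,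 0, 1, 4, 0, 3, 0, 4, 3, 0, 3, 0, 4, 1, 0, 4, 2, 0, 4, 2, 3, 1, 4, 1, 3, 0, 4, 0, 2, 0, 4, 0, 2, 3, 4, 0, 3, 0, 2, 4, 2, 0, 4, 0, 3, 2, 4, 2, 4, 3, 0, 1, 4, 2, 1, 3, 0, 1, 4, 0, 3, 4, 3, 0, 3, 0, 2, 3, 4, 1, 3, 1, 0, 3, 0, 4, 1, 4, 2, 1, 4, 1, 2, 0, 3, 0, 3, 2, 0, 4, 0, 2, 4, 1, 3, 0, 3, 2, 4, 2, 4, 1, 3, 0, 4, 0, 3, 4, 0, 3, 1, 0, 3, 1, 4, 0, 1, 3, 2, 4, 0, 4, 2, 1, 3, 4, 0, 3], [3, 1, 4, 0, 2, 4, 3, 0, 4, 3, 0, 4, 0, 1, 2, 4, 3, 1, 4, 0, 4, 1, 0, 4, 2, 4, 1, 2, 3, 4, 0, 2, 3, 4, 0, 3, 4, 2, 4, 0, 4, 2, 3, 0, 2, 4, 2, 1, 2, 4, 0, 3, 4, 1, 4, 2, 0, 4, 1, 4, 1, 2, 4, 0, 2, 4, 0, 3, 0, 4, 2, 0, 3, 1, 0, 4, 1, 4, 0,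 3, 4, 1, 3, 0, 3, 1, 4, 2, 1, 4, 2, 3, 4, 0, 4, 1, 4, 2, 1, 3, 4, 1, 2, 4, 0, 3, 1, 4, 1, 4, 1, 2, 4, 1, 4, 0, 4, 0, 2, 0, 4, 1, 4, 3, 2, 0, 3, 0, 1, 3, 4, 2, 0, 4, 0, 4, 1, 3, 0, 1, 4, 0, 4, 0, 1, 2, 1], [3, 4, 2, 0, 3, 1, 3, 0, 3, 4, 0, 4, 3, 2, 0, 3, 0, 4, 1, 4, 0, 4, 3, 0, 4, 3, 1, 4, 0, 3, 1, 4, 1, 4, 1, 4, 0, 3, 0, 4, 3, 1, 4, 3, 0, 2, 4, 2, 4, 0, 4, 0, 2, 1, 0, 3, 0, 2, 4, 1, 4, 0, 4, 1, 2, 3, 0, 1, 0, 3, 0, 3, 4, 0, 4, 1, 4, 2, 1, 4, 0, 4, 3, 0, 1, 3, 0, 4, 1, 3, 4, 2, 4, 1, 0, 3, 0, 3, 0, 4, 0, 2, 3, 1, 4, 3, 4, 1, 2, 4, 0, 3, 1, 4, 1, 4, 1, 2, 4, 1, 4, 0, 4, 0, 2, 0, 4, 1, 4, 3, 2, 0, 3, 0, 1, 3, 4, 2,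 0, 4, 0, 4, 1, 3, 0, 1, 4, 0, 4, 0, 1, 2, 1], [2, 4, 0, 4, 0, 2, 0, 4, 0, 4, 3, 0, 4, 2, 0, 4, 1, 3, 0, 3, 1, 4, 2, 1, 4, 0, 1, 4, 1, 3, 0, 3, 4, 3, 0, 2, 3, 1, 4, 0, 1, 0, 4, 3, 2, 3, 0, 4, 1, 0, 3, 1, 3, 4, 0, 1, 4, 0, 2, 4, 3, 0, 4, 1, 2, 4, 0, 3, 0, 4, 0, 4, 2, 0, 4, 2, 3, 4, 0, 2, 4, 2, 0, 4, 0, 2, 4, 2, 4, 3, 0, 4, 1, 3, 4, 1, 4, 0, 4, 0, 3, 4, 1, 2, 4, 0, 3, 1, 4, 1, 4, 1, 2, 4, 1, 4, 0, 4, 0, 2, 0, 4, 1, 4, 3, 2, 0, 3, 0, 1, 3, 4, 2, 0, 4, 0, 4, 1, 3, 0, 1, 4, 0, 4, 0, 1, 2, 1], [2, 4, 3, 0, 2, 3, 4, 0, 2, 4, 0, 1, 3, 0, 4, 0, 1, 0, 4, 1, 4, 1, 0, 1, 2, 3, 4, 0, 1, 4, 3, 0, 4, 0, 3, 0, 2, 3, 0, 2, 0, 3,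 0, 4, 0, 1, 4, 1, 2, 3, 0, 4, 0, 4, 0, 1, 4, 0, 3, 0, 4, 0, 4, 2, 3, 4, 0, 2, 3, 4, 1, 2, 3, 4, 2, 0, 3, 2, 0, 3, 4, 2, 0, 3, 4, 1, 3, 4, 1, 4, 3, 1, 0, 4, 2, 3, 0, 4, 3, 0, 2, 3, 0, 4, 0, 3], [4, 2, 0, 4, 1, 4, 0, 2, 4, 0, 4, 0, 1, 4, 0, 3, 1, 2, 0, 4, 2, 4, 1, 3, 0, 4, 1, 4, 0, 4, 0, 4, 2, 1, 4, 1, 0, 4, 0, 4, 3, 1, 4, 3, 0, 2, 4, 1, 2, 4, 0, 3, 2, 1, 4, 0, 1, 3, 1, 4, 1, 0, 4, 0, 4, 2, 1, 4, 2, 3, 1, 4, 2, 3, 2, 0, 3, 2, 4, 0, 2, 4, 1, 4, 1, 2, 0, 3, 0, 3, 2, 0, 4, 0, 2, 4, 1, 3, 0, 3, 2, 4, 2, 4, 1, 3, 0, 4, 0, 3, 4, 0, 3, 1, 0, 3, 1, 4, 0, 1, 3, 2, 4, 0, 4, 2, 1, 3, 4, 0, 3], [1, 3, 4, 1, 0, 3, 1, 2, 4, 2,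 0, 3, 0, 2, 4, 1, 3, 2, 3, 4, 2, 4, 1, 2, 4, 0, 3, 0, 1, 4, 2, 0, 3, 0, 2, 3, 0, 4, 3, 1, 3, 0, 4, 2, 1, 3, 0, 4, 2, 3, 0, 3, 4, 1, 3, 0, 4, 0, 4, 2, 3, 4, 0, 3, 1, 3, 4, 2, 3, 2, 1, 3, 0, 3, 0, 3, 1, 3, 1, 2, 4, 1, 0, 4, 2, 4, 1, 4, 3, 4, 1, 2, 0, 3, 0, 3, 2, 0, 4, 0, 2, 4, 1, 3, 0, 3, 2, 4, 2, 4, 1, 3, 0, 4, 0, 3, 4, 0, 3, 1, 0, 3, 1, 4, 0, 1, 3, 2, 4, 0, 4, 2, 1, 3, 4, 0, 3], [2, 4, 0, 1, 4, 2, 0, 1, 4, 0, 4, 2, 1, 4, 3, 0, 3, 4, 3, 2, 3, 0, 1, 3, 2, 4, 1, 4, 0, 1, 3, 0, 1, 3, 0, 3, 1, 4, 0, 3, 4, 1, 0, 4, 3, 1, 0, 1, 4, 0, 3, 2, 3, 1, 3, 4, 0, 3, 2, 4, 0, 1, 3, 1, 0, 3, 4, 2, 0, 4, 1, 4, 1, 2, 4, 2, 0, 4, 0,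 3, 4, 2, 3, 4, 0, 3, 4, 3, 0, 1, 3, 0, 3, 1, 2, 4, 0, 1, 2, 4, 0, 3, 0, 1, 2, 4, 0, 3, 1, 4, 1, 4, 1, 2, 4, 1, 4, 0, 4, 0, 2, 0, 4, 1, 4, 3, 2, 0, 3, 0, 1, 3, 4, 2, 0, 4, 0, 4, 1, 3, 0, 1, 4, 0, 4, 0, 1, 2, 1], [4, 3, 0, 3, 1, 0, 2, 3, 4, 2, 4, 0, 3, 0, 4, 0, 1, 4, 0, 4, 3, 2, 0, 4, 3, 1, 0, 4, 0, 4, 1, 3, 0, 2, 4, 0, 4, 1, 4, 3, 1, 0, 3, 0, 3, 1, 2, 4, 2, 0, 4, 2, 3, 0], [2, 3, 1, 4, 0, 4, 3, 2, 4, 2, 4, 2, 3, 0, 2, 4, 0, 3, 4, 2, 4, 0, 4, 1, 4, 1, 4, 0, 3, 0, 1, 3, 4, 2, 1, 4, 1, 4, 2, 0, 4, 1, 4, 0, 2, 0, 3, 4, 1, 2, 4, 0, 3, 1, 4, 1, 4, 1, 2, 4, 1, 4, 0, 3, 2, 4, 2, 0, 4, 2, 4, 1, 4, 0, 4, 1, 0, 3, 1, 4, 2,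 0, 4, 3, 2, 0, 3, 4, 0, 4, 1, 4, 1, 0, 3, 4, 1, 2, 4, 0, 3, 1, 4, 1, 4, 1, 2, 4, 1, 4, 0, 4, 0, 2, 0, 4, 1, 4, 3, 2, 0, 3, 0, 1, 3, 4, 2, 0, 4, 0, 4, 1, 3, 0, 1, 4, 0, 4, 0, 1, 2, 1]]

def tupC4 : List (List ℕ) := [[2, 0, 4, 2, 0, 4, 3, 2, 1, 4, 0, 3, 4, 0, 2, 4, 0, 3, 1, 3, 0, 3, 2, 4, 0, 4, 1, 3, 1, 2, 4, 0, 3, 4, 0, 4, 0, 2, 3, 4, 0, 2, 4, 2, 4, 0, 4, 1, 2, 1, 0, 3, 4, 2, 4, 2, 0, 3, 4, 0, 1, 3, 0, 4, 1, 3, 0, 2, 4, 1, 3, 4, 0, 4, 0, 2, 4, 1, 3, 4, 0, 3, 4, 1, 4, 2, 3, 0, 2, 1, 4, 3, 0, 4, 0, 4, 1, 0, 4, 2, 3, 4, 1, 2, 4, 0, 3, 1, 4, 1, 4, 1, 2, 4, 1, 4, 0, 4, 0, 2, 0, 4, 1, 4, 3, 2, 0, 3, 0, 1, 3, 4, 2, 0, 4,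 0, 4, 1, 3, 0, 1, 4, 0, 4, 0, 1, 2, 1], [1, 4, 1, 0, 4, 3, 1, 2, 3, 4, 0, 1, 4, 2, 4, 3, 2, 1, 4, 0, 3, 0, 2, 4, 2, 0, 4, 2, 1, 4, 0, 3, 0, 3, 4, 1, 0, 3, 0, 2, 3, 0, 3, 2, 4, 0, 3, 0, 2, 4, 0, 4, 1, 4, 3, 1, 0, 3, 4, 0, 2, 3, 1, 0, 4, 1, 3, 2, 0, 4, 0, 4, 1, 4, 3, 0, 4, 3, 0, 4, 1, 0, 4, 1, 3, 0, 2, 4, 1], [3, 4, 1, 3, 4, 2, 0, 3, 4, 0, 2, 4, 3, 0, 1, 0, 2, 4, 0, 3, 0, 3, 1, 4, 1, 0, 4, 1, 3, 0, 4, 0, 4, 1, 2, 4, 0, 2, 3, 2, 0, 4, 3, 0, 4, 2, 1, 3, 0, 4, 1, 2, 4, 2, 4, 3, 1, 4, 1, 4, 2, 4, 1, 4, 0, 2, 4, 1, 2, 3, 4, 0, 3, 1, 2, 4, 1, 4, 0, 2, 4, 0, 2, 4, 1, 4, 1, 3, 2, 0, 4, 1, 3, 2, 3, 2, 3, 0, 4, 2, 4, 1, 3,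 4, 1, 4, 1, 2, 4, 0, 3, 1, 4, 1, 4, 1, 2, 4, 1, 4, 0, 4, 0, 2, 0, 4, 1, 4, 3, 2, 0, 3, 0, 1, 3, 4, 2, 0, 4, 0, 4, 1, 3, 0, 1, 4, 0, 4, 0, 1, 2, 1], [4, 1, 3, 0, 3, 2, 0, 4, 1, 0, 3, 0, 2, 4, 1, 4, 2, 4, 0, 2, 4, 0, 4, 2, 4, 1, 3, 4, 1, 3, 4, 3, 0, 1, 4, 1, 4, 0, 3, 4, 1, 3, 0, 4, 1, 3, 0, 4, 3, 1, 4, 1, 2, 0, 1, 2, 4, 1, 2, 3, 0, 4, 2, 4, 3, 0, 3, 1, 4, 2, 4, 0, 4, 2, 0, 3, 1, 2, 3, 0, 3, 1, 0, 4, 1, 4, 0, 2, 3, 4, 1], [1, 4, 1, 2, 4, 0, 4, 3, 0, 4, 3, 1, 3, 0, 1, 3, 4, 2, 4, 0, 3, 1, 4, 2, 4, 1, 3, 0, 4, 3, 0, 1, 4, 3, 0, 3, 4, 0, 3, 0, 3, 0, 2, 4, 1, 2, 4, 1, 3, 0, 1, 4, 1, 3, 1, 0, 4, 1, 0, 3, 0, 3, 4, 1, 4,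 1, 4, 0, 4, 0, 4, 0, 3, 0, 4, 3, 1, 2, 4, 1, 2, 4, 3, 0, 4, 3, 0, 3, 0, 1, 2, 0, 4, 0, 4, 1, 4, 0, 3, 1, 4, 2, 0, 4, 1, 4, 1, 2, 0, 3, 0, 3, 2, 0, 4, 0, 2, 4, 1, 3, 0, 3, 2, 4, 2, 4, 1, 3, 0, 4, 0, 3, 4, 0, 3, 1, 0, 3, 1, 4, 0, 1, 3, 2, 4, 0, 4, 2, 1, 3, 4, 0, 3], [3, 2, 4, 0, 3, 0, 4, 1, 0, 3, 2, 1, 4, 2, 0, 4, 3, 0, 1, 3, 0, 4, 0, 4, 2, 4, 2, 4, 1, 3, 0, 4, 3, 0, 1, 4, 0, 3, 4, 0, 4, 0, 3, 0, 2, 1, 3, 4, 2, 1, 4, 2, 4, 0, 2, 4, 3, 0, 3, 2, 1, 3, 4, 1, 4, 0, 3, 0, 1, 3, 4, 3, 1, 0, 4, 0, 4, 2, 0, 3, 4, 2, 4, 1, 4, 0, 4, 3, 1, 2, 3, 0, 3, 0, 2, 0, 2, 4, 1, 0, 3, 4, 1, 4, 3, 2, 0, 2, 4, 2, 0, 1, 4, 1, 2, 0, 3, 0,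 3, 2, 0, 4, 0, 2, 4, 1, 3, 0, 3, 2, 4, 2, 4, 1, 3, 0, 4, 0, 3, 4, 0, 3, 1, 0, 3, 1, 4, 0, 1, 3, 2, 4, 0, 4, 2, 1, 3, 4, 0, 3], [0, 1, 3, 0, 2, 4, 1, 0, 4, 0, 1, 3, 0, 1, 3, 2, 3, 4, 3, 1, 4, 1, 3, 0, 1, 3, 0, 3, 0, 4, 1, 4, 0, 4, 2, 0, 4, 0, 4, 3, 0, 3, 0, 1, 4, 2, 4, 0, 4, 0, 3, 0, 3, 0, 2, 4, 0, 4, 1, 4, 3, 1, 0, 3, 4, 0, 2, 4, 0, 4, 0, 2, 4, 1, 4, 2, 4, 1, 2, 3, 2, 0, 4, 1, 3, 0, 3, 0, 4, 3, 1, 0, 4, 0, 4, 0, 3, 1, 0, 1, 4, 1, 2, 0, 3, 0, 3, 2, 0, 4, 0, 2, 4, 1, 3, 0, 3, 2, 4, 2, 4, 1, 3, 0, 4, 0, 3, 4, 0, 3, 1, 0, 3, 1, 4, 0, 1, 3, 2, 4, 0, 4, 2, 1, 3, 4, 0, 3], [1, 4, 1, 3, 0, 4, 0, 3, 0, 3, 1, 0, 4, 1, 0,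 2, 4, 2, 0, 3, 0, 1, 2, 0, 1, 3, 0, 4, 1, 4, 0, 3, 1, 4, 3, 1, 0, 3, 2, 1, 4, 1, 4, 0, 4, 2, 0, 4, 1, 3, 1, 2, 4, 0, 3, 2, 1, 4, 0, 1, 3, 1, 4, 1, 0, 4, 0, 4, 2, 1, 4, 2, 3, 1, 4, 2, 3, 2, 0, 3, 2, 4, 0, 2, 4], [0, 3, 4, 1, 3, 4, 0, 2, 4, 1, 3, 1, 4, 0, 4, 2, 4, 0, 4, 3, 1, 3, 4, 0, 4, 1, 3, 4, 1, 0, 2, 3, 4, 1, 3, 1, 0, 4, 0, 1, 2, 0, 4, 3, 0, 2, 3, 0, 4, 2, 4, 1, 3, 0, 3, 0, 1, 3, 4, 1, 4, 2, 0, 4, 1, 4, 1, 2, 4, 0, 2, 4, 0, 3, 0, 4, 2, 0, 3, 1, 0, 4, 1, 4, 0, 3, 4, 1, 3, 0, 3, 1, 4, 2, 1, 4, 2, 3, 4, 0, 4, 1, 4, 2, 1], [2, 1, 4, 0, 1, 4, 0, 4, 0, 3, 0, 2, 4, 0, 3, 1, 3, 4, 2, 1, 4, 1, 4, 2, 4, 1, 4, 2, 0, 3,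 0, 4, 0, 4, 0, 3, 4, 2, 0, 3, 4, 1, 2, 3, 4, 0, 2, 4, 0, 2, 4, 1, 2, 4, 0, 2, 4, 1, 4, 2, 1, 4, 2, 0, 2, 3, 0, 3, 1, 4, 1, 4, 2, 4, 2, 4, 0, 3, 0, 2, 4, 3, 0, 1, 4, 0, 4, 1, 4, 2, 0, 4, 0, 3, 0, 1, 4, 3, 2, 0, 4, 1, 2], [4, 2, 4, 2, 1, 0, 1, 0, 3, 0, 4, 2, 4, 3, 4, 1, 0, 3, 0, 4, 1, 4, 1, 3, 2, 0, 4, 3, 0, 1, 3, 1, 0, 3, 2, 4, 1, 4, 1, 3, 2, 1, 0, 1, 4, 0, 2, 3, 1, 4, 0, 3, 1, 3, 1, 3, 4, 0, 3, 2, 4, 0, 1, 3, 1, 0, 3, 4, 2, 0, 4, 1, 4, 1, 2, 4, 2, 0, 4, 0, 3, 4, 2, 3, 4, 0, 3, 4, 3, 0, 1, 3, 0, 3, 1, 2, 4, 0, 1, 2, 4, 0, 3, 0, 4, 3, 1, 4, 1, 2, 0, 3, 0, 3, 2, 0, 4, 0, 2, 4, 1, 3, 0, 3, 2, 4, 2, 4, 1, 3, 0, 4, 0,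 3, 4, 0, 3, 1, 0, 3, 1, 4, 0, 1, 3, 2, 4, 0, 4, 2, 1, 3, 4, 0, 3], [1, 4, 0, 2, 4, 1, 2, 0, 4, 2, 0, 4, 2, 0, 3, 0, 1, 4, 1, 2, 0, 4, 1, 2, 1, 4, 2, 0, 3, 0, 4, 0, 1, 4, 1, 4, 2, 0, 4, 3, 0, 1, 4, 0, 4, 2, 0, 4, 0, 2, 3, 4, 0, 3, 0, 2, 4, 2, 0, 4, 0, 3, 2, 4, 2, 4, 0, 3, 1, 4, 0, 2, 4, 0, 4, 0, 2, 1, 3, 2, 4, 0, 2, 3, 2, 1, 4, 1, 2, 0, 3, 4, 1, 2, 4, 0, 3, 1, 4, 1, 4, 1, 2, 4, 1, 4, 0, 4, 0, 2, 0, 4, 1, 4, 3, 2, 0, 3, 0, 1, 3, 4, 2, 0, 4, 0, 4, 1, 3, 0, 1, 4, 0, 4, 0, 1, 2, 1], [4, 3, 1, 4, 0, 2, 4, 0, 4, 1, 4, 2, 4, 0, 3, 0, 4, 2, 0, 3, 2, 1, 0, 2, 4, 1, 0, 3, 0, 3, 1, 4, 2, 0, 1, 3, 4, 1, 4, 3, 4, 1, 0, 3, 2,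 4, 2, 4, 2, 1, 3, 2, 0, 1, 4, 2, 3, 0, 4, 3, 0, 3, 2, 1, 3, 4, 1, 4, 0, 3, 0, 1, 3, 4, 3, 1, 0, 4, 0, 4, 2, 0, 3, 4, 2, 4, 1, 4, 0, 4, 3, 1, 2, 3, 0, 3, 0, 2, 0, 2, 4, 1, 0, 3, 4, 1, 4, 3, 2, 0, 2, 4, 2, 0, 3, 4, 1, 2, 4, 0, 3, 1, 4, 1, 4, 1, 2, 4, 1, 4, 0, 4, 0, 2, 0, 4, 1, 4, 3, 2, 0, 3, 0, 1, 3, 4, 2, 0, 4, 0, 4, 1, 3, 0, 1, 4, 0, 4, 0, 1, 2, 1], [1, 4, 1, 0, 4, 3, 1, 2, 3, 4, 0, 1, 4, 2, 1, 0, 3, 4, 2, 0, 4, 2, 1, 2, 3, 4, 2, 1, 4, 0, 4, 0, 2, 3, 4, 2, 0, 3, 0, 4, 2, 4, 0, 4, 2, 4, 0, 3, 4, 2, 3, 2, 3, 0, 4, 1, 3, 0, 4, 0, 4, 0, 3, 1, 4, 0, 1, 0, 3, 4, 3, 0, 4, 3, 0, 4, 1, 2, 0, 2, 4, 2, 0, 3, 1, 4, 0, 4, 2,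 1, 3, 4], [4, 1, 0, 4, 1, 4, 1, 4, 2, 0, 4, 3, 0, 4, 3, 0, 3, 0, 4, 2, 1, 4, 1, 4, 3, 0, 4, 2, 0, 3, 4, 0, 4, 1, 2, 4, 2, 1, 4, 3, 0, 4, 1, 4, 1, 4, 3, 0, 2, 4, 0, 4, 1, 0, 4, 1, 3, 0, 4, 0, 4, 0, 3, 1, 4, 0, 1, 0, 3, 4, 3, 0, 4, 3, 0, 4, 1, 2, 0, 2, 4, 2, 0, 3, 1, 4, 0, 4, 2, 1, 3, 4], [3, 2, 4, 1, 3, 0, 4, 0, 4, 0, 1, 4, 2, 4, 0, 1, 3, 0, 4, 3, 1, 3, 0, 4, 2, 3, 0, 2, 4, 1, 4, 1, 0, 4, 2, 1, 0, 3, 2, 0, 4, 1, 3, 0, 3, 0, 3, 4, 2, 0, 3, 4, 1, 3, 0, 4, 0, 4, 0, 3, 1, 4, 0, 1, 0, 3, 4, 3, 0, 4, 3, 0, 4, 1, 2, 0, 2, 4, 2, 0, 3, 1, 4, 0, 4, 2, 1, 3, 4, 1, 4, 1, 2, 0, 3, 0, 3, 2, 0, 4, 0, 2, 4, 1, 3, 0, 3, 2, 4, 2,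 4, 1, 3, 0, 4, 0, 3, 4, 0, 3, 1, 0, 3, 1, 4, 0, 1, 3, 2, 4, 0, 4, 2, 1, 3, 4, 0, 3], [2, 0, 4, 0, 3, 0, 4, 3, 0, 4, 2, 0, 4, 3, 0, 1, 4, 0, 3, 0, 2, 4, 2, 0, 3, 2, 0, 4, 1, 2, 4, 0, 3, 1, 4, 1, 2, 0, 4, 1, 4, 2, 0, 2, 3, 4, 1, 3, 4, 0, 3, 0, 2, 4, 2, 1, 4, 2, 0, 3, 4, 1, 0, 3, 0, 4, 1, 0, 1, 3, 0, 2, 4, 2, 1, 4, 1, 0, 1, 3, 4, 1, 4, 1, 4, 1, 2, 0, 3, 0, 3, 2, 0, 4, 0, 2, 4, 1, 3, 0, 3, 2, 4, 2, 4, 1, 3, 0, 4, 0, 3, 4, 0, 3, 1, 0, 3, 1, 4, 0, 1, 3, 2, 4, 0, 4, 2, 1, 3, 4, 0, 3], [2, 0, 3, 4, 0, 2, 4, 2, 0, 4, 2, 4, 2, 0, 4, 1, 0, 4, 1, 3, 0, 1, 4, 0, 4, 0, 1, 4, 1, 4, 3, 2, 0, 4, 1, 4, 0, 3, 0, 4, 1, 3, 1, 4, 0,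 2, 0, 4, 0, 4, 0, 1, 3, 1, 3, 4, 1, 2, 4, 1, 3, 0, 2, 4, 2, 0, 4, 1, 0, 3, 4, 0, 1, 2, 3, 4, 0, 1, 3, 0, 3, 0, 3, 4, 1, 4, 0, 4, 0, 4, 2, 3, 1, 4, 3, 2, 0, 3, 4, 0, 4, 1, 4, 1, 0, 2, 1, 4, 1, 2, 0, 3, 0, 3, 2, 0, 4, 0, 2, 4, 1, 3, 0, 3, 2, 4, 2, 4, 1, 3, 0, 4, 0, 3, 4, 0, 3, 1, 0, 3, 1, 4, 0, 1, 3, 2, 4, 0, 4, 2, 1, 3, 4, 0, 3], [1, 4, 1, 0, 4, 3, 1, 2, 3, 4, 0, 1, 4, 2, 4, 3, 0, 2, 4, 1, 0, 3, 4, 2, 0, 3, 1, 4, 2, 4, 1, 4, 2, 1, 0, 4, 3, 1, 3, 4, 1, 0, 4, 1, 4, 0, 2, 3, 0, 4, 1, 4, 3, 2, 3, 4, 0, 4, 0, 3, 1, 2, 0, 3, 1, 3, 2, 4, 2, 4, 0, 1, 4, 3, 0, 4, 0, 1, 4, 3, 0, 4, 2, 0, 4, 0, 2, 4, 1, 4, 2, 4, 0, 4, 3, 2,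 0, 3, 4, 1, 2, 4, 1, 3, 0, 4, 1, 3, 0, 3, 1, 4, 1, 2, 0, 3, 0, 3, 2, 0, 4, 0, 2, 4, 1, 3, 0, 3, 2, 4, 2, 4, 1, 3, 0, 4, 0, 3, 4, 0, 3, 1, 0, 3, 1, 4, 0, 1, 3, 2, 4, 0, 4, 2, 1, 3, 4, 0, 3], [4, 0, 2, 3, 0, 4, 3, 2, 4, 0, 3, 0, 4, 1, 3, 0, 1, 3, 1, 4, 1, 0, 4, 3, 0, 3, 1, 2, 0, 4, 2, 0, 4, 3, 0, 3, 1, 4, 2, 0, 3, 2, 1, 0, 3, 4, 0, 4, 0, 3, 4, 1, 2, 4, 1, 3, 0, 2, 4, 2, 0, 4, 1, 0, 3, 4, 0, 1, 2, 3, 4, 0, 1, 3, 0, 3, 0, 3, 4, 1, 4, 0, 4, 0, 4, 2, 3, 1, 4, 3, 2, 0, 3, 4, 0, 4, 1, 4, 1, 0, 2, 3, 4, 1, 2, 4, 0, 3, 1, 4, 1, 4, 1, 2, 4, 1, 4, 0, 4, 0, 2, 0, 4, 1, 4, 3, 2, 0, 3, 0, 1, 3, 4, 2, 0, 4, 0, 4, 1, 3, 0, 1, 4,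 0, 4, 0, 1, 2, 1], [3, 4, 0, 3, 4, 2, 0, 4, 3, 1, 0, 4, 0, 3, 0, 2, 4, 1, 0, 2, 4, 1, 0, 3, 2, 0, 1, 4, 2, 0, 4, 0, 2, 4, 0, 3, 4, 1, 2, 0, 4, 2, 1, 4, 1, 3, 0, 4, 1, 3, 4, 1, 0, 3, 2, 3, 4, 1, 2, 4, 0, 3, 1, 4, 1, 4, 1, 2, 4, 1, 4, 0, 4, 0, 2, 0, 4, 1, 4, 3, 2, 0, 3, 0, 1, 3, 4, 2, 0, 4, 0, 4, 1, 3, 0, 1, 4, 0, 4, 0, 1, 2, 1], [1, 3, 4, 2, 0, 4, 0, 3, 0, 4, 2, 4, 0, 4, 2, 4, 0, 3, 4, 3, 0, 1, 4, 0, 2, 4, 1, 4, 2, 1, 0, 1, 3, 4, 1, 0, 4, 1, 3, 4, 1, 4, 1, 0, 2, 3, 4, 2, 4, 0, 4, 1, 2, 4, 0, 3, 1, 4, 1, 4, 1, 2, 4, 1, 4, 0, 4, 0, 2, 0, 4, 1, 4, 3, 2, 0, 3, 0, 1, 3, 4, 2, 0, 4, 0, 4, 1, 3, 0, 1, 4, 0, 4, 0, 1, 2,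 1], [1, 2, 4, 0, 4, 1, 0, 4, 2, 4, 2, 0, 3, 4, 2, 1, 4, 0, 4, 3, 2, 3, 0, 4, 3, 1, 4, 3, 0, 2, 3, 2, 4, 1, 4, 3, 2, 0, 3, 0, 1, 4, 0, 4, 0, 3, 2, 4, 1, 4, 0, 2, 0, 4, 0, 3, 0, 2, 3, 4, 1, 0, 3, 0, 3, 0, 2, 1, 4, 0, 2, 0, 4, 1, 3, 0, 3, 2, 0, 4, 1, 2, 3, 4, 1, 4, 0, 4, 2, 4, 3, 1, 4, 1, 2, 0, 3, 0, 3, 2, 0, 4, 0, 2, 4, 1, 3, 0, 3, 2, 4, 2, 4, 1, 3, 0, 4, 0, 3, 4, 0, 3, 1, 0, 3, 1, 4, 0, 1, 3, 2, 4, 0, 4, 2, 1, 3, 4, 0, 3], [3, 1, 3, 0, 1, 4, 1, 2, 4, 2, 0, 3, 1, 4, 0, 2, 1, 3, 1, 4, 3, 1, 4, 3, 0, 3, 4, 1, 4, 0, 2, 0, 4, 3, 0, 3, 4, 0, 2, 4, 1, 2, 3, 4, 0, 2, 3, 0, 4, 0, 3, 0, 4, 3, 4, 0, 3, 2, 4, 1, 4, 1, 3, 0,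 4, 2, 1, 0, 4, 0, 4, 0, 4, 1, 4, 0, 3, 0, 3, 0, 2, 4, 0, 4, 0, 1, 3, 0, 2, 4, 2, 1, 3, 4, 1, 4, 0, 3, 4, 0, 2, 4, 2], [1, 3, 1, 4, 0, 2, 3, 1, 0, 3, 0, 4, 1, 0, 4, 1, 2, 4, 0, 1, 0, 1, 4, 3, 0, 2, 3, 4, 2, 0, 4, 0, 1, 4, 2, 4, 1, 0, 2, 1, 4, 3, 0, 4, 0, 2, 4, 2, 4, 1, 4, 0, 4, 1, 3, 0, 1, 4, 3, 2, 1, 3, 0, 4, 3, 0, 4, 1, 0, 4, 2, 1, 4, 1, 3, 0, 2, 3, 0, 4, 3, 2, 1, 4, 2, 0, 4, 0, 4, 0, 3, 0, 4, 0, 1, 4, 1, 2, 0, 3, 0, 3, 2, 0, 4, 0, 2, 4, 1, 3, 0, 3, 2, 4, 2, 4, 1, 3, 0, 4, 0, 3, 4, 0, 3, 1, 0, 3, 1, 4, 0, 1, 3, 2, 4, 0, 4, 2, 1, 3, 4, 0, 3], [0, 1, 3, 0, 1, 0, 4, 1, 4, 1, 4, 1, 0, 3, 4, 1, 2, 3, 1, 4, 1, 3, 4,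 0, 3, 1, 3, 0, 4, 0, 2, 1, 4, 3, 0, 3, 4, 0, 4, 0, 3, 1, 4, 1, 2, 4, 2, 4, 0, 1, 4, 3, 0, 4, 0, 1, 4, 3, 0, 4, 2, 0, 4, 0, 2, 4, 1, 4, 2, 4, 0, 4, 3, 2, 0, 3, 4, 1, 2, 4, 1, 3, 0, 4, 1, 3, 0, 3], [4, 3, 0, 4, 1, 4, 0, 3, 0, 4, 1, 4, 0, 1, 3, 0, 1, 3, 0, 2, 3, 0, 4, 3, 1, 0, 4, 2, 4, 1, 3, 4, 1, 3, 0, 4, 2, 0, 4, 2, 1, 4, 1, 0, 4, 3, 2, 4, 3, 1, 4, 1, 4, 2, 4, 1, 4, 0, 2, 4, 1, 2, 3, 4, 0, 3, 1, 2, 4, 1, 4, 0, 2, 4, 0, 2, 4, 1, 4, 1, 3, 2, 0, 4, 1, 3, 2, 3, 2, 3, 0, 4, 2, 4, 1, 3, 4, 1, 3, 1, 4, 1, 2, 0, 3, 0, 3, 2, 0, 4, 0, 2, 4, 1, 3, 0, 3, 2, 4, 2, 4, 1, 3, 0, 4, 0, 3, 4, 0, 3, 1, 0, 3, 1, 4, 0, 1, 3, 2, 4, 0,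 4, 2, 1, 3, 4, 0, 3], [3, 0, 1, 2, 3, 0, 4, 0, 1, 4, 2, 4, 0, 3, 2, 4, 1, 0, 4, 3, 2, 0, 1, 4, 3, 0, 1, 4, 1, 3, 0, 4, 1, 0, 4, 3, 2, 3, 0, 3, 1, 4, 0, 4, 0, 3, 1, 3, 1, 4, 1, 4, 2, 4, 1, 4, 0, 2, 4, 1, 2, 3, 4, 0, 3, 1, 2, 4, 1, 4, 0, 2, 4, 0, 2, 4, 1, 4, 1, 3, 2, 0, 4, 1, 3, 2, 3, 2, 3, 0, 4, 2, 4, 1, 3, 4, 1, 4, 1, 2, 4, 0, 3, 1, 4, 1, 4, 1, 2, 4, 1, 4, 0, 4, 0, 2, 0, 4, 1, 4, 3, 2, 0, 3, 0, 1, 3, 4, 2, 0, 4, 0, 4, 1, 3, 0, 1, 4, 0, 4, 0, 1, 2, 1], [0, 3, 0, 2, 1, 4, 0, 3, 1, 0, 1, 4, 1, 3, 1, 0, 1, 0, 3, 0, 2, 4, 0, 4, 0, 2, 3, 0, 4, 1, 4, 2, 4, 1, 0, 3, 0, 4, 1, 3, 0, 3, 0, 3, 4, 1, 3, 0, 4, 0, 4, 2, 3, 4,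 0, 3, 1, 3, 4, 2, 3, 2, 1, 3, 0, 3, 0, 3, 1, 3, 1, 2, 4, 1, 0, 4, 2, 4, 1, 4, 3, 1], [0, 4, 2, 0, 4, 0, 3, 0, 4, 3, 2, 0, 3, 0, 1, 3, 4, 2, 0, 3, 0, 2, 4, 2, 0, 4, 0, 2, 4, 2, 0, 4, 2, 0, 3, 0, 4, 0, 4, 1, 4, 0, 3, 0, 2, 4, 2, 4, 0, 4, 1, 3, 0, 4, 0, 4, 0, 3, 1, 4, 0, 1, 0, 3, 4, 3, 0, 4, 3, 0, 4, 1, 2, 0, 2, 4, 2, 0, 3, 1, 4, 0, 4, 2, 1, 3, 4], [4, 2, 0, 4, 0, 3, 0, 4, 1, 4, 1, 0, 4, 0, 3, 4, 2, 3, 1, 4, 2, 1, 4, 1, 3, 4, 2, 0, 4, 0, 3, 1, 4, 3, 0, 2, 3, 2, 0, 4, 3, 1, 4, 1, 3, 4, 0, 3, 2, 4, 0, 1, 3, 1, 0, 3, 4, 2, 0, 4, 1, 4, 1, 2, 4, 2, 0, 4, 0, 3, 4, 2, 3, 4, 0, 3, 4, 3, 0, 1, 3, 0, 3, 1, 2, 4, 0, 1, 2, 4,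 0, 3, 0, 4, 3, 1, 4, 1, 2, 0, 3, 0, 3, 2, 0, 4, 0, 2, 4, 1, 3, 0, 3, 2, 4, 2, 4, 1, 3, 0, 4, 0, 3, 4, 0, 3, 1, 0, 3, 1, 4, 0, 1, 3, 2, 4, 0, 4, 2, 1, 3, 4, 0, 3], [0, 3, 4, 1, 4, 0, 1, 4, 1, 3, 0, 4, 1, 3, 4, 0, 4, 0, 1, 3, 2, 1, 4, 0, 4, 2, 4, 2, 0, 3, 4, 1, 2, 4, 0, 2, 0, 3, 4, 0, 4, 2, 3, 0, 4, 0, 1, 0, 3, 4, 1, 4, 0, 3, 2, 4, 0, 1, 3, 0, 4, 3, 1, 3, 4, 1, 3, 0, 4, 0, 4, 2, 0, 4, 3, 2, 4, 0, 3, 1, 3, 1, 0, 4, 3, 0, 1, 3, 1, 0, 4, 0, 1, 3, 0, 4, 2, 1, 3, 4, 0, 1, 4, 3, 1, 3, 0, 3, 1, 4, 1, 2, 0, 3, 0, 3, 2, 0, 4, 0, 2, 4, 1, 3, 0, 3, 2, 4, 2, 4, 1, 3, 0, 4, 0, 3, 4, 0, 3, 1, 0, 3, 1, 4, 0, 1, 3, 2, 4, 0, 4, 2,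 1, 3, 4, 0, 3], [4, 3, 0, 4, 0, 2, 4, 1, 4, 0, 3, 4, 0, 3, 4, 2, 4, 1, 0, 3, 0, 4, 0, 2, 3, 0, 1, 4, 1, 3, 1, 0, 4, 1, 2, 0, 4, 2, 4, 3, 0, 3, 0, 1, 0, 2, 3, 1, 4, 1, 4, 2, 4, 1, 4, 0, 2, 4, 1, 2, 3, 4, 0, 3, 1, 2, 4, 1, 4, 0, 2, 4, 0, 2, 4, 1, 4, 1, 3, 2, 0, 4, 1, 3, 2, 3, 2, 3, 0, 4, 2, 4, 1, 3, 4, 1, 3], [4, 1, 2, 3, 0, 1, 4, 1, 3, 1, 0, 4, 1, 2, 3, 0, 4, 2, 4, 2, 4, 1, 3, 0, 1, 4, 2, 4, 0, 3, 0, 3, 4, 2, 0, 1, 0, 4, 2, 1, 2, 4, 2, 4, 0, 4, 3, 1, 3, 0, 3, 2, 4, 0, 2, 4, 3, 0, 1, 2, 4, 0, 2, 1, 4, 1, 2, 1, 0, 3, 4, 0, 2, 4, 2, 0, 2, 0, 4, 2, 4, 2, 0, 2, 4, 0], [0, 3, 1, 4, 1, 2, 1, 3, 4, 3, 0, 4, 3, 0, 4, 3, 2,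 0, 3, 0, 1, 3, 4, 2, 0, 3, 0, 2, 4, 0, 4, 1, 3, 0, 3, 0, 4, 3, 2, 0, 4, 1, 0, 3, 2, 4, 2, 3, 4, 3, 1, 0, 3, 0, 4, 0, 4, 2, 3, 4, 0, 2, 3, 4, 1, 2, 3, 4, 2, 3, 1, 4, 1, 3, 4, 0, 3, 0, 3, 0, 4, 2, 0, 4, 1, 2, 3, 4, 1, 0, 4, 1, 2, 4, 2, 4, 1, 2, 0, 3, 0, 3, 2, 0, 4, 0, 2, 4, 1, 3, 0, 3, 2, 4, 2, 4, 1, 3, 0, 4, 0, 3, 4, 0, 3, 1, 0, 3, 1, 4, 0, 1, 3, 2, 4, 0, 4, 2, 1, 3, 4, 0, 3], [0, 1, 4, 1, 2, 0, 3, 0, 4, 0, 4, 3, 2, 0, 3, 0, 4, 2, 3, 1, 4, 0, 4, 1, 4, 3, 0, 4, 1, 4, 0, 3, 4, 1, 4, 2, 4, 2, 4, 0, 3, 0, 4, 1, 0, 3, 0, 1, 0, 2, 4, 3, 0, 2, 4, 2, 1, 4, 2, 0, 3, 4, 1, 0, 3, 0, 4, 1, 0, 1, 3, 0, 2, 4, 2, 1, 4, 1, 0, 1,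 3, 4, 1, 4, 3, 4, 1, 2, 4, 0, 3, 1, 4, 1, 4, 1, 2, 4, 1, 4, 0, 4, 0, 2, 0, 4, 1, 4, 3, 2, 0, 3, 0, 1, 3, 4, 2, 0, 4, 0, 4, 1, 3, 0, 1, 4, 0, 4, 0, 1, 2, 1], [1, 4, 1, 0, 4, 3, 1, 2, 3, 4, 0, 1, 4, 2, 4, 0, 3, 1, 4, 2, 1, 4, 0, 2, 3, 0, 3, 0, 1, 3, 0, 4, 0, 3, 0, 4, 2, 0, 4, 0, 3, 1, 4, 2, 4, 2, 0, 3, 0, 1, 4, 3, 2, 1, 4, 1, 3, 0, 4, 0, 2, 3, 4, 0, 3, 0, 2, 4, 2, 0, 4, 0, 3, 2, 4, 2, 0, 4, 3, 1, 0, 3, 0, 4, 1, 3, 2, 4, 0, 4, 1, 0, 2, 4, 2, 0, 3, 1], [2, 4, 0, 3, 4, 0, 2, 4, 3, 1, 0, 1, 2, 4, 2, 1, 4, 1, 2, 3, 4, 0, 3, 4, 3, 0, 2, 4, 1, 4, 2, 0, 3, 0, 1, 3, 2, 0, 4, 1, 0, 3, 0, 4, 3, 1, 4, 3, 0, 2, 0, 3, 1, 0, 3,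 4, 1, 3, 0, 4, 0, 4, 2, 3, 4, 0, 3, 1, 3, 4, 2, 3, 2, 1, 3, 0, 3, 0, 3, 1, 3, 1, 2, 4, 1, 0, 4, 2, 4, 1, 4, 3, 4, 1, 2, 0, 3, 0, 3, 2, 0, 4, 0, 2, 4, 1, 3, 0, 3, 2, 4, 2, 4, 1, 3, 0, 4, 0, 3, 4, 0, 3, 1, 0, 3, 1, 4, 0, 1, 3, 2, 4, 0, 4, 2, 1, 3, 4, 0, 3], [1, 2, 0, 3, 4, 2, 1, 4, 2, 1, 3, 0, 1, 4, 1, 0, 3, 2, 0, 4, 2, 4, 1, 0, 3, 4, 2, 4, 1, 4, 3, 0, 2, 4, 2, 0, 4, 0, 4, 0, 3, 0, 2, 4, 1, 0, 3, 0, 1, 3, 0, 4, 3, 0, 1, 2, 0, 1, 4, 1, 3, 1, 0, 1, 4, 0, 2, 4, 1, 0, 4, 1, 3, 4, 0, 2, 3, 2, 0, 2, 4], [4, 1, 0, 4, 3, 0, 4, 3, 4, 3, 0, 4, 3, 0, 1, 2, 3, 0, 4, 0, 1, 4, 0, 4, 1, 4, 3, 0, 1, 4, 2, 1, 3, 0, 1, 4, 0, 3, 0,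 3, 1, 4, 0, 4, 0, 3, 0, 4, 0, 4, 0, 2, 0, 4, 0, 4, 0, 4, 3, 4, 1, 2, 4, 1, 3, 0, 2, 4, 2, 0, 4, 1, 0, 3, 4, 0, 1, 2, 3, 4, 0, 1, 3, 0, 3, 0, 3, 4, 1, 4, 0, 4, 0, 4, 2, 3, 1, 4, 3, 2, 0, 3, 4, 0, 4, 1, 4, 1, 0, 2, 1, 4, 1, 2, 0, 3, 0, 3, 2, 0, 4, 0, 2, 4, 1, 3, 0, 3, 2, 4, 2, 4, 1, 3, 0, 4, 0, 3, 4, 0, 3, 1, 0, 3, 1, 4, 0, 1, 3, 2, 4, 0, 4, 2, 1, 3, 4, 0, 3], [1, 2, 4, 2, 0, 4, 2, 1, 0, 2, 4, 2, 0, 3, 0, 3, 2, 4, 3, 1, 2, 4, 0, 3, 2, 4, 0, 2, 4, 0, 4, 3, 0, 3, 4, 1, 4, 0, 3, 0, 4, 0, 2, 3, 0, 3, 4, 1, 2, 0, 3, 0, 4, 1, 4, 1, 0, 3, 4, 1, 3, 0, 4, 0, 4, 2, 3, 4, 0, 3, 1, 3, 4, 2, 3, 2, 1, 3, 0, 3, 0, 3, 1, 3, 1, 2,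 4, 1, 0, 4, 2, 4, 1, 4, 3, 1], [3, 2, 0, 1, 3, 4, 0, 4, 0, 3, 1, 0, 3, 4, 0, 4, 1, 2, 4, 1, 3, 2, 4, 1, 4, 0, 4, 3, 0, 3, 0, 1, 0, 3, 2, 1, 4, 0, 4, 1, 4, 2, 0, 3, 0, 2, 3, 0, 4, 1, 4, 1, 4, 0, 4, 0, 3, 0, 1, 3, 2, 4, 1, 3, 0, 4, 3, 0, 1, 0, 4, 0, 3, 0, 2, 4, 1, 2, 4, 1, 3, 0, 3, 0, 2, 1, 2, 4, 1, 2, 4, 1, 4, 2, 0, 3, 4, 1, 2, 4, 0, 3, 1, 4, 1, 4, 1, 2, 4, 1, 4, 0, 4, 0, 2, 0, 4, 1, 4, 3, 2, 0, 3, 0, 1, 3, 4, 2, 0, 4, 0, 4, 1, 3, 0, 1, 4, 0, 4, 0, 1, 2, 1], [4, 0, 3, 0, 4, 1, 4, 1, 2, 0, 3, 4, 0, 2, 4, 3, 0, 1, 0, 2, 4, 0, 3, 0, 3, 1, 2, 3, 4, 0, 4, 1, 3, 0, 4, 0, 2, 3, 4, 2, 0, 4, 1, 3, 4, 1, 4, 2, 0, 3, 4, 0,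 2, 4, 1, 0, 3, 0, 4, 0, 4, 2, 3, 4, 0, 2, 3, 4, 1, 2, 3, 4, 2, 0, 3, 2, 0, 3, 4, 2, 0, 3, 4, 1, 3, 4, 1, 4, 3, 1, 0, 4, 2, 3, 0, 4, 3, 0, 2, 3, 0, 4, 0, 3, 1, 4, 1, 2, 0, 3, 0, 3, 2, 0, 4, 0, 2, 4, 1, 3, 0, 3, 2, 4, 2, 4, 1, 3, 0, 4, 0, 3, 4, 0, 3, 1, 0, 3, 1, 4, 0, 1, 3, 2, 4, 0, 4, 2, 1, 3, 4, 0, 3], [4, 1, 4, 3, 1, 4, 0, 2, 4, 1, 0, 3, 0, 4, 0, 2, 1, 2, 3, 1, 4, 1, 4, 1, 0, 3, 0, 4, 2, 4, 0, 2, 4, 1, 2, 4, 1, 3, 4, 0, 4, 3, 0, 3, 2, 0, 4, 2, 4, 0, 4, 0, 4, 1, 4, 3, 2, 0, 3, 0, 3, 1, 4, 1, 3, 0, 4, 0, 2, 0, 4, 1, 3, 0, 4, 1, 3, 0, 4, 0, 3, 1, 4, 1, 4, 3, 0, 3, 1, 2, 4, 0, 3, 1, 3, 4, 2, 3, 1, 3, 4, 1, 2, 4, 0,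 3, 1, 4, 1, 4, 1, 2, 4, 1, 4, 0, 4, 0, 2, 0, 4, 1, 4, 3, 2, 0, 3, 0, 1, 3, 4, 2, 0, 4, 0, 4, 1, 3, 0, 1, 4, 0, 4, 0, 1, 2, 1], [1, 4, 0, 4, 1, 4, 0, 4, 3, 2, 0, 4, 0, 3, 1, 4, 0, 2, 4, 2, 3, 1, 3, 1, 0, 2, 3, 1, 4, 3, 0, 3, 1, 4, 2, 0, 3, 4, 3, 0, 3, 1, 3, 4, 0, 1, 0, 4, 0, 3, 0, 4, 1, 3, 4, 0, 3, 2, 4, 1, 4, 1, 3, 0, 4, 2, 1, 0, 4, 0, 4, 0, 4, 1, 4, 0, 3, 0, 3, 0, 2, 4, 0, 4, 0, 1, 3, 0, 2, 4, 2, 1, 3, 4, 1, 4, 0, 3, 4, 0, 2, 4, 2], [0, 1, 4, 0, 2, 3, 0, 4, 1, 2, 0, 4, 1, 0, 4, 0, 3, 1, 4, 2, 0, 4, 0, 4, 3, 1, 2, 4, 0, 4, 2, 4, 1, 3, 1, 0, 2, 4, 0, 1, 3, 0, 2, 4, 1, 4, 2, 1, 4, 1, 3, 0, 2, 4, 2, 4, 1, 4, 0, 3,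 0, 3, 2, 1, 3, 4, 1, 4, 0, 3, 0, 1, 3, 4, 3, 1, 0, 4, 0, 4, 2, 0, 3, 4, 2, 4, 1, 4, 0, 4, 3, 1, 2, 3, 0, 3, 0, 2, 0, 2, 4, 1, 0, 3, 4, 1, 4, 3, 2, 0, 2, 4, 2, 0], [4, 0, 1, 3, 0, 3, 0, 4, 2, 0, 3, 0, 1, 4, 0, 2, 4, 1, 3, 0, 3, 1, 3, 4, 0, 3, 2, 1, 4, 0, 3, 0, 3, 4, 1, 3, 2, 0, 4, 2, 4, 2, 0, 4, 2, 0, 4, 1, 0, 3, 0, 4, 0, 4, 2, 3, 4, 0, 2, 3, 4, 1, 2, 3, 0, 2, 4, 3, 0, 1, 2, 0, 4, 1, 0, 4, 2, 4, 0, 4, 2, 0, 2, 3, 1, 3, 0, 3, 2, 0, 4, 0, 2, 4, 1, 3, 0, 3, 2, 4, 2, 4, 1, 3, 0, 4, 0, 3, 4, 0, 3, 1, 0, 3, 1, 4, 0, 1, 3, 2, 4, 0, 4, 2, 1, 3, 4, 0, 3], [0, 1, 4, 1, 4, 2, 0, 3, 4, 1, 2, 4, 0, 2, 0, 4, 0, 3, 4, 0, 1, 4,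 1, 0, 2, 4, 1, 4, 1, 3, 4, 0, 3, 1, 3, 0, 4, 0, 2, 4, 0, 4, 0, 3, 4, 0, 4, 1, 3, 0, 4, 1, 0, 2, 3, 4, 0, 3, 0, 2, 4, 2, 0, 4, 0, 3, 0, 4, 3, 2, 1, 3, 4, 0, 2, 3, 0, 2, 4, 0, 4, 2, 1, 2, 3, 2, 1, 0, 3, 1, 3, 1, 4, 1, 2, 0, 3, 0, 3, 2, 0, 4, 0, 2, 4, 1, 3, 0, 3, 2, 4, 2, 4, 1, 3, 0, 4, 0, 3, 4, 0, 3, 1, 0, 3, 1, 4, 0, 1, 3, 2, 4, 0, 4, 2, 1, 3, 4, 0, 3], [1, 3, 4, 0, 4, 0, 4, 1, 0, 4, 0, 3, 4, 1, 0, 4, 2, 1, 4, 0, 2, 0, 3, 0, 2, 0, 4, 3, 0, 4, 3, 0, 3, 1, 4, 2, 0, 4, 1, 4, 3, 0, 3, 2, 1, 3, 0, 1, 3, 4, 1, 2, 4, 0, 3, 1, 4, 1, 4, 1, 2, 4, 1, 4, 0, 3, 2, 4, 2, 0, 4, 2, 4, 1, 4, 0, 4, 1, 0, 3, 1, 4, 2, 0, 4, 3, 2, 0,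 3, 4, 0, 4, 1, 4, 1, 0, 3, 4, 1, 2, 4, 0, 3, 1, 4, 1, 4, 1, 2, 4, 1, 4, 0, 4, 0, 2, 0, 4, 1, 4, 3, 2, 0, 3, 0, 1, 3, 4, 2, 0, 4, 0, 4, 1, 3, 0, 1, 4, 0, 4, 0, 1, 2, 1], [2, 3, 0, 3, 0, 3, 2, 0, 4, 0, 4, 0, 2, 4, 0, 2, 1, 4, 0, 2, 3, 4, 1, 0, 4, 0, 2, 4, 1, 4, 2, 0, 3, 1, 2, 0, 3, 0, 4, 0, 2, 1, 4, 1, 0, 4, 1, 3, 0, 4, 0, 4, 0, 3, 1, 4, 0, 1, 0, 3, 2, 0, 4, 0, 3, 4, 3, 1, 4, 0, 3, 4, 0, 4, 1, 3, 0, 4, 1, 0, 3, 0, 2, 4, 0, 4, 0, 3, 4, 1, 2, 4, 0, 3, 1, 4, 1, 4, 1, 2, 4, 1, 4, 0, 4, 0, 2, 0, 4, 1, 4, 3, 2, 0, 3, 0, 1, 3, 4, 2, 0, 4, 0, 4, 1, 3, 0, 1, 4, 0, 4, 0, 1, 2, 1], [3, 2, 0, 1, 3, 4, 0, 4, 3, 2, 1, 4, 2, 0,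 4, 0, 2, 3, 1, 4, 1, 2, 0, 4, 0, 4, 2, 3, 0, 2, 3, 4, 0, 3, 2, 4, 2, 0, 4, 0, 3, 1, 3, 4, 1, 2, 0, 1, 3, 4, 0, 4, 2, 4, 3, 1, 4, 1, 4, 2, 4, 1, 4, 0, 2, 4, 1, 2, 3, 4, 2, 4, 2, 0, 3, 0, 4, 1, 4, 0, 4, 1, 4, 3, 1, 4, 2, 0, 4, 2, 1, 2, 4, 2, 1, 4, 1, 4, 1, 2, 0, 3, 0, 3, 2, 0, 4, 0, 2, 4, 1, 3, 0, 3, 2, 4, 2, 4, 1, 3, 0, 4, 0, 3, 4, 0, 3, 1, 0, 3, 1, 4, 0, 1, 3, 2, 4, 0, 4, 2, 1, 3, 4, 0, 3], [2, 4, 2, 0, 1, 4, 1, 4, 1, 0, 3, 0, 3, 1, 4, 0, 4, 1, 3, 4, 2, 0, 4, 1, 4, 3, 0, 4, 0, 4, 1, 3, 4, 1, 0, 3, 0, 3, 4, 2, 1, 3, 0, 4, 0, 2, 3, 4, 0, 3, 2, 4, 0, 2, 3, 4, 0, 2, 3, 4, 0, 3, 0, 2, 4, 2, 0, 4, 0, 3, 2, 4, 2, 0, 4,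 3, 1, 0, 3, 0, 4, 1, 3, 2, 4, 0, 4, 1, 0, 2, 4, 2, 0, 3, 4, 1, 2, 0, 3, 0, 3, 2, 0, 4, 0, 2, 4, 1, 3, 0, 3, 2, 4, 2, 4, 1, 3, 0, 4, 0, 3, 4, 0, 3, 1, 0, 3, 1, 4, 0, 1, 3, 2, 4, 0, 4, 2, 1, 3, 4, 0, 3], [0, 2, 3, 1, 4, 1, 4, 1, 0, 3, 0, 1, 3, 4, 0, 4, 3, 1, 4, 1, 4, 1, 4, 1, 2, 4, 3, 2, 0, 1, 3, 4, 1, 2, 3, 0, 3, 0, 1, 4, 2, 0, 4, 2, 4, 2, 1, 3, 2, 4, 0, 4, 1, 3, 1, 3, 0, 3, 2, 1, 3, 4, 1, 4, 0, 3, 0, 1, 3, 4, 3, 1, 0, 4, 0, 4, 2, 0, 3, 4, 2, 4, 1, 4, 0, 4, 3, 1, 2, 3, 0, 3, 0, 2, 0, 2, 4, 1, 0, 3, 4, 1, 4, 3, 2, 0, 2, 4, 2, 0, 3, 4, 1, 2, 4, 0, 3, 1, 4, 1, 4, 1, 2, 4, 1, 4, 0, 4, 0, 2, 0, 4, 1, 4, 3, 2, 0, 3, 0,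 1, 3, 4, 2, 0, 4, 0, 4, 1, 3, 0, 1, 4, 0, 4, 0, 1, 2, 1], [1, 3, 4, 0, 1, 4, 1, 0, 4, 0, 3, 1, 0, 3, 4, 2, 1, 4, 2, 0, 4, 3, 0, 1, 4, 0, 2, 4, 2, 0, 3, 1, 4, 2, 1, 4, 3, 1, 4, 3, 1, 4, 2, 0, 4, 1, 4, 1, 2, 4, 0, 2, 4, 0, 3, 0, 4, 2, 0, 4, 3, 1, 4, 0, 4, 0, 3, 4, 2, 0, 4, 0, 3, 2, 1, 4, 0, 4, 3, 1, 4, 1, 4, 3, 0, 1, 3, 1, 4, 1, 2, 0, 3, 0, 3, 2, 0, 4, 0, 2, 4, 1, 3, 0, 3, 2, 4, 2, 4, 1, 3, 0, 4, 0, 3, 4, 0, 3, 1, 0, 3, 1, 4, 0, 1, 3, 2, 4, 0, 4, 2, 1, 3, 4, 0, 3], [2, 1, 4, 2, 3, 0, 4, 1, 4, 0, 3, 0, 3, 2, 0, 4, 3, 1, 4, 0, 2, 4, 2, 0, 2, 0, 4, 2, 4, 3, 0, 1, 4, 0, 4, 2, 1, 0, 3, 1, 4, 1, 4, 3, 1, 2, 3, 0, 4, 3,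 0, 2, 4, 3, 2, 1, 2, 4, 0, 3, 2, 0, 3, 4, 0, 4, 1, 2, 4, 0, 2, 4, 2, 0, 3, 0, 4, 1, 2, 4, 2, 1, 3, 1, 4, 1, 2, 0, 3, 0, 3, 2, 0, 4, 0, 2, 4, 1, 3, 0, 3, 2, 4, 2, 4, 1, 3, 0, 4, 0, 3, 4, 0, 3, 1, 0, 3, 1, 4, 0, 1, 3, 2, 4, 0, 4, 2, 1, 3, 4, 0, 3], [1, 2, 4, 0, 3, 4, 0, 3, 1, 3, 2, 0, 3, 4, 1, 0, 3, 4, 1, 4, 3, 0, 1, 4, 2, 0, 3, 4, 0, 1, 4, 3, 0, 4, 1, 0, 4, 0, 2, 3, 0, 4, 3, 1, 4, 0, 3, 2, 0, 3, 4, 1, 2, 4, 2, 4, 0, 3, 0, 4, 1, 4, 0, 1, 3, 0, 1, 3, 1, 4, 3, 1, 4, 2, 0, 3, 4, 2, 4, 1, 4, 1, 2, 0, 3, 0, 4, 0, 2, 4, 1, 2, 4, 0, 3, 1, 3, 4, 1, 2, 4, 0, 3, 1, 4, 1, 4, 1, 2, 4, 1, 4, 0, 4, 0, 2, 0, 4, 1, 4, 3, 2, 0, 3,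 0, 1, 3, 4, 2, 0, 4, 0, 4, 1, 3, 0, 1, 4, 0, 4, 0, 1, 2, 1], [4, 2, 1, 4, 0, 4, 0, 4, 1, 4, 3, 0, 3, 0, 1, 4, 0, 4, 2, 4, 1, 4, 3, 0, 1, 4, 2, 0, 3, 4, 0, 1, 4, 3, 0, 4, 1, 0, 4, 0, 2, 3, 0, 4, 3, 2, 4, 0, 3, 2, 1, 4, 0, 1, 3, 1, 4, 1, 0, 4, 0, 4, 2, 1, 4, 2, 3, 1, 4, 2, 3, 2, 0, 3, 2, 4, 0, 2, 4, 3, 4, 1, 2, 4, 0, 3, 1, 4, 1, 4, 1, 2, 4, 1, 4, 0, 4, 0, 2, 0, 4, 1, 4, 3, 2, 0, 3, 0, 1, 3, 4, 2, 0, 4, 0, 4, 1, 3, 0, 1, 4, 0, 4, 0, 1, 2, 1], [0, 2, 3, 4, 0, 3, 1, 4, 1, 4, 1, 0, 4, 0, 3, 1, 2, 3, 2, 1, 2, 4, 2, 1, 0, 4, 3, 0, 4, 0, 2, 4, 3, 1, 4, 2, 4, 1, 2, 4, 0, 4, 3, 2, 0, 1, 2, 0, 3, 0, 2, 4, 1, 4, 0, 4, 1, 2,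 3, 0, 1, 0, 3, 0, 3, 4, 0, 4, 1, 4, 2, 1, 4, 0, 4, 3, 0, 1, 3, 0, 4, 1, 3, 4, 2, 4, 1, 0, 3, 0, 3, 0, 4, 0, 2, 3, 1, 4, 3, 4, 1, 2, 4, 0, 3, 1, 4, 1, 4, 1, 2, 4, 1, 4, 0, 4, 0, 2, 0, 4, 1, 4, 3, 2, 0, 3, 0, 1, 3, 4, 2, 0, 4, 0, 4, 1, 3, 0, 1, 4, 0, 4, 0, 1, 2, 1], [2, 3, 4, 0, 3, 4, 0, 4, 1, 4, 3, 0, 3, 4, 1, 0, 4, 3, 1, 4, 0, 3, 0, 1, 4, 1, 4, 0, 3, 1, 0, 3, 2, 1, 3, 4, 2, 4, 0, 2, 4, 1, 4, 0, 3, 1, 0, 2, 3, 4, 0, 3, 0, 2, 4, 2, 0, 4, 0, 3, 2, 4, 2, 4, 0, 3, 1, 4, 0, 2, 4, 0, 4, 0, 2, 1, 3, 2, 4, 0, 2, 3, 2, 1, 4, 1, 2, 0], [3, 1, 4, 2, 1, 0, 4, 2, 4, 1, 0, 2, 4, 2, 1, 4, 0, 1, 2, 4, 0, 3, 4, 3, 0, 4, 3, 0, 3,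 4, 0, 2, 3, 0, 4, 3, 1, 3, 2, 4, 0, 4, 1, 3, 0, 1, 4, 2, 3, 2, 4, 0, 2, 4, 3, 0, 1, 2, 4, 0, 2, 1, 4, 1, 2, 1, 0, 3, 4, 0, 2, 4, 2, 0, 2, 0, 4, 2, 4, 2, 0, 2, 4, 0]]

def tupC5 : List (List ℕ) := [[0, 1, 4, 0, 1, 4, 0, 4, 2, 0, 4, 1, 0, 4, 2, 0, 1, 3, 4, 1, 4, 2, 0, 2, 3, 4, 1, 4, 0, 4, 0, 3, 1, 2, 4, 0, 2, 3, 1, 3, 2, 4, 2, 4, 1, 0, 3, 0, 4, 1, 4, 1, 4, 3, 2, 0, 2, 3, 4, 0, 3, 0, 2, 4, 2, 0, 4, 0, 3, 2, 4, 2, 4, 3, 0, 1, 4, 2, 1, 3, 0, 1, 4, 0, 3, 4, 3, 0, 3, 0, 2, 3, 4, 1, 3, 1, 0, 3, 0, 4, 1, 4, 2], [4, 1, 3, 0, 4, 0, 4, 2, 3, 1, 4, 1, 4, 0, 4, 0, 2, 4, 1, 3, 0, 4, 1, 3, 4, 0, 4, 3, 1, 4, 2, 0, 3, 1, 4, 0, 3,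 1, 0, 4, 3, 0, 2, 4, 2, 4, 3, 0, 1, 3, 0, 4, 2, 4, 0, 3, 2, 0, 3, 4, 0, 4, 1, 2, 4, 0, 2, 4, 2, 0, 3, 0, 4, 1, 2, 4, 2, 1, 3], [1, 2, 4, 0, 3, 4, 0, 3, 1, 4, 1, 4, 1, 0, 3, 1, 4, 0, 1, 3, 2, 1, 4, 3, 0, 2, 3, 4, 1, 3, 4, 0, 2, 1, 4, 2, 4, 3, 0, 2, 4, 0, 2, 4, 3, 0, 2, 0, 2, 4, 3, 0, 1, 2, 4, 0, 2, 1, 4, 1, 2, 1, 0, 3, 4, 0, 2, 4, 2, 0, 2, 0, 4, 2, 4, 2, 0, 2, 4, 0, 3, 4, 1, 2, 4, 0, 3, 1, 4, 1, 4, 1, 2, 4, 1, 4, 0, 4, 0, 2, 0, 4, 1, 4, 3, 2, 0, 3, 0, 1, 3, 4, 2, 0, 4, 0, 4, 1, 3, 0, 1, 4, 0, 4, 0, 1, 2, 1], [4, 1, 2, 3, 0, 4, 0, 1, 4, 0, 4, 3, 0, 4, 2, 0, 4, 1, 4, 3, 1, 3, 4, 0, 4, 1, 0, 4, 0, 2, 4, 1, 4, 2, 0,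 3, 1, 2, 0, 3, 0, 4, 0, 2, 1, 4, 1, 4, 0, 2, 3, 4, 0, 3, 0, 2, 4, 2, 0, 4, 0, 3, 2, 4, 2, 4, 0, 3, 1, 4, 0, 2, 4, 0, 4, 0, 2, 1, 3, 2, 4, 0, 2, 3, 2, 1, 4, 1, 2, 0, 3, 4, 1, 2, 4, 0, 3, 1, 4, 1, 4, 1, 2, 4, 1, 4, 0, 4, 0, 2, 0, 4, 1, 4, 3, 2, 0, 3, 0, 1, 3, 4, 2, 0, 4, 0, 4, 1, 3, 0, 1, 4, 0, 4, 0, 1, 2, 1], [4, 0, 1, 3, 1, 3, 1, 4, 0, 1, 3, 2, 0, 4, 2, 1, 4, 1, 2, 4, 1, 4, 3, 1, 4, 2, 0, 3, 2, 0, 4, 0, 1, 4, 0, 2, 4, 1, 4, 3, 4, 3, 1, 4, 1, 4, 2, 4, 1, 4, 0, 2, 4, 1, 2, 3, 4, 0, 3, 1, 2, 4, 1, 4, 0, 2, 4, 0, 2, 4, 1, 4, 1, 3, 2, 0, 4, 1, 3, 2, 3, 2, 3, 0, 4, 2, 4, 1, 3, 4, 1, 3], [1, 3, 4, 0, 1, 4, 1, 3, 0, 4,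 3, 0, 4, 0, 1, 2, 4, 3, 1, 4, 0, 1, 4, 3, 2, 0, 1, 4, 3, 0, 1, 4, 1, 3, 0, 4, 1, 0, 4, 3, 2, 3, 0, 3, 1, 4, 0, 4, 0, 3, 1, 4, 2, 0, 4, 0, 4, 0, 3, 2, 4, 1, 4, 0, 2, 0, 4, 0, 3, 0, 2, 3, 4, 1, 0, 4, 0, 3, 0, 2, 3, 4, 1, 0, 2, 4, 2, 0, 1, 3, 1, 4, 2, 1, 0, 4, 2, 0, 4, 1, 4, 1, 2, 0, 3, 0, 3, 2, 0, 4, 0, 2, 4, 1, 3, 0, 3, 2, 4, 2, 4, 1, 3, 0, 4, 0, 3, 4, 0, 3, 1, 0, 3, 1, 4, 0, 1, 3, 2, 4, 0, 4, 2, 1, 3, 4, 0, 3], [1, 4, 1, 3, 2, 0, 4, 2, 3, 0, 4, 0, 4, 3, 1, 0, 3, 4, 0, 4, 1, 3, 0, 4, 0, 2, 3, 1, 4, 0, 3, 2, 1, 4, 2, 1, 3, 0, 4, 1, 4, 2, 0, 4, 0, 2, 4, 1, 3, 4, 1, 4, 0, 2, 4, 0, 2, 0, 4, 1, 0, 3, 0, 3, 4, 1, 4, 1,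 0, 3, 0, 3, 4, 0, 4, 1, 2, 4, 1, 0, 3, 0, 3, 1, 4, 1, 4, 0, 1, 4, 2, 1, 4, 3, 0, 2, 3, 4, 3, 0, 4, 0, 2, 4, 1, 3, 1, 3, 4], [4, 0, 3, 0, 2, 4, 0, 4, 1, 0, 3, 4, 2, 0, 4, 1, 2, 0, 4, 3, 1, 0, 4, 1, 4, 0, 2, 4, 0, 1, 3, 2, 4, 0, 1, 3, 4, 3, 1, 0, 4, 2, 4, 0, 3, 1, 0, 4, 1, 4, 2, 1, 4, 0, 2, 4, 3, 0, 4, 1, 2, 4, 0, 3, 0, 4, 0, 4, 2, 0, 4, 2, 3, 4, 0, 2, 4, 2, 0, 4, 0, 2, 4, 2, 4, 3, 0, 4, 1, 3, 4, 1, 4, 0, 4, 0, 1, 4, 1, 2, 0, 3, 0, 3, 2, 0, 4, 0, 2, 4, 1, 3, 0, 3, 2, 4, 2, 4, 1, 3, 0, 4, 0, 3, 4, 0, 3, 1, 0, 3, 1, 4, 0, 1, 3, 2, 4, 0, 4, 2, 1, 3, 4, 0, 3], [4, 1, 3, 2, 0, 1, 3, 4, 0, 4, 3, 0, 3, 1, 4, 0, 3, 2, 4,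 1, 2, 3, 1, 4, 1, 2, 1, 4, 3, 1, 3, 4, 1, 2, 4, 0, 4, 2, 0, 4, 3, 4, 1, 4, 0, 3, 4, 0, 4, 1, 3, 4, 0, 2, 3, 4, 0, 3, 0, 2, 4, 2, 0, 4, 0, 3, 2, 4, 2, 0, 4, 3, 1, 0, 3, 0, 4, 1, 3, 2, 4, 0, 4, 1, 0, 2, 4, 2, 0, 3, 1], [0, 4, 2, 0, 4, 0, 2, 0, 4, 0, 3, 0, 2, 4, 1, 4, 2, 3, 2, 4, 0, 3, 2, 4, 0, 2, 3, 0, 3, 1, 4, 2, 4, 1, 4, 3, 1, 0, 4, 0, 3, 0, 3, 4, 1, 2, 3, 0, 3, 4, 0, 3, 2, 1, 2, 0, 4, 0, 1, 3, 1, 4, 2, 0, 3, 4, 0, 4, 3, 0, 4, 0, 2, 0, 3, 0, 2, 3, 2, 0, 1, 4, 1, 2, 4, 2, 0, 2, 1, 2, 4, 0, 3, 1, 4, 1, 4, 1, 2, 4, 1, 4, 0, 4, 0, 2, 0, 4, 1, 4, 3, 2, 0, 3, 0, 1, 3, 4, 2, 0, 4, 0, 4, 1, 3, 0, 1, 4, 0, 4, 0, 1, 2, 1],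 [1, 3, 1, 4, 1, 3, 1, 0, 4, 2, 3, 0, 2, 4, 0, 3, 1, 4, 3, 4, 3, 2, 1, 4, 3, 2, 0, 2, 3, 4, 2, 0, 4, 2, 4, 1, 3, 4, 1, 4, 0, 2, 1, 4, 0, 4, 1, 3, 0, 1, 4, 3, 2, 1, 3, 0, 4, 3, 0, 4, 1, 0, 4, 2, 1, 4, 1, 3, 0, 2, 3, 0, 4, 3, 2, 1, 4, 2, 0, 4, 0, 4, 0, 3, 0, 4, 0, 1, 4, 1, 2, 0, 3, 0, 3, 2, 0, 4, 0, 2, 4, 1, 3, 0, 3, 2, 4, 2, 4, 1, 3, 0, 4, 0, 3, 4, 0, 3, 1, 0, 3, 1, 4, 0, 1, 3, 2, 4, 0, 4, 2, 1, 3, 4, 0, 3], [2, 4, 1, 4, 0, 1, 4, 1, 4, 1, 0, 4, 3, 1, 4, 0, 3, 4, 0, 4, 2, 0, 4, 3, 2, 0, 4, 0, 2, 4, 0, 4, 2, 4, 0, 2, 3, 4, 0, 3, 0, 2, 4, 0, 3, 0, 4, 0, 4, 3, 4, 2, 1, 4, 2, 3, 4, 1, 3, 0, 4, 3, 1, 4, 1, 2, 0, 1, 2, 4,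 1, 2, 3, 0, 4, 2, 4, 3, 0, 3, 1, 4, 2, 4, 0, 4, 2, 0, 3, 1, 2, 3, 0, 3, 1, 0, 4, 1, 4, 0, 2, 3, 4, 1], [4, 2, 4, 1, 4, 0, 4, 0, 2, 4, 2, 0, 4, 0, 2, 4, 1, 0, 4, 2, 0, 3, 2, 4, 0, 3, 0, 2, 4, 2, 4, 0, 4, 1, 3, 1, 0, 3, 4, 1, 2, 4, 1, 3, 0, 2, 4, 2, 0, 4, 1, 0, 3, 4, 0, 1, 2, 3, 4, 0, 1, 3, 0, 3, 0, 3, 4, 1, 4, 0, 4, 0, 4, 2, 3, 1, 4, 3, 2, 0, 3, 4, 0, 4, 1, 4, 1, 0, 2, 3, 4, 1, 2, 4, 0, 3, 1, 4, 1, 4, 1, 2, 4, 1, 4, 0, 4, 0, 2, 0, 4, 1, 4, 3, 2, 0, 3, 0, 1, 3, 4, 2, 0, 4, 0, 4, 1, 3, 0, 1, 4, 0, 4, 0, 1, 2, 1], [3, 4, 1, 3, 1, 3, 0, 4, 0, 4, 1, 4, 3, 1, 4, 3, 0, 4, 1, 3, 2, 4, 3, 0, 4, 0, 1, 4, 1, 4, 0, 3, 4, 3,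 1, 4, 3, 0, 3, 2, 4, 0, 2, 0, 4, 3, 1, 3, 2, 3, 4, 0, 3, 0, 2, 4, 2, 0, 4, 0, 3, 2, 4, 2, 0, 4, 3, 1, 0, 3, 0, 4, 1, 3, 2, 4, 0, 4, 1, 0, 2, 4, 2, 0, 3, 4, 1, 2, 0, 3, 0, 3, 2, 0, 4, 0, 2, 4, 1, 3, 0, 3, 2, 4, 2, 4, 1, 3, 0, 4, 0, 3, 4, 0, 3, 1, 0, 3, 1, 4, 0, 1, 3, 2, 4, 0, 4, 2, 1, 3, 4, 0, 3], [4, 2, 0, 4, 1, 4, 0, 4, 3, 0, 3, 2, 4, 3, 0, 3, 4, 1, 2, 3, 4, 2, 1, 4, 2, 4, 0, 2, 4, 0, 4, 3, 0, 3, 4, 1, 4, 1, 4, 0, 1, 2, 4, 3, 0, 4, 1, 4, 2, 4, 1, 0, 4, 0, 4, 0, 3, 2, 4, 1, 4, 0, 2, 0, 4, 0, 3, 0, 2, 3, 4, 1, 0, 3, 0, 3, 0, 2, 1, 4, 0, 2, 0, 4, 1, 3, 0, 3, 2, 0, 4, 1, 2, 3, 4, 1, 4, 0, 4, 2, 4, 3], [1, 3, 0, 3,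 0, 4, 1, 3, 4, 2, 0, 4, 1, 0, 3, 0, 3, 4, 1, 0, 1, 3, 0, 4, 1, 3, 1, 4, 1, 3, 0, 4, 0, 4, 2, 0, 4, 2, 4, 3, 0, 3, 1, 2, 0, 3, 0, 2, 4, 1, 4, 0, 4, 1, 2, 3, 0, 1, 0, 3, 0, 3, 4, 0, 4, 1, 4, 2, 1, 4, 0, 4, 3, 0, 1, 3, 0, 4, 1, 3, 4, 2, 4, 1, 0, 3, 0, 3, 0, 4, 0, 2, 3, 1, 4], [2, 4, 1, 4, 2, 0, 4, 1, 3, 0, 2, 4, 3, 1, 4, 2, 3, 4, 0, 4, 1, 4, 1, 0, 4, 3, 0, 1, 0, 2, 4, 1, 3, 1, 2, 4, 0, 4, 3, 0, 4, 0, 2, 1, 0, 3, 1, 4, 3, 2, 0, 3, 2, 0, 3, 0, 3, 1, 4, 1, 3, 0, 4, 0, 2, 0, 4, 1, 3, 0, 4, 1, 3, 0, 4, 0, 3, 1, 4, 1, 4, 3, 0, 3, 1, 2, 4, 0, 3, 1, 3, 4, 2, 3, 1], [4, 1, 3, 4, 2, 0, 4, 0, 4, 3, 0, 2, 4, 2, 1, 4, 2, 0, 4,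 2, 4, 1, 3, 0, 1, 3, 0, 3, 1, 4, 2, 4, 1, 0, 2, 3, 4, 0, 4, 0, 3, 1, 4, 1, 4, 0, 1, 4, 0, 4, 2, 3, 1, 2, 0, 4, 2, 4, 0, 1, 3, 0, 4, 3, 1, 3, 4, 1, 3, 0, 4, 0, 4, 2, 0, 4, 3, 2, 4, 0, 3, 1, 3, 1, 0, 4, 3, 0, 1, 3, 1, 0, 4, 0, 1, 3, 0, 4, 2, 1, 3, 4, 0, 1, 4, 3, 1, 3, 0, 3], [1, 3, 1, 4, 0, 3, 1, 3, 4, 1, 0, 3, 4, 3, 1, 2, 4, 1, 4, 2, 0, 4, 1, 0, 3, 0, 2, 3, 4, 0, 4, 1, 2, 4, 0, 1, 0, 4, 2, 0, 4, 2, 4, 1, 0, 1, 4, 2, 3, 0, 4, 3, 4, 1, 4, 3, 2, 0, 2, 3, 4, 0, 3, 0, 2, 4, 2, 0, 4, 0, 3, 0, 4, 3, 2, 1, 3, 4, 0, 2, 3, 0, 2, 4, 0, 4, 2, 1, 2, 3, 2, 1, 0, 3, 1, 3, 1, 4, 1, 2, 0, 3, 0, 3, 2, 0, 4, 0, 2, 4, 1, 3, 0, 3, 2,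 4, 2, 4, 1, 3, 0, 4, 0, 3, 4, 0, 3, 1, 0, 3, 1, 4, 0, 1, 3, 2, 4, 0, 4, 2, 1, 3, 4, 0, 3], [2, 0, 4, 2, 4, 1, 4, 0, 4, 3, 0, 3, 0, 3, 4, 1, 0, 1, 2, 4, 0, 3, 4, 1, 3, 1, 0, 4, 0, 1, 3, 0, 4, 2, 1, 4, 0, 2, 4, 1, 4, 0, 1, 0, 4, 2, 3, 4, 0, 3, 0, 4, 0, 4, 2, 3, 4, 0, 2, 3, 4, 1, 2, 3, 4, 2, 3, 1, 4, 1, 3, 4, 0, 3, 0, 3, 0, 4, 2, 0, 4, 1, 2, 3, 4, 1, 0, 4, 1, 2, 4, 2, 1, 3, 4, 1, 2, 4, 0, 3, 1, 4, 1, 4, 1, 2, 4, 1, 4, 0, 4, 0, 2, 0, 4, 1, 4, 3, 2, 0, 3, 0, 1, 3, 4, 2, 0, 4, 0, 4, 1, 3, 0, 1, 4, 0, 4, 0, 1, 2, 1], [3, 1, 4, 0, 2, 4, 3, 0, 4, 2, 4, 2, 3, 0, 4, 3, 2, 0, 2, 4, 1, 4, 2, 0, 3, 0, 1, 4, 0, 2, 4, 3, 0, 2,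 4, 1, 3, 4, 0, 3, 4, 2, 0, 4, 3, 1, 3, 4, 0, 3, 2, 4, 0, 1, 3, 1, 0, 3, 4, 2, 0, 4, 1, 4, 1, 2, 4, 2, 0, 4, 0, 3, 4, 2, 3, 4, 0, 3, 4, 3, 0, 1, 3, 0, 3, 1, 2, 4, 0, 1, 2, 4, 0, 3, 0, 1, 2, 4, 0, 3, 1, 4, 1, 4, 1, 2, 4, 1, 4, 0, 4, 0, 2, 0, 4, 1, 4, 3, 2, 0, 3, 0, 1, 3, 4, 2, 0, 4, 0, 4, 1, 3, 0, 1, 4, 0, 4, 0, 1, 2, 1], [3, 4, 1, 3, 0, 3, 2, 0, 1, 4, 0, 4, 0, 1, 3, 4, 2, 4, 1, 0, 3, 2, 0, 4, 1, 4, 0, 4, 3, 0, 1, 0, 4, 0, 4, 1, 2, 1, 4, 0, 3, 2, 0, 2, 0, 4, 1, 3, 0, 4, 3, 0, 1, 4, 0, 4, 1, 4, 3, 0, 3, 0, 1, 4, 0, 4, 2, 0, 2, 4, 0, 3, 0, 4, 2, 0, 4, 3, 0, 3, 1, 3, 4, 3, 0, 3, 4, 0, 4, 1, 4, 1, 2, 3, 4, 1, 2, 4, 0,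 3, 1, 4, 1, 4, 1, 2, 4, 1, 4, 0, 4, 0, 2, 0, 4, 1, 4, 3, 2, 0, 3, 0, 1, 3, 4, 2, 0, 4, 0, 4, 1, 3, 0, 1, 4, 0, 4, 0, 1, 2, 1], [0, 4, 2, 0, 4, 0, 3, 2, 0, 4, 0, 4, 2, 0, 4, 1, 0, 4, 3, 1, 4, 0, 1, 2, 4, 2, 0, 4, 2, 4, 0, 2, 3, 4, 1, 0, 3, 1, 0, 4, 1, 4, 0, 3, 4, 1, 2, 4, 1, 4, 1, 3, 0, 4, 0, 4, 0, 3, 1, 4, 0, 1, 0, 3, 2, 0, 4, 0, 3, 4, 3, 1, 4, 0, 3, 4, 0, 4, 1, 3, 0, 4, 1, 0, 3, 0, 2, 4, 0, 4, 0, 3, 4, 1, 2, 4, 0, 3, 1, 4, 1, 4, 1, 2, 4, 1, 4, 0, 4, 0, 2, 0, 4, 1, 4, 3, 2, 0, 3, 0, 1, 3, 4, 2, 0, 4, 0, 4, 1, 3, 0, 1, 4, 0, 4, 0, 1, 2, 1], [0, 4, 1, 3, 0, 3, 4, 3, 1, 0, 4, 2, 3, 0, 3, 4, 2, 0, 3, 1, 0, 2, 4, 0,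 3, 2, 4, 1, 4, 0, 4, 3, 0, 3, 0, 1, 0, 4, 1, 4, 0, 2, 3, 4, 0, 4, 3, 2, 1, 4, 2, 1, 3, 2, 0, 2, 1, 4, 1, 4, 2, 4, 1, 3, 0, 4, 3, 0, 2, 3, 0, 3, 1, 2, 3, 0, 3, 2, 1, 4, 0, 2, 3, 0, 2, 4, 2, 4, 1, 3, 1, 0, 3, 0, 4, 0, 4, 0, 2, 4, 1, 0, 3], [1, 4, 3, 2, 1, 4, 2, 0, 1, 0, 4, 0, 1, 3, 1, 3, 4, 0, 4, 1, 0, 2, 3, 0, 3, 1, 4, 1, 4, 0, 2, 0, 4, 0, 2, 4, 1, 4, 3, 4, 0, 4, 1, 2, 4, 3, 2, 1, 3, 4, 1, 0, 2, 4, 1, 3, 0, 4, 3, 0, 1, 2, 0, 1, 4, 1, 3, 1, 0, 1, 4, 0, 2, 4, 1, 0, 4, 1, 3, 4, 0, 2, 3, 2, 0, 2, 4], [0, 1, 4, 1, 3, 0, 2, 4, 3, 0, 4, 0, 2, 4, 1, 4, 2, 4, 0, 4, 3, 2, 4, 0, 4, 3, 1, 3, 4, 2, 3, 4, 0, 2, 4, 1, 4, 1, 4,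 2, 4, 2, 0, 4, 0, 4, 1, 4, 3, 0, 2, 1, 4, 3, 4, 2, 0, 4, 1, 0, 3, 0, 3, 4, 1, 4, 1, 0, 3, 0, 3, 4, 0, 4, 1, 2, 4, 1, 0, 3, 0, 3, 1, 4, 1, 4, 0, 1, 4, 2, 1, 4, 3, 0, 2, 3, 4, 3, 0, 4, 0, 2, 4, 1, 3, 1, 3, 4, 3, 4, 1, 2, 4, 0, 3, 1, 4, 1, 4, 1, 2, 4, 1, 4, 0, 4, 0, 2, 0, 4, 1, 4, 3, 2, 0, 3, 0, 1, 3, 4, 2, 0, 4, 0, 4, 1, 3, 0, 1, 4, 0, 4, 0, 1, 2, 1], [1, 3, 4, 0, 4, 2, 1, 4, 3, 0, 3, 4, 3, 2, 3, 0, 1, 3, 4, 1, 4, 2, 0, 3, 0, 1, 3, 0, 4, 2, 4, 3, 1, 2, 4, 2, 0, 3, 4, 2, 3, 4, 2, 0, 2, 4, 3, 1, 4, 1, 4, 2, 4, 1, 4, 0, 2, 4, 1, 2, 3, 4, 0, 3, 1, 2, 4, 1, 4, 0, 2, 4, 0, 2, 4, 1, 4, 1, 3, 2, 0, 4, 1, 3, 2, 3, 2, 3, 0,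 4, 2, 4, 1, 3, 4, 1, 3, 1, 4, 1, 2, 0, 3, 0, 3, 2, 0, 4, 0, 2, 4, 1, 3, 0, 3, 2, 4, 2, 4, 1, 3, 0, 4, 0, 3, 4, 0, 3, 1, 0, 3, 1, 4, 0, 1, 3, 2, 4, 0, 4, 2, 1, 3, 4, 0, 3], [0, 1, 3, 4, 0, 4, 0, 3, 0, 2, 3, 0, 4, 1, 2, 4, 0, 3, 4, 2, 0, 3, 4, 1, 3, 1, 0, 4, 0, 2, 3, 0, 4, 0, 2, 0, 4, 1, 4, 1, 3, 0, 4, 2, 4, 3, 4, 0, 4, 0, 2, 3, 4, 0, 3, 0, 2, 4, 2, 0, 4, 0, 3, 2, 4, 2, 4, 3, 0, 1, 4, 2, 1, 3, 0, 1, 4, 0, 3, 4, 3, 0, 3, 0, 2, 3, 4, 1, 3, 1, 0, 3, 0, 4, 1, 4, 2, 3, 4, 1, 2, 4, 0, 3, 1, 4, 1, 4, 1, 2, 4, 1, 4, 0, 4, 0, 2, 0, 4, 1, 4, 3, 2, 0, 3, 0, 1, 3, 4, 2, 0, 4, 0, 4, 1, 3, 0, 1, 4, 0, 4, 0, 1, 2, 1], [2, 1, 0,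 4, 1, 3, 2, 0, 3, 0, 4, 0, 2, 4, 2, 0, 4, 1, 2, 3, 0, 4, 0, 3, 1, 4, 3, 4, 1, 4, 0, 4, 2, 4, 0, 1, 0, 4, 2, 1, 3, 0, 3, 1, 3, 2, 3, 4, 2, 1, 0, 4, 1, 3, 0, 3, 0, 4, 0, 4, 2, 3, 4, 0, 2, 3, 4, 1, 2, 3, 4, 2, 0, 3, 2, 0, 3, 4, 2, 0, 3, 4, 1, 3, 4, 1, 4, 3, 1, 0, 4, 2, 3, 0, 4, 3, 0, 2, 3, 0, 4, 0, 3], [0, 1, 3, 4, 1, 4, 3, 0, 3, 1, 4, 1, 4, 1, 2, 0, 3, 4, 1, 4, 1, 3, 1, 0, 4, 1, 4, 3, 1, 4, 2, 3, 0, 4, 2, 0, 3, 0, 4, 0, 3, 1, 4, 0, 3, 2, 4, 1, 0, 3, 4, 2, 3, 1, 0, 2, 4, 1, 4, 2, 1, 4, 2, 0, 2, 3, 0, 3, 1, 4, 1, 4, 2, 4, 2, 4, 0, 3, 0, 2, 4, 3, 0, 1, 4, 0, 4, 1, 4, 2, 0, 4, 0, 3, 0, 1, 4, 3, 2, 0, 4, 1, 2, 1, 4, 1,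 2, 0, 3, 0, 3, 2, 0, 4, 0, 2, 4, 1, 3, 0, 3, 2, 4, 2, 4, 1, 3, 0, 4, 0, 3, 4, 0, 3, 1, 0, 3, 1, 4, 0, 1, 3, 2, 4, 0, 4, 2, 1, 3, 4, 0, 3], [0, 1, 4, 3, 1, 2, 4, 0, 1, 4, 0, 3, 2, 0, 4, 1, 0, 3, 0, 3, 4, 1, 3, 4, 0, 3, 0, 4, 3, 0, 4, 3, 1, 4, 0, 3, 1, 4, 0, 3, 1, 3, 4, 1, 2, 0, 4, 1, 0, 4, 0, 4, 0, 3, 1, 3, 1, 0, 4, 3, 2, 4, 1, 3, 0, 4, 3, 0, 1, 2, 0, 1, 4, 1, 3, 1, 0, 1, 4, 0, 2, 4, 1, 0, 4, 1, 3, 4, 0, 2, 3, 2, 0, 2, 4, 1, 4, 1, 2, 0, 3, 0, 3, 2, 0, 4, 0, 2, 4, 1, 3, 0, 3, 2, 4, 2, 4, 1, 3, 0, 4, 0, 3, 4, 0, 3, 1, 0, 3, 1, 4, 0, 1, 3, 2, 4, 0, 4, 2, 1, 3, 4, 0, 3], [3, 1, 4, 1, 3, 2, 4, 1, 2, 0, 4, 1, 4, 2, 4,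 1, 0, 4, 3, 0, 4, 1, 0, 4, 0, 1, 3, 4, 0, 2, 1, 4, 3, 1, 3, 2, 0, 4, 2, 1, 4, 2, 4, 0, 1, 4, 2, 0, 3, 0, 3, 1, 2, 4, 2, 4, 2, 0, 3, 0, 4, 1, 4, 0, 4, 0, 3, 0, 2, 4, 0, 2, 4, 2, 0, 4, 0, 2, 4, 2, 0, 1, 4, 3, 0, 4, 0, 3, 0, 2, 3, 0, 1, 4, 0, 2, 4, 1, 4, 2, 0, 4, 1, 4, 2, 1, 4, 2, 0, 4], [3, 2, 4, 0, 2, 1, 4, 2, 3, 0, 4, 1, 3, 0, 4, 0, 3, 1, 2, 0, 1, 4, 3, 0, 3, 2, 1, 4, 0, 1, 3, 1, 4, 1, 0, 2, 4, 1, 4, 2, 0, 3, 4, 1, 3, 2, 4, 1, 3, 4, 2, 3, 4, 0, 3, 0, 4, 1, 4, 1, 4, 0, 4, 0, 3, 0, 1, 3, 2, 4, 1, 3, 0, 4, 3, 0, 1, 0, 4, 0, 3, 0, 2, 4, 1, 2, 4, 1, 3, 0, 3, 0, 2, 1, 2, 4, 1, 2, 4, 1, 4, 2, 0, 3, 4, 1, 2, 4, 0, 3, 1,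 4, 1, 4, 1, 2, 4, 1, 4, 0, 4, 0, 2, 0, 4, 1, 4, 3, 2, 0, 3, 0, 1, 3, 4, 2, 0, 4, 0, 4, 1, 3, 0, 1, 4, 0, 4, 0, 1, 2, 1], [2, 4, 3, 0, 3, 0, 1, 4, 1, 4, 0, 3, 0, 4, 2, 0, 3, 0, 3, 4, 3, 0, 2, 1, 4, 2, 4, 2, 4, 0, 3, 1, 4, 1, 0, 4, 2, 0, 4, 2, 1, 4, 0, 3, 4, 3, 1, 3, 0, 3, 0, 1, 2, 4, 1, 3, 0, 4, 3, 0, 1, 2, 0, 1, 4, 1, 3, 1, 0, 1, 4, 0, 2, 4, 1, 0, 4, 1, 3, 4, 0, 2, 3, 2, 0, 2, 4, 3, 4, 1, 2, 4, 0, 3, 1, 4, 1, 4, 1, 2, 4, 1, 4, 0, 4, 0, 2, 0, 4, 1, 4, 3, 2, 0, 3, 0, 1, 3, 4, 2, 0, 4, 0, 4, 1, 3, 0, 1, 4, 0, 4, 0, 1, 2, 1], [1, 2, 4, 1, 3, 0, 3, 4, 1, 4, 1, 3, 0, 3, 2, 4, 0, 2, 3, 4, 1, 3, 4, 1, 3, 2, 0, 4, 0, 2,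 4, 1, 4, 3, 1, 0, 4, 0, 4, 3, 0, 4, 0, 2, 4, 1, 4, 1, 2, 4, 0, 1, 0, 2, 0, 2, 0, 4, 1, 3, 0, 4, 3, 0, 1, 4, 0, 4, 1, 4, 3, 0, 3, 0, 1, 4, 0, 4, 2, 0, 2, 4, 0, 3, 0, 4, 2, 0, 4, 3, 0, 3, 1, 3, 4, 3, 0, 3, 4, 0, 4, 1, 4, 1, 2], [3, 4, 1, 4, 0, 4, 2, 1, 2, 0, 2, 4, 0, 1, 4, 1, 3, 0, 4, 2, 0, 3, 1, 0, 3, 1, 0, 4, 1, 4, 0, 3, 0, 1, 2, 3, 4, 1, 0, 4, 0, 3, 4, 0, 3, 0, 3, 4, 2, 3, 4, 0, 3, 0, 2, 4, 2, 0, 4, 0, 3, 2, 4, 2, 0, 4, 3, 1, 0, 3, 0, 4, 1, 3, 2, 4, 0, 4, 1, 0, 2, 4, 2, 0, 3, 1, 3, 4, 1, 2, 4, 0, 3, 1, 4, 1, 4, 1, 2, 4, 1, 4, 0, 4, 0, 2, 0, 4, 1, 4, 3, 2, 0, 3, 0, 1, 3, 4, 2, 0, 4, 0, 4, 1, 3, 0, 1, 4, 0, 4, 0,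 1, 2, 1], [2, 1, 3, 0, 4, 0, 2, 4, 0, 3, 0, 3, 0, 4, 0, 3, 1, 2, 4, 3, 1, 3, 2, 0, 4, 0, 3, 0, 4, 1, 4, 0, 4, 2, 0, 4, 0, 4, 3, 0, 3, 0, 1, 4, 2, 4, 0, 4, 0, 3, 1, 3, 1, 0, 3, 1, 4, 0, 4, 2, 3, 1, 4, 2, 0, 4, 0, 3, 1, 4, 3, 0, 3, 4, 0, 4, 0, 1, 4, 2, 4, 1, 4, 2, 0, 3, 0, 1, 4, 0, 2, 0, 4, 3, 0, 1, 4, 2, 3, 0, 3, 0, 3, 4, 3, 1, 2, 4, 3, 4, 1, 2, 4, 0, 3, 1, 4, 1, 4, 1, 2, 4, 1, 4, 0, 4, 0, 2, 0, 4, 1, 4, 3, 2, 0, 3, 0, 1, 3, 4, 2, 0, 4, 0, 4, 1, 3, 0, 1, 4, 0, 4, 0, 1, 2, 1], [1, 3, 4, 1, 3, 2, 4, 0, 4, 2, 4, 1, 3, 0, 4, 0, 2, 1, 4, 2, 0, 4, 1, 4, 2, 4, 1, 4, 1, 3, 4, 2, 1, 3, 1, 0, 3, 1, 4, 0, 4, 2, 3, 1, 4, 2,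 0, 4, 0, 3, 1, 4, 3, 0, 3, 4, 0, 4, 0, 1, 4, 2, 4, 1, 4, 2, 0, 3, 0, 1, 4, 0, 2, 0, 4, 3, 0, 1, 4, 2, 3, 0, 3, 0, 3, 4, 3, 1, 2, 4, 1, 4, 1, 2, 0, 3, 0, 3, 2, 0, 4, 0, 2, 4, 1, 3, 0, 3, 2, 4, 2, 4, 1, 3, 0, 4, 0, 3, 4, 0, 3, 1, 0, 3, 1, 4, 0, 1, 3, 2, 4, 0, 4, 2, 1, 3, 4, 0, 3], [4, 1, 3, 0, 4, 0, 3, 1, 4, 0, 3, 1, 0, 1, 2, 4, 1, 4, 0, 3, 4, 0, 3, 2, 4, 1, 2, 3, 4, 1, 0, 4, 1, 4, 1, 4, 1, 3, 0, 4, 0, 4, 0, 3, 1, 4, 0, 1, 0, 3, 4, 3, 0, 4, 3, 0, 4, 1, 2, 0, 2, 4, 2, 0, 3, 1, 4, 0, 4, 2, 1, 3, 4, 1, 4, 1, 2, 0, 3, 0, 3, 2, 0, 4, 0, 2, 4, 1, 3, 0, 3, 2, 4, 2, 4, 1, 3, 0, 4, 0, 3, 4, 0, 3, 1, 0, 3, 1, 4, 0, 1, 3, 2,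 4, 0, 4, 2, 1, 3, 4, 0, 3], [0, 3, 4, 1, 4, 0, 3, 2, 0, 4, 2, 0, 4, 0, 4, 3, 0, 3, 0, 1, 4, 0, 2, 4, 3, 1, 4, 3, 1, 0, 3, 2, 4, 0, 4, 3, 1, 2, 4, 3, 1, 3, 4, 0, 3, 2, 4, 0, 1, 3, 1, 0, 3, 4, 2, 0, 4, 1, 4, 1, 2, 4, 2, 0, 4, 0, 3, 4, 2, 3, 4, 0, 3, 4, 3, 0, 1, 3, 0, 3, 1, 2, 4, 0, 1, 2, 4, 0, 3, 0, 4, 3, 1, 4, 1, 2, 0, 3, 0, 3, 2, 0, 4, 0, 2, 4, 1, 3, 0, 3, 2, 4, 2, 4, 1, 3, 0, 4, 0, 3, 4, 0, 3, 1, 0, 3, 1, 4, 0, 1, 3, 2, 4, 0, 4, 2, 1, 3, 4, 0, 3], [4, 0, 3, 4, 1, 4, 3, 0, 4, 3, 0, 4, 3, 1, 4, 0, 3, 1, 4, 3, 1, 3, 0, 4, 2, 1, 4, 2, 3, 0, 1, 4, 2, 4, 0, 4, 0, 2, 4, 2, 0, 4, 3, 2, 0, 4, 1, 2, 4, 1, 0, 3, 2, 3, 0,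 4, 1, 4, 1, 4, 0, 4, 0, 3, 0, 1, 3, 2, 4, 1, 3, 0, 4, 3, 0, 1, 0, 4, 0, 3, 0, 2, 4, 1, 2, 4, 1, 3, 0, 3, 0, 2, 1, 2, 4, 1, 2, 4, 1, 4, 2, 0], [3, 0, 2, 3, 4, 2, 0, 3, 1, 0, 3, 1, 0, 4, 1, 4, 2, 0, 3, 4, 0, 1, 4, 0, 3, 4, 0, 1, 4, 2, 4, 1, 3, 1, 0, 3, 0, 4, 2, 0, 4, 2, 0, 4, 0, 1, 2, 3, 4, 0, 3, 0, 4, 0, 4, 2, 3, 4, 0, 2, 3, 4, 1, 2, 3, 4, 2, 3, 1, 4, 1, 3, 4, 0, 3, 0, 3, 0, 4, 2, 0, 4, 1, 2, 3, 4, 1, 0, 4, 1, 2, 4, 2, 1, 3, 4, 1, 2, 4, 0, 3, 1, 4, 1, 4, 1, 2, 4, 1, 4, 0, 4, 0, 2, 0, 4, 1, 4, 3, 2, 0, 3, 0, 1, 3, 4, 2, 0, 4, 0, 4, 1, 3, 0, 1, 4, 0, 4, 0, 1, 2, 1], [2, 1, 3, 0, 4, 1, 4, 0, 4, 3, 1, 4, 3, 1, 2, 4,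 3, 0, 2, 3, 1, 4, 1, 0, 4, 3, 1, 0, 4, 2, 1, 4, 1, 4, 0, 3, 0, 1, 3, 1, 4, 2, 4, 3, 0, 4, 3, 4, 0, 4, 0, 1, 4, 0, 3, 2, 4, 1, 4, 0, 3, 1, 0, 3, 4, 2, 4, 2, 0, 3, 4, 0, 1, 3, 0, 4, 1, 3, 0, 2, 4, 1, 3, 4, 0, 4, 0, 2, 4, 1, 3, 4, 0, 3, 4, 1, 4, 2, 3, 0, 2, 1, 4, 3, 0, 4, 0, 4, 1, 0, 4, 2], [0, 2, 4, 2, 0, 4, 1, 0, 3, 4, 2, 0, 4, 1, 2, 0, 4, 3, 1, 0, 4, 2, 4, 3, 1, 3, 4, 0, 2, 4, 3, 0, 3, 4, 0, 4, 1, 2, 0, 2, 1, 4, 2, 0, 3, 4, 1, 0, 3, 0, 4, 1, 0, 1, 3, 0, 2, 4, 2, 1, 4, 1, 0, 1, 3, 4, 1, 4, 3, 4, 1, 2, 4, 0, 3, 1, 4, 1, 4, 1, 2, 4, 1, 4, 0, 4, 0, 2, 0, 4, 1, 4, 3, 2, 0, 3, 0, 1, 3, 4, 2, 0, 4, 0, 4, 1, 3, 0, 1, 4,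 0, 4, 0, 1, 2, 1], [0, 1, 4, 2, 0, 3, 4, 1, 0, 2, 4, 1, 4, 0, 4, 2, 1, 3, 4, 2, 0, 4, 1, 2, 4, 2, 0, 1, 4, 0, 4, 2, 4, 2, 0, 4, 1, 3, 0, 3, 1, 4, 1, 2, 0, 4, 0, 4, 3, 0, 4, 0, 2, 0, 4, 1, 0, 3, 0, 3, 4, 1, 4, 1, 0, 3, 0, 3, 4, 0, 4, 1, 2, 4, 1, 0, 3, 0, 3, 1, 4, 1, 4, 0, 1, 4, 2, 1, 4, 3, 0, 2, 3, 4, 3, 0, 4, 0, 2, 4, 1, 3, 1, 3, 4, 3, 4, 1, 2, 4, 0, 3, 1, 4, 1, 4, 1, 2, 4, 1, 4, 0, 4, 0, 2, 0, 4, 1, 4, 3, 2, 0, 3, 0, 1, 3, 4, 2, 0, 4, 0, 4, 1, 3, 0, 1, 4, 0, 4, 0, 1, 2, 1], [4, 2, 4, 1, 4, 0, 4, 1, 4, 3, 0, 4, 3, 1, 0, 4, 3, 0, 1, 2, 4, 0, 3, 1, 4, 2, 3, 4, 3, 0, 2, 1, 3, 4, 0, 1, 2, 4, 1, 2, 3, 0, 4, 3, 2, 1,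 3, 4, 1, 0, 3, 4, 1, 3, 0, 4, 0, 4, 2, 3, 4, 0, 3, 1, 3, 4, 2, 3, 2, 1, 3, 0, 3, 0, 3, 1, 3, 1, 2, 4, 1, 0, 4, 2, 4, 1, 4, 3, 1], [4, 0, 1, 3, 4, 2, 0, 3, 0, 3, 0, 3, 1, 4, 1, 4, 1, 3, 0, 2, 4, 0, 3, 1, 3, 1, 4, 3, 2, 0, 4, 3, 0, 2, 4, 1, 4, 1, 4, 2, 1, 4, 0, 4, 1, 3, 4, 0, 2, 4, 1, 4, 3, 4, 0, 4, 2, 4, 0, 4, 2, 3, 0, 4, 0, 2, 4, 1, 4, 0, 3, 0, 4, 1, 4, 0, 4, 0, 1, 4, 1, 2, 4, 0, 3, 1, 4, 2, 0, 3, 1, 3, 0, 3, 4, 1, 4, 2, 1, 4, 1, 0, 2, 4, 3, 4, 1, 2, 4, 0, 3, 1, 4, 1, 4, 1, 2, 4, 1, 4, 0, 4, 0, 2, 0, 4, 1, 4, 3, 2, 0, 3, 0, 1, 3, 4, 2, 0, 4, 0, 4, 1, 3, 0, 1, 4, 0, 4, 0, 1, 2, 1], [2, 1, 4, 0, 4, 2, 4, 0, 2, 1,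 3, 0, 3, 4, 0, 3, 2, 4, 0, 2, 4, 2, 4, 1, 4, 2, 4, 0, 4, 3, 2, 0, 4, 2, 1, 4, 2, 0, 4, 2, 4, 0, 4, 0, 4, 3, 2, 4, 3, 4, 1, 3, 0, 4, 3, 1, 4, 1, 2, 0, 1, 2, 4, 1, 2, 3, 0, 4, 2, 4, 3, 0, 3, 1, 4, 2, 4, 0, 4, 2, 0, 3, 1, 2, 3, 0, 3, 1, 0, 4, 1, 4, 0, 2, 3, 4, 1], [1, 4, 1, 0, 4, 3, 1, 2, 3, 4, 0, 1, 4, 2, 0, 4, 0, 3, 1, 4, 0, 4, 2, 4, 1, 4, 0, 2, 4, 2, 4, 1, 2, 0, 4, 3, 0, 4, 3, 0, 3, 4, 0, 2, 3, 0, 4, 3, 1, 3, 2, 4, 0, 4, 1, 3, 0, 1, 4, 2, 3, 4, 3, 1, 4, 1, 4, 2, 4, 1, 4, 0, 2, 4, 1, 2, 3, 4, 2, 4, 2, 0, 3, 0, 4, 1, 4, 0, 4, 1, 4, 3, 1, 4, 2, 0, 4, 2, 1, 2, 4, 2, 1, 4, 1, 4, 1, 2, 0, 3, 0, 3, 2, 0, 4, 0, 2, 4, 1,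 3, 0, 3, 2, 4, 2, 4, 1, 3, 0, 4, 0, 3, 4, 0, 3, 1, 0, 3, 1, 4, 0, 1, 3, 2, 4, 0, 4, 2, 1, 3, 4, 0, 3], [3, 0, 4, 0, 3, 0, 1, 3, 0, 2, 4, 3, 1, 4, 2, 3, 4, 0, 4, 1, 4, 3, 1, 0, 4, 0, 2, 4, 1, 4, 0, 3, 2, 0, 4, 1, 3, 0, 1, 4, 2, 4, 0, 4, 3, 0, 4, 0, 4, 2, 3, 4, 0, 2, 3, 4, 1, 2, 3, 4, 2, 0, 3, 2, 0, 3, 4, 2, 0, 3, 4, 1, 3, 4, 1, 4, 3, 1, 0, 4, 2, 3, 0, 4, 3, 0, 2, 3, 0, 4, 0, 4, 1, 2, 4, 0, 3, 1, 4, 1, 4, 1, 2, 4, 1, 4, 0, 4, 0, 2, 0, 4, 1, 4, 3, 2, 0, 3, 0, 1, 3, 4, 2, 0, 4, 0, 4, 1, 3, 0, 1, 4, 0, 4, 0, 1, 2, 1], [4, 1, 3, 0, 2, 3, 4, 1, 0, 3, 4, 2, 1, 0, 4, 1, 2, 4, 2, 1, 0, 2, 3, 0, 3, 0, 4, 0, 3, 4, 1, 0, 2,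 4, 0, 4, 2, 0, 3, 4, 0, 2, 4, 0, 2, 4, 3, 1, 0, 2, 3, 2, 0, 3, 0, 3, 1, 4, 1, 3, 0, 4, 0, 2, 0, 4, 1, 3, 0, 4, 1, 3, 0, 4, 0, 3, 1, 4, 1, 4, 3, 0, 3, 1, 2, 4, 0, 3, 1, 3, 4, 2, 3, 4, 1, 2, 0, 3, 0, 3, 2, 0, 4, 0, 2, 4, 1, 3, 0, 3, 2, 4, 2, 4, 1, 3, 0, 4, 0, 3, 4, 0, 3, 1, 0, 3, 1, 4, 0, 1, 3, 2, 4, 0, 4, 2, 1, 3, 4, 0, 3], [0, 1, 4, 3, 1, 2, 4, 0, 3, 0, 4, 2, 4, 1, 3, 0, 2, 4, 2, 0, 4, 3, 2, 0, 4, 0, 4, 2, 3, 0, 2, 3, 4, 0, 3, 2, 4, 2, 0, 4, 0, 3, 1, 3, 4, 1, 2, 0, 1, 3, 4, 0, 2, 4, 2, 0, 3, 0, 4, 1, 4, 0, 4, 0, 3, 0, 2, 4, 0, 2, 4, 2, 0, 4, 0, 2, 4, 2, 0, 1, 4, 3, 0, 4, 0, 3, 0, 2, 3, 0, 1, 4, 0, 2, 4, 1, 4, 2,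 0, 4, 1, 4, 2, 1, 4, 2, 0, 4, 3, 4, 1, 2, 4, 0, 3, 1, 4, 1, 4, 1, 2, 4, 1, 4, 0, 4, 0, 2, 0, 4, 1, 4, 3, 2, 0, 3, 0, 1, 3, 4, 2, 0, 4, 0, 4, 1, 3, 0, 1, 4, 0, 4, 0, 1, 2, 1], [0, 4, 2, 1, 0, 4, 3, 0, 4, 0, 3, 0, 1, 4, 2, 0, 4, 2, 4, 1, 3, 0, 4, 3, 0, 2, 1, 2, 0, 4, 1, 2, 3, 4, 0, 3, 0, 2, 4, 0, 3, 1, 3, 4, 2, 0, 2, 4, 0, 4, 1, 4, 3, 2, 1, 4, 0, 2, 3, 2, 4, 1, 3, 0, 4, 3, 0, 1, 2, 0, 1, 4, 1, 3, 1, 0, 1, 4, 0, 2, 4, 1, 0, 4, 1, 3, 4, 0, 2, 3, 2, 0, 2, 4, 3, 4, 1, 2, 4, 0, 3, 1, 4, 1, 4, 1, 2, 4, 1, 4, 0, 4, 0, 2, 0, 4, 1, 4, 3, 2, 0, 3, 0, 1, 3, 4, 2, 0, 4, 0, 4, 1, 3, 0, 1, 4, 0, 4, 0, 1, 2, 1], [2, 4, 0, 1, 0,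 3, 4, 1, 3, 1, 0, 1, 4, 0, 2, 4, 2, 4, 0, 4, 1, 0, 2, 4, 0, 4, 2, 4, 1, 0, 4, 2, 4, 3, 0, 2, 4, 0, 3, 1, 4, 0, 3, 0, 3, 2, 4, 1, 2, 3, 4, 0, 2, 4, 2, 0, 3, 0, 4, 1, 4, 0, 4, 0, 3, 0, 2, 4, 0, 2, 4, 2, 0, 4, 0, 2, 4, 2, 0, 1, 4, 3, 0, 4, 0, 3, 0, 2, 3, 0, 1, 4, 0, 2, 4, 1, 4, 2, 0, 4, 1, 4, 2, 1, 4, 2, 0, 4, 1, 4, 1, 2, 0, 3, 0, 3, 2, 0, 4, 0, 2, 4, 1, 3, 0, 3, 2, 4, 2, 4, 1, 3, 0, 4, 0, 3, 4, 0, 3, 1, 0, 3, 1, 4, 0, 1, 3, 2, 4, 0, 4, 2, 1, 3, 4, 0, 3], [3, 0, 3, 0, 4, 0, 4, 1, 2, 0, 3, 1, 0, 4, 2, 0, 1, 3, 1, 4, 2, 4, 0, 3, 0, 1, 4, 2, 4, 0, 4, 1, 3, 0, 2, 4, 1, 3, 0, 4, 1, 3, 2, 0, 4, 1, 4, 2, 0, 3, 4, 1, 2, 4,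 0, 3, 1, 4, 1, 4, 1, 2, 4, 1, 4, 0, 3, 2, 4, 2, 0, 4, 2, 4, 1, 4, 0, 4, 1, 0, 3, 1, 4, 2, 0, 4, 3, 2, 0, 3, 4, 0, 4, 1, 4, 1, 0, 1, 4, 1, 2, 0, 3, 0, 3, 2, 0, 4, 0, 2, 4, 1, 3, 0, 3, 2, 4, 2, 4, 1, 3, 0, 4, 0, 3, 4, 0, 3, 1, 0, 3, 1, 4, 0, 1, 3, 2, 4, 0, 4, 2, 1, 3, 4, 0, 3], [0, 3, 0, 2, 1, 4, 3, 1, 4, 2, 1, 3, 2, 0, 4, 2, 4, 2, 1, 4, 0, 4, 3, 0, 3, 0, 1, 0, 3, 1, 2, 4, 3, 1, 0, 1, 3, 0, 2, 0, 4, 3, 0, 4, 0, 3, 4, 1, 2, 4, 2, 4, 0, 3, 0, 4, 1, 4, 0, 1, 3, 0, 1, 3, 1, 4, 3, 1, 4, 2, 0, 3, 4, 2, 4, 1, 4, 1, 2, 0, 3, 0, 4, 0, 2, 4, 1, 2, 4, 0, 3, 4, 1, 2, 0, 3, 0, 3, 2, 0, 4, 0, 2, 4, 1, 3, 0, 3, 2, 4, 2, 4, 1, 3,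 0, 4, 0, 3, 4, 0, 3, 1, 0, 3, 1, 4, 0, 1, 3, 2, 4, 0, 4, 2, 1, 3, 4, 0, 3], [0, 2, 4, 1, 4, 2, 3, 0, 4, 3, 2, 1, 4, 1, 4, 3, 0, 2, 4, 0, 3, 1, 3, 2, 0, 1, 4, 2, 0, 4, 0, 2, 4, 0, 3, 4, 1, 2, 0, 4, 2, 1, 4, 1, 3, 0, 4, 1, 3, 4, 1, 0, 3, 2, 4, 0, 2, 3, 4, 0, 3, 0, 2, 4, 2, 0, 4, 0, 3, 2, 4, 2, 4, 0, 3, 1, 4, 0, 2, 4, 0, 4, 0, 2, 1, 3, 2, 4, 0, 2, 3, 2, 1, 4, 1, 2, 0, 1, 4, 1, 2, 0, 3, 0, 3, 2, 0, 4, 0, 2, 4, 1, 3, 0, 3, 2, 4, 2, 4, 1, 3, 0, 4, 0, 3, 4, 0, 3, 1, 0, 3, 1, 4, 0, 1, 3, 2, 4, 0, 4, 2, 1, 3, 4, 0, 3], [1, 4, 1, 3, 0, 3, 0, 1, 4, 0, 4, 1, 4, 1, 2, 4, 0, 1, 3, 1, 3, 0, 4, 0, 3, 1, 3, 4, 2, 3, 0, 2, 4, 2,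 0, 3, 0, 4, 0, 3, 1, 3, 0, 4, 0, 3, 0, 1, 4, 3, 4, 2, 1, 4, 0, 3, 1, 4, 2, 0, 4, 0, 2, 0, 3, 1, 4, 0, 4, 1, 3, 1, 3, 0, 4, 0, 2, 3, 0, 1, 4, 1, 0, 1, 4, 1, 2, 0, 3, 0, 3, 2, 0, 4, 0, 2, 4, 1, 3, 0, 3, 2, 4, 2, 4, 1, 3, 0, 4, 0, 3, 4, 0, 3, 1, 0, 3, 1, 4, 0, 1, 3, 2, 4, 0, 4, 2, 1, 3, 4, 0, 3], [0, 2, 4, 2, 0, 1, 2, 4, 0, 3, 0, 2, 4, 3, 1, 0, 3, 2, 4, 3, 0, 1, 4, 0, 1, 3, 0, 4, 0, 4, 1, 3, 4, 0, 2, 4, 2, 3, 4, 1, 4, 0, 4, 1, 3, 0, 1, 4, 3, 2, 1, 3, 0, 4, 3, 0, 4, 1, 0, 4, 2, 1, 4, 1, 3, 0, 2, 3, 0, 4, 3, 2, 1, 4, 2, 0, 4, 0, 4, 0, 3, 0, 4, 0], [2, 4, 0, 1, 4, 1, 4, 1, 0, 4, 3, 1, 3, 2, 4, 1, 4, 0, 3, 1, 4, 0, 1,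 3, 0, 2, 3, 0, 2, 4, 0, 4, 1, 4, 3, 0, 3, 1, 0, 3, 0, 1, 3, 4, 0, 4, 1, 4, 0, 2, 4, 1, 4, 2, 1, 4, 2, 0, 2, 3, 0, 3, 1, 4, 1, 4, 2, 4, 2, 4, 0, 3, 0, 2, 4, 3, 0, 1, 4, 0, 4, 1, 4, 2, 0, 4, 0, 3, 0, 1, 4, 3, 2, 0, 4, 1, 2, 1, 4, 1, 2, 0, 3, 0, 3, 2, 0, 4, 0, 2, 4, 1, 3, 0, 3, 2, 4, 2, 4, 1, 3, 0, 4, 0, 3, 4, 0, 3, 1, 0, 3, 1, 4, 0, 1, 3, 2, 4, 0, 4, 2, 1, 3, 4, 0, 3]]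

def tupC6 : List (List ℕ) := [[1, 3, 0, 4, 1, 0, 4, 0, 1, 4, 1, 4, 1, 3, 1, 0, 4, 0, 3, 2, 1, 2, 0, 4, 1, 4, 1, 0, 4, 2, 4, 1, 2, 3, 4, 0, 2, 3, 4, 0, 3, 4, 2, 4, 0, 4, 2, 3, 0, 2, 4, 2, 1, 2, 4, 0, 1, 3, 1, 3, 4, 0, 3, 2, 4, 0, 1, 3, 1, 0, 3, 4, 2, 0, 4, 1, 4, 1, 2, 4, 2, 0, 4, 0, 3, 4, 2, 3, 4, 0, 3, 4, 3, 0, 1, 3, 0, 3, 1, 2, 4, 0, 1, 2, 4, 0, 3, 0, 4, 3, 1, 4, 1, 2, 0, 3, 0, 3, 2, 0, 4, 0, 2, 4, 1, 3, 0, 3, 2, 4, 2, 4, 1, 3, 0, 4, 0, 3, 4, 0, 3, 1, 0, 3, 1, 4, 0, 1, 3, 2, 4, 0, 4, 2, 1, 3, 4, 0, 3], [2, 0, 3, 4, 1, 4, 3, 4, 0, 4, 1, 4, 0, 3, 2, 4, 0, 4, 1, 4, 1, 2, 4, 1, 3, 4, 1, 4, 0, 2, 3, 4, 0, 1, 4, 0,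 4, 3, 2, 1, 4, 1, 4, 1, 3, 0, 4, 1, 4, 1, 4, 0, 4, 0, 3, 0, 1, 3, 2, 4, 1, 3, 0, 4, 3, 0, 1, 0, 4, 0, 3, 0, 2, 4, 1, 2, 4, 1, 3, 0, 3, 0, 2, 1, 2, 4, 1, 2, 4, 1, 4, 2, 0, 3, 4, 1, 2, 4, 0, 3, 1, 4, 1, 4, 1, 2, 4, 1, 4, 0, 4, 0, 2, 0, 4, 1, 4, 3, 2, 0, 3, 0, 1, 3, 4, 2, 0, 4, 0, 4, 1, 3, 0, 1, 4, 0, 4, 0, 1, 2, 1], [2, 3, 4, 0, 1, 4, 0, 4, 0, 4, 0, 3, 2, 1, 4, 2, 1, 3, 0, 1, 4, 0, 3, 0, 3, 2, 4, 0, 2, 4, 3, 0, 4, 2, 4, 2, 4, 2, 0, 4, 0, 3, 0, 2, 0, 4, 0, 3, 4, 1, 2, 1, 4, 0, 3, 4, 0, 4, 2, 4, 2, 3, 0, 4, 3, 2, 0, 4, 3, 1, 4, 0, 3, 4, 0, 2, 3, 1, 0, 3, 0, 2, 3, 4, 0, 4, 1, 2, 4, 2, 4, 1, 0, 3, 4, 1, 3, 1, 0, 4, 2,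 0, 3, 4, 1, 2, 4, 0, 3, 1, 4, 1, 4, 1, 2, 4, 1, 4, 0, 4, 0, 2, 0, 4, 1, 4, 3, 2, 0, 3, 0, 1, 3, 4, 2, 0, 4, 0, 4, 1, 3, 0, 1, 4, 0, 4, 0, 1, 2, 1], [1, 4, 1, 0, 4, 3, 1, 2, 3, 4, 0, 1, 4, 2, 1, 4, 0, 4, 2, 3, 0, 3, 1, 0, 4, 2, 4, 1, 3, 0, 2, 3, 0, 2, 4, 0, 4, 1, 0, 4, 3, 1, 4, 0, 1, 2, 1, 3, 1, 4, 1, 2, 3, 1, 2, 3, 0, 3, 4, 0, 3, 2, 1, 3, 4, 2, 0, 3, 4, 0, 3, 4, 0, 4, 0, 2, 3, 0, 4, 1, 4, 3, 1, 2, 0, 2, 4, 3, 0, 2, 3, 0, 4, 2, 0, 2, 3, 2, 0, 1, 4, 1, 2, 0, 3, 0, 3, 2, 0, 4, 0, 2, 4, 1, 3, 0, 3, 2, 4, 2, 4, 1, 3, 0, 4, 0, 3, 4, 0, 3, 1, 0, 3, 1, 4, 0, 1, 3, 2, 4, 0, 4, 2, 1, 3, 4, 0, 3], [4, 1, 0, 4, 1, 4, 1, 4,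 0, 4, 2, 4, 0, 2, 1, 4, 1, 2, 3, 0, 3, 4, 2, 0, 3, 2, 4, 0, 4, 2, 4, 1, 3, 4, 1, 3, 4, 3, 0, 1, 4, 1, 4, 0, 3, 4, 1, 3, 0, 3, 0, 4, 0, 4, 0, 3, 2, 4, 1, 4, 0, 2, 0, 4, 0, 3, 0, 2, 3, 4, 1, 0, 4, 0, 3, 0, 2, 3, 4, 1, 0, 2, 4, 2, 0, 1, 3, 1, 4, 2, 1, 0, 4, 2, 0, 4, 1, 4, 1, 2, 0, 3, 0, 3, 2, 0, 4, 0, 2, 4, 1, 3, 0, 3, 2, 4, 2, 4, 1, 3, 0, 4, 0, 3, 4, 0, 3, 1, 0, 3, 1, 4, 0, 1, 3, 2, 4, 0, 4, 2, 1, 3, 4, 0, 3], [4, 3, 2, 0, 4, 2, 4, 1, 3, 0, 4, 1, 4, 1, 2, 4, 1, 4, 0, 3, 2, 4, 1, 4, 2, 4, 1, 2, 0, 4, 3, 0, 4, 0, 1, 3, 0, 3, 0, 2, 3, 4, 1, 3, 0, 3, 0, 2, 4, 1, 4, 3, 1, 0, 3, 4, 1, 2, 4, 0, 3, 1, 4, 1, 4, 1, 2, 4, 1,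 4, 0, 3, 2, 4, 2, 0, 4, 2, 4, 1, 4, 0, 4, 1, 0, 3, 1, 4, 2, 0, 4, 3, 2, 0, 3, 4, 0, 4, 1, 4, 1, 0, 1, 4, 1, 2, 0, 3, 0, 3, 2, 0, 4, 0, 2, 4, 1, 3, 0, 3, 2, 4, 2, 4, 1, 3, 0, 4, 0, 3, 4, 0, 3, 1, 0, 3, 1, 4, 0, 1, 3, 2, 4, 0, 4, 2, 1, 3, 4, 0, 3], [3, 4, 0, 3, 0, 4, 0, 3, 0, 4, 2, 1, 4, 0, 1, 4, 1, 4, 3, 0, 4, 0, 3, 4, 3, 1, 0, 4, 3, 0, 2, 4, 0, 3, 1, 4, 2, 1, 4, 3, 0, 4, 2, 3, 4, 1, 4, 3, 0, 3, 0, 4, 2, 1, 4, 2, 4, 3, 1, 4, 1, 4, 2, 4, 1, 4, 0, 2, 4, 1, 2, 3, 4, 2, 4, 2, 0, 3, 0, 4, 1, 4, 0, 4, 1, 4, 3, 1, 4, 2, 0, 4, 2, 1, 2, 4, 2, 1, 4, 1, 4, 1, 2, 0, 3, 0, 3, 2, 0, 4, 0, 2, 4, 1, 3, 0, 3, 2, 4, 2, 4, 1, 3, 0,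 4, 0, 3, 4, 0, 3, 1, 0, 3, 1, 4, 0, 1, 3, 2, 4, 0, 4, 2, 1, 3, 4, 0, 3], [3, 0, 3, 4, 1, 0, 3, 1, 2, 4, 3, 1, 4, 0, 4, 3, 1, 2, 1, 4, 0, 4, 3, 0, 3, 0, 4, 2, 4, 1, 0, 3, 4, 1, 4, 3, 1, 0, 3, 0, 4, 0, 4, 2, 1, 4, 1, 0, 3, 0, 3, 0, 2, 4, 0, 4, 1, 4, 3, 1, 0, 3, 4, 0, 2, 3, 1, 0, 4, 1, 3, 2, 0, 4, 0, 4, 1, 4, 3, 0, 4, 3, 0, 4, 1, 0, 4, 1, 3, 0, 2, 1, 2, 0, 3, 0, 3, 2, 0, 4, 0, 2, 4, 1, 3, 0, 3, 2, 4, 2, 4, 1, 3, 0, 4, 0, 3, 4, 0, 3, 1, 0, 3, 1, 4, 0, 1, 3, 2, 4, 0, 4, 2, 1, 3, 4, 0, 3], [1, 2, 3, 0, 4, 3, 0, 4, 1, 3, 0, 4, 3, 1, 3, 1, 0, 4, 0, 3, 1, 4, 3, 0, 1, 4, 3, 0, 2, 3, 4, 0, 2, 4, 3, 1, 4, 0, 4, 2, 3, 0, 4,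 1, 3, 0, 2, 4, 0, 4, 3, 0, 1, 4, 0, 2, 4, 0, 4, 0, 2, 0, 3, 4, 0, 2, 0, 4, 0, 4, 3, 0, 3, 0, 2, 0, 3, 4, 1, 2, 4, 0, 3, 1, 4, 1, 4, 1, 2, 4, 1, 4, 0, 4, 0, 2, 0, 4, 1, 4, 3, 2, 0, 3, 0, 1, 3, 4, 2, 0, 4, 0, 4, 1, 3, 0, 1, 4, 0, 4, 0, 1, 2, 1], [0, 4, 2, 4, 0, 1, 0, 3, 4, 0, 1, 3, 0, 4, 3, 1, 4, 0, 4, 0, 3, 1, 4, 3, 0, 4, 3, 1, 4, 0, 4, 0, 3, 1, 3, 4, 3, 2, 0, 4, 1, 0, 3, 0, 3, 4, 1, 4, 1, 0, 3, 0, 3, 4, 0, 4, 1, 2, 4, 1, 0, 3, 0, 3, 1, 4, 1, 4, 0, 1, 4, 2, 1, 4, 3, 0, 2, 3, 4, 3, 0, 4, 0, 2, 4, 1, 3, 1, 3, 4, 1, 4, 1, 2, 0, 3, 0, 3, 2, 0, 4, 0, 2, 4, 1, 3, 0, 3, 2, 4, 2, 4, 1, 3, 0, 4, 0, 3, 4, 0, 3, 1, 0, 3, 1,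 4, 0, 1, 3, 2, 4, 0, 4, 2, 1, 3, 4, 0, 3], [4, 0, 4, 1, 3, 0, 1, 0, 3, 4, 0, 3, 1, 3, 4, 2, 1, 4, 3, 1, 3, 1, 4, 1, 0, 4, 2, 4, 1, 2, 3, 4, 0, 2, 3, 4, 0, 3, 4, 2, 4, 0, 4, 2, 3, 0, 2, 4, 2, 1, 2, 4, 0, 1, 0, 3, 0, 2, 4, 0, 4, 1, 4, 3, 1, 0, 3, 4, 0, 2, 4, 0, 4, 0, 2, 4, 1, 4, 2, 4, 1, 2, 3, 2, 0, 4, 1, 3, 0, 3, 0, 4, 3, 1, 0, 4, 0, 4, 0, 3, 1, 0, 1, 4, 1, 2, 0, 3, 0, 3, 2, 0, 4, 0, 2, 4, 1, 3, 0, 3, 2, 4, 2, 4, 1, 3, 0, 4, 0, 3, 4, 0, 3, 1, 0, 3, 1, 4, 0, 1, 3, 2, 4, 0, 4, 2, 1, 3, 4, 0, 3], [1, 2, 4, 1, 0, 4, 0, 1, 4, 2, 3, 1, 4, 2, 0, 4, 3, 4, 2, 1, 4, 0, 3, 0, 2, 4, 2, 0, 1, 4, 3, 1, 0, 2, 4, 1, 4, 0, 3, 4,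 1, 3, 0, 3, 2, 1, 3, 4, 1, 4, 0, 3, 0, 1, 3, 4, 3, 1, 0, 4, 0, 4, 2, 0, 3, 4, 2, 4, 1, 4, 0, 4, 3, 1, 2, 3, 0, 3, 0, 2, 0, 2, 4, 1, 0, 3, 4, 1, 4, 3, 2, 0, 2, 4, 2, 0], [2, 3, 0, 4, 2, 0, 4, 0, 3, 2, 1, 4, 1, 3, 0, 1, 4, 1, 0, 3, 1, 4, 0, 4, 3, 0, 4, 1, 3, 2, 1, 0, 4, 3, 2, 1, 4, 1, 0, 1, 3, 1, 3, 4, 0, 1, 2, 3, 4, 1, 0, 4, 3, 2, 4, 1, 4, 2, 1, 4, 2, 0, 2, 3, 0, 3, 1, 4, 1, 4, 2, 4, 2, 4, 0, 3, 0, 2, 4, 3, 0, 1, 4, 0, 4, 1, 4, 2, 0, 4, 0, 3, 0, 1, 4, 3, 2, 0, 4, 1, 2], [0, 1, 4, 0, 3, 0, 4, 1, 4, 1, 0, 3, 0, 1, 3, 4, 0, 4, 3, 1, 4, 1, 3, 1, 4, 0, 4, 0, 3, 4, 0, 4, 0, 3, 1, 0, 1, 2, 4, 3, 1, 3, 1, 4, 0, 2, 4, 3,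 0, 2, 3, 0, 3, 0, 4, 0, 4, 2, 3, 4, 0, 2, 3, 4, 1, 2, 3, 4, 2, 3, 1, 4, 1, 3, 4, 0, 3, 0, 3, 0, 4, 2, 0, 4, 1, 2, 3, 4, 1, 0, 4, 1, 2, 4, 2, 4, 1, 2, 0, 3, 0, 3, 2, 0, 4, 0, 2, 4, 1, 3, 0, 3, 2, 4, 2, 4, 1, 3, 0, 4, 0, 3, 4, 0, 3, 1, 0, 3, 1, 4, 0, 1, 3, 2, 4, 0, 4, 2, 1, 3, 4, 0, 3], [2, 1, 4, 0, 2, 4, 2, 0, 1, 4, 0, 4, 1, 0, 3, 4, 2, 4, 0, 3, 1, 4, 1, 3, 1, 0, 3, 2, 4, 0, 3, 0, 2, 4, 0, 3, 4, 3, 1, 0, 3, 0, 2, 1, 4, 3, 2, 1, 4, 0, 2, 4, 3, 0, 4, 1, 2, 4, 0, 3, 0, 4, 0, 4, 2, 0, 4, 2, 3, 4, 0, 2, 4, 2, 0, 4, 0, 2, 4, 2, 4, 3, 0, 4, 1, 3, 4, 1, 4, 0, 4, 0, 3, 4, 1, 2, 4, 0, 3, 1, 4, 1, 4, 1, 2, 4, 1, 4, 0, 4, 0,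 2, 0, 4, 1, 4, 3, 2, 0, 3, 0, 1, 3, 4, 2, 0, 4, 0, 4, 1, 3, 0, 1, 4, 0, 4, 0, 1, 2, 1], [4, 0, 2, 1, 3, 4, 0, 2, 1, 4, 0, 3, 0, 3, 4, 0, 3, 0, 4, 2, 3, 1, 4, 2, 4, 0, 2, 3, 0, 3, 1, 4, 1, 4, 0, 4, 1, 4, 1, 0, 3, 1, 2, 4, 3, 2, 0, 1, 4, 1, 3, 0, 1, 4, 0, 4, 2, 4, 0, 4, 2, 3, 0, 4, 0, 2, 4, 1, 4, 0, 3, 0, 4, 1, 4, 0, 4, 0, 1, 4, 1, 2, 4, 0, 3, 1, 4, 2, 0, 3, 1, 3, 0, 3, 4, 1, 4, 2, 1, 4, 1, 0, 2, 4], [0, 4, 0, 3, 1, 4, 2, 0, 3, 1, 2, 0, 3, 4, 0, 3, 4, 0, 4, 1, 3, 0, 1, 3, 4, 1, 2, 3, 0, 4, 3, 2, 0, 4, 2, 4, 0, 1, 3, 0, 4, 0, 4, 1, 3, 1, 0, 1, 4, 1, 4, 2, 3, 0, 4, 2, 0, 4, 1, 0, 3, 0, 3, 4, 1, 4, 1, 0, 3, 0, 3, 4,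 0, 4, 1, 2, 4, 1, 0, 3, 0, 3, 1, 4, 1, 4, 0, 1, 4, 2, 1, 4, 3, 0, 2, 3, 4, 3, 0, 4, 0, 2, 4, 1, 3, 1, 3, 4], [4, 0, 2, 1, 3, 4, 0, 2, 1, 4, 0, 3, 0, 3, 4, 0, 3, 0, 4, 2, 3, 1, 4, 0, 4, 3, 1, 4, 2, 0, 3, 1, 4, 0, 3, 1, 0, 4, 3, 0, 2, 4, 2, 4, 3, 0, 1, 3, 0, 4, 3, 4, 1, 2, 4, 1, 3, 0, 2, 4, 2, 0, 4, 1, 0, 3, 4, 0, 1, 2, 3, 4, 0, 1, 3, 0, 3, 0, 3, 4, 1, 4, 0, 4, 0, 4, 2, 3, 1, 4, 3, 2, 0, 3, 4, 0, 4, 1, 4, 1, 0, 2, 1, 4, 1, 2, 0, 3, 0, 3, 2, 0, 4, 0, 2, 4, 1, 3, 0, 3, 2, 4, 2, 4, 1, 3, 0, 4, 0, 3, 4, 0, 3, 1, 0, 3, 1, 4, 0, 1, 3, 2, 4, 0, 4, 2, 1, 3, 4, 0, 3], [4, 1, 3, 4, 2, 0, 2, 0, 3, 1, 0, 4, 1, 0, 3, 2, 0, 4,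 0, 2, 4, 1, 4, 0, 4, 3, 1, 3, 1, 0, 4, 0, 1, 4, 0, 4, 3, 0, 4, 0, 3, 1, 2, 4, 0, 3, 0, 1, 4, 2, 0, 4, 0, 4, 2, 3, 4, 0, 2, 3, 4, 1, 2, 3, 4, 2, 3, 1, 4, 1, 3, 4, 0, 3, 0, 3, 0, 4, 2, 0, 4, 1, 2, 3, 4, 1, 0, 4, 1, 2, 4, 2, 1], [4, 0, 2, 4, 3, 2, 3, 4, 1, 4, 2, 4, 0, 3, 4, 2, 0, 4, 3, 0, 4, 2, 0, 2, 0, 3, 0, 4, 3, 0, 3, 4, 0, 2, 0, 4, 0, 2, 4, 0, 2, 3, 0, 3, 0, 3, 4, 3, 2, 1, 4, 0, 3, 4, 1, 2, 4, 0, 3, 1, 4, 1, 4, 1, 2, 4, 1, 4, 0, 4, 0, 2, 0, 4, 1, 4, 3, 2, 0, 3, 0, 1, 3, 4, 2, 0, 4, 0, 4, 1, 3, 0, 1, 4, 0, 4, 0, 1, 2, 1], [4, 2, 1, 0, 4, 3, 0, 4, 0, 2, 4, 0, 3, 0, 4, 0, 3, 1, 3, 4, 1, 0, 4, 1, 4, 3, 0, 2, 4, 0,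 3, 1, 4, 2, 0, 4, 1, 0, 4, 0, 3, 0, 4, 1, 3, 2, 0, 2, 3, 4, 2, 1, 4, 0, 3, 1, 4, 2, 0, 4, 0, 2, 0, 3, 1, 4, 0, 4, 1, 3, 1, 3, 0, 4, 0, 2, 3, 0, 1, 4, 1, 0], [1, 4, 0, 2, 3, 4, 0, 4, 1, 4, 1, 3, 1, 0, 3, 4, 0, 1, 4, 0, 2, 0, 4, 0, 3, 4, 1, 3, 2, 4, 0, 4, 0, 3, 1, 4, 0, 2, 0, 3, 4, 0, 4, 2, 3, 4, 0, 1, 3, 1, 4, 1, 3, 0, 2, 3, 4, 0, 3, 0, 2, 4, 2, 0, 4, 0, 3, 2, 4, 2, 4, 0, 3, 1, 4, 0, 2, 4, 0, 4, 0, 2, 1, 3, 2, 4, 0, 2, 3, 2, 1, 4, 1, 2, 0, 3, 4, 1, 2, 4, 0, 3, 1, 4, 1, 4, 1, 2, 4, 1, 4, 0, 4, 0, 2, 0, 4, 1, 4, 3, 2, 0, 3, 0, 1, 3, 4, 2, 0, 4, 0, 4, 1, 3, 0, 1, 4, 0, 4, 0, 1, 2, 1], [0, 4, 0, 4, 1, 4, 2, 4, 3, 0,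 3, 4, 1, 4, 0, 2, 4, 0, 4, 0, 4, 1, 3, 0, 2, 4, 0, 4, 1, 0, 3, 0, 4, 0, 3, 1, 4, 1, 0, 4, 0, 4, 2, 3, 4, 0, 2, 3, 4, 1, 2, 3, 4, 2, 0, 3, 2, 0, 3, 4, 2, 0, 3, 4, 1, 3, 4, 1, 4, 3, 1, 0, 4, 2, 3, 0, 4, 3, 0, 2, 3, 0, 4, 0, 3], [1, 4, 2, 0, 4, 2, 4, 0, 2, 4, 0, 3, 1, 3, 4, 0, 3, 2, 1, 0, 4, 2, 1, 4, 0, 4, 1, 3, 0, 3, 0, 1, 4, 1, 0, 4, 3, 0, 4, 0, 4, 2, 4, 0, 2, 3, 1, 0, 3, 1, 4, 3, 0, 4, 1, 2, 3, 0, 3, 4, 0, 3, 2, 1, 2, 0, 4, 0, 1, 3, 1, 4, 2, 0, 3, 4, 0, 4, 3, 0, 4, 0, 2, 0, 3, 0, 2, 3, 2, 0, 1, 4, 1, 2, 4, 2, 0, 2, 1, 2, 4, 0, 3, 1, 4, 1, 4, 1, 2, 4, 1, 4, 0, 4, 0, 2, 0, 4, 1, 4, 3, 2, 0, 3, 0, 1, 3, 4, 2, 0, 4,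 0, 4, 1, 3, 0, 1, 4, 0, 4, 0, 1, 2, 1], [0, 4, 1, 2, 0, 4, 0, 2, 0, 3, 1, 4, 1, 3, 0, 4, 0, 2, 3, 1, 0, 1, 2, 4, 1, 3, 0, 4, 1, 0, 3, 0, 4, 1, 2, 4, 0, 3, 2, 1, 4, 1, 0, 3, 0, 4, 2, 0, 2, 3, 0, 4, 0, 4, 0, 2, 1, 4, 2, 1, 4, 0, 3, 2, 0, 3, 4, 1, 2, 4, 2, 4, 0, 3, 0, 4, 1, 4, 0, 1, 3, 0, 1, 3, 1, 4, 3, 1, 4, 2, 0, 3, 4, 2, 4, 1, 4, 1, 2, 0, 3, 0, 4, 0, 2, 4, 1, 2, 4, 0, 3, 1, 3, 4, 1, 2, 4, 0, 3, 1, 4, 1, 4, 1, 2, 4, 1, 4, 0, 4, 0, 2, 0, 4, 1, 4, 3, 2, 0, 3, 0, 1, 3, 4, 2, 0, 4, 0, 4, 1, 3, 0, 1, 4, 0, 4, 0, 1, 2, 1], [2, 4, 1, 3, 4, 2, 1, 0, 1, 0, 2, 4, 0, 4, 2, 4, 1, 3, 2, 0, 2, 4, 0, 4, 3, 0, 4, 0, 2, 4, 1, 0,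 4, 2, 4, 2, 4, 0, 2, 1, 3, 0, 4, 1, 4, 2, 4, 3, 0, 2, 0, 4, 1, 3, 0, 4, 3, 0, 1, 4, 0, 4, 1, 4, 3, 0, 3, 0, 1, 4, 0, 4, 2, 0, 2, 4, 0, 3, 0, 4, 2, 0, 4, 3, 0, 3, 1, 3, 4, 3, 0, 3, 4, 0, 4, 1, 4, 1, 2, 1, 4, 1, 2, 0, 3, 0, 3, 2, 0, 4, 0, 2, 4, 1, 3, 0, 3, 2, 4, 2, 4, 1, 3, 0, 4, 0, 3, 4, 0, 3, 1, 0, 3, 1, 4, 0, 1, 3, 2, 4, 0, 4, 2, 1, 3, 4, 0, 3], [0, 4, 1, 2, 0, 4, 0, 2, 0, 3, 1, 4, 1, 3, 0, 4, 0, 2, 3, 1, 0, 1, 2, 4, 2, 4, 2, 4, 1, 2, 3, 0, 4, 3, 2, 1, 4, 3, 0, 3, 1, 4, 1, 2, 1, 3, 4, 3, 4, 0, 2, 4, 3, 0, 1, 2, 4, 0, 2, 1, 4, 1, 2, 1, 0, 3, 4, 0, 2, 4, 2, 0, 2, 0, 4, 2, 4, 2, 0, 2, 4, 0], [2, 4, 1, 3, 4, 2, 1,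 0, 4, 2, 4, 2, 0, 3, 0, 4, 2, 0, 3, 2, 4, 0, 4, 0, 2, 4, 3, 2, 1, 4, 3, 2, 0, 4, 3, 2, 4, 0, 4, 0, 3, 0, 1, 3, 2, 4, 2, 4, 0, 1, 4, 3, 0, 4, 0, 1, 4, 3, 0, 4, 2, 0, 4, 0, 2, 4, 1, 4, 2, 4, 0, 4, 3, 2, 0, 3, 4, 1, 2, 4, 1, 3, 0, 4, 1, 3, 0, 4, 1, 2, 4, 0, 3, 1, 4, 1, 4, 1, 2, 4, 1, 4, 0, 4, 0, 2, 0, 4, 1, 4, 3, 2, 0, 3, 0, 1, 3, 4, 2, 0, 4, 0, 4, 1, 3, 0, 1, 4, 0, 4, 0, 1, 2, 1], [2, 0, 4, 0, 4, 0, 3, 4, 0, 1, 2, 4, 2, 1, 2, 3, 2, 1, 4, 2, 1, 4, 3, 0, 4, 0, 3, 0, 2, 3, 0, 2, 0, 3, 0, 4, 0, 1, 4, 1, 2, 3, 0, 4, 0, 4, 0, 1, 4, 0, 4, 1, 3, 0, 4, 0, 4, 0, 3, 1, 4, 0, 1, 0, 3, 4, 3, 0, 4, 3, 0, 4, 1, 2, 0, 2, 4, 2, 0,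 3, 1, 4, 0, 4, 2, 1, 3, 4, 1, 4, 1, 2, 0, 3, 0, 3, 2, 0, 4, 0, 2, 4, 1, 3, 0, 3, 2, 4, 2, 4, 1, 3, 0, 4, 0, 3, 4, 0, 3, 1, 0, 3, 1, 4, 0, 1, 3, 2, 4, 0, 4, 2, 1, 3, 4, 0, 3], [4, 0, 2, 3, 0, 3, 0, 1, 3, 0, 3, 0, 4, 3, 0, 3, 0, 1, 2, 3, 4, 2, 0, 2, 0, 3, 4, 1, 2, 0, 4, 1, 2, 3, 0, 4, 1, 0, 3, 4, 0, 2, 4, 0, 3, 4, 0, 3, 2, 0, 4, 1, 3, 0, 2, 1, 4, 0, 4, 2, 0, 3, 2, 4, 2, 0, 4, 0, 4, 0, 4, 2, 4, 0, 4, 0, 3, 1, 4, 0, 2, 3, 0, 4, 1, 4, 2, 0, 4, 0, 2, 3, 2, 1, 4, 0, 4, 1, 4, 0, 4, 1, 2, 0, 4, 3, 2, 1, 0, 4, 0, 3, 4, 1, 4, 3, 1, 2], [1, 4, 1, 4, 1, 3, 0, 3, 0, 4, 0, 4, 3, 2, 0, 4, 2, 4, 0, 1, 4, 0, 2, 1, 4, 3, 0, 3, 0,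 1, 4, 0, 2, 4, 3, 1, 4, 3, 1, 0, 3, 2, 4, 0, 4, 3, 1, 2, 1, 4, 0, 4, 1, 3, 0, 1, 4, 3, 2, 1, 3, 0, 4, 3, 0, 4, 1, 0, 4, 2, 1, 4, 1, 3, 0, 2, 3, 0, 4, 3, 2, 1, 4, 2, 0, 4, 0, 4, 0, 3, 0, 4, 0, 3, 4, 1, 2, 4, 0, 3, 1, 4, 1, 4, 1, 2, 4, 1, 4, 0, 4, 0, 2, 0, 4, 1, 4, 3, 2, 0, 3, 0, 1, 3, 4, 2, 0, 4, 0, 4, 1, 3, 0, 1, 4, 0, 4, 0, 1, 2, 1], [4, 1, 2, 0, 4, 0, 4, 1, 3, 0, 4, 1, 3, 0, 1, 3, 1, 4, 0, 3, 4, 0, 4, 0, 3, 1, 2, 4, 0, 2, 3, 0, 4, 1, 4, 1, 2, 3, 0, 4, 1, 3, 0, 1, 3, 1, 4, 2, 3, 4, 3, 1, 4, 3, 1, 2, 3, 0, 3, 4, 0, 3, 2, 1, 3, 4, 2, 0, 3, 4, 0, 3, 4, 0, 4, 0, 2, 3, 0, 4, 1, 4, 3, 1, 2, 0, 2, 4, 3, 0, 2, 3, 0, 4,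 2, 0, 2, 3, 2, 0], [1, 0, 4, 0, 3, 1, 0, 4, 2, 1, 0, 4, 1, 3, 0, 1, 0, 1, 4, 2, 0, 3, 4, 1, 2, 4, 3, 0, 3, 0, 1, 2, 4, 1, 0, 4, 2, 4, 3, 0, 2, 4, 0, 3, 1, 4, 0, 3, 0, 3, 2, 4, 1, 2, 3, 4, 0, 4, 2, 0, 4, 1, 0, 3, 0, 3, 4, 1, 4, 1, 0, 3, 0, 3, 4, 0, 4, 1, 2, 4, 1, 0, 3, 0, 3, 1, 4, 1, 4, 0, 1, 4, 2, 1, 4, 3, 0, 2, 3, 4, 3, 0, 4, 0, 2, 4, 1, 3, 1, 3, 4], [0, 1, 4, 1, 4, 2, 0, 4, 2, 1, 2, 3, 2, 0, 4, 2, 3, 1, 4, 2, 0, 3, 2, 0, 4, 3, 0, 1, 3, 2, 0, 3, 0, 4, 3, 4, 1, 4, 1, 3, 0, 2, 1, 4, 1, 2, 3, 0, 3, 1, 4, 0, 3, 2, 4, 1, 4, 1, 3, 0, 4, 2, 1, 0, 4, 0, 4, 0, 4, 1, 4, 0, 3, 0, 3, 0, 2, 4, 0, 4, 0, 1, 3, 0, 2, 4, 2, 1,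 3, 4, 1, 4, 0, 3, 4, 0, 2, 4, 2, 3, 4, 1, 2, 4, 0, 3, 1, 4, 1, 4, 1, 2, 4, 1, 4, 0, 4, 0, 2, 0, 4, 1, 4, 3, 2, 0, 3, 0, 1, 3, 4, 2, 0, 4, 0, 4, 1, 3, 0, 1, 4, 0, 4, 0, 1, 2, 1], [0, 4, 2, 4, 0, 1, 4, 0, 4, 1, 3, 0, 3, 0, 3, 4, 1, 4, 3, 2, 4, 0, 3, 0, 4, 3, 0, 1, 4, 3, 0, 2, 3, 1, 0, 4, 2, 4, 0, 1, 4, 2, 0, 2, 0, 2, 0, 4, 2, 4, 3, 0, 3, 1, 4, 2, 4, 0, 4, 3, 0, 4, 0, 2, 4, 3, 0, 1, 2, 4, 0, 2, 1, 4, 1, 2, 1, 0, 3, 4, 0, 2, 4, 2, 0, 2, 0, 4, 2, 4, 2, 0, 2, 4, 0], [0, 2, 0, 3, 4, 1, 2, 4, 0, 4, 0, 3, 2, 0, 4, 0, 4, 2, 0, 4, 1, 0, 3, 0, 3, 0, 3, 4, 1, 3, 1, 0, 3, 2, 4, 0, 3, 4, 1, 0, 4, 1, 0, 3, 1, 0, 4, 1, 4, 0, 4,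 1, 3, 0, 1, 4, 3, 2, 1, 3, 0, 4, 3, 0, 4, 1, 0, 4, 2, 1, 4, 1, 3, 0, 2, 3, 0, 4, 3, 2, 1, 4, 2, 0, 4, 0, 4, 0, 3, 0, 4, 0], [1, 3, 1, 0, 4, 0, 3, 2, 4, 1, 2, 0, 3, 2, 4, 0, 2, 3, 4, 2, 0, 1, 3, 2, 4, 3, 1, 0, 2, 4, 1, 4, 0, 1, 3, 0, 1, 3, 0, 4, 3, 0, 3, 4, 1, 0, 4, 1, 3, 4, 0, 1, 3, 2, 1, 2, 3, 0, 3, 4, 0, 3, 2, 1, 2, 0, 4, 0, 1, 3, 1, 4, 2, 0, 3, 4, 0, 4, 3, 0, 4, 0, 2, 0, 3, 0, 2, 3, 2, 0, 1, 4, 1, 2, 4, 2, 0, 2, 4, 3, 1, 4, 1, 2, 0, 3, 0, 3, 2, 0, 4, 0, 2, 4, 1, 3, 0, 3, 2, 4, 2, 4, 1, 3, 0, 4, 0, 3, 4, 0, 3, 1, 0, 3, 1, 4, 0, 1, 3, 2, 4, 0, 4, 2, 1, 3, 4, 0, 3], [3, 4, 1, 2, 4, 1, 4, 1, 2, 0, 4, 0, 3, 2, 1,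 4, 0, 3, 0, 4, 1, 4, 0, 1, 0, 4, 1, 2, 3, 4, 3, 2, 4, 1, 4, 2, 0, 3, 0, 4, 3, 0, 3, 1, 2, 1, 4, 1, 4, 0, 4, 0, 3, 2, 1, 2, 4, 1, 0, 4, 3, 0, 1, 4, 0, 2, 4, 0, 4, 0, 2, 0, 3, 4, 0, 2, 0, 4, 0, 4, 3, 0, 3, 0, 2, 0, 3, 4, 1, 2, 4, 0, 3, 1, 4, 1, 4, 1, 2, 4, 1, 4, 0, 4, 0, 2, 0, 4, 1, 4, 3, 2, 0, 3, 0, 1, 3, 4, 2, 0, 4, 0, 4, 1, 3, 0, 1, 4, 0, 4, 0, 1, 2, 1], [3, 2, 0, 4, 2, 4, 0, 3, 0, 3, 1, 4, 3, 0, 4, 1, 4, 0, 1, 3, 1, 4, 0, 4, 3, 0, 1, 3, 0, 4, 1, 2, 4, 2, 4, 0, 4, 0, 4, 1, 4, 0, 2, 4, 3, 0, 3, 0, 3, 4, 0, 3, 0, 2, 4, 2, 0, 4, 0, 3, 0, 4, 3, 2, 1, 3, 4, 0, 2, 3, 0, 2, 4, 0, 4, 2, 1, 2, 3, 2, 1, 0, 3, 1, 3, 1, 4,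 1, 2, 0, 3, 0, 3, 2, 0, 4, 0, 2, 4, 1, 3, 0, 3, 2, 4, 2, 4, 1, 3, 0, 4, 0, 3, 4, 0, 3, 1, 0, 3, 1, 4, 0, 1, 3, 2, 4, 0, 4, 2, 1, 3, 4, 0, 3], [2, 4, 1, 0, 2, 3, 1, 4, 2, 1, 4, 1, 0, 2, 3, 0, 4, 3, 4, 0, 4, 0, 3, 0, 1, 2, 0, 4, 2, 1, 4, 0, 4, 0, 1, 3, 0, 2, 1, 4, 0, 2, 3, 0, 3, 2, 0, 4, 1, 3, 0, 4, 0, 4, 1, 0, 2, 4, 0, 3, 0, 2, 4, 0, 4, 1, 4, 3, 1, 0, 3, 4, 0, 2, 4, 0, 4, 0, 2, 4, 1, 4, 2, 4, 1, 2, 3, 2, 0, 4, 1, 3, 0, 3, 0, 4, 3, 1, 0, 4, 0, 4, 0, 3, 1, 0], [0, 3, 1, 4, 2, 4, 0, 4, 0, 1, 3, 0, 4, 2, 4, 0, 2, 3, 1, 4, 2, 4, 0, 4, 3, 0, 1, 0, 2, 4, 1, 3, 1, 2, 4, 0, 4, 3, 0, 4, 0, 2, 1, 0, 3, 1, 4, 3, 2, 0, 4, 0,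 2, 3, 4, 0, 3, 0, 2, 4, 2, 0, 4, 0, 3, 0, 4, 3, 2, 1, 3, 4, 0, 2, 3, 0, 2, 4, 0, 4, 2, 1, 2, 3, 2, 1, 0, 3, 1, 3], [1, 3, 1, 4, 1, 2, 4, 0, 1, 4, 0, 4, 2, 3, 0, 3, 2, 0, 4, 2, 4, 1, 3, 1, 2, 4, 3, 2, 1, 4, 3, 2, 1, 4, 0, 2, 4, 3, 0, 1, 3, 1, 4, 3, 1, 0, 2, 4, 0, 3, 4, 1, 2, 4, 0, 3, 1, 4, 1, 4, 1, 2, 4, 1, 4, 0, 3, 2, 4, 2, 0, 4, 2, 4, 1, 4, 0, 4, 1, 0, 3, 1, 4, 2, 0, 4, 3, 2, 0, 3, 4, 0, 4, 1, 4, 1, 0], [0, 4, 3, 1, 0, 3, 1, 3, 4, 2, 3, 4, 1, 4, 2, 4, 3, 0, 3, 4, 1, 4, 0, 2, 4, 1, 4, 1, 0, 3, 0, 3, 1, 4, 1, 4, 0, 2, 0, 3, 0, 3, 0, 1, 4, 1, 3, 0, 2, 4, 0, 2, 3, 4, 0, 2, 4, 3, 0, 1, 2, 4, 0, 2, 1, 4, 1, 2, 1, 0,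 3, 4, 0, 2, 4, 2, 0, 2, 0, 4, 2, 4, 2, 0, 2, 4, 0, 3, 4, 1, 2, 4, 0, 3, 1, 4, 1, 4, 1, 2, 4, 1, 4, 0, 4, 0, 2, 0, 4, 1, 4, 3, 2, 0, 3, 0, 1, 3, 4, 2, 0, 4, 0, 4, 1, 3, 0, 1, 4, 0, 4, 0, 1, 2, 1], [0, 3, 1, 4, 1, 2, 1, 3, 4, 3, 0, 4, 3, 1, 0, 3, 0, 2, 4, 1, 4, 2, 0, 3, 4, 2, 4, 1, 4, 0, 4, 3, 1, 3, 1, 0, 4, 0, 1, 4, 0, 4, 3, 0, 4, 0, 3, 1, 2, 4, 0, 3, 0, 1, 4, 2, 3, 0, 4, 1, 4, 0, 4, 1, 3, 0, 1, 4, 3, 2, 1, 3, 0, 4, 3, 0, 4, 1, 0, 4, 2, 1, 4, 1, 3, 0, 2, 3, 0, 4, 3, 2, 1, 4, 2, 0, 4, 0, 4, 0, 3, 0, 4, 0, 1, 4, 1, 2, 0, 3, 0, 3, 2, 0, 4, 0, 2, 4, 1, 3, 0, 3, 2, 4, 2, 4, 1, 3, 0, 4, 0, 3, 4, 0, 3, 1, 0, 3, 1, 4, 0,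 1, 3, 2, 4, 0, 4, 2, 1, 3, 4, 0, 3], [4, 0, 2, 3, 0, 3, 4, 0, 4, 0, 4, 0, 4, 3, 2, 0, 4, 2, 4, 0, 1, 4, 0, 2, 4, 3, 2, 0, 4, 3, 0, 1, 3, 1, 4, 2, 1, 4, 3, 0, 4, 0, 3, 2, 0, 4, 2, 3, 1, 4, 1, 3, 4, 1, 4, 2, 0, 4, 1, 4, 1, 2, 4, 0, 2, 4, 0, 3, 0, 4, 2, 0, 3, 1, 0, 4, 1, 4, 0, 3, 4, 1, 3, 0, 3, 1, 4, 2, 1, 4, 2, 3, 4, 0, 4, 1, 4, 2, 1, 3, 4, 1, 2, 4, 0, 3, 1, 4, 1, 4, 1, 2, 4, 1, 4, 0, 4, 0, 2, 0, 4, 1, 4, 3, 2, 0, 3, 0, 1, 3, 4, 2, 0, 4, 0, 4, 1, 3, 0, 1, 4, 0, 4, 0, 1, 2, 1], [4, 3, 0, 4, 1, 3, 0, 2, 4, 2, 0, 3, 0, 3, 4, 0, 4, 3, 0, 2, 1, 0, 3, 0, 3, 1, 4, 1, 4, 3, 0, 3, 1, 4, 2, 4, 0, 3, 2, 0, 3, 4, 1, 0, 3, 1,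 0, 3, 0, 2, 4, 0, 4, 1, 4, 3, 1, 0, 3, 4, 0, 2, 3, 1, 0, 4, 1, 3, 2, 0, 4, 0, 4, 1, 4, 3, 0, 4, 3, 0, 4, 1, 0, 4, 1, 3, 0, 2, 4, 1], [2, 4, 1, 0, 2, 3, 1, 0, 4, 3, 0, 4, 3, 1, 4, 0, 3, 2, 4, 0, 4, 3, 0, 3, 4, 3, 0, 4, 1, 3, 0, 4, 1, 3, 0, 4, 0, 3, 1, 3, 0, 4, 2, 4, 1, 4, 2, 1, 0, 1, 4, 0, 1, 4, 2, 3, 4, 3, 0, 2, 4, 2, 1, 4, 2, 0, 3, 4, 1, 0, 3, 0, 4, 1, 0, 1, 3, 0, 2, 4, 2, 1, 4, 1, 0, 1, 3, 4, 1, 4, 1, 4, 1, 2, 0, 3, 0, 3, 2, 0, 4, 0, 2, 4, 1, 3, 0, 3, 2, 4, 2, 4, 1, 3, 0, 4, 0, 3, 4, 0, 3, 1, 0, 3, 1, 4, 0, 1, 3, 2, 4, 0, 4, 2, 1, 3, 4, 0, 3], [0, 3, 0, 1, 3, 4, 0, 4, 1, 4, 3, 1, 2, 1, 0, 3, 4, 0, 3, 1, 0, 4,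 0, 4, 1, 3, 1, 2, 0, 4, 1, 3, 0, 2, 4, 0, 2, 3, 1, 4, 2, 4, 1, 3, 2, 4, 1, 2, 4, 2, 0, 3, 1, 4, 2, 3, 0, 1, 0, 3, 4, 1, 3, 0, 4, 0, 4, 2, 3, 4, 0, 3, 1, 3, 4, 2, 3, 2, 1, 3, 0, 3, 0, 3, 1, 3, 1, 2, 4, 1, 0, 4, 2, 4, 1, 4, 3, 1, 3, 4, 1, 2, 4, 0, 3, 1, 4, 1, 4, 1, 2, 4, 1, 4, 0, 4, 0, 2, 0, 4, 1, 4, 3, 2, 0, 3, 0, 1, 3, 4, 2, 0, 4, 0, 4, 1, 3, 0, 1, 4, 0, 4, 0, 1, 2, 1], [4, 3, 0, 4, 1, 3, 0, 2, 4, 2, 0, 3, 0, 3, 4, 0, 4, 3, 0, 2, 0, 4, 1, 3, 4, 2, 4, 3, 0, 4, 1, 0, 3, 2, 0, 3, 4, 2, 1, 3, 4, 2, 3, 4, 0, 2, 3, 4, 1, 2, 3, 1, 0, 3, 0, 3, 4, 0, 4, 0, 4, 2, 0, 4, 1, 2, 3, 0, 3, 1, 0, 3, 1, 2, 0, 4, 0, 4, 1, 3, 0, 4],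 [3, 0, 1, 3, 4, 1, 4, 3, 1, 4, 2, 4, 1, 4, 3, 0, 4, 2, 0, 4, 2, 1, 4, 0, 3, 4, 2, 0, 1, 3, 0, 4, 0, 2, 0, 3, 1, 4, 2, 0, 4, 1, 4, 3, 1, 0, 4, 1, 2, 4, 3, 1, 4, 1, 4, 2, 4, 1, 4, 0, 2, 4, 1, 2, 3, 4, 0, 3, 1, 2, 4, 1, 4, 0, 2, 4, 0, 2, 4, 1, 4, 1, 3, 2, 0, 4, 1, 3, 2, 3, 2, 3, 0, 4, 2, 4, 1, 3, 4, 1, 3, 1, 4, 1, 2, 0, 3, 0, 3, 2, 0, 4, 0, 2, 4, 1, 3, 0, 3, 2, 4, 2, 4, 1, 3, 0, 4, 0, 3, 4, 0, 3, 1, 0, 3, 1, 4, 0, 1, 3, 2, 4, 0, 4, 2, 1, 3, 4, 0, 3], [0, 1, 3, 4, 0, 2, 4, 2, 0, 3, 1, 4, 2, 4, 1, 3, 0, 3, 0, 4, 0, 3, 0, 2, 3, 0, 2, 0, 3, 0, 4, 0, 1, 4, 1, 2, 3, 0, 4, 0, 4, 0, 1, 3, 0, 2, 4, 2, 1, 4, 2, 0, 3, 4, 1, 0,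 3, 0, 4, 1, 0, 1, 3, 0, 2, 4, 2, 1, 4, 1, 0, 1, 3, 4, 1, 4], [1, 3, 0, 1, 3, 4, 0, 4, 0, 3, 1, 2, 4, 1, 4, 0, 4, 2, 1, 3, 1, 4, 2, 1, 4, 0, 4, 1, 4, 2, 4, 0, 3, 1, 4, 1, 0, 3, 4, 0, 4, 2, 3, 1, 4, 3, 0, 1, 3, 0, 2, 0, 4, 1, 3, 0, 4, 0, 4, 0, 3, 1, 4, 0, 1, 0, 3, 2, 0, 4, 0, 3, 4, 3, 1, 4, 0, 3, 4, 0, 4, 1, 3, 0, 4, 1, 0, 3, 0, 2, 4, 0, 4, 0, 3, 4, 1, 2, 4, 0, 3, 1, 4, 1, 4, 1, 2, 4, 1, 4, 0, 4, 0, 2, 0, 4, 1, 4, 3, 2, 0, 3, 0, 1, 3, 4, 2, 0, 4, 0, 4, 1, 3, 0, 1, 4, 0, 4, 0, 1, 2, 1], [1, 2, 3, 0, 4, 1, 4, 2, 0, 4, 0, 4, 2, 0, 3, 4, 0, 3, 4, 0, 4, 1, 2, 4, 3, 0, 1, 3, 1, 4, 1, 0, 1, 3, 0, 4, 1, 2, 3, 0, 4, 2, 0,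 3, 0, 4, 1, 4, 1, 2, 3, 1, 0, 4, 0, 3, 1, 4, 0, 4, 0, 3, 2, 4, 1, 4, 0, 2, 0, 4, 0, 3, 0, 2, 3, 4, 1, 0, 4, 0, 3, 0, 2, 3, 4, 1, 0, 2, 4, 2, 0, 1, 3, 1, 4, 2, 1, 0, 4, 2, 0, 4, 3, 4, 1, 2, 4, 0, 3, 1, 4, 1, 4, 1, 2, 4, 1, 4, 0, 4, 0, 2, 0, 4, 1, 4, 3, 2, 0, 3, 0, 1, 3, 4, 2, 0, 4, 0, 4, 1, 3, 0, 1, 4, 0, 4, 0, 1, 2, 1], [4, 0, 4, 1, 0, 4, 1, 4, 0, 4, 2, 4, 1, 0, 4, 2, 4, 0, 3, 1, 4, 2, 4, 3, 0, 4, 1, 3, 1, 4, 0, 2, 3, 4, 0, 4, 1, 4, 3, 0, 4, 0, 4, 3, 1, 4, 0, 3, 2, 3, 4, 2, 4, 1, 4, 0, 4, 1, 3, 0, 1, 4, 3, 2, 1, 3, 0, 4, 3, 0, 4, 1, 0, 4, 2, 1, 4, 1, 3, 0, 2, 3, 0, 4, 3, 2, 1, 4, 2, 0, 4, 0, 4, 0, 3, 0, 4, 0], [3,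 4, 0, 1, 3, 0, 1, 0, 4, 3, 2, 1, 4, 0, 3, 0, 4, 2, 0, 3, 2, 0, 4, 3, 0, 1, 3, 0, 4, 1, 3, 0, 2, 4, 1, 0, 2, 1, 4, 3, 1, 4, 3, 1, 0, 3, 1, 3, 0, 3, 0, 4, 0, 4, 2, 3, 4, 0, 2, 3, 4, 1, 2, 3, 1, 0, 3, 0, 3, 4, 0, 4, 0, 4, 2, 0, 4, 1, 2, 3, 0, 3, 1, 0, 3, 1, 2, 0, 4, 0, 4, 1, 3, 0, 4, 1, 4, 1, 2, 0, 3, 0, 3, 2, 0, 4, 0, 2, 4, 1, 3, 0, 3, 2, 4, 2, 4, 1, 3, 0, 4, 0, 3, 4, 0, 3, 1, 0, 3, 1, 4, 0, 1, 3, 2, 4, 0, 4, 2, 1, 3, 4, 0, 3], [3, 1, 3, 4, 2, 0, 1, 4, 1, 3, 0, 4, 2, 4, 0, 2, 3, 1, 4, 2, 4, 1, 0, 4, 0, 3, 2, 0, 3, 4, 2, 1, 4, 0, 4, 2, 3, 1, 2, 4, 2, 3, 0, 4, 2, 4, 1, 4, 0, 4, 2, 3, 0, 2, 4, 2, 0, 3, 0, 4, 1, 4, 0,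 4, 0, 3, 0, 2, 4, 0, 2, 4, 2, 0, 4, 0, 2, 4, 2, 0, 1, 4, 3, 0, 4, 0, 3, 0, 2, 3, 0, 1, 4, 0, 2, 4, 1, 4, 2, 0, 4, 1, 4, 2, 1, 4, 2, 0, 4, 3, 4, 1, 2, 4, 0, 3, 1, 4, 1, 4, 1, 2, 4, 1, 4, 0, 4, 0, 2, 0, 4, 1, 4, 3, 2, 0, 3, 0, 1, 3, 4, 2, 0, 4, 0, 4, 1, 3, 0, 1, 4, 0, 4, 0, 1, 2, 1], [2, 4, 0, 3, 2, 1, 0, 3, 0, 4, 2, 0, 4, 2, 3, 4, 0, 3, 1, 0, 3, 4, 3, 1, 4, 0, 2, 3, 0, 3, 1, 4, 1, 4, 0, 4, 1, 4, 1, 0, 3, 1, 2, 4, 3, 2, 0, 1, 4, 1, 3, 0, 1, 0, 3, 0, 4, 0, 4, 2, 3, 4, 0, 2, 3, 4, 1, 2, 3, 4, 2, 0, 3, 2, 0, 3, 4, 2, 0, 3, 4, 1, 3, 4, 1, 4, 3, 1, 0, 4, 2, 3, 0, 4, 3, 0, 2, 3, 0, 4, 0, 3], [0, 4, 3, 1, 4, 2, 4, 1, 0,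 3, 0, 1, 3, 4, 0, 4, 3, 1, 4, 1, 4, 3, 1, 4, 2, 1, 4, 1, 3, 4, 3, 2, 0, 4, 0, 2, 3, 0, 1, 2, 4, 2, 4, 1, 2, 4, 3, 0, 1, 4, 0, 3, 1, 3, 1, 0, 4, 1, 0, 3, 0, 3, 4, 1, 4, 1, 4, 0, 4, 0, 4, 0, 3, 0, 4, 3, 1, 2, 4, 1, 2, 4, 3, 0, 4, 3, 0, 3, 0, 1, 2, 0, 4, 0, 4, 1, 4, 0, 3, 1, 4, 2, 0, 4, 1, 4, 1, 2, 0, 3, 0, 3, 2, 0, 4, 0, 2, 4, 1, 3, 0, 3, 2, 4, 2, 4, 1, 3, 0, 4, 0, 3, 4, 0, 3, 1, 0, 3, 1, 4, 0, 1, 3, 2, 4, 0, 4, 2, 1, 3, 4, 0, 3], [2, 4, 1, 4, 0, 4, 0, 2, 4, 2, 0, 4, 0, 2, 4, 0, 3, 1, 3, 1, 4, 2, 1, 4, 1, 3, 1, 4, 2, 0, 4, 0, 3, 0, 1, 4, 2, 3, 1, 0, 1, 4, 1, 3, 1, 3, 1, 2, 3, 0, 3, 4, 0, 3, 2, 1, 2, 0, 4, 0, 1, 3,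 1, 4, 2, 0, 3, 4, 0, 4, 3, 0, 4, 0, 2, 0, 3, 0, 2, 3, 2, 0, 1, 4, 1, 2, 4, 2, 0, 2, 1, 2, 4, 0, 3, 1, 4, 1, 4, 1, 2, 4, 1, 4, 0, 4, 0, 2, 0, 4, 1, 4, 3, 2, 0, 3, 0, 1, 3, 4, 2, 0, 4, 0, 4, 1, 3, 0, 1, 4, 0, 4, 0, 1, 2, 1], [4, 0, 2, 1, 3, 4, 0, 2, 0, 4, 0, 4, 3, 0, 4, 0, 1, 3, 1, 2, 0, 4, 0, 3, 0, 3, 2, 3, 2, 0, 3, 1, 0, 4, 1, 4, 0, 3, 4, 3, 0, 4, 2, 3, 1, 3, 0, 4, 3, 2, 1, 3, 4, 0, 3, 4, 3, 2, 0, 3, 0, 2, 4, 1, 4, 0, 4, 1, 2, 3, 0, 1, 0, 3, 0, 3, 4, 0, 4, 1, 4, 2, 1, 4, 0, 4, 3, 0, 1, 3, 0, 4, 1, 3, 4, 2, 4, 1, 0, 3, 0, 3, 0, 4, 0, 2, 3, 1, 4]]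

def tupC7 : List (List ℕ) := [[0, 1, 4, 0, 3, 2, 4, 1, 3, 0, 4, 2, 4, 0, 3, 1, 4, 2, 3, 4, 3, 0, 4, 0, 4, 2, 4, 3, 1, 3, 4, 1, 3, 4, 0, 4, 0, 2, 4, 3, 1, 4, 1, 4, 0, 1, 4, 1, 2, 4, 3, 0, 4, 1, 4, 1, 4, 0, 4, 0, 3, 0, 1, 3, 2, 4, 1, 3, 0, 4, 3, 0, 1, 0, 4, 0, 3, 0, 2, 4, 1, 2, 4, 1, 3, 0, 3, 0, 2, 1, 2, 4, 1, 2, 4, 1, 4, 2, 0, 3, 4, 1, 2, 4, 0, 3, 1, 4, 1, 4, 1, 2, 4, 1, 4, 0, 4, 0, 2, 0, 4, 1, 4, 3, 2, 0, 3, 0, 1, 3, 4, 2, 0, 4, 0, 4, 1, 3, 0, 1, 4, 0, 4, 0, 1, 2, 1], [4, 1, 3, 4, 0, 4, 2, 1, 3, 4, 1, 0, 4, 2, 4, 1, 4, 0, 2, 1, 4, 0, 4, 3, 0, 3, 0, 4, 1, 2, 3, 0, 4, 0, 2, 4, 1, 3, 2, 0, 3, 1, 3, 4, 3, 0, 4, 2,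 4, 2, 0, 1, 3, 0, 4, 2, 4, 0, 4, 1, 3, 0, 3, 1, 3, 0, 2, 3, 4, 2, 1, 3, 4, 1, 4, 1, 4, 1, 2, 0, 3, 0, 3, 2, 0, 4, 0, 2, 4, 1, 3, 0, 3, 2, 4, 2, 4, 1, 3, 0, 4, 0, 3, 4, 0, 3, 1, 0, 3, 1, 4, 0, 1, 3, 2, 4, 0, 4, 2, 1, 3, 4, 0, 3], [0, 4, 0, 3, 4, 1, 4, 2, 4, 3, 0, 4, 2, 3, 4, 3, 0, 2, 3, 4, 3, 1, 4, 2, 4, 0, 4, 1, 4, 2, 4, 0, 3, 4, 2, 0, 4, 2, 0, 4, 1, 4, 1, 3, 0, 3, 1, 0, 4, 1, 3, 0, 4, 0, 4, 0, 3, 1, 4, 0, 1, 0, 3, 2, 0, 4, 0, 3, 4, 3, 1, 4, 0, 3, 4, 0, 4, 1, 3, 0, 4, 1, 0, 3, 0, 2, 4, 0, 4, 0], [1, 2, 4, 0, 3, 4, 0, 2, 0, 4, 0, 4, 1, 3, 0, 1, 4, 3, 0, 4, 1, 4, 2, 0, 3, 0, 2, 4, 3, 0, 2, 3, 1, 4, 2, 1, 3, 4, 0,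 3, 0, 1, 4, 3, 4, 0, 3, 0, 1, 2, 3, 1, 4, 2, 3, 0, 3, 1, 4, 0, 3, 4, 1, 2, 0, 4, 1, 3, 0, 4, 0, 4, 0, 3, 1, 4, 0, 1, 0, 3, 2, 0, 4, 0, 3, 4, 3, 1, 4, 0, 3, 4, 0, 4, 1, 3, 0, 4, 1, 0, 3, 0, 2, 4, 0, 4, 0, 1, 4, 1, 2, 0, 3, 0, 3, 2, 0, 4, 0, 2, 4, 1, 3, 0, 3, 2, 4, 2, 4, 1, 3, 0, 4, 0, 3, 4, 0, 3, 1, 0, 3, 1, 4, 0, 1, 3, 2, 4, 0, 4, 2, 1, 3, 4, 0, 3], [0, 2, 3, 0, 4, 0, 3, 0, 4, 1, 3, 4, 3, 0, 4, 0, 2, 4, 0, 1, 0, 2, 4, 0, 3, 0, 4, 2, 0, 3, 0, 4, 1, 4, 1, 0, 3, 0, 4, 2, 3, 4, 0, 3, 2, 4, 1, 4, 1, 3, 0, 4, 2, 1, 0, 4, 0, 4, 0, 4, 1, 4, 0, 3, 0, 3, 0, 2, 4, 0, 4, 0, 1, 3, 0, 2, 4, 2, 1, 3, 4, 1, 4, 0, 3, 4, 0, 2, 4,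 2, 3, 4, 1, 2, 4, 0, 3, 1, 4, 1, 4, 1, 2, 4, 1, 4, 0, 4, 0, 2, 0, 4, 1, 4, 3, 2, 0, 3, 0, 1, 3, 4, 2, 0, 4, 0, 4, 1, 3, 0, 1, 4, 0, 4, 0, 1, 2, 1], [2, 3, 4, 2, 0, 4, 3, 1, 4, 0, 3, 2, 1, 3, 4, 1, 4, 3, 0, 3, 1, 2, 3, 0, 4, 1, 4, 2, 4, 0, 2, 4, 3, 1, 0, 4, 1, 3, 0, 3, 1, 4, 0, 1, 4, 3, 1, 4, 0, 2, 0, 4, 1, 2, 1, 4, 1, 4, 2, 4, 1, 3, 0, 4, 3, 0, 2, 3, 0, 3, 1, 2, 3, 0, 3, 2, 1, 4, 0, 2, 3, 0, 2, 4, 2, 4, 1, 3, 1, 0, 3, 0, 4, 0, 4, 0, 2, 4, 1, 0, 3, 1, 4, 1, 2, 0, 3, 0, 3, 2, 0, 4, 0, 2, 4, 1, 3, 0, 3, 2, 4, 2, 4, 1, 3, 0, 4, 0, 3, 4, 0, 3, 1, 0, 3, 1, 4, 0, 1, 3, 2, 4, 0, 4, 2, 1, 3, 4, 0, 3], [1, 4, 0, 2, 4, 1,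 0, 4, 3, 1, 4, 3, 1, 2, 4, 3, 0, 2, 3, 1, 4, 1, 0, 2, 4, 1, 0, 2, 4, 1, 0, 3, 4, 2, 4, 0, 1, 2, 4, 1, 4, 2, 3, 0, 4, 0, 3, 0, 2, 4, 3, 2, 1, 0, 1, 2, 3, 0, 3, 4, 0, 3, 2, 1, 3, 4, 2, 0, 3, 4, 0, 3, 4, 0, 4, 0, 2, 3, 0, 4, 1, 4, 3, 1, 2, 0, 2, 4, 3, 0, 2, 3, 0, 4, 2, 0, 2, 3, 2, 0, 1, 4, 1, 2, 0, 3, 0, 3, 2, 0, 4, 0, 2, 4, 1, 3, 0, 3, 2, 4, 2, 4, 1, 3, 0, 4, 0, 3, 4, 0, 3, 1, 0, 3, 1, 4, 0, 1, 3, 2, 4, 0, 4, 2, 1, 3, 4, 0, 3], [4, 0, 3, 0, 4, 1, 3, 2, 0, 4, 1, 3, 1, 4, 2, 0, 1, 4, 1, 2, 4, 0, 4, 0, 2, 4, 1, 4, 2, 4, 1, 2, 3, 1, 4, 1, 0, 3, 1, 4, 2, 0, 4, 3, 0, 1, 4, 1, 3, 0, 3, 0, 3, 2, 1, 3, 4, 1, 4, 0, 3, 0, 1,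 3, 4, 3, 1, 0, 4, 0, 4, 2, 0, 3, 4, 2, 4, 1, 4, 0, 4, 3, 1, 2, 3, 0, 3, 0, 2, 0, 2, 4, 1, 0, 3, 4, 1, 4, 3, 2, 0, 2, 4, 2, 0, 3, 4, 1, 2, 4, 0, 3, 1, 4, 1, 4, 1, 2, 4, 1, 4, 0, 4, 0, 2, 0, 4, 1, 4, 3, 2, 0, 3, 0, 1, 3, 4, 2, 0, 4, 0, 4, 1, 3, 0, 1, 4, 0, 4, 0, 1, 2, 1], [2, 4, 0, 2, 3, 4, 2, 4, 2, 1, 4, 0, 4, 1, 4, 1, 4, 3, 4, 0, 2, 4, 1, 3, 0, 2, 1, 4, 0, 4, 3, 0, 3, 0, 3, 4, 1, 4, 0, 3, 1, 4, 1, 3, 2, 1, 0, 4, 0, 4, 3, 0, 2, 3, 4, 2, 1, 4, 0, 3, 1, 4, 2, 0, 4, 0, 2, 0, 3, 1, 4, 0, 4, 1, 3, 1, 3, 0, 4, 0, 2, 3, 0, 1, 4, 1, 0], [1, 4, 0, 3, 2, 0, 1, 4, 0, 4, 0, 4, 1, 4, 3, 2, 0, 1, 2, 4, 0, 1, 4, 3, 2, 1, 4, 3,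 0, 4, 1, 0, 3, 4, 0, 2, 4, 0, 3, 2, 0, 3, 1, 0, 4, 0, 4, 0, 2, 3, 0, 4, 3, 0, 3, 2, 1, 3, 4, 1, 4, 0, 3, 0, 1, 3, 4, 3, 1, 0, 4, 0, 4, 2, 0, 3, 4, 2, 4, 1, 4, 0, 4, 3, 1, 2, 3, 0, 3, 0, 2, 0, 2, 4, 1, 0, 3, 4, 1, 4, 3, 2, 0, 2, 4, 2, 0], [4, 1, 2, 4, 2, 0, 3, 1, 0, 3, 0, 4, 1, 0, 4, 1, 2, 4, 0, 1, 3, 2, 4, 2, 0, 4, 2, 0, 4, 1, 0, 3, 1, 3, 0, 4, 1, 2, 4, 1, 3, 2, 0, 4, 2, 0, 1, 4, 1, 4, 2, 4, 1, 3, 0, 4, 3, 0, 2, 3, 0, 3, 1, 2, 3, 4, 3, 1, 0, 4, 0, 4, 1, 0, 2, 3, 0, 4, 2, 0, 3, 0, 4, 1, 2, 3, 0, 4, 1, 4, 0, 1, 2, 4, 3, 4, 1, 2, 4, 0, 3, 1, 4, 1, 4, 1, 2, 4, 1, 4, 0, 4, 0, 2, 0, 4, 1, 4, 3, 2, 0, 3, 0, 1, 3, 4, 2,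 0, 4, 0, 4, 1, 3, 0, 1, 4, 0, 4, 0, 1, 2, 1], [4, 3, 1, 3, 0, 3, 0, 3, 4, 2, 1, 4, 2, 4, 0, 4, 0, 3, 0, 1, 4, 1, 3, 0, 1, 4, 3, 0, 1, 4, 1, 3, 1, 0, 4, 1, 2, 0, 4, 2, 4, 3, 0, 3, 0, 1, 0, 2, 4, 2, 0, 2, 4, 1, 4, 2, 1, 4, 2, 0, 2, 3, 0, 3, 1, 4, 1, 4, 2, 4, 2, 4, 0, 3, 0, 2, 4, 3, 0, 1, 4, 0, 4, 1, 4, 2, 0, 4, 0, 3, 0, 1, 4, 3, 2, 0, 4, 1, 2], [4, 0, 4, 2, 1, 3, 1, 0, 4, 2, 4, 1, 3, 0, 4, 0, 3, 0, 3, 1, 0, 3, 4, 0, 4, 1, 2, 0, 3, 0, 3, 0, 4, 3, 2, 4, 0, 3, 1, 2, 0, 4, 0, 4, 1, 3, 0, 4, 3, 0, 1, 4, 0, 4, 1, 4, 3, 0, 3, 0, 1, 4, 0, 4, 2, 0, 2, 4, 0, 3, 0, 4, 2, 0, 4, 3, 0, 3, 1, 3, 4, 3, 0, 3, 4, 0, 4, 1, 4, 1, 2,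 1, 4, 1, 2, 0, 3, 0, 3, 2, 0, 4, 0, 2, 4, 1, 3, 0, 3, 2, 4, 2, 4, 1, 3, 0, 4, 0, 3, 4, 0, 3, 1, 0, 3, 1, 4, 0, 1, 3, 2, 4, 0, 4, 2, 1, 3, 4, 0, 3], [0, 2, 4, 0, 3, 4, 1, 3, 0, 2, 4, 1, 3, 4, 0, 4, 2, 0, 4, 0, 2, 4, 0, 4, 2, 4, 0, 2, 3, 4, 0, 3, 0, 2, 4, 0, 3, 0, 4, 0, 4, 3, 4, 2, 1, 4, 2, 1, 3, 4, 1, 4, 2, 0, 4, 1, 4, 1, 2, 4, 0, 2, 4, 0, 3, 0, 4, 2, 0, 3, 1, 0, 4, 1, 4, 0, 3, 4, 1, 3, 0, 3, 1, 4, 2, 1, 4, 2, 3, 4, 0, 4, 1, 4, 2, 1], [0, 2, 3, 0, 4, 2, 1, 4, 2, 0, 3, 0, 4, 0, 3, 2, 1, 3, 0, 4, 3, 1, 4, 3, 0, 1, 4, 1, 3, 1, 4, 0, 3, 1, 3, 4, 1, 3, 0, 4, 3, 0, 1, 2, 0, 1, 4, 1, 3, 1, 0, 1, 4, 0, 2, 4, 1, 0, 4, 1,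 3, 4, 0, 2, 3, 2, 0, 2, 4], [0, 1, 2, 3, 4, 1, 3, 0, 3, 0, 2, 4, 2, 4, 0, 4, 0, 4, 1, 4, 0, 2, 4, 1, 4, 3, 1, 4, 2, 0, 4, 0, 2, 4, 1, 0, 3, 0, 4, 2, 4, 0, 1, 4, 2, 0, 1, 3, 2, 1, 4, 1, 4, 2, 4, 1, 3, 0, 4, 3, 0, 2, 3, 0, 3, 1, 2, 3, 2, 4, 3, 1, 3, 0, 4, 3, 2, 3, 4, 3, 0, 4, 1, 0, 3, 1, 4, 1, 0, 1, 4, 1, 2, 0, 3, 0, 3, 2, 0, 4, 0, 2, 4, 1, 3, 0, 3, 2, 4, 2, 4, 1, 3, 0, 4, 0, 3, 4, 0, 3, 1, 0, 3, 1, 4, 0, 1, 3, 2, 4, 0, 4, 2, 1, 3, 4, 0, 3], [2, 4, 3, 0, 3, 0, 3, 4, 1, 0, 4, 1, 2, 4, 0, 2, 3, 1, 4, 0, 3, 4, 0, 2, 4, 0, 4, 0, 2, 0, 4, 3, 1, 4, 2, 1, 2, 0, 4, 1, 4, 0, 4, 3, 2, 0, 4, 0, 4, 2, 4, 1, 4, 0, 3, 2, 4, 1,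 4, 1, 3, 0, 4, 2, 1, 0, 4, 0, 4, 0, 4, 1, 4, 0, 3, 0, 3, 0, 2, 4, 0, 4, 0, 1, 3, 0, 2, 4, 2, 1, 3, 4, 1, 4, 0, 3, 4, 0, 2, 4, 2, 1, 4, 1, 2, 0, 3, 0, 3, 2, 0, 4, 0, 2, 4, 1, 3, 0, 3, 2, 4, 2, 4, 1, 3, 0, 4, 0, 3, 4, 0, 3, 1, 0, 3, 1, 4, 0, 1, 3, 2, 4, 0, 4, 2, 1, 3, 4, 0, 3], [4, 0, 1, 3, 0, 4, 0, 4, 0, 3, 1, 4, 3, 2, 4, 0, 1, 2, 1, 4, 3, 0, 3, 0, 4, 1, 2, 3, 4, 0, 4, 1, 4, 0, 3, 4, 1, 3, 0, 3, 2, 0, 4, 0, 3, 2, 1, 4, 0, 2, 3, 0, 3, 0, 1, 4, 1, 2, 4, 0, 3, 1, 4, 1, 4, 1, 2, 4, 1, 4, 0, 3, 2, 4, 2, 0, 4, 2, 4, 1, 4, 0, 4, 1, 0, 3, 1, 4, 2, 0, 4, 3, 2, 0, 3, 4, 0, 4, 1, 4, 1, 0, 1, 4, 1, 2, 0, 3, 0, 3, 2, 0, 4, 0,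 2, 4, 1, 3, 0, 3, 2, 4, 2, 4, 1, 3, 0, 4, 0, 3, 4, 0, 3, 1, 0, 3, 1, 4, 0, 1, 3, 2, 4, 0, 4, 2, 1, 3, 4, 0, 3], [4, 3, 0, 1, 3, 4, 1, 3, 4, 1, 4, 0, 4, 2, 4, 0, 3, 2, 0, 4, 1, 2, 0, 4, 1, 3, 0, 1, 3, 0, 4, 1, 3, 4, 0, 3, 4, 0, 3, 0, 4, 1, 4, 0, 3, 2, 4, 3, 1, 4, 0, 3, 0, 3, 2, 4, 1, 4, 0, 4, 1, 3, 0, 1, 4, 3, 2, 1, 3, 0, 4, 3, 0, 4, 1, 0, 4, 2, 1, 4, 1, 3, 0, 2, 3, 0, 4, 3, 2, 1, 4, 2, 0, 4, 0, 4, 0, 3, 0, 4, 0], [0, 3, 4, 0, 2, 0, 4, 0, 3, 4, 2, 1, 4, 1, 3, 4, 2, 0, 1, 0, 4, 1, 3, 0, 4, 0, 4, 1, 2, 4, 0, 2, 3, 2, 0, 4, 3, 0, 4, 2, 1, 3, 0, 4, 1, 2, 4, 2, 1, 4, 1, 4, 2, 4, 1, 3, 0, 4, 3, 0, 2, 3, 0, 3, 1, 2, 3,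 2, 4, 3, 1, 3, 0, 4, 3, 2, 3, 4, 3, 0, 4, 1, 0, 3, 1, 4, 1, 0, 3, 4, 1, 2, 4, 0, 3, 1, 4, 1, 4, 1, 2, 4, 1, 4, 0, 4, 0, 2, 0, 4, 1, 4, 3, 2, 0, 3, 0, 1, 3, 4, 2, 0, 4, 0, 4, 1, 3, 0, 1, 4, 0, 4, 0, 1, 2, 1], [0, 1], [2, 4, 1, 0, 3, 0, 2, 1, 4, 2, 1, 4, 0, 3, 4, 0, 3, 0, 1, 2, 4, 3, 1, 3, 0, 4, 0, 4, 3, 4, 0, 3, 2, 4, 0, 4, 3, 2, 1, 0, 1, 4, 0, 3, 0, 2, 4, 1, 4, 0, 4, 1, 2, 3, 0, 1, 0, 3, 0, 3, 4, 0, 4, 1, 4, 2, 1, 4, 0, 4, 3, 0, 1, 3, 0, 4, 1, 3, 4, 2, 4, 1, 0, 3, 0, 3, 0, 4, 0, 2, 3, 1, 4, 1, 4, 1, 2, 0, 3, 0, 3, 2, 0, 4, 0, 2, 4, 1, 3, 0, 3, 2, 4, 2, 4, 1, 3, 0, 4, 0, 3, 4, 0, 3, 1, 0, 3, 1, 4, 0, 1, 3, 2, 4,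 0, 4, 2, 1, 3, 4, 0, 3], [0, 3, 0, 2, 3, 1, 4, 0, 3, 0, 2, 0, 3, 0, 4, 3, 0, 3, 4, 0, 2, 4, 3, 4, 0, 3, 4, 2, 4, 3, 1, 4, 2, 0, 4, 0, 3, 2, 4, 3, 1, 4, 1, 4, 2, 4, 1, 4, 0, 2, 4, 1, 2, 3, 4, 2, 4, 2, 0, 3, 0, 4, 1, 4, 0, 4, 1, 4, 3, 1, 4, 2, 0, 4, 2, 1, 2, 4, 2, 1, 4, 1, 4, 1, 2, 0, 3, 0, 3, 2, 0, 4, 0, 2, 4, 1, 3, 0, 3, 2, 4, 2, 4, 1, 3, 0, 4, 0, 3, 4, 0, 3, 1, 0, 3, 1, 4, 0, 1, 3, 2, 4, 0, 4, 2, 1, 3, 4, 0, 3], [4, 0, 1, 2, 4, 0, 1, 4, 0, 3, 1, 4, 0, 2, 4, 0, 3, 4, 0, 3, 1, 3, 4, 0, 3, 0, 4, 0, 4, 0, 4, 1, 4, 1, 4, 3, 0, 3, 0, 1, 4, 0, 1, 3, 1], [2, 4, 1, 4, 0, 4, 3, 2, 1, 4, 0, 3, 2, 1, 0, 4, 2, 0, 4, 0, 4, 1,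 2, 3, 4, 3, 2, 4, 1, 4, 2, 0, 3, 0, 4, 3, 0, 3, 1, 2, 1, 4, 1, 4, 0, 4, 0, 3, 2, 1, 2, 4, 0, 4, 0, 4, 0, 3, 2, 4, 1, 4, 0, 2, 0, 4, 0, 3, 0, 2, 3, 4, 1, 0, 3, 0, 3, 0, 2, 1, 4, 0, 2, 0, 4, 1, 3, 0, 3, 2, 0, 4, 1, 2, 3, 4, 1, 4, 0, 4, 2, 1, 2, 4, 0, 3, 1, 4, 1, 4, 1, 2, 4, 1, 4, 0, 4, 0, 2, 0, 4, 1, 4, 3, 2, 0, 3, 0, 1, 3, 4, 2, 0, 4, 0, 4, 1, 3, 0, 1, 4, 0, 4, 0, 1, 2, 1], [3, 0, 1, 4, 3, 1, 3, 0, 3, 0, 4, 2, 1, 2, 4, 1, 3, 0, 2, 3, 1, 0, 4, 1, 0, 2, 4, 0, 4, 1, 3, 0, 1, 4, 2, 4, 0, 4, 0, 1, 3, 2, 4, 1, 2, 4, 1, 2, 0, 3, 4, 1, 2, 3, 4, 2, 4, 0, 3, 2, 4, 3, 4, 0, 4, 2, 4, 2, 3, 0, 4, 3, 2, 0, 4, 3, 1, 4, 0, 3, 4,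 0, 2, 3, 1, 0, 3, 0, 2, 3, 4, 0, 4, 1, 2, 4, 2, 4, 1, 0, 3, 4, 1, 3, 1, 0, 4, 2, 0], [3, 0, 3, 0, 3, 0, 3, 0, 4, 2, 3, 0, 1, 4, 2, 3, 0, 4, 0, 1, 0, 4, 3, 2, 0, 4, 3, 0, 4, 1, 3, 4, 0, 2, 3, 4, 0, 3, 2, 4, 2, 4, 0, 4, 3, 4, 0, 2, 4, 3, 0, 1, 2, 4, 0, 2, 1, 4, 1, 2, 1, 0, 3, 4, 0, 2, 4, 2, 0, 2, 0, 4, 2, 4, 2, 0, 2, 4, 0], [0, 1, 3, 0, 3, 0, 3, 0, 3, 0, 4, 2, 3, 0, 1, 4, 2, 3, 0, 4, 0, 1, 0, 4, 3, 2, 0, 4, 3, 0, 4, 1, 3, 4, 0, 2, 3, 4, 0, 3, 2, 4, 2, 4, 0, 4, 3, 4, 0, 2, 4, 3, 0, 1, 2, 4, 0, 2, 1, 4, 1, 2, 1, 0, 3, 4, 0, 2, 4, 2, 0, 2, 0, 4, 2, 4, 2, 0, 2, 4, 0], [0, 4, 0, 2, 4, 0, 2, 1, 4, 2, 0, 4, 2, 4, 1, 3, 1,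 0, 4, 3, 0, 2, 1, 3, 0, 1, 3, 4, 2, 0, 4, 0, 3, 4, 1, 2, 4, 1, 2, 3, 4, 0, 3, 0, 3, 1, 4, 1, 4, 2, 4, 1, 4, 2, 3, 0, 1, 4, 0, 2, 4, 3, 0, 1, 3, 1, 4, 2, 1, 4, 3, 1, 4, 3, 0, 4, 2, 0, 4, 3, 4, 1, 2, 4, 0, 3, 1, 4, 1, 4, 1, 2, 4, 1, 4, 0, 4, 0, 2, 0, 4, 1, 4, 3, 2, 0, 3, 0, 1, 3, 4, 2, 0, 4, 0, 4, 1, 3, 0, 1, 4, 0, 4, 0, 1, 2, 1], [0, 4, 0, 4, 0, 1, 4, 1, 2, 1, 4, 1, 3, 2, 1, 0, 4, 3, 0, 3, 4, 2, 0, 4, 2, 1, 4, 0, 4, 2, 0, 1, 4, 0, 4, 2, 4, 2, 0, 4, 1, 3, 1, 0, 3, 0, 4, 0, 4, 0, 3, 0, 3, 2, 0, 2, 3, 4, 2, 1, 4, 0, 3, 1, 4, 2, 0, 4, 0, 2, 0, 3, 1, 4, 0, 4, 1, 3, 1, 3, 0, 4, 0, 2, 3, 0, 1, 4, 1, 0, 1, 4, 1, 2, 0, 3,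 0, 3, 2, 0, 4, 0, 2, 4, 1, 3, 0, 3, 2, 4, 2, 4, 1, 3, 0, 4, 0, 3, 4, 0, 3, 1, 0, 3, 1, 4, 0, 1, 3, 2, 4, 0, 4, 2, 1, 3, 4, 0, 3], [0, 4, 2, 1, 4, 2, 0, 4, 0, 4, 2, 4, 0, 2, 1, 4, 1, 2, 3, 0, 3, 4, 2, 0, 3, 0, 3, 2, 1, 3, 0, 4, 2, 1, 2, 3, 0, 4, 1, 4, 2, 0, 4, 0, 3, 4, 1, 4, 3, 0, 3, 1, 0, 2, 0, 4, 1, 3, 0, 4, 3, 0, 1, 4, 0, 4, 1, 4, 3, 0, 3, 0, 1, 4, 0, 4, 2, 0, 2, 4, 0, 3, 0, 4, 2, 0, 4, 3, 0, 3, 1, 3, 4, 3, 0, 3, 4, 0, 4, 1, 4, 1, 2, 3, 4, 1, 2, 4, 0, 3, 1, 4, 1, 4, 1, 2, 4, 1, 4, 0, 4, 0, 2, 0, 4, 1, 4, 3, 2, 0, 3, 0, 1, 3, 4, 2, 0, 4, 0, 4, 1, 3, 0, 1, 4, 0, 4, 0, 1, 2, 1], [1, 3, 0, 3, 1, 4, 3, 0, 4, 3, 0,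 3, 2, 0, 3, 4, 2, 4, 1, 2, 4, 1, 0, 4, 3, 2, 0, 4, 0, 3, 0, 4, 0, 2, 3, 4, 0, 3, 0, 3, 2, 4, 1, 2, 4, 2, 0, 1, 4, 1, 3, 0, 1, 0, 3, 0, 4, 0, 4, 2, 3, 4, 0, 2, 3, 4, 1, 2, 3, 4, 2, 0, 3, 2, 0, 3, 4, 2, 0, 3, 4, 1, 3, 4, 1, 4, 3, 1, 0, 4, 2, 3, 0, 4, 3, 0, 2, 3, 0, 4, 0, 3, 1, 4, 1, 2, 0, 3, 0, 3, 2, 0, 4, 0, 2, 4, 1, 3, 0, 3, 2, 4, 2, 4, 1, 3, 0, 4, 0, 3, 4, 0, 3, 1, 0, 3, 1, 4, 0, 1, 3, 2, 4, 0, 4, 2, 1, 3, 4, 0, 3], [2, 3, 4, 0, 3, 1, 4, 1, 0, 4, 2, 4, 0, 2, 4, 3, 0, 4, 3, 0, 2, 4, 3, 0, 2, 4, 2, 1, 4, 2, 0, 3, 0, 4, 1, 2, 4, 3, 0, 3, 4, 2, 0, 3, 2, 3, 2, 3, 2, 1, 4, 0, 3, 2, 1, 0, 4, 3, 0, 1, 4, 0, 2, 4, 0, 4,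 0, 2, 0, 3, 4, 0, 2, 0, 4, 0, 4, 3, 0, 3, 0, 2, 0, 1, 4, 1, 2, 0, 3, 0, 3, 2, 0, 4, 0, 2, 4, 1, 3, 0, 3, 2, 4, 2, 4, 1, 3, 0, 4, 0, 3, 4, 0, 3, 1, 0, 3, 1, 4, 0, 1, 3, 2, 4, 0, 4, 2, 1, 3, 4, 0, 3], [0, 1, 4, 3, 1, 2, 3, 1, 4, 1, 4, 3, 0, 4, 0, 2, 3, 2, 4, 0, 2, 1, 4, 0, 2, 4, 1, 4, 3, 1, 4, 2, 0, 4, 0, 2, 4, 1, 0, 3, 0, 4, 2, 4, 0, 1, 4, 2, 0, 1, 3, 0, 4, 1, 3, 0, 4, 0, 4, 0, 3, 1, 4, 0, 1, 0, 3, 4, 3, 0, 4, 3, 0, 4, 1, 2, 0, 2, 4, 2, 0, 3, 1, 4, 0, 4, 2, 1, 3, 4, 3, 4, 1, 2, 4, 0, 3, 1, 4, 1, 4, 1, 2, 4, 1, 4, 0, 4, 0, 2, 0, 4, 1, 4, 3, 2, 0, 3, 0, 1, 3, 4, 2, 0, 4, 0, 4, 1, 3, 0, 1, 4, 0, 4, 0, 1, 2, 1], [3,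 1, 3, 4, 2, 0, 1, 4, 1, 4, 1, 4, 3, 0, 2, 4, 1, 4, 1, 4, 3, 2, 0, 4, 0, 3, 1, 4, 0, 4, 1, 4, 1, 4, 0, 3, 0, 1, 3, 4, 3, 2, 0, 3, 1, 4, 1, 3, 0, 4, 3, 0, 3, 0, 1, 4, 1, 0, 3, 0, 2, 4, 0, 4, 1, 4, 3, 1, 0, 3, 4, 0, 2, 3, 1, 0, 4, 1, 3, 2, 0, 4, 0, 4, 1, 4, 3, 0, 4, 3, 0, 4, 1, 0, 4, 1, 3, 0, 2, 1, 2, 0, 3, 0, 3, 2, 0, 4, 0, 2, 4, 1, 3, 0, 3, 2, 4, 2, 4, 1, 3, 0, 4, 0, 3, 4, 0, 3, 1, 0, 3, 1, 4, 0, 1, 3, 2, 4, 0, 4, 2, 1, 3, 4, 0, 3], [2, 4, 0, 3, 2, 1, 0, 3, 0, 4, 2, 0, 4, 2, 3, 4, 0, 3, 1, 0, 3, 4, 3, 1, 2, 4, 2, 0, 4, 0, 3, 1, 2, 3, 4, 1, 0, 3, 1, 4, 0, 4, 1, 4, 0, 3, 0, 2, 4, 0, 4, 1, 4, 3, 1, 0, 3, 4, 0, 2, 4,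 0, 4, 0, 2, 4, 1, 4, 2, 4, 1, 2, 3, 2, 0, 4, 1, 3, 0, 3, 0, 4, 3, 1, 0, 4, 0, 4, 0, 3, 1, 0, 3, 4, 1, 2, 4, 0, 3, 1, 4, 1, 4, 1, 2, 4, 1, 4, 0, 4, 0, 2, 0, 4, 1, 4, 3, 2, 0, 3, 0, 1, 3, 4, 2, 0, 4, 0, 4, 1, 3, 0, 1, 4, 0, 4, 0, 1, 2, 1], [2, 3, 0, 3, 4, 3, 0, 4, 1, 0, 4, 0, 3, 1, 0, 3, 1, 4, 0, 1, 4, 2, 3, 2, 4, 0, 3, 0, 4, 3, 0, 3, 4, 0, 2, 4, 3, 4, 0, 3, 4, 2, 4, 3, 1, 4, 2, 0, 4, 0, 3, 4, 1, 4, 0, 4, 1, 3, 0, 1, 4, 3, 2, 1, 3, 0, 4, 3, 0, 4, 1, 0, 4, 2, 1, 4, 1, 3, 0, 2, 3, 0, 4, 3, 2, 1, 4, 2, 0, 4, 0, 4, 0, 3, 0, 4, 0, 3, 4, 1, 2, 4, 0, 3, 1, 4, 1, 4, 1, 2, 4, 1, 4, 0, 4, 0, 2, 0, 4, 1, 4, 3, 2, 0, 3, 0, 1,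 3, 4, 2, 0, 4, 0, 4, 1, 3, 0, 1, 4, 0, 4, 0, 1, 2, 1], [4, 0, 4, 1, 0, 4, 0, 1, 3, 0, 1, 3, 2, 3, 4, 3, 1, 4, 1, 3, 0, 1, 3, 0, 2, 4, 2, 0, 4, 0, 2, 4, 2, 0, 4, 1, 4, 3, 1, 4, 2, 4, 0, 1, 3, 4, 0, 3, 2, 1, 4, 3, 0, 1, 4, 0, 2, 4, 3, 0, 1, 2, 4, 0, 2, 1, 4, 1, 2, 1, 0, 3, 4, 0, 2, 4, 2, 0, 2, 0, 4, 2, 4, 2, 0, 2, 4, 0, 3, 4, 1, 2, 4, 0, 3, 1, 4, 1, 4, 1, 2, 4, 1, 4, 0, 4, 0, 2, 0, 4, 1, 4, 3, 2, 0, 3, 0, 1, 3, 4, 2, 0, 4, 0, 4, 1, 3, 0, 1, 4, 0, 4, 0, 1, 2, 1], [3, 4, 1, 2, 4, 3, 1, 4, 0, 4, 3, 0, 1, 3, 4, 0, 4, 1, 0, 3, 2, 4, 3, 0, 4, 2, 3, 0, 1, 3, 4, 0, 2, 4, 0, 4, 0, 3, 2, 4, 1, 0, 3, 0, 4, 3, 2, 0, 3, 1, 0,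 3, 1, 4, 0, 4, 2, 3, 1, 4, 2, 0, 4, 0, 3, 1, 4, 3, 0, 3, 4, 0, 4, 0, 1, 4, 2, 4, 1, 4, 2, 0, 3, 0, 1, 4, 0, 2, 0, 4, 3, 0, 1, 4, 2, 3, 0, 3, 0, 3, 4, 3, 1, 2, 4], [0, 1, 4, 0, 4, 0, 4, 1, 4, 2, 4, 0, 2, 1, 4, 1, 4, 2, 1, 4, 1, 4, 2, 4, 0, 3, 2, 0, 3, 4, 0, 4, 1, 2, 4, 3, 0, 3, 4, 1, 2, 3, 4, 1, 3, 0, 1, 4, 2, 1, 4, 2, 4, 3, 4, 0, 2, 3, 4, 0, 3, 0, 2, 4, 2, 0, 4, 0, 3, 2, 4, 2, 4, 0, 3, 1, 4, 0, 2, 4, 0, 4, 0, 2, 1, 3, 2, 4, 0, 2, 3, 2, 1, 4, 1, 2, 0, 1, 4, 1, 2, 0, 3, 0, 3, 2, 0, 4, 0, 2, 4, 1, 3, 0, 3, 2, 4, 2, 4, 1, 3, 0, 4, 0, 3, 4, 0, 3, 1, 0, 3, 1, 4, 0, 1, 3, 2, 4, 0, 4, 2, 1, 3, 4, 0, 3], [0, 2, 1, 4, 1,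 4, 0, 1, 0, 4, 3, 1, 3, 2, 4, 1, 4, 0, 3, 1, 4, 0, 4, 1, 0, 3, 0, 3, 1, 4, 1, 4, 3, 0, 3, 1, 3, 2, 0, 4, 1, 2, 0, 3, 4, 1, 4, 2, 0, 4, 1, 0, 3, 0, 3, 4, 1, 4, 1, 0, 3, 0, 3, 4, 0, 4, 1, 2, 4, 1, 0, 3, 0, 3, 1, 4, 1, 4, 0, 1, 4, 2, 1, 4, 3, 0, 2, 3, 4, 3, 0, 4, 0, 2, 4, 1, 3, 1, 3, 4, 1, 4, 1, 2, 0, 3, 0, 3, 2, 0, 4, 0, 2, 4, 1, 3, 0, 3, 2, 4, 2, 4, 1, 3, 0, 4, 0, 3, 4, 0, 3, 1, 0, 3, 1, 4, 0, 1, 3, 2, 4, 0, 4, 2, 1, 3, 4, 0, 3], [4, 0, 2, 0, 4, 0, 2, 3, 0, 4, 2, 4, 0, 3, 4, 2, 1, 3, 4, 0, 4, 3, 0, 2, 3, 0, 3, 0, 2, 3, 4, 0, 4, 1, 4, 0, 3, 4, 1, 3, 0, 3, 2, 3, 4, 0, 2, 3, 4, 3, 2, 3, 0, 4, 1, 3, 4, 0, 2, 3, 4, 0,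 3, 0, 2, 4, 2, 0, 4, 0, 3, 2, 4, 2, 4, 0, 3, 1, 4, 0, 2, 4, 0, 4, 0, 2, 1, 3, 2, 4, 0, 2, 3, 2, 1, 4, 1, 2, 0], [0, 4, 0, 4, 0, 1, 4, 1, 2, 0, 4, 1, 2, 4, 0, 2, 3, 0, 3, 0, 4, 0, 4, 2, 3, 4, 0, 4, 3, 2, 0, 4, 1, 4, 3, 4, 2, 0, 3, 1, 4, 0, 2, 3, 2, 1, 0, 3, 1, 4, 2, 4, 3, 0, 3, 1, 3, 1, 0, 3, 1, 4, 0, 4, 2, 3, 1, 4, 2, 0, 4, 0, 3, 1, 4, 3, 0, 3, 4, 0, 4, 0, 1, 4, 2, 4, 1, 4, 2, 0, 3, 0, 1, 4, 0, 2, 0, 4, 3, 0, 1, 4, 2, 3, 0, 3, 0, 3, 4, 3, 1, 2, 4, 3, 4, 1, 2, 4, 0, 3, 1, 4, 1, 4, 1, 2, 4, 1, 4, 0, 4, 0, 2, 0, 4, 1, 4, 3, 2, 0, 3, 0, 1, 3, 4, 2, 0, 4, 0, 4, 1, 3, 0, 1, 4, 0, 4, 0, 1, 2, 1], [3, 4, 1, 0, 3, 1, 0,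 3, 0, 3, 0, 4, 3, 0, 3, 0, 1, 2, 3, 4, 2, 0, 2, 0, 3, 4, 1, 2, 0, 4, 1, 2, 4, 2, 3, 4, 1, 3, 0, 4, 1, 3, 4, 0, 4, 1, 4, 0, 1, 3, 1, 0, 3, 4, 2, 0, 3, 4, 1, 4, 2, 4, 3, 4, 1, 2, 4, 0, 3, 1, 4, 1, 4, 1, 2, 4, 1, 4, 0, 4, 0, 2, 0, 4, 1, 4, 3, 2, 0, 3, 0, 1, 3, 4, 2, 0, 4, 0, 4, 1, 3, 0, 1, 4, 0, 4, 0, 1, 2, 1], [0, 4, 0, 3, 0, 3, 4, 2, 1, 4, 0, 1, 4, 0, 2, 1, 4, 1, 4, 0, 1, 2, 4, 3, 0, 2, 4, 1, 4, 1, 0, 4, 2, 1, 0, 3, 2, 0, 4, 1, 3, 0, 4, 0, 1, 4, 0, 4, 3, 1, 4, 0, 2], [3, 0, 3, 4, 2, 4, 3, 0, 2, 3, 2, 3, 4, 0, 3, 0, 2, 4, 2, 3, 0, 4, 3, 1, 4, 0, 4, 0, 3, 1, 4, 2, 0, 3, 0, 2, 3, 1, 0, 1, 2, 4, 1, 3, 0, 4, 0, 1, 3,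 4, 2, 4, 2, 0, 3, 0, 4, 1, 4, 0, 4, 0, 3, 0, 2, 4, 0, 2, 4, 2, 0, 4, 0, 2, 4, 2, 0, 1, 4, 3, 0, 4, 0, 3, 0, 2, 3, 0, 1, 4, 0, 2, 4, 1, 4, 2, 0, 4, 1, 4, 2, 1, 4, 2, 0, 4, 1, 4, 1, 2, 0, 3, 0, 3, 2, 0, 4, 0, 2, 4, 1, 3, 0, 3, 2, 4, 2, 4, 1, 3, 0, 4, 0, 3, 4, 0, 3, 1, 0, 3, 1, 4, 0, 1, 3, 2, 4, 0, 4, 2, 1, 3, 4, 0, 3], [2, 4, 0, 3, 0, 2, 3, 4, 3, 0, 3, 0, 3, 1, 4, 3, 0, 4, 1, 3, 4, 2, 4, 1, 0, 3, 4, 0, 4, 1, 2, 0, 3, 1, 4, 0, 3, 2, 4, 2, 0, 4, 3, 4, 2, 4, 2, 0, 3, 0, 4, 1, 4, 0, 4, 0, 3, 0, 2, 4, 0, 2, 4, 2, 0, 4, 0, 2, 4, 2, 0, 1, 4, 3, 0, 4, 0, 3, 0, 2, 3, 0, 1, 4, 0, 2, 4, 1, 4, 2, 0, 4, 1, 4, 2, 1, 4, 2, 0, 4],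 [3, 0, 1, 4, 3, 1, 3, 0, 3, 0, 4, 2, 1, 2, 4, 1, 3, 0, 2, 3, 1, 0, 4, 1, 0, 2, 4, 1, 3, 0, 4, 3, 0, 1, 2, 0, 4, 0, 3, 4, 1, 0, 4, 3, 0, 4, 2, 3, 2, 4, 2, 0, 3, 0, 4, 1, 4, 0, 4, 0, 3, 0, 2, 4, 0, 2, 4, 2, 0, 4, 0, 2, 4, 2, 0, 1, 4, 3, 0, 4, 0, 3, 0, 2, 3, 0, 1, 4, 0, 2, 4, 1, 4, 2, 0, 4, 1, 4, 2, 1, 4, 2, 0, 4], [3, 2, 4, 0, 1, 3, 0, 3, 0, 4, 3, 0, 2, 3, 0, 4, 3, 1, 3, 0, 2, 4, 1, 4, 0, 1, 3, 0, 4, 3, 1, 4, 0, 4, 0, 3, 1, 4, 3, 0, 4, 3, 1, 4, 0, 4, 0, 3, 1, 3, 4, 3, 0, 2, 4, 3, 0, 3, 0, 4, 3, 2, 4, 2, 3, 0, 4, 1, 3, 1, 0, 3, 0, 1, 4, 3, 0, 2, 3, 1, 0, 3, 0, 4, 3, 2, 0, 4, 3, 2, 1, 4, 1, 2, 1, 4, 1, 2, 0, 3, 0, 3,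 2, 0, 4, 0, 2, 4, 1, 3, 0, 3, 2, 4, 2, 4, 1, 3, 0, 4, 0, 3, 4, 0, 3, 1, 0, 3, 1, 4, 0, 1, 3, 2, 4, 0, 4, 2, 1, 3, 4, 0, 3], [1, 3, 0, 3, 1, 0, 4, 1, 3, 4, 3, 1, 4, 1, 4, 0, 2, 0, 4, 0, 3, 2, 0, 2, 4, 3, 0, 4, 1, 0, 4, 3, 0, 1, 4, 1, 0, 3, 0, 4, 3, 0, 3, 1, 3, 2, 4, 0, 3, 1, 0, 1, 3], [0, 3, 4, 0, 3, 1, 4, 3, 0, 1, 4, 0, 1, 3, 1, 2, 4, 0, 3, 4, 3, 2, 0, 4, 0, 4, 0, 3, 4, 0, 1, 4, 1, 3, 0, 4, 2, 1, 3, 0, 2, 4, 0, 2, 1, 2, 3, 0, 4, 1, 4, 0, 2, 4, 3, 0, 1, 2, 4, 0, 2, 1, 4, 1, 2, 1, 0, 3, 4, 0, 2, 4, 2, 0, 2, 0, 4, 2, 4, 2, 0, 2, 4, 0], [2, 4, 1, 3, 4, 0, 2, 0, 4, 2, 0, 4, 1, 4, 3, 0, 4, 2, 4, 1, 2, 4, 0, 3, 2, 0, 4,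 3, 0, 3, 4, 1, 4, 2, 0, 4, 3, 1, 4, 1, 3, 4, 0, 3, 2, 4, 2, 1, 3, 0, 3, 0, 4, 0, 4, 2, 3, 4, 0, 2, 3, 4, 1, 2, 3, 4, 2, 0, 3, 2, 0, 3, 4, 2, 0, 3, 4, 1, 3, 4, 1, 4, 3, 1, 0, 4, 2, 3, 0, 4, 3, 0, 2, 3, 0, 4, 0, 3], [4, 0, 4, 2, 0, 4, 2, 0, 4, 2, 1, 4, 0, 1, 3, 2, 0, 1, 4, 0, 4, 0, 3, 0, 3, 0, 4, 1, 4, 2, 4, 0, 3, 1, 4, 0, 3, 4, 1, 4, 3, 1, 4, 2, 0, 3, 0, 4, 1, 3, 2, 4, 0, 4, 1, 3, 0, 4, 3, 0, 1, 2, 0, 1, 4, 1, 3, 1, 0, 1, 4, 0, 2, 4, 1, 0, 4, 1, 3, 4, 0, 2, 3, 2, 0, 2, 4, 1, 4, 1, 2, 0, 3, 0, 3, 2, 0, 4, 0, 2, 4, 1, 3, 0, 3, 2, 4, 2, 4, 1, 3, 0, 4, 0, 3, 4, 0, 3, 1, 0, 3, 1, 4, 0, 1, 3, 2, 4, 0, 4, 2, 1, 3, 4, 0,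 3], [1, 2, 4, 1, 4, 0, 1, 4, 3, 1, 4, 2, 4, 1, 3, 4, 3, 0, 4, 0, 3, 1, 4, 2, 1, 4, 0, 4, 0, 1, 3, 0, 2, 3, 0, 3, 0, 3, 0, 1, 4, 0, 3, 0, 4, 1, 3, 4, 0, 4, 1, 0, 1, 0, 3, 4, 1, 3, 0, 4, 0, 4, 2, 3, 4, 0, 3, 1, 3, 4, 2, 3, 2, 1, 3, 0, 3, 0, 3, 1, 3, 1, 2, 4, 1, 0, 4, 2, 4, 1, 4, 3, 1], [0, 3, 4, 0, 3, 4, 0, 4, 0, 2, 3, 0, 1, 4, 1, 3, 4, 1, 3, 2, 4, 3, 2, 1, 4, 3, 2, 0, 4, 3, 2, 4, 0, 4, 0, 3, 0, 1, 4, 3, 1, 4, 2, 0, 4, 1, 4, 1, 2, 4, 0, 2, 4, 0, 3, 0, 4, 2, 0, 4, 3, 1, 4, 0, 4, 0, 3, 4, 2, 0, 4, 0, 3, 2, 1, 4, 0, 4, 3, 1, 4, 1, 4, 3, 0, 1, 3], [1, 0, 3, 0, 4, 0, 4, 0, 4, 2, 0, 4, 0, 3, 1, 0, 3, 1, 4, 0, 4, 0, 3, 0,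 4, 1, 4, 0, 1, 3, 0, 1, 3, 1, 4, 2, 0, 4, 3, 2, 0, 4, 1, 2, 0, 1, 4, 0, 4, 0, 4, 2, 0, 3, 0, 4, 1, 4, 0, 4, 0, 3, 0, 2, 4, 0, 2, 4, 2, 0, 4, 0, 2, 4, 2, 0, 1, 4, 3, 0, 4, 0, 3, 0, 2, 3, 0, 1, 4, 0, 2, 4, 1, 4, 2, 0, 4, 1, 4, 2, 1, 4, 2, 0, 4], [1, 4, 1, 4, 3, 2, 0, 4, 0, 3, 0, 4, 2, 0, 3, 0, 3, 4, 3, 0, 2, 1, 4, 2, 4, 0, 2, 3, 0, 3, 1, 4, 2, 4, 0, 4, 2, 0, 3, 0, 4, 2, 4, 0, 3, 0, 4, 1, 4, 2, 4, 1, 3, 0, 1, 0, 2, 0, 4, 1, 3, 0, 4, 3, 0, 1, 4, 0, 4, 1, 4, 3, 0, 3, 0, 1, 4, 0, 4, 2, 0, 2, 4, 0, 3, 0, 4, 2, 0, 4, 3, 0, 3, 1, 3, 4, 3, 0, 3, 4, 0, 4, 1, 4, 1, 2], [3, 0, 4, 2, 3, 0, 4, 3, 2, 0, 4, 1, 0, 4, 0, 3, 0, 1,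 3, 4, 2, 0, 4, 1, 2, 4, 1, 0, 4, 2, 4, 3, 0, 2, 4, 0, 4, 0, 2, 4, 0, 4, 0, 1, 4, 0, 3, 0, 2, 3, 4, 1, 3, 2, 3, 0, 3, 1, 3, 4, 3, 0, 4, 2, 4, 2, 0, 1, 3, 0, 4, 2, 4, 0, 4, 1, 3, 0, 3, 1, 3, 0, 2, 3, 4, 2, 1, 3, 4, 1, 4], [3, 0, 3, 0, 4, 0, 4, 3, 1, 0, 4, 2, 3, 2, 1, 4, 0, 1, 3, 1, 3, 4, 1, 3, 4, 2, 0, 3, 4, 1, 3, 1, 0, 4, 0, 2, 3, 4, 1, 4, 0, 4, 2, 0, 4, 1, 0, 2, 4, 1, 0, 3, 2, 4, 0, 2, 1, 3, 1, 0, 3, 1, 4, 0, 4, 2, 3, 1, 4, 2, 0, 4, 0, 3, 1, 4, 3, 0, 3, 4, 0, 4, 0, 1, 4, 2, 4, 1, 4, 2, 0, 3, 0, 1, 4, 0, 2, 0, 4, 3, 0, 1, 4, 2, 3, 0, 3, 0, 3, 4, 3, 1, 2, 4, 3, 4, 1, 2, 4, 0, 3, 1, 4, 1, 4, 1, 2, 4, 1, 4, 0, 4, 0,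 2, 0, 4, 1, 4, 3, 2, 0, 3, 0, 1, 3, 4, 2, 0, 4, 0, 4, 1, 3, 0, 1, 4, 0, 4, 0, 1, 2, 1], [2, 4, 2, 0, 4, 1, 3, 4, 0, 3, 0, 4, 3, 1, 4, 0, 2, 4, 3, 1, 4, 1, 4, 3, 1, 3, 2, 1, 3, 0, 3, 1, 4, 0, 3, 1, 2, 4, 2, 0, 3, 1, 0, 4, 0, 3, 2, 0, 4, 1, 3, 0, 4, 0, 4, 0, 3, 1, 4, 0, 1, 0, 3, 2, 0, 4, 0, 3, 4, 3, 1, 4, 0, 3, 4, 0, 4, 1, 3, 0, 4, 1, 0, 3, 0, 2, 4, 0, 4, 0, 3, 4, 1, 2, 4, 0, 3, 1, 4, 1, 4, 1, 2, 4, 1, 4, 0, 4, 0, 2, 0, 4, 1, 4, 3, 2, 0, 3, 0, 1, 3, 4, 2, 0, 4, 0, 4, 1, 3, 0, 1, 4, 0, 4, 0, 1, 2, 1]]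

def tupC8 : List (List ℕ) := [[4, 0, 2, 4, 3, 1, 4, 2, 0, 4, 0, 4, 2, 4, 1, 0, 4, 2, 1, 2, 4, 2, 3, 0, 4, 0, 2, 4, 2, 0, 3, 0, 4, 3, 2, 0, 4, 3, 4, 0, 4, 2, 4, 2, 3, 0, 4, 3, 2, 0, 4, 3, 1, 4, 0, 3, 4, 0, 2, 3, 1, 0, 3, 0, 2, 3, 4, 0, 4, 1, 2, 4, 2, 4, 1, 0, 3, 4, 1, 3, 1, 0, 4, 2, 0, 1, 4, 1, 2, 0, 3, 0, 3, 2, 0, 4, 0, 2, 4, 1, 3, 0, 3, 2, 4, 2, 4, 1, 3, 0, 4, 0, 3, 4, 0, 3, 1, 0, 3, 1, 4, 0, 1, 3, 2, 4, 0, 4, 2, 1, 3, 4, 0, 3], [0, 2, 4, 1, 4, 3, 2, 1, 4, 2, 4, 0, 3, 2, 0, 3, 4, 0, 1, 0, 3, 0, 3, 1, 4, 2, 0, 1, 3, 4, 1, 4, 1, 4, 3, 0, 1, 4, 2, 0, 2, 1, 3, 0, 4, 0, 1, 3, 0, 3, 1, 0, 4, 3, 0, 1, 4, 0, 2, 4, 0,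 4, 0, 2, 0, 3, 4, 0, 2, 0, 4, 0, 4, 3, 0, 3, 0, 2, 0, 1, 4, 1, 2, 0, 3, 0, 3, 2, 0, 4, 0, 2, 4, 1, 3, 0, 3, 2, 4, 2, 4, 1, 3, 0, 4, 0, 3, 4, 0, 3, 1, 0, 3, 1, 4, 0, 1, 3, 2, 4, 0, 4, 2, 1, 3, 4, 0, 3], [2, 0, 3, 1, 4, 2, 3, 1, 4, 0, 3, 1, 3, 4, 0, 4, 3, 0, 4, 3, 1, 4, 0, 1, 3, 1, 3, 2, 4, 0, 3, 4, 1, 3, 4, 1, 0, 2, 4, 0, 2, 4, 0, 2, 4, 1, 2, 3, 2, 4, 0, 2, 4, 3, 0, 1, 2, 4, 0, 2, 1, 4, 1, 2, 1, 0, 3, 4, 0, 2, 4, 2, 0, 2, 0, 4, 2, 4, 2, 0, 2, 4, 0], [2, 0, 4, 0, 3, 0, 3, 4, 2, 4, 3, 4, 3, 0, 1, 3, 4, 3, 2, 3, 4, 0, 2, 0, 3, 4, 0, 4, 1, 4, 2, 3, 1, 4, 2, 4, 1, 3, 0, 4, 3, 0, 1, 4, 0, 3, 1, 4, 2, 0, 2, 4, 1, 3, 0,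 3, 4, 0, 4, 2, 1, 3, 1, 0, 4, 1, 0, 3, 0, 3, 4, 1, 4, 1, 4, 0, 4, 0, 4, 0, 3, 0, 4, 3, 1, 2, 4, 1, 2, 4, 3, 0, 4, 3, 0, 3, 0, 1, 2, 0, 4, 0, 4, 1, 4, 0, 3, 1, 4, 2, 0, 4, 3, 4, 1, 2, 4, 0, 3, 1, 4, 1, 4, 1, 2, 4, 1, 4, 0, 4, 0, 2, 0, 4, 1, 4, 3, 2, 0, 3, 0, 1, 3, 4, 2, 0, 4, 0, 4, 1, 3, 0, 1, 4, 0, 4, 0, 1, 2, 1], [0, 4, 0, 4, 0, 1, 4, 1, 2, 0, 4, 0, 4, 2, 4, 1, 0, 3, 1, 4, 1, 4, 0, 3, 0, 4, 0, 1, 2, 3, 0, 4, 2, 4, 3, 4, 3, 0, 2, 3, 1, 2, 4, 1, 0, 4, 1, 4, 3, 2, 0, 3, 0, 2, 4, 0, 4, 1, 4, 3, 1, 0, 3, 4, 0, 2, 3, 1, 0, 4, 1, 3, 2, 0, 4, 0, 4, 1, 4, 3, 0, 4, 3, 0, 4, 1, 0, 4, 1, 3, 0, 2, 4, 1, 3, 4, 1, 2, 4, 0, 3,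 1, 4, 1, 4, 1, 2, 4, 1, 4, 0, 4, 0, 2, 0, 4, 1, 4, 3, 2, 0, 3, 0, 1, 3, 4, 2, 0, 4, 0, 4, 1, 3, 0, 1, 4, 0, 4, 0, 1, 2, 1], [4, 0, 3, 4, 1, 3, 4, 1, 0, 2, 4, 2, 1, 4, 0, 1, 2, 4, 0, 3, 0, 2, 4, 0, 4, 0, 3, 1, 2, 4, 0, 2, 3, 0, 4, 0, 3, 0, 2, 4, 2, 1, 0, 4, 2, 3, 1, 4, 1, 2, 3, 0, 3, 4, 0, 3, 2, 1, 2, 0, 4, 0, 1, 3, 1, 4, 2, 0, 3, 4, 0, 4, 3, 0, 4, 0, 2, 0, 3, 0, 2, 3, 2, 0, 1, 4, 1, 2, 4, 2, 0, 2, 1, 2, 4, 0, 3, 1, 4, 1, 4, 1, 2, 4, 1, 4, 0, 4, 0, 2, 0, 4, 1, 4, 3, 2, 0, 3, 0, 1, 3, 4, 2, 0, 4, 0, 4, 1, 3, 0, 1, 4, 0, 4, 0, 1, 2, 1], [3, 4, 1, 4, 0, 3, 0, 3, 4, 0, 4, 3, 2, 0, 3, 0, 4, 1, 3, 1, 0, 2, 3, 0, 4, 3,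 2, 0, 4, 3, 0, 1, 3, 0, 2, 4, 1, 4, 3, 2, 0, 4, 0, 2, 0, 4, 3, 1, 3, 4, 3, 0, 2, 3, 2, 1, 0, 2, 4, 1, 4, 2, 1, 4, 2, 0, 2, 3, 0, 3, 1, 4, 1, 4, 2, 4, 2, 4, 0, 3, 0, 2, 4, 3, 0, 1, 4, 0, 4, 1, 4, 2, 0, 4, 0, 3, 0, 1, 4, 3, 2, 0, 4, 1, 2, 1, 4, 1, 2, 0, 3, 0, 3, 2, 0, 4, 0, 2, 4, 1, 3, 0, 3, 2, 4, 2, 4, 1, 3, 0, 4, 0, 3, 4, 0, 3, 1, 0, 3, 1, 4, 0, 1, 3, 2, 4, 0, 4, 2, 1, 3, 4, 0, 3], [3, 0, 4, 0, 4, 1, 3, 0, 1, 4, 1, 4, 0, 1, 4, 0, 3, 2, 0, 3, 4, 2, 0, 3, 0, 4, 1, 4, 0, 4, 0, 4, 3, 2, 1, 4, 2, 1, 2, 3, 0, 3, 0, 4, 1, 4, 0, 1, 3, 2, 0, 4, 0, 4, 2, 4, 0, 4, 0, 3, 1, 4, 0, 2, 3, 0, 4, 1, 4, 2, 0, 4, 0, 2, 3, 2, 1, 4,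 0, 4, 1, 4, 0, 4, 1, 2, 0, 4, 3, 2, 1, 0, 4, 0, 3, 4, 1, 4, 3, 1, 2, 1, 4, 1, 2, 0, 3, 0, 3, 2, 0, 4, 0, 2, 4, 1, 3, 0, 3, 2, 4, 2, 4, 1, 3, 0, 4, 0, 3, 4, 0, 3, 1, 0, 3, 1, 4, 0, 1, 3, 2, 4, 0, 4, 2, 1, 3, 4, 0, 3], [1, 4, 0, 3, 1, 4, 1, 2, 4, 1, 3, 4, 0, 2, 0, 3, 4, 0, 4, 0, 1, 2, 0, 4, 3, 0, 4, 3, 1, 4, 0, 3, 1, 4, 1, 4, 1, 4, 0, 3, 0, 4, 3, 1, 4, 3, 0, 2, 4, 2, 4, 0, 4, 0, 2, 4, 1, 4, 2, 4, 1, 3, 0, 4, 3, 0, 2, 3, 0, 3, 1, 2, 3, 4, 3, 1, 0, 4, 0, 4, 1, 0, 2, 3, 0, 4, 2, 0, 3, 0, 4, 1, 2, 3, 0, 4, 1, 4, 0, 1, 2, 4, 3, 4, 1, 2, 4, 0, 3, 1, 4, 1, 4, 1, 2, 4, 1, 4, 0, 4, 0, 2, 0, 4, 1, 4, 3, 2, 0, 3, 0, 1, 3, 4,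 2, 0, 4, 0, 4, 1, 3, 0, 1, 4, 0, 4, 0, 1, 2, 1], [3, 0, 4, 0, 4, 1, 4, 1, 0, 4, 2, 1, 4, 3, 0, 4, 0, 1, 4, 0, 4, 2, 4, 1, 2, 4, 3, 0, 1, 3, 0, 4, 0, 4, 2, 0, 4, 1, 3, 4, 2, 3, 4, 0, 1, 3, 2, 1, 2, 0, 3, 0, 4, 2, 1, 0, 1, 4, 0, 2, 4, 3, 0, 4, 1, 2, 4, 0, 3, 0, 4, 0, 4, 2, 0, 4, 2, 3, 4, 0, 2, 4, 2, 0, 4, 0, 2, 4, 2, 4, 3, 0, 4, 1, 3, 4, 1, 4, 0, 4, 0, 3, 4, 1, 2, 4, 0, 3, 1, 4, 1, 4, 1, 2, 4, 1, 4, 0, 4, 0, 2, 0, 4, 1, 4, 3, 2, 0, 3, 0, 1, 3, 4, 2, 0, 4, 0, 4, 1, 3, 0, 1, 4, 0, 4, 0, 1, 2, 1], [3, 4, 0, 1, 3, 0, 3, 0, 3, 0, 4, 2, 3, 0, 1, 4, 2, 3, 0, 4, 0, 1, 0, 4, 2, 0, 4, 2, 0, 3, 0, 1, 4, 1, 2, 4, 0, 4, 2, 0,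 4, 0, 1, 4, 3, 1, 4, 0, 4, 1, 2, 1, 4, 0, 3, 0, 4, 0, 4, 2, 3, 4, 0, 2, 3, 4, 1, 2, 3, 4, 2, 3, 1, 4, 1, 3, 4, 0, 3, 0, 3, 0, 4, 2, 0, 4, 1, 2, 3, 4, 1, 0, 4, 1, 2, 4, 2, 1, 3, 4, 1, 2, 4, 0, 3, 1, 4, 1, 4, 1, 2, 4, 1, 4, 0, 4, 0, 2, 0, 4, 1, 4, 3, 2, 0, 3, 0, 1, 3, 4, 2, 0, 4, 0, 4, 1, 3, 0, 1, 4, 0, 4, 0, 1, 2, 1], [2, 1, 4, 0, 1, 2, 3, 0, 1, 4, 1, 3, 2, 0, 3, 0, 4, 2, 0, 2, 4, 0, 1, 2, 4, 0, 4, 1, 0, 4, 0, 3, 0, 4, 0, 3, 0, 2, 3, 1, 4, 0, 1, 4, 1, 3, 1, 4, 1, 2, 3, 1, 4, 0, 4, 0, 3, 0, 2, 4, 0, 4, 1, 4, 3, 1, 0, 3, 4, 0, 2, 3, 1, 0, 4, 1, 3, 2, 0, 4, 0, 4, 1, 4, 3, 0, 4, 3, 0, 4, 1, 0, 4, 1, 3, 0, 2, 1, 2, 0,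 3, 0, 3, 2, 0, 4, 0, 2, 4, 1, 3, 0, 3, 2, 4, 2, 4, 1, 3, 0, 4, 0, 3, 4, 0, 3, 1, 0, 3, 1, 4, 0, 1, 3, 2, 4, 0, 4, 2, 1, 3, 4, 0, 3], [0, 1, 4, 3, 1, 2, 4, 0, 3, 2, 0, 3, 4, 1, 0, 3, 4, 0, 1, 3, 0, 4, 1, 3, 1, 4, 1, 3, 0, 1, 4, 2, 0, 4, 0, 4, 3, 1, 2, 4, 3, 0, 4, 3, 1, 4, 0, 3, 0, 4, 0, 4, 2, 3, 4, 0, 2, 3, 4, 1, 2, 3, 4, 2, 3, 1, 4, 1, 3, 4, 0, 3, 0, 3, 0, 4, 2, 0, 4, 1, 2, 3, 4, 1, 0, 4, 1, 2, 4, 2, 1, 3, 4, 1, 2, 4, 0, 3, 1, 4, 1, 4, 1, 2, 4, 1, 4, 0, 4, 0, 2, 0, 4, 1, 4, 3, 2, 0, 3, 0, 1, 3, 4, 2, 0, 4, 0, 4, 1, 3, 0, 1, 4, 0, 4, 0, 1, 2, 1], [2, 1, 3, 0, 4, 1, 4, 3, 0, 3, 1, 4, 3, 1, 4, 0, 2, 4, 0, 4, 0, 4,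 3, 0, 1, 3, 1, 0, 3, 2, 4, 1, 4, 1, 3, 2, 1, 0, 1, 4, 0, 2, 3, 1, 4, 0, 3, 1, 4, 2, 4, 2, 0, 3, 0, 4, 1, 4, 0, 4, 0, 3, 0, 2, 4, 0, 2, 4, 2, 0, 4, 0, 2, 4, 2, 0, 1, 4, 3, 0, 4, 0, 3, 0, 2, 3, 0, 1, 4, 0, 2, 4, 1, 4, 2, 0, 4, 1, 4, 2, 1, 4, 2, 0, 4], [4, 0, 4, 2, 0, 4, 2, 0, 1, 4, 0, 3, 0, 2, 3, 4, 2, 1, 4, 0, 2, 4, 1, 2, 4, 3, 0, 4, 3, 1, 4, 0, 4, 0, 3, 1, 4, 2, 0, 3, 0, 2, 3, 1, 0, 1, 2, 4, 1, 3, 0, 4, 0, 1, 3, 0, 1, 4, 0, 2, 4, 3, 0, 4, 1, 2, 4, 0, 3, 0, 4, 0, 4, 2, 0, 4, 2, 3, 4, 0, 2, 4, 2, 0, 4, 0, 2, 4, 2, 4, 3, 0, 4, 1, 3, 4, 1, 4, 0, 4, 0, 3, 4, 1, 2, 4, 0, 3, 1, 4, 1, 4, 1, 2, 4, 1, 4, 0, 4, 0, 2, 0, 4,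 1, 4, 3, 2, 0, 3, 0, 1, 3, 4, 2, 0, 4, 0, 4, 1, 3, 0, 1, 4, 0, 4, 0, 1, 2, 1], [3, 4, 2, 4, 0, 1, 3, 4, 2, 4, 1, 0, 3, 0, 4, 3, 0, 3, 2, 1, 4, 0, 3, 0, 2, 4, 0, 4, 1, 3, 0, 3, 0, 4, 3, 2, 0, 4, 1, 0, 3, 2, 4, 2, 3, 4, 3, 1, 4, 0, 3, 1, 0, 3, 4, 2, 4, 2, 0, 3, 4, 0, 1, 3, 0, 4, 1, 3, 0, 2, 4, 1, 3, 4, 0, 4, 0, 2, 4, 1, 3, 4, 0, 3, 4, 1, 4, 2, 3, 0, 2, 1, 4, 3, 0, 4, 0, 4, 1, 0, 4, 2, 1, 4, 1, 2, 0, 3, 0, 3, 2, 0, 4, 0, 2, 4, 1, 3, 0, 3, 2, 4, 2, 4, 1, 3, 0, 4, 0, 3, 4, 0, 3, 1, 0, 3, 1, 4, 0, 1, 3, 2, 4, 0, 4, 2, 1, 3, 4, 0, 3], [3, 0, 3, 1, 0, 3, 4, 1, 4, 0, 4, 0, 4, 1, 0, 3, 2, 1, 0, 4, 0, 2, 3, 4, 1, 0, 4, 1,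 4, 0, 1, 3, 0, 1, 3, 0, 3, 4, 1, 2, 3, 4, 0, 4, 1, 3, 1, 4, 2, 0, 2, 4, 2, 1, 3, 1, 0, 3, 1, 4, 0, 4, 2, 3, 1, 4, 2, 0, 4, 0, 3, 1, 4, 3, 0, 3, 4, 0, 4, 0, 1, 4, 2, 4, 1, 4, 2, 0, 3, 0, 1, 4, 0, 2, 0, 4, 3, 0, 1, 4, 2, 3, 0, 3, 0, 3, 4, 3, 1, 2, 4, 1, 4, 1, 2, 0, 3, 0, 3, 2, 0, 4, 0, 2, 4, 1, 3, 0, 3, 2, 4, 2, 4, 1, 3, 0, 4, 0, 3, 4, 0, 3, 1, 0, 3, 1, 4, 0, 1, 3, 2, 4, 0, 4, 2, 1, 3, 4, 0, 3], [2, 1, 3, 0, 4, 1, 0, 2, 0, 3, 4, 0, 4, 0, 3, 2, 4, 1, 4, 2, 1, 4, 3, 0, 2, 3, 4, 2, 3, 0, 3, 0, 4, 0, 2, 3, 1, 4, 0, 3, 4, 0, 1, 2, 0, 3, 0, 4, 0, 4, 2, 3, 4, 0, 2, 3, 4, 1, 2, 3, 4, 2, 0, 3, 2, 0, 3, 4, 2, 0, 3, 4, 1, 3,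 4, 1, 4, 3, 1, 0, 4, 2, 3, 0, 4, 3, 0, 2, 3, 0, 4, 0, 3], [1, 4, 3, 1, 4, 3, 2, 3, 1, 0, 3, 0, 2, 4, 0, 4, 2, 1, 2, 4, 2, 4, 3, 1, 4, 0, 4, 3, 0, 1, 3, 4, 1, 4, 1, 0, 3, 1, 4, 2, 0, 4, 0, 4, 0, 1, 4, 2, 3, 2, 1, 2, 4, 2, 4, 1, 3, 0, 4, 3, 0, 1, 2, 0, 1, 4, 1, 3, 1, 0, 1, 4, 0, 2, 4, 1, 0, 4, 1, 3, 4, 0, 2, 3, 2, 0, 2, 4, 1, 4, 1, 2, 0, 3, 0, 3, 2, 0, 4, 0, 2, 4, 1, 3, 0, 3, 2, 4, 2, 4, 1, 3, 0, 4, 0, 3, 4, 0, 3, 1, 0, 3, 1, 4, 0, 1, 3, 2, 4, 0, 4, 2, 1, 3, 4, 0, 3], [4, 3, 0, 2, 0, 4, 1, 3, 2, 4, 0, 4, 0, 4, 3, 0, 3, 0, 1, 4, 2, 3, 1, 0, 4, 3, 0, 1, 3, 0, 4, 3, 0, 4, 0, 4, 3, 0, 3, 0, 3, 1, 0, 4, 0, 3, 0, 1, 2,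 1, 3, 0, 4, 3, 0, 1, 2, 0, 1, 4, 1, 3, 1, 0, 1, 4, 0, 2, 4, 1, 0, 4, 1, 3, 4, 0, 2, 3, 2, 0, 2, 4], [0, 4, 1, 2, 0, 3, 0, 4, 2, 0, 2, 3, 4, 0, 3, 0, 3, 4, 0, 2, 3, 0, 4, 3, 0, 2, 3, 0, 3, 1, 2, 0, 4, 0, 4, 1, 4, 3, 1, 2, 3, 0, 2, 3, 4, 2, 1, 4, 0, 3, 1, 4, 2, 0, 4, 0, 2, 0, 3, 1, 4, 0, 4, 1, 3, 1, 3, 0, 4, 0, 2, 3, 0, 1, 4, 1, 0, 3, 4, 1, 2, 4, 0, 3, 1, 4, 1, 4, 1, 2, 4, 1, 4, 0, 4, 0, 2, 0, 4, 1, 4, 3, 2, 0, 3, 0, 1, 3, 4, 2, 0, 4, 0, 4, 1, 3, 0, 1, 4, 0, 4, 0, 1, 2, 1], [0, 3, 1, 4, 1, 4, 1, 4, 1, 0, 4, 2, 3, 4, 1, 4, 0, 3, 1, 4, 3, 2, 1, 3, 4, 0, 3, 4, 0, 3, 0, 4, 1, 0, 4, 3, 0, 1, 3, 1, 4, 1, 4, 0, 4, 1, 4,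 1, 4, 2, 4, 1, 3, 0, 4, 3, 0, 2, 3, 0, 3, 1, 2, 3, 4, 3, 1, 0, 4, 0, 4, 1, 0, 2, 3, 0, 4, 2, 0, 3, 0, 4, 1, 2, 3, 0, 4, 1, 4, 0, 1, 2, 4, 3, 4, 1, 2, 4, 0, 3, 1, 4, 1, 4, 1, 2, 4, 1, 4, 0, 4, 0, 2, 0, 4, 1, 4, 3, 2, 0, 3, 0, 1, 3, 4, 2, 0, 4, 0, 4, 1, 3, 0, 1, 4, 0, 4, 0, 1, 2, 1], [2, 4, 1, 2, 0, 4, 2, 3, 1, 3, 4, 0, 1, 3, 4, 2, 1, 4, 3, 0, 3, 1, 4, 0, 2, 4, 3, 0, 1, 3, 4, 0, 4, 0, 2, 4, 3, 1, 4, 3, 0, 3, 0, 4, 3, 0, 4, 0, 2, 4, 3, 0, 3, 0, 4, 3, 2, 4, 2, 3, 0, 4, 1, 3, 1, 0, 3, 0, 1, 4, 3, 0, 2, 3, 1, 0, 3, 0, 4, 3, 2, 0, 4, 3, 2, 1, 4, 1, 2, 3, 4, 1, 2, 4, 0, 3, 1, 4, 1, 4, 1, 2, 4, 1, 4, 0, 4, 0, 2, 0, 4, 1,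 4, 3, 2, 0, 3, 0, 1, 3, 4, 2, 0, 4, 0, 4, 1, 3, 0, 1, 4, 0, 4, 0, 1, 2, 1], [3, 4, 1, 3, 0, 2, 1, 4, 0, 1, 3, 2, 0, 1, 4, 0, 4, 1, 4, 0, 4, 0, 3, 0, 2, 3, 4, 1, 2, 4, 0, 1, 0, 4, 0, 2, 3, 4, 1, 4, 0, 3, 0, 2, 4, 0, 3, 0, 2, 4, 0, 4, 1, 4, 3, 1, 0, 3, 4, 0, 2, 3, 1, 0, 4, 1, 3, 2, 0, 4, 0, 4, 1, 4, 3, 0, 4, 3, 0, 4, 1, 0, 4, 1, 3, 0, 2, 4, 1], [4, 3, 0, 4, 3, 0, 1, 4, 2, 4, 1, 4, 2, 3, 0, 1, 0, 4, 3, 0, 4, 0, 3, 1, 2, 4, 0, 4, 1, 0, 3, 0, 3, 4, 1, 0, 3, 0, 2, 4, 0, 3, 2, 3, 4, 2, 0, 4, 2, 0, 4, 1, 4, 3, 1, 4, 2, 0, 4, 1, 4, 1, 2, 4, 0, 2, 4, 0, 3, 0, 4, 2, 0, 4, 3, 1, 4, 0, 4, 0, 3, 4, 2, 0, 4, 0, 3, 2, 1, 4, 0,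 4, 3, 1, 4, 1, 4, 3, 0, 1, 4, 1, 2, 4, 0, 3, 1, 4, 1, 4, 1, 2, 4, 1, 4, 0, 4, 0, 2, 0, 4, 1, 4, 3, 2, 0, 3, 0, 1, 3, 4, 2, 0, 4, 0, 4, 1, 3, 0, 1, 4, 0, 4, 0, 1, 2, 1], [4, 2, 4, 0, 2, 3, 2, 0, 4, 0, 3, 0, 4, 0, 2, 3, 4, 2, 4, 3, 0, 2, 4, 3, 0, 1, 3, 0, 3, 1, 4, 1, 3, 0, 4, 0, 2, 3, 0, 4, 2, 4, 3, 1, 4, 0, 2, 4, 3, 0, 1, 3, 1, 4, 2, 1, 4, 3, 1, 4, 3, 0, 4, 2, 0, 4, 3, 4, 1, 2, 4, 0, 3, 1, 4, 1, 4, 1, 2, 4, 1, 4, 0, 4, 0, 2, 0, 4, 1, 4, 3, 2, 0, 3, 0, 1, 3, 4, 2, 0, 4, 0, 4, 1, 3, 0, 1, 4, 0, 4, 0, 1, 2, 1], [0, 2, 4, 0, 1, 4, 3, 0, 4, 2, 4, 1, 4, 2, 0, 4, 2, 4, 1, 4, 3, 4, 1, 4, 3, 0, 1, 4, 2, 0, 3, 4, 0, 4, 0,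 4, 3, 0, 3, 1, 0, 4, 2, 4, 1, 3, 0, 2, 0, 3, 0, 2, 4, 1, 4, 0, 4, 1, 2, 3, 0, 1, 0, 3, 0, 3, 4, 0, 4, 1, 4, 2, 1, 4, 0, 4, 3, 0, 1, 3, 0, 4, 1, 3, 4, 2, 4, 1, 0, 3, 0, 3, 0, 4, 0, 2, 3, 1, 4, 3, 4, 1, 2, 4, 0, 3, 1, 4, 1, 4, 1, 2, 4, 1, 4, 0, 4, 0, 2, 0, 4, 1, 4, 3, 2, 0, 3, 0, 1, 3, 4, 2, 0, 4, 0, 4, 1, 3, 0, 1, 4, 0, 4, 0, 1, 2, 1], [2, 0, 3, 4, 1, 4, 3, 0, 4, 2, 0, 4, 1, 0, 4, 2, 0, 1, 3, 4, 1, 4, 2, 0, 2, 3, 4, 1, 3, 1, 4, 0, 4, 3, 0, 1, 3, 2, 0, 4, 1, 4, 0, 1, 4, 0, 4, 1, 3, 4, 2, 4, 0, 2, 4, 3, 1, 3, 1, 4, 2, 0, 1, 4, 2, 4, 2, 0, 3, 0, 4, 1, 4, 0, 4, 0, 3, 0, 2, 4, 0, 2, 4, 2, 0, 4, 0, 2, 4, 2, 0, 1, 4, 3,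 0, 4, 0, 3, 0, 2, 3, 0, 1, 4, 0, 2, 4, 1, 4, 2, 0, 4, 1, 4, 2, 1, 4, 2, 0, 4, 1, 4, 1, 2, 0, 3, 0, 3, 2, 0, 4, 0, 2, 4, 1, 3, 0, 3, 2, 4, 2, 4, 1, 3, 0, 4, 0, 3, 4, 0, 3, 1, 0, 3, 1, 4, 0, 1, 3, 2, 4, 0, 4, 2, 1, 3, 4, 0, 3], [1, 4, 1, 4, 0, 3, 0, 2, 4, 1, 0, 3, 0, 4, 0, 2, 1, 2, 3, 1, 4, 1, 4, 1, 0, 2, 4, 3, 0, 4, 3, 0, 1, 3, 1, 3, 0, 3, 4, 0, 4, 0, 3, 1, 4, 1, 3, 4, 1, 2, 3, 0, 1, 3, 1, 3, 0, 3, 2, 1, 3, 4, 1, 4, 0, 3, 0, 1, 3, 4, 3, 1, 0, 4, 0, 4, 2, 0, 3, 4, 2, 4, 1, 4, 0, 4, 3, 1, 2, 3, 0, 3, 0, 2, 0, 2, 4, 1, 0, 3, 4, 1, 4, 3, 2, 0, 2, 4, 2, 0], [1, 4, 2, 0, 4, 1, 4, 1, 3, 1, 0, 4, 1, 2, 3, 0, 3, 4, 1, 0,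 4, 0, 3, 2, 0, 3, 4, 2, 1, 4, 0, 4, 2, 3, 1, 2, 4, 2, 3, 0, 4, 2, 4, 1, 4, 0, 4, 2, 3, 2, 3, 4, 0, 3, 0, 2, 4, 2, 0, 4, 0, 3, 0, 4, 3, 2, 1, 3, 4, 0, 2, 3, 0, 2, 4, 0, 4, 2, 1, 2, 3, 2, 1, 0, 3, 1, 3]]

/-- Conjugating words. -/
def tupC : List (List ℕ) :=
  tupC0 ++ tupC1 ++ tupC2 ++ tupC3 ++ tupC4 ++ tupC5 ++ tupC6 ++ tupC7 ++ tupC8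

/-- Relations with exponents by length. -/
def tupR : List (List (List ℕ × ℕ)) := [[], [], [([0, 1], 1)], [([0, 2], 2), ([0, 2], 1), ([0, 1, 2, 0, 2], 1), ([0, 2], 4)], [([0, 3], 3), ([0, 2, 3], 3)], [([0, 4], 4), ([1, 4], 3), ([0, 4], 2)], [([0, 5], 3), ([1, 5], 5), ([2, 5], 3), ([0, 2, 5], 5)]]

/-- The six generators of a group of Hall-Janko type. -/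
def tauW : List (List ℕ) := [[0], [0, 1, 4, 1, 0, 4, 1, 4, 1, 0, 4], [0, 4, 2, 4, 0, 4, 3, 2, 0, 4, 0, 3, 1, 0, 2, 4, 3, 0, 4, 1, 2, 4, 2, 4, 2, 0, 3, 0, 4, 1, 4, 0, 3, 0, 4, 3, 0, 2, 4, 2, 1, 4, 3, 0, 3, 0, 4, 0, 2, 3, 4, 0, 3, 0, 2, 4, 2, 0, 4, 0, 3, 2, 4, 2, 4, 0, 3, 1, 4, 0, 2, 4, 0, 4, 0, 2, 1, 3, 2, 4, 0, 2, 3, 2, 1, 4, 1, 2, 0, 3, 4, 1, 2, 4, 0, 3, 1, 4, 1, 4, 1, 2, 4, 1, 4, 0, 4, 0, 2, 0, 4, 1, 4, 3, 2, 0, 3, 0, 1, 3, 4, 2, 0, 4, 0, 4, 1, 3, 0, 1, 4, 0, 4, 0, 1, 2, 1], [2, 3, 4, 2, 0, 4, 3, 1, 3, 0, 1, 3, 4, 0, 1, 4, 0, 3, 2, 0, 4, 0, 3, 0, 3, 2, 3, 4, 1, 4, 0, 4, 2, 3, 1, 4, 3, 1, 4, 3, 2, 4, 0, 4, 2, 4,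 3, 2, 3, 1, 0, 4, 1, 3, 0, 3, 1, 4, 0, 2, 1, 4, 1, 4, 2, 4, 1, 3, 0, 4, 3, 0, 2, 3, 0, 3, 1, 2, 3, 0, 3, 2, 1, 4, 0, 2, 3, 0, 2, 4, 2, 4, 1, 3, 1, 0, 3, 0, 4, 0, 4, 0, 2, 4, 1, 0, 4, 1, 2, 4, 0, 3, 1, 4, 1, 4, 1, 2, 4, 1, 4, 0, 4, 0, 2, 0, 4, 1, 4, 3, 2, 0, 3, 0, 1, 3, 4, 2, 0, 4, 0, 4, 1, 3, 0, 1, 4, 0, 4, 0, 1, 2, 1], [0, 2, 4, 0, 4, 2, 0, 4, 2, 0, 3, 4, 0, 4, 0, 3, 2, 4, 1, 4, 2, 0, 3, 4, 0, 2, 4, 1, 4, 2, 4, 1, 4, 0, 3, 4, 0, 1, 4, 0, 4, 0, 4, 0, 3, 0, 4, 1, 4, 2, 1, 0, 3, 4, 1, 3, 0, 4, 0, 4, 2, 3, 4, 0, 3, 1, 3, 4, 2, 3, 2, 1, 3, 0, 3, 0, 3, 1, 3, 1, 2, 4, 1, 0, 4, 2, 4, 1, 4, 3, 1], [2, 4, 2, 4, 0, 2, 3,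 2, 4, 3, 0, 1, 4, 2, 0, 1, 4, 2, 4]]

/-- The data. -/
def tupData : TupData := ⟨tupW, tupD, SuzOut.invW, tupC, tupR, tupT, tauW⟩

end Cfsg.Agent.Spor.CoUniq
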